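import Mathlib
import Cfsg.Agent.H5.MCM

/-!
# Frames: an involution `t` with `C(t) = W ⋊ (⟨t⟩ × H)`, `H = M₁₂` or `Aut M₁₂`

`F.e x` is the image of the permutation `x` (junk outside `H`), `F.p s` the image of the model element `s`.
-/

set_option autoImplicit false
set_option linter.unusedSectionVars false
set_option linter.unusedVariables false

namespace H5.MC

open H9 Cfsg H24 Subgroup

structure Fr (H : Subgroup PG) (G : Type*) [Group G] where
  t : G
  ψ : H →* G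
  W : Subgroup G
  h12 : Spor.M12 ≤ H
  hAM : H ≤ AM
  inj : Function.Injective ψ
  ot : orderOf t = 2
  tn : t ∉ ψ.range
  tc : ∀ h, Commute t (ψ h)
  odd : Odd (Nat.card W)
  Wt : W ≤ C{t}
  Wn : ∀ h, ψ h ∈ N[W]
  WL : ∀ h : H, h.1 ∈ Spor.M12 → ψ h ∈ C[W]
  cent : ∀ g, Commute g t → ∃ w ∈ W, ∃ h, g = w * ψ h ∨ g = w * (t * ψ h)
  nz : ¬ IsConj t (ψ ⟨emb z1, h12 (emb_12.2 (by decide))⟩)
  tz : IsConj t (t * ψ ⟨emb z1, h12 (emb_12.2 (by decide))⟩)

namespace Fr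

variable {H : Subgroup PG} {G : Type*} [Group G] (F : Fr H G)

open Classical in
/-- the image of a permutation -/
noncomputable def e (x : PG) : G := if h : x ∈ H then F.ψ ⟨x, h⟩ else 1
/-- the image of an element of the Sylow model -/
noncomputable def p (s : Ph) : G := F.e (emb s)
noncomputable def ρ : G := F.e rho
noncomputable def r : G := F.e r2
/-- the Sylow `2`-subgroup `⟨t⟩ × (Ph ∩ H)` of `C(t)` -/
noncomputable def S0 : Subgroup G := zpowers F.t ⊔ (emb.range.subgroupOf H).map F.ψ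
/-- the conjugates of `t` -/
def T (x : G) : Prop := IsConj F.t x

theorem e_eq {x : PG} (h : x ∈ H) : F.e x = F.ψ ⟨x, h⟩ := dif_pos h
theorem e_coe (x : H) : F.e x = F.ψ x := dif_pos x.2
theorem e_one : F.e 1 = 1 := by rw [F.e_eq (one_mem H)]; exact F.ψ.map_one
theorem e_mul {x y : PG} (hx : x ∈ H) (hy : y ∈ H) : F.e (x * y) = F.e x * F.e y := by
  rw [F.e_eq hx, F.e_eq hy, F.e_eq (mul_mem hx hy), ← map_mul]; rfl
theorem e_inv {x : PG} (hx : x ∈ H) : F.e x⁻¹ = (F.e x)⁻¹ := by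
  rw [F.e_eq hx, F.e_eq (inv_mem hx), ← map_inv]; rfl
theorem e_inj {x y : PG} (hx : x ∈ H) (hy : y ∈ H) (h : F.e x = F.e y) : x = y := by
  rw [F.e_eq hx, F.e_eq hy] at h; exact congrArg Subtype.val (F.inj h)
theorem e_t (x : PG) : Commute F.t (F.e x) := by
  unfold e; split_ifs
  · exact F.tc _
  · exact Commute.one_right _
theorem e_ne_t (x : PG) : F.e x ≠ F.t := by
  unfold e; split_ifs
  · exact fun h => F.tn ⟨_, h⟩
  · exact fun h => F.tn ⟨1, F.ψ.map_one.trans h⟩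
theorem tt : F.t * F.t = 1 := by rw [← sq, ← F.ot, pow_orderOf_eq_one]
theorem t_ne : F.t ≠ 1 := fun h => by simpa [h] using F.ot
include F in
theorem inn {s : Ph} (h : s.inn) : emb s ∈ H := F.h12 (emb_12.2 h)
theorem p_one : F.p 1 = 1 := by rw [p, map_one, e_one]
theorem p_mul {s u : Ph} (hs : emb s ∈ H) (hu : emb u ∈ H) : F.p (s * u) = F.p s * F.p u := by
  rw [p, map_mul, F.e_mul hs hu]; rfl
theorem p_inv {s : Ph} (hs : emb s ∈ H) : F.p s⁻¹ = (F.p s)⁻¹ := by rw [p, map_inv, F.e_inv hs]; rfl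
theorem p_inj {s u : Ph} (hs : emb s ∈ H) (hu : emb u ∈ H) (h : F.p s = F.p u) : s = u :=
  emb_inj (F.e_inj hs hu h)
theorem p_t (s : Ph) : Commute F.t (F.p s) := F.e_t _
theorem nz' : ¬ F.T (F.p z1) := by rw [T, p, F.e_eq (F.inn (by decide))]; exact F.nz
theorem tz' : F.T (F.t * F.p z1) := by rw [T, p, F.e_eq (F.inn (by decide))]; exact F.tz
theorem cent' {g : G} (h : Commute g F.t) : ∃ w ∈ F.W, ∃ x ∈ H, g = w * F.e x ∨ g = w * (F.t * F.e x) := by
  obtain ⟨w, hw, x, h⟩ := F.cent g h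
  exact ⟨w, hw, x, x.2, by rwa [F.e_coe]⟩
include F in
/-- either all of the model lies in `H`, or only the part in `M₁₂` -/
theorem mem_iff {x : PG} (hx : x ∈ AM) : x ∈ H ↔ x ∈ Spor.M12 ∨ emb c0 ∈ H := by
  have h0 : emb c0 ∉ Spor.M12 := fun h => absurd (emb_12.1 h) (by decide)
  refine ⟨fun h => or_iff_not_imp_left.2 fun h1 => ?_, fun h => h.elim (fun h => F.h12 h) fun h => ?_⟩
  · have := F.h12 ((mul_mem12 hx (emb_AM c0)).2 (iff_of_false h1 h0))
    rwa [mul_mem_cancel_left h] at this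
  · by_cases h1 : x ∈ Spor.M12
    · exact F.h12 h1
    · have := F.h12 ((mul_mem12 hx (emb_AM c0)).2 (iff_of_false h1 h0))
      rwa [mul_mem_cancel_right h] at this

open Classical in
/-- the other complement to `⟨t⟩` -/
noncomputable def tw : Fr H G where
  t := F.t
  ψ := MonoidHom.mk' (fun h => if h.1 ∈ Spor.M12 then F.ψ h else F.t * F.ψ h) fun a b => by
    have := mul_mem12 (F.hAM a.2) (F.hAM b.2)
    by_cases ha : a.1 ∈ Spor.M12 <;> by_cases hb : b.1 ∈ Spor.M12 <;>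
      simp only [coe_mul, this, ha, hb, iff_self, iff_false, iff_true, not_true, not_false_iff, if_true, if_false,
        map_mul, true_iff, false_iff]
    · rw [← mul_assoc, (F.tc a).eq, mul_assoc]
    · rw [mul_assoc]
    · rw [mul_assoc, ← mul_assoc (F.ψ a), ← (F.tc a).eq, ← mul_assoc, ← mul_assoc, F.tt, one_mul]
  W := F.W
  h12 := F.h12
  hAM := F.hAM
  inj := (injective_iff_map_eq_one _).2 fun a h => by
    simp only [MonoidHom.mk'_apply] at h
    split_ifs at h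
    · exact F.inj (h.trans F.ψ.map_one.symm)
    · exact (F.tn ⟨a⁻¹, by rw [map_inv]; exact (eq_inv_of_mul_eq_one_left h).symm⟩).elim
  ot := F.ot
  tn := by
    rintro ⟨a, h⟩
    simp only [MonoidHom.mk'_apply] at h
    split_ifs at h with h1
    · exact F.tn ⟨a, h⟩
    · rw [F.inj ((mul_eq_left.1 h).trans F.ψ.map_one.symm)] at h1
      exact h1 (one_mem _)
  tc := fun a => by
    simp only [MonoidHom.mk'_apply]
    split_ifs
    · exact F.tc a
    · exact (Commute.refl _).mul_right (F.tc a)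
  odd := F.odd
  Wt := F.Wt
  Wn := fun a => by
    simp only [MonoidHom.mk'_apply]
    split_ifs
    · exact F.Wn a
    · exact mul_mem (centralizer_le_normalizer _ fun w hw => mem_centralizer_singleton_iff.1 (F.Wt hw)) (F.Wn a)
  WL := fun a ha => by simpa only [MonoidHom.mk'_apply, if_pos ha] using F.WL a ha
  cent := fun g hg => by
    obtain ⟨w, hw, a, h⟩ := F.cent g hg
    refine ⟨w, hw, a, ?_⟩
    simp only [MonoidHom.mk'_apply]
    split_ifs
    · exact h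
    · rw [← mul_assoc F.t, F.tt, one_mul]; exact h.symm
  nz := by simpa only [MonoidHom.mk'_apply, if_pos (emb_12.2 (show z1.inn by decide))] using F.nz
  tz := by simpa only [MonoidHom.mk'_apply, if_pos (emb_12.2 (show z1.inn by decide))] using F.tz

end Fr

/-- `F'` is the frame induced by `F` on `N(W) / W`. -/
structure Cov {H : Subgroup PG} {G X : Type*} [Group G] [Group X] (F : Fr H G) (F' : Fr H X) where
  π : N[F.W] →* X
  surj : Function.Surjective π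
  ker : ∀ g, π g = 1 ↔ g.1 ∈ F.W
  bot : F'.W = ⊥
  πt : ∀ h, π ⟨F.t, h⟩ = F'.t
  πψ : ∀ a, π ⟨F.ψ a, F.Wn a⟩ = F'.ψ a

/-- The elements `d`, `w` centralize `V1` and move `t` to `t z1`, `t z3`. -/
structure Base {H : Subgroup PG} {X : Type*} [Group X] (F : Fr H X) where
  d : X
  w : X
  dt : d * F.t * d⁻¹ = F.t * F.p z1
  wt : w * F.t * w⁻¹ = F.t * F.p z3
  dQ : ∀ s : Ph, s.Q → Commute d (F.p s)
  dρ : Commute d F.ρ
  de : Commute d (F.p e1)
  wV : ∀ s : Ph, s.V1 → Commute w (F.p s)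
  we : Commute w (F.p e1)
  dw : Commute d w
  w3 : ∃ v : Ph, v.V1 ∧ w * (F.ρ * w * F.ρ⁻¹) * (F.ρ⁻¹ * w * F.ρ) = F.p v
  ws : ∃ v : Ph, v.V1 ∧ F.p i2 * w * (F.p i2)⁻¹ = w * F.p v
  wq : ∃ v : Ph, v.V1 ∧ F.p sg * w * (F.p sg)⁻¹ = w * d * F.p v

/-- `U = 2⁶` (the wreath product of `M₁₂`) -/
structure CaseW {H : Subgroup PG} {X : Type*} [Group X] (F : Fr H X) extends Base F where
  dd : d * d = 1
  ww : w * w = 1
  ww2 : Commute w (F.ρ * w * F.ρ⁻¹)
  ds : Commute d (F.p i2)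
  wj : F.p j1 * w * (F.p j1)⁻¹ = w ∨ F.p j1 * w * (F.p j1)⁻¹ = w * F.p z1
  wq' : F.p sg * w * (F.p sg)⁻¹ = w * d ∨ F.p sg * w * (F.p sg)⁻¹ = w * d * F.p z1
  a3 : ∃ v : Ph, v.V1 ∧ F.r⁻¹ * d * F.r = w * F.p v

/-- the case of `Suz : 2` -/
structure CaseS {H : Subgroup PG} {X : Type*} [Group X] (F : Fr H X) extends Base F where
  two : emb c0 ∈ H
  dd : d * d = F.p z1
  ww : w * w = F.p z2
  ww2 : w * (F.ρ * w * F.ρ⁻¹) = F.ρ * w * F.ρ⁻¹ * w * F.p z1
  ds : Commute d (F.p i2)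
  wj : F.p j1 * w * (F.p j1)⁻¹ = w * F.p z3 ∨ F.p j1 * w * (F.p j1)⁻¹ = w * F.p z2
  f3 : ∃ v : Ph, v.V1 ∧ F.r⁻¹ * d * F.r = w * F.p e1 * F.p v

/-- `U = 4³` (the third Conway group) -/
structure CaseC {H : Subgroup PG} {X : Type*} [Group X] (F : Fr H X) extends Base F where
  one : emb c0 ∉ H
  dd : d * d = F.p z1
  ww : w * w = F.p z3
  ww2 : Commute w (F.ρ * w * F.ρ⁻¹)
  ds : F.p i2 * d * (F.p i2)⁻¹ = d * F.p z1
  wj : F.p j1 * w * (F.p j1)⁻¹ = w * F.p z3 ∨ F.p j1 * w * (F.p j1)⁻¹ = w * F.p z2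
  a3 : ∃ v : Ph, v.V1 ∧ F.r⁻¹ * (F.t * d) * F.r * F.p j3 = w * F.p v

end H5.MC
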