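import Mathlib
import Cfsg.Agent.H5.MC1

/-! # More vocabulary for the standard subgroup `M₁₂` -/

set_option autoImplicit false
set_option linter.unusedSectionVars false
set_option linter.unusedVariables false

namespace H5.MC

open H9 Cfsg H24 Subgroup
open scoped commutatorElement

/-- the involutions of `Ph` of class `2B` -/
def Ph.zc (s : Ph) : Prop := s ≠ 1 ∧ (s.U0 ∨ (i1 * s).U0 ∨ (i2 * s).U0 ∨ (i3 * s).U0)

instance (s : Ph) : Decidable s.zc := inferInstanceAs (Decidable (_ ∧ _))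

/-- the element `z1` of `M₁₂` -/
noncomputable def zM : Spor.M12 := ⟨emb z1, emb_12.2 (by decide)⟩

def io : Fin 4 → Ph := ![i0, i1, i2, i3]
def ee : Fin 4 → Ph := ![c0, e1, e2, e3]

/-- the three cases -/
def Out {H : Subgroup PG} {X : Type*} [Group X] (F : Fr H X) : Prop :=
  Nonempty (CaseW F) ∨ Nonempty (CaseS F) ∨ Nonempty (CaseC F)

/-- relations in the wreath case -/
structure OutW {H : Subgroup PG} {G : Type*} [Group G] (F : Fr H G) where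
  a1 : G
  a2 : G
  w : Fin 4 → G
  aa1 : a1 * a1 = 1
  aa2 : a2 * a2 = 1
  a12 : Commute a1 a2
  ta1 : a1 * F.t * a1⁻¹ = F.t * F.p z1
  ta2 : a2 * F.t * a2⁻¹ = F.t * F.p z2
  aJ : ∀ s : Ph, s.Jh → Commute a1 (F.p s) ∧ Commute a2 (F.p s)
  sa1 : Commute (F.p sg) a1
  sa2 : F.p sg * a2 * (F.p sg)⁻¹ = a1 * a2
  ww : ∀ k, w k * w k = 1
  wt : ∀ k, w k * F.t * (w k)⁻¹ = F.t * F.p (io k)
  wW : ∀ k, ∀ x ∈ closure ({a1, a2, F.p z1, F.p z2} : Set G), Commute (w k) x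
  wi : ∀ k, Commute (w k) (F.p (io k))
  we : ∀ k, Commute (w k) (F.p (ee k))
  wj1 : ∀ k, ∃ u : Ph, u.U0 ∧ w k * F.p j1 * (w k)⁻¹ = F.p j1 * a1 * F.p u
  wj2 : ∀ k, ∃ u : Ph, u.U0 ∧ w k * F.p j2 * (w k)⁻¹ = F.p j2 * a2 * F.p u
  wc : ∀ k l, ⁅w k, w l⁆ ∈ closure ({a1, a2, F.p z1, F.p z2} : Set G)
  w0 : w 1 * w 2 * w 3 * w 0 ∈ closure ({a1, a2, F.p z1, F.p z2} : Set G)
  sw : ∀ k, F.p sg * w k * (F.p sg)⁻¹ * w (![0, 1, 3, 2] k) ∈ closure ({a1, a2, F.p z1, F.p z2} : Set G)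

/-- the `2`-group generated by everything -/
noncomputable def OutW.S {H : Subgroup PG} {G : Type*} [Group G] {F : Fr H G} (O : OutW F) : Subgroup G :=
  F.S0 ⊔ closure {O.a1, O.a2, O.w 0, O.w 1, O.w 2, O.w 3}

end H5.MC
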