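import Mathlib
import Cfsg.Agent.H5.MC2

/-! # Subgroups of `Aut M₁₂` -/

set_option autoImplicit false
set_option linter.unusedSectionVars false
set_option linter.unusedVariables false
set_option maxRecDepth 100000

namespace H5.MC

open H9 Cfsg H24 Subgroup
open scoped Pointwise

theorem A.c0_out : emb c0 ∉ Spor.M12 := fun h => absurd (emb_12.1 h) (by decide)

theorem card_AM : Nat.card AM = 190080 := by
  have h := card_eq_orbit_mul AM (ofMask dod0)
  have hne : ofMask dod0 ≠ (ofMask dod0)ᶜ := fun e => by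
    have h0 : pt 0 ∈ ofMask dod0 := by decide
    exact (Finset.mem_compl.1 (e ▸ h0)) h0
  have e : {y | ∃ g ∈ AM, g • ofMask dod0 = y} = {ofMask dod0, (ofMask dod0)ᶜ} := by
    ext y
    refine ⟨fun ⟨g, hg, e⟩ => e ▸ hg.2, ?_⟩
    rintro (rfl | rfl)
    · exact ⟨1, one_mem _, one_smul _ _⟩
    · exact ⟨_, emb_AM c0, (emb_AM c0).2.resolve_left fun h => A.c0_out (mem_M12.2 ⟨(emb_AM c0).1, h⟩)⟩
  have e2 : AM ⊓ MulAction.stabilizer PG (ofMask dod0) = Spor.M12 := by
    ext g
    exact ⟨fun h => mem_M12.2 ⟨h.1.1, h.2⟩, fun h => ⟨M12_le h, (mem_M12.1 h).2⟩⟩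
  rw [e, Set.ncard_pair hne, e2, card_M12] at h
  exact h

theorem A.conj12 {g x : PG} (hg : g ∈ AM) (hx : x ∈ Spor.M12) : g * x * g⁻¹ ∈ Spor.M12 := by
  rw [mul_mem12 (mul_mem hg (M12_le hx)) (inv_mem hg), mul_mem12 hg (M12_le hx), inv_mem_iff]
  tauto

theorem A.gi12' : GensIn g12 Spor.M12 := M12_eq ▸ gi12

/-- the octad fixed by `z1` -/
def A.oz : ℕ := 1484824

theorem A.mem_oz (p : GolayPt) : p ∈ ofMask A.oz ↔ emb z1 p = p := by
  change _ ↔ pm (cd z1) p = p
  rw [pm_apply (cd_AM z1).1]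
  revert p
  decide +kernel

theorem A.smul_oz {g : PG} (h : Commute g (emb z1)) : g • ofMask A.oz = ofMask A.oz := by
  ext p
  rw [← Finset.inv_smul_mem_iff, A.mem_oz, A.mem_oz, Equiv.Perm.smul_def, ← Equiv.Perm.mul_apply, ← h.inv_left.eq,
    Equiv.Perm.mul_apply, Equiv.apply_eq_iff_eq]

theorem A.comm_z1 (n : N1) : Commute (NX.emb n) (emb z1) := by
  rw [← NX.emb_of (X := X1)]
  exact Commute.map ((by decide +kernel : ∀ n : N1, n * NX.of z1 = NX.of z1 * n) n) _

theorem cent_z {g : PG} (hg : g ∈ AM) (h : Commute g (emb z1)) : ∃ n : N1, NX.emb n = g := by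
  have h1 := card_eq_orbit_mul AM (ofMask A.oz)
  have h2 : 495 ≤ {y | ∃ g ∈ AM, g • ofMask A.oz = y}.ncard := by
    have e := ncard_GC (fun s => s.card = 8 ∧ (s ∩ ofMask dod0).card = 4)
      (fun n => Nat.beq (pc n) 8 && Nat.beq (pc (Nat.land n dod0)) 4) fun m _ => by
        rw [← ofMask_and, card_ofMask, card_ofMask, Bool.and_eq_true, beq_iff, beq_iff]; rfl
    rw [show treeCnt _ 12 = 495 by decide +kernel] at e
    rw [← e]
    refine Set.ncard_le_ncard (fun s hs => ?_) (Set.toFinite _)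
    obtain ⟨k, hk, e⟩ := A.gi12'.trans_cw (fun _ h => (mem_M12.1 h).1) (x0 := A.oz) (by decide +kernel)
      (fun s => s.card = 8 ∧ (s ∩ ofMask dod0).card = 4)
      (fun n => Nat.beq (pc n) 8 && Nat.beq (pc (Nat.land n dod0)) 4) (fun m _ h => by
        rw [← ofMask_and, card_ofMask, card_ofMask] at h
        rw [Bool.and_eq_true, beq_iff, beq_iff]; exact h) (by decide +kernel) s hs.1 hs.2
    exact ⟨k, M12_le hk, e⟩
  have h3 : (NX.emb : N1 →* PG).range ≤ AM ⊓ MulAction.stabilizer PG (ofMask A.oz) := by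
    rintro _ ⟨n, rfl⟩
    exact ⟨NX.emb_AM n, A.smul_oz (A.comm_z1 n)⟩
  have h4 : Nat.card (NX.emb : N1 →* PG).range = 384 := by
    rw [← Nat.card_congr (MonoidHom.ofInjective NX.emb_inj).toEquiv, NX.card]
  rw [card_AM] at h1
  exact (eq_of_card_ge h3 (by rw [h4]; nlinarith)).ge ⟨hg, A.smul_oz h⟩

theorem norm_U {g : PG} (hg : g ∈ AM) (h1 : ∃ u : Ph, u.U0 ∧ g * emb z1 * g⁻¹ = emb u)
    (h2 : ∃ u : Ph, u.U0 ∧ g * emb z2 * g⁻¹ = emb u) : ∃ n : N2, NX.emb n = g := by
  obtain ⟨u, hu, e1⟩ := h1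
  obtain ⟨v, hv, e2⟩ := h2
  have hu1 : u ≠ 1 := by
    rintro rfl
    rw [map_one, conj_eq_one_iff, map_eq_one_iff _ emb_inj] at e1
    exact absurd e1 (by decide)
  obtain ⟨r, -, hr1, hr2⟩ := (by decide +kernel : ∀ u : Ph, u.U0 → u ≠ 1 → ∃ r ∈ [(1 : N2), NX.r, NX.r⁻¹],
    r * NX.of u * r⁻¹ = NX.of z1 ∧ ∀ v : Ph, v.U0 → ∃ w ∈ [1, z1, z2, z3], r * NX.of v * r⁻¹ = NX.of w) u hu hu1
  obtain ⟨w, hw, hr2⟩ := hr2 v hv
  have f1 := congrArg NX.emb hr1
  have f2 := congrArg NX.emb hr2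
  simp only [map_mul, map_inv, NX.emb_of] at f1 f2
  obtain ⟨n, hn⟩ := cent_z (g := NX.emb r * g) (mul_mem (NX.emb_AM r) hg) (by
    rw [← e1] at f1
    exact mul_inv_eq_iff_eq_mul.1 (Eq.trans (by group) f1))
  have f3 : n * NX.of z2 * n⁻¹ = NX.of w := NX.emb_inj (by
    simp only [map_mul, map_inv, NX.emb_of]
    rw [hn, ← f2, ← e2]; group)
  have f4 := (by decide +kernel : ∀ n : N1, ∀ w ∈ [1, z1, z2, z3], n * NX.of z2 * n⁻¹ = NX.of w → n = NX.of n.p)
    n w hw f3
  refine ⟨r⁻¹ * NX.of n.p, ?_⟩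
  rw [map_mul, map_inv, NX.emb_of, ← NX.emb_of (X := X1), ← f4, hn, inv_mul_cancel_left]

theorem A.card_emb : Nat.card emb.range = 128 := by
  rw [← Nat.card_congr (MonoidHom.ofInjective emb_inj).toEquiv, card_Ph]

theorem A.emb_le : emb.range ≤ AM := by
  rintro _ ⟨s, rfl⟩
  exact emb_AM s

theorem A.syl_emb : Syl 2 AM emb.range := by
  refine Syl.mk' Nat.prime_two A.emb_le (isPi_of_card (n := 7) Nat.prime_two A.card_emb) ?_
  have := card_mul_relIndex A.emb_le
  rw [A.card_emb, card_AM] at this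
  omega

theorem syl {P : Subgroup PG} (hP : IsPGroup 2 P) (h : P ≤ AM) : ∃ g ∈ Spor.M12, cj g P ≤ emb.range := by
  obtain ⟨g, hg, e⟩ := Sylow_Jsub Nat.prime_two A.syl_emb (isPi_of_isPGroup Nat.prime_two hP) h
  by_cases h1 : g ∈ Spor.M12
  · exact ⟨g, h1, e⟩
  · refine ⟨emb c0 * g, (mul_mem12 (emb_AM c0) hg).2 (iff_of_false A.c0_out h1), ?_⟩
    rw [cj_mul]
    exact cj_le_of_mem e ⟨c0, rfl⟩

/-- conjugating elements for the involutions of `Ph` -/
def A.ctab : ℕ := 0xb3a6bac8e2bbda189604a194c48d007dcab549c89d20389c22a92cd33120b38ea2928d7cc72aae06ba6280b040ac554599cd9d8817dd88388b01c9200000000000000000000000000000000000000000000000000000000000000000000000000000000000000000000000000000000000000000000000002d22e79ae19d9323a882ab56c82060000000000000000000000000000000bd0f150ac45cda62bc70ab1d200509000000000000000000000000000000000000000000000000000000000000000000000000000000000000000000000000000000000000000000000000000000000000000000000000000000000000000000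0000000000000000007aaaba422475da3995213b2d232040000000000000000000000000000000bd26588acdabc2c51cd070d68011320000000000000000000000000000000000000000000000000000000000000000000000000000000000000000000000000000000000000000000000000000000000000000000000000000007d0ebbb66c8aa43754492a2d031020000000000000000000000000000000baa76700b2a44887ac2d39aa21b2090000000000000000000000000000000000000000000000000000000000000000000000000000000000000000000000000000000000000000000000000000000000000000000000000000007d1d6530a6bd4523cc815c22903503000000000000000000000000000000552272c1c0bd8c19ad0da89e961243000000000000000000000000000000000000000000000000000000000000000000000000000000000000000000000000000000000000000000000000000000000000000000000000000000b9e25ac2cd9a84372d217ca860110c0000000000000000000000000000009b945a81e8b1c46a5e415b2241c12d0000000000000000000000000000000000000000000000000000000000000000000000000000000000000000000000000000000000000000000000000000000000000000000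00000000000a4d51ab562bd990394c0785d249103000000000000000000000000000000bdab49ca307b9ac5a928398a418820bccef88aa87588ca2c232b552480d07d6d1390a9ba90ca4db0709661c8202dd71984e4b3da8a28c9a89d283060bd2af534e6b4d928b928584a020a03bc547a1ac374d01abc8c580a24c9b0a4d51ab562bd990394c0785d2491037aa2e3a2a1bd0c42d8529b56c026037d1d6530a6bd4523cc815c22903503b94eea36285d84cabc12512691c0c1bc5559b1627da4471cc1a24ad02203bba8ab116d7c52899d90286a219a407a9c53c1628da4cbd46999a840b50079556889d23cd0daac2cb8289340837d0ebbb66c8aa43754492a2d031020bc68e988ecabcd0b2a4d58ca941001bdab49ca307b9ac5a928398a4188200000000000000000000000000000000000000000000000000000000000000000000000000000000000000000000000000000000000000000000000000000000000000000000000000000007d1d6530a6bd4523cc815c22903503000000000000000000000000000000995f5898e4b512c72e03bb54240640000000000000000000000000000000000000000000000000000000000000000000000000000000000000000000000000000000000000000000000000000000000000000000000000000000bdab49ca307b9ac5a928398a418820000000000000000000000000000000000000000000000000000000000000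

theorem A.ctab_ok : ∀ s : Ph, s * s = 1 → s ≠ 1 → in12 (H7.Cay.pk A.ctab 120 s.n) = true ∧
    ∃ t ∈ [z1, i0, c0], (s.zc → t = z1) ∧
      mulP (H7.Cay.pk A.ctab 120 s.n) (cd s) = mulP (cd t) (H7.Cay.pk A.ctab 120 s.n) := by
  decide +kernel

theorem A.ph_class {s : Ph} (h2 : s * s = 1) (h1 : s ≠ 1) :
    ∃ g ∈ Spor.M12, ∃ t ∈ [z1, i0, c0], (s.zc → t = z1) ∧ g * emb s * g⁻¹ = emb t := by
  obtain ⟨h, t, ht, hz, e⟩ := A.ctab_ok s h2 h1
  have v := validP_of_inStab h
  refine ⟨_, mem12 h, t, ht, hz, mul_inv_eq_iff_eq_mul.2 ?_⟩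
  have := congrArg pm e
  rwa [pm_mulP v (cd_AM s).1, pm_mulP (cd_AM t).1 v] at this

theorem inv_class {x : PG} (hx : x ∈ AM) (h2 : x * x = 1) (h1 : x ≠ 1) :
    ∃ g ∈ Spor.M12, g * x * g⁻¹ = emb z1 ∨ g * x * g⁻¹ = emb i0 ∨ g * x * g⁻¹ = emb c0 := by
  have o : orderOf x = 2 := orderOf_eq_prime (by rw [sq, h2]) h1
  obtain ⟨g, hg, e⟩ := syl (P := zpowers x) (IsPGroup.of_card (n := 1) (by rw [Nat.card_zpowers, o, pow_one]))
    (zpowers_le.2 hx)
  obtain ⟨s, hs⟩ := e (conj_mem_cj g (mem_zpowers x))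
  obtain ⟨k, hk, t, ht, -, e⟩ := A.ph_class (s := s)
    (emb_inj (by rw [map_mul, hs, map_one, conj_mul, h2, mul_one, mul_inv_cancel])) (by
      rintro rfl
      rw [map_one, eq_comm, conj_eq_one_iff] at hs
      exact h1 hs)
  have e' : k * g * x * (k * g)⁻¹ = emb t := by rw [← e, hs]; group
  refine ⟨k * g, mul_mem hk hg, ?_⟩
  simp only [List.mem_cons, List.not_mem_nil, or_false] at ht
  rcases ht with rfl | rfl | rfl
  · exact Or.inl e'
  · exact Or.inr (Or.inl e')
  · exact Or.inr (Or.inr e')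

theorem zc_conj {s : Ph} (h : s.zc) : ∃ g ∈ Spor.M12, g * emb z1 * g⁻¹ = emb s := by
  obtain ⟨k, hk, t, -, hz, e⟩ := A.ph_class ((by decide +kernel : ∀ s : Ph, s.zc → s * s = 1) s h) h.1
  exact ⟨k⁻¹, inv_mem hk, by rw [← hz h, ← e]; group⟩

theorem A.odd_fix {X : Subgroup PG} (h : X ≤ AM) (ho : Odd (Nat.card X)) (h2 : emb z2 ∈ N[X]) {x : PG} (hx : x ∈ X)
    (hc : Commute x (emb z1)) : x = 1 := by
  have k : ∀ n : N1, NX.emb n ∈ X → n ^ 3 = 1 := fun n hn => by
    have a : orderOf n ∣ 384 := NX.card (X := X1) ▸ orderOf_dvd_natCard n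
    have b : Odd (orderOf n) := by
      rw [← orderOf_injective NX.emb NX.emb_inj]
      exact ho.of_dvd_nat (orderOf_dvd_card' hn)
    exact orderOf_dvd_iff_pow_eq_one.1 (Nat.Coprime.dvd_of_dvd_mul_left (n := 3)
      (Nat.Coprime.pow_right 7 (Nat.coprime_two_right.2 b)) a)
  obtain ⟨n, rfl⟩ := cent_z (h hx) hc
  have a := k n hx
  have b := k (n⁻¹ * (NX.of z2 * n * (NX.of z2)⁻¹)) (by
    simp only [map_mul, map_inv, NX.emb_of]
    exact mul_mem (inv_mem hx) (conj_mem h2 hx))
  rw [pow_three] at a b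
  rw [(by decide +kernel : ∀ n : N1, n * (n * n) = 1 → ∀ m ∈ [n⁻¹ * (NX.of z2 * n * (NX.of z2)⁻¹)],
    m * (m * m) = 1 → n = 1) n a _ (List.mem_singleton_self _) b, map_one]

theorem A.inv_of_fix {G : Type*} [Group G] [Finite G] {X : Subgroup G} {z : G} (hz : z ∈ N[X]) (h2 : z * z = 1)
    (h : ∀ x ∈ X, Commute x z → x = 1) {x : G} (hx : x ∈ X) : z * x * z⁻¹ = x⁻¹ := by
  have := MonoidHom.FixedPointFree.coe_eq_inv_of_involutive (φ := X.normalizerMonoidHom ⟨z, hz⟩)
    (fun y e => Subtype.ext (h y y.2 (mul_inv_eq_iff_eq_mul.1 (congrArg Subtype.val e)).symm))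
    (fun y => Subtype.ext (by
      change z * (z * y * z⁻¹) * z⁻¹ = y
      rw [show z * (z * y * z⁻¹) * z⁻¹ = z * z * y * (z * z)⁻¹ by group, h2]; group))
  exact congrArg Subtype.val (congrFun this ⟨x, hx⟩)

theorem odd_U {X : Subgroup PG} (h : X ≤ AM) (ho : Odd (Nat.card X)) (h1 : emb z1 ∈ N[X]) (h2 : emb z2 ∈ N[X]) :
    X = ⊥ := by
  have hU : ∀ u ∈ [z1, z2, z3], emb u ∈ N[X] := by
    simp only [List.forall_mem_cons, List.not_mem_nil, IsEmpty.forall_iff, implies_true, and_true]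
    exact ⟨h1, h2, by rw [show z3 = z1 * z2 by decide +kernel, map_mul]; exact mul_mem h1 h2⟩
  have k : ∀ u ∈ [z1, z2, z3], ∀ x ∈ X, emb u * x * (emb u)⁻¹ = x⁻¹ := fun u hu x hx => by
    obtain ⟨uu, r, -, a, v, hv, b⟩ := (by decide +kernel : ∀ u ∈ [z1, z2, z3], u * u = 1 ∧
      ∃ r ∈ [(1 : N2), NX.r, NX.r⁻¹], r * NX.of u * r⁻¹ = NX.of z1 ∧
        ∃ v ∈ [z1, z2, z3], r * NX.of v * r⁻¹ = NX.of z2) u hu
    have a := congrArg NX.emb a
    have b := congrArg NX.emb b
    simp only [map_mul, map_inv, NX.emb_of] at a b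
    refine A.inv_of_fix (hU u hu) (by rw [← map_mul, uu, map_one]) (fun y hy c => ?_) hx
    refine conj_eq_one_iff.1 (A.odd_fix (X := cj (NX.emb r) X) (cj_le_of_mem h (NX.emb_AM r))
      (by rwa [card_cj]) ?_ (conj_mem_cj _ hy) (by rw [← a]; exact c.conj _))
    rw [← cj_N, ← b]
    exact conj_mem_cj _ (hU v hv)
  refine eq_bot_iff.2 fun x hx => mem_bot.2 ?_
  have a := k z3 (by simp) x hx
  rw [show z3 = z1 * z2 by decide +kernel, map_mul, show emb z1 * emb z2 * x * (emb z1 * emb z2)⁻¹ =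
    emb z1 * (emb z2 * x * (emb z2)⁻¹) * (emb z1)⁻¹ by group, k z2 (by simp) x hx,
    k z1 (by simp) _ (inv_mem hx), inv_inv] at a
  have b : orderOf x ∣ 2 := orderOf_dvd_iff_pow_eq_one.2 (by rw [sq]; exact mul_eq_one_iff_eq_inv.2 a)
  exact orderOf_eq_one_iff.1 (Nat.Coprime.eq_one_of_dvd
    (Nat.coprime_two_right.2 (ho.of_dvd_nat (orderOf_dvd_card' hx))) b)

theorem A.comm_pm {c d : ℕ} (h : (validP c && validP d && Nat.beq (mulP c d) (mulP d c)) = true) :
    Commute (pm c) (pm d) := by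
  simp only [Bool.and_eq_true, beq_iff] at h
  rw [Commute, SemiconjBy, ← pm_mulP h.1.1 h.1.2, h.2, pm_mulP h.1.2 h.1.1]

theorem gen12 {X : Subgroup PG} (h1 : ∀ g ∈ Spor.M12, Commute g (emb z1) → g ∈ X)
    (h2 : ∀ g ∈ Spor.M12, Commute g (emb z2) → g ∈ X) : Spor.M12 ≤ X := by
  have h : GensIn [969277917667870129153987709871719680, 713439247125572013548246331448987906,
      921206263673773055563683223633539586] X := by
    simp only [GensIn, List.forall_mem_cons, List.not_mem_nil, IsEmpty.forall_iff, implies_true, and_true]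
    exact ⟨⟨by decide +kernel, h1 _ (mem12 (by decide +kernel)) (A.comm_pm (d := cd z1) (by decide +kernel))⟩,
      ⟨by decide +kernel, h2 _ (mem12 (by decide +kernel)) (A.comm_pm (d := cd z2) (by decide +kernel))⟩,
      ⟨by decide +kernel, h1 _ (mem12 (by decide +kernel)) (A.comm_pm (d := cd z1) (by decide +kernel))⟩⟩
  rw [M12_eq, ← cl_g12]
  exact (h.of_words [[2, 0, 0, 1, 0, 1, 2, 1, 0, 0, 2, 0], [0, 2, 2, 0, 1, 0, 2, 0, 1, 1, 0, 1]]
    (by decide +kernel)).cl_le

theorem cent12 {g : PG} (hg : g ∈ AM) (h : ∀ x ∈ Spor.M12, Commute g x) : g = 1 := by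
  obtain ⟨n, rfl⟩ := cent_z hg (h _ (emb_12.2 (by decide)))
  have k : ∀ m : N1, m.p.inn → n * m = m * n := fun m hm =>
    NX.emb_inj (by rw [map_mul, map_mul]; exact h _ (NX.emb_12.2 hm))
  rcases (by decide +kernel : ∀ n : N1, n * NX.r = NX.r * n → n * NX.of j2 = NX.of j2 * n → n = 1 ∨ n = NX.of z1)
    n (k _ (by decide +kernel)) (k _ (by decide +kernel)) with rfl | rfl
  · exact map_one _
  · have := h _ (NX.r_12 (X := X2))
    rw [NX.emb_of, ← NX.emb_of (X := X2), ← NX.emb_r] at this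
    exact absurd (NX.emb_inj (by rw [map_mul, map_mul]; exact this))
      (by decide +kernel : ¬ (NX.of z1 : N2) * NX.r = NX.r * NX.of z1)

end H5.MC
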