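import Mathlib
import Cfsg.Agent.H5.MCA
import Cfsg.Agent.H0.MCQ0
import Cfsg.Agent.H6.XT

/-! # Sylow, embedding and lifting lemmas for frames -/

set_option autoImplicit false
set_option linter.unusedSectionVars false
set_option linter.unusedVariables false

namespace H5.MC

open H9 Cfsg H24 Subgroup Q0

variable {H : Subgroup PG} {G X : Type*} [Group G] [Finite G] [Group X] [Finite X]

namespace Fr
variable (F : Fr H G)

theorem q_odd : IsPi ({2}ᶜ : Set ℕ) F.W := (isPi_compl_iff Nat.prime_two).2 F.odd.not_two_dvd_nat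

theorem q_one {w : G} (hw : w ∈ F.W) (h : w * w = 1) : w = 1 :=
  (piElt_of_pow_eq_one (piNat_self Nat.prime_two) ((sq w).trans h)).eq_one (F.q_odd.piElt hw)

theorem q_one' {w x : G} (hw : w ∈ F.W) (hx : x ∈ C[F.W]) (h1 : x * x = 1)
    (h : w * x * (w * x) = 1) : w = 1 := by
  refine F.q_one hw ?_
  rwa [mul_assoc, ← mul_assoc x, mem_C'.1 hx w hw, mul_assoc w, h1, mul_one] at h

theorem tCW : F.t ∈ C[F.W] := mem_C_iff_le_C1.2 F.Wt
theorem tNW : F.t ∈ N[F.W] := C_le_N _ F.tCW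
theorem eNW (x : PG) : F.e x ∈ N[F.W] := by
  unfold e; split_ifs
  · exact F.Wn _
  · exact one_mem _
theorem eCW {x : PG} (hx : x ∈ Spor.M12) : F.e x ∈ C[F.W] := by
  rw [F.e_eq (F.h12 hx)]; exact F.WL _ hx
theorem eCt (x : PG) : F.e x ∈ C{F.t} := mem_C1.2 (F.e_t x).symm.eq
theorem e_conj {x y : PG} (hx : x ∈ H) (hy : y ∈ H) :
    F.e (x * y * x⁻¹) = F.e x * F.e y * (F.e x)⁻¹ := by
  rw [F.e_mul (mul_mem hx hy) (inv_mem hx), F.e_mul hx hy, F.e_inv hx]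
theorem CtN : C{F.t} ≤ N[F.W] := fun g hg => by
  obtain ⟨w, hw, x, -, rfl | rfl⟩ := F.cent' (mem_C1.1 hg)
  · exact mul_mem (norm_self _ hw) (F.eNW x)
  · exact mul_mem (norm_self _ hw) (mul_mem F.tNW (F.eNW x))
theorem t_not_W : F.t ∉ F.W := fun h => F.t_ne (F.q_one h F.tt)

theorem q_K {x : PG} (hx : x ∈ H) (h : F.e x ∈ F.W ⊔ zpowers F.t) : x = 1 := by
  refine cent12 (F.hAM hx) fun y hy => ?_
  have k : F.W ⊔ zpowers F.t ≤ C{F.e y} := sup_le (mem_C_iff_le_C1.1 (F.eCW hy))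
    (zpowers_le.2 (mem_C1.2 (F.e_t y).eq))
  have := mem_C1.1 (k h)
  rw [← F.e_mul hx (F.h12 hy), ← F.e_mul (F.h12 hy) hx] at this
  exact F.e_inj (mul_mem hx (F.h12 hy)) (mul_mem (F.h12 hy) hx) this

/-- the projection `C(t) → H` -/
theorem exists_pr : ∃ κ : C{F.t} →* PG, (∀ g ∈ C{F.t}, ap κ g ∈ H ∧
    g * (F.e (ap κ g))⁻¹ ∈ F.W ⊔ zpowers F.t) ∧ ∀ x ∈ H, ap κ (F.e x) = x := by
  have ex : ∀ g : C{F.t}, ∃ x, x ∈ H ∧ g * (F.e x)⁻¹ ∈ F.W ⊔ zpowers F.t := fun g => by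
    obtain ⟨w, hw, x, hx, e | e⟩ := F.cent' (mem_C1.1 g.2)
    · exact ⟨x, hx, by rw [e, mul_inv_cancel_right]; exact mem_sup_left hw⟩
    · exact ⟨x, hx, by
        rw [e, ← mul_assoc, mul_inv_cancel_right]
        exact mul_mem (mem_sup_left hw) (mem_sup_right (mem_zpowers _))⟩
  choose f f1 f2 using ex
  have un : ∀ g, ∀ x ∈ H, g.1 * (F.e x)⁻¹ ∈ F.W ⊔ zpowers F.t → f g = x := fun g x hx h => by
    have := mul_mem (inv_mem (f2 g)) h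
    rw [mul_inv_rev, inv_inv, mul_assoc, inv_mul_cancel_left, ← F.e_inv hx,
      ← F.e_mul (f1 g) (inv_mem hx)] at this
    exact mul_inv_eq_one.1 (F.q_K (mul_mem (f1 g) (inv_mem hx)) this)
  have n := norm_sup F.CtN (norm_zpowers_of_cent le_rfl)
  refine ⟨MonoidHom.mk' f fun a b => un _ _ (mul_mem (f1 a) (f1 b)) ?_, fun g hg => ?_, fun x hx => ?_⟩
  · rw [F.e_mul (f1 a) (f1 b), coe_mul, show (a : G) * b * (F.e (f a) * F.e (f b))⁻¹ =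
      a * (b * (F.e (f b))⁻¹) * (a : G)⁻¹ * (a * (F.e (f a))⁻¹) by group]
    exact mul_mem (conj_mem (n a.2) (f2 b)) (f2 a)
  · rw [ap_of_mem _ hg]; exact ⟨f1 _, f2 ⟨g, hg⟩⟩
  · rw [ap_of_mem _ (F.eCt x)]
    exact un ⟨_, F.eCt x⟩ x hx (by rw [mul_inv_cancel]; exact one_mem _)

theorem mem_S0 {g : G} : g ∈ F.S0 ↔ ∃ s : Ph, emb s ∈ H ∧ (g = F.p s ∨ g = F.t * F.p s) := by
  have n : (emb.range.subgroupOf H).map F.ψ ≤ N[zpowers F.t] := norm_zpowers_of_cent (by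
    rintro _ ⟨x, -, rfl⟩; exact mem_C1.2 (F.tc x).symm.eq)
  rw [S0, mem_sup_of_norm n]
  constructor
  · rintro ⟨a, ha, _, ⟨x, ⟨s, e⟩, rfl⟩, rfl⟩
    have e1 : F.ψ x = F.p s := by rw [p, ← F.e_coe]; exact congrArg F.e e.symm
    refine ⟨s, e ▸ x.2, ?_⟩
    rcases mem_zp F.tt ha with rfl | rfl
    · exact Or.inl (by rw [one_mul, e1])
    · exact Or.inr (by rw [e1])
  · rintro ⟨s, hs, h⟩
    have m : F.p s ∈ (emb.range.subgroupOf H).map F.ψ := ⟨⟨_, hs⟩, ⟨s, rfl⟩, (F.e_eq hs).symm⟩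
    rcases h with rfl | rfl
    · exact ⟨1, one_mem _, _, m, (one_mul _).symm⟩
    · exact ⟨_, mem_zpowers _, _, m, rfl⟩

theorem t_mem : F.t ∈ F.S0 := mem_sup_left (mem_zpowers _)
theorem p_mem (s : Ph) : F.p s ∈ F.S0 := by
  by_cases h : emb s ∈ H
  · exact F.mem_S0.2 ⟨s, h, Or.inl rfl⟩
  · rw [p, e, dif_neg h]; exact one_mem _
theorem S0_C : F.S0 ≤ C{F.t} := fun g hg => by
  obtain ⟨s, -, rfl | rfl⟩ := F.mem_S0.1 hg
  · exact F.eCt _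
  · exact mul_mem (self_mem_C1 _) (F.eCt _)

/-- the projection `S0 → Ph` -/
theorem exists_pi : ∃ π : F.S0 →* Ph, pre π ⊥ = zpowers F.t ∧
    (∀ g ∈ F.S0, emb (ap π g) ∈ H ∧ (g = F.p (ap π g) ∨ g = F.t * F.p (ap π g))) ∧
    (∀ s, emb s ∈ H → ap π (F.p s) = s) ∧
    ∀ Y ≤ F.S0, Nat.card Y ≤ 2 * Nat.card (img π Y) ∧ (F.t ∈ Y → Nat.card Y = 2 * Nat.card (img π Y)) := by
  obtain ⟨κ, k1, k2⟩ := F.exists_pr
  have kt : ap κ F.t = 1 := F.q_K (k1 _ (self_mem_C1 _)).1 (by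
    simpa using inv_mem ((mul_mem_cancel_left (mem_sup_right (mem_zpowers _))).1
      (k1 _ (self_mem_C1 _)).2))
  choose f f1 f2 using fun g : F.S0 => F.mem_S0.1 g.2
  have e : ∀ g, emb (f g) = ap κ g := fun g => by
    rcases f2 g with e | e
    · rw [e, p, k2 _ (f1 g)]
    · rw [e, p, ap_mul _ (self_mem_C1 _) (F.eCt _), kt, one_mul, k2 _ (f1 g)]
  let π : F.S0 →* Ph := MonoidHom.mk' f fun a b => emb_inj (by
    rw [map_mul, e, e, e, coe_mul, ap_mul _ (F.S0_C a.2) (F.S0_C b.2)])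
  have hπ : ∀ g (hg : g ∈ F.S0), ap π g = f ⟨g, hg⟩ := fun g hg => ap_of_mem _ hg
  have ker : pre π ⊥ = zpowers F.t := by
    refine le_antisymm (fun g hg => ?_) (zpowers_le.2 (mem_pre_bot.2 ⟨F.t_mem, emb_inj (by
      rw [hπ _ F.t_mem, e, map_one]; exact kt)⟩))
    obtain ⟨h1, h2⟩ := mem_pre_bot.1 hg
    have := f2 ⟨g, h1⟩
    rw [← hπ g h1, h2, F.p_one, mul_one] at this
    rcases this with e | e
    · exact (show g = 1 from e) ▸ one_mem _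
    · exact (show g = F.t from e) ▸ mem_zpowers _
  refine ⟨π, ker, fun g hg => hπ g hg ▸ ⟨f1 _, f2 ⟨g, hg⟩⟩,
    fun s hs => emb_inj (by rw [hπ _ (F.p_mem s), e]; exact k2 _ hs), fun Y hY => ?_⟩
  have c := card_img_mul π hY
  have c2 : Nat.card (zpowers F.t) = 2 := by rw [Nat.card_zpowers, F.ot]
  rw [ker] at c
  rw [← c]
  exact ⟨Nat.mul_le_mul_right _ (c2 ▸ card_le inf_le_left),
    fun h => by rw [inf_eq_left.2 (zpowers_le.2 h), c2]⟩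

theorem card_S0 : (emb c0 ∈ H → Nat.card F.S0 = 256) ∧ (emb c0 ∉ H → Nat.card F.S0 = 128) := by
  obtain ⟨π, -, k1, k2, k3⟩ := F.exists_pi
  have m : ∀ s, s ∈ img π F.S0 ↔ s.inn ∨ emb c0 ∈ H := fun s => by
    rw [← emb_12, ← F.mem_iff (emb_AM s), mem_img_of_le le_rfl]
    exact ⟨fun ⟨g, hg, e⟩ => e ▸ (k1 g hg).1, fun h => ⟨_, F.p_mem s, k2 s h⟩⟩
  rw [(k3 _ le_rfl).2 F.t_mem]
  refine ⟨fun h => ?_, fun h => ?_⟩
  · rw [(eq_top_iff' _).2 fun s => (m s).2 (Or.inr h), card_top, card_Ph]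
  · rw [card_eq_cn (p := Ph.inn) fun s => (m s).trans (or_iff_left h), f64]
theorem S0_two : IsPGroup 2 F.S0 := by
  by_cases h : emb c0 ∈ H
  · exact IsPGroup.of_card (n := 8) (F.card_S0.1 h)
  · exact IsPGroup.of_card (n := 7) (F.card_S0.2 h)
theorem embed {x : G} (hx : F.T x) {Y : Subgroup G} (hY : IsPGroup 2 Y) (hc : Y ≤ C{x}) :
    ∃ g, g * x * g⁻¹ = F.t ∧ cj g Y ≤ F.S0 := by
  obtain ⟨a, rfl⟩ := isConj_iff.1 hx
  have h1 : cj a⁻¹ Y ≤ C{F.t} := by rwa [cj_le_iff, inv_inv, cj_C1]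
  have h2 := (isPi_of_isPGroup Nat.prime_two hY).cj a⁻¹
  obtain ⟨κ, k1, k2⟩ := F.exists_pr
  obtain ⟨b, hb, e⟩ := syl ((h2.img κ).isPGroup Nat.prime_two) (fun y hy => by
    obtain ⟨g, -, hg, rfl⟩ := mem_img.1 hy
    exact F.hAM (k1 g hg).1)
  have h3 : cj (F.e b) (cj a⁻¹ Y) ≤ F.W ⊔ F.S0 := fun y hy => by
    have m := cj_le_of_mem h1 (F.eCt b) hy
    obtain ⟨s, hs⟩ := e (by
      rw [← k2 b (F.h12 hb), ← img_cj _ (F.eCt b)]; exact ap_mem_img κ hy m)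
    have := sup_le_sup_left (zpowers_le.2 F.t_mem) _ (k1 y m).2
    rw [← hs] at this
    exact (mul_mem_cancel_right (inv_mem (mem_sup_right (F.p_mem s)))).1 this
  have n := F.S0_C.trans F.CtN
  have hS : Syl 2 (F.W ⊔ F.S0) F.S0 := Hall.mk' le_sup_right (isPi_of_isPGroup Nat.prime_two F.S0_two)
    (by rw [sup_comm, relIndex_sup_of_norm' n]; exact F.q_odd.relIndex _)
  obtain ⟨c, hc', e1⟩ := Sylow_Jsub Nat.prime_two hS (h2.cj _) h3
  refine ⟨c * F.e b * a⁻¹, ?_, by rwa [cj_mul, cj_mul]⟩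
  rw [show c * F.e b * a⁻¹ * (a * F.t * a⁻¹) * (c * F.e b * a⁻¹)⁻¹ =
    c * F.e b * F.t * (c * F.e b)⁻¹ by group]
  exact mem_C1_iff_conj.1 (mul_mem (sup_le F.Wt F.S0_C hc') (F.eCt b))
theorem card_le_S0 {x : G} (hx : F.T x) {Y : Subgroup G} (hY : IsPGroup 2 Y) (hc : Y ≤ C{x}) :
    Nat.card Y ≤ Nat.card F.S0 := by
  obtain ⟨g, -, e⟩ := F.embed hx hY hc
  exact card_cj g Y ▸ card_le e
theorem cent_S {S : Subgroup G} (hS : IsPGroup 2 S) (h0 : F.S0 ≤ S) {g : G} (hg : g ∈ S) (h : Commute g F.t) :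
    g ∈ F.S0 := by
  rw [eq_of_card_ge (le_inf h0 F.S0_C)
    (F.card_le_S0 (IsConj.refl _) (hS.to_le inf_le_left) inf_le_right)]
  exact ⟨hg, mem_C1.2 h.eq⟩
theorem q_zc {s : Ph} (h : s.zc) : ∃ g ∈ C{F.t}, g * F.p z1 * g⁻¹ = F.p s := by
  obtain ⟨g, hg, e⟩ := zc_conj h
  exact ⟨_, F.eCt g, by rw [p, p, ← e, F.e_conj (F.h12 hg) (F.inn (by decide))]⟩
theorem T_tz {s : Ph} (h : s.zc) : F.T (F.t * F.p s) := by
  obtain ⟨g, hg, e⟩ := F.q_zc h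
  exact F.tz'.trans (isConj_iff.2 ⟨g, by rw [← conj_mul, e, mem_C1_iff_conj.1 hg]⟩)
theorem not_T {s : Ph} (h : s.zc) : ¬ F.T (F.p s) := fun h1 => by
  obtain ⟨g, -, e⟩ := F.q_zc h
  exact F.nz' (h1.trans (isConj_iff.2 ⟨g, e⟩).symm)
theorem oddW {O : Subgroup G} (ho : Odd (Nat.card O)) (ht : O ≤ C{F.t}) (h1 : F.p z1 ∈ N[O]) (h2 : F.p z2 ∈ N[O]) :
    O ≤ F.W := by
  obtain ⟨κ, k1, k2⟩ := F.exists_pr
  have k := odd_U (X := img κ O) (fun y hy => by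
      obtain ⟨g, -, hg, rfl⟩ := mem_img.1 hy
      exact F.hAM (k1 g hg).1) (odd_img ho κ)
    (k2 _ (F.inn (s := z1) (by decide)) ▸ ap_mem_N κ h1 (F.eCt _))
    (k2 _ (F.inn (s := z2) (by decide)) ▸ ap_mem_N κ h2 (F.eCt _))
  have n := zpowers_le.2 F.tNW
  refine le_of_idx_compl' (π := {2}) (nml_sup_left n) ?_
    ((isPi_compl_iff Nat.prime_two).2 ho.not_two_dvd_nat) fun g hg => ?_
  · rw [relIndex_sup_of_norm n]
    exact (piElt_of_orderOf_prime Nat.prime_two F.ot).isPi.relIndex _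
  · have := (k1 g (ht hg)).2
    rwa [mem_bot.1 (k.le (ap_mem_img κ hg (ht hg))), F.e_one, inv_one, mul_one] at this

omit [Finite G] in
theorem q_sq {E : Subgroup G} (h2 : ∀ e ∈ E, e * e = 1) (g : G) : ∀ e ∈ cj g E, e * e = 1 := fun e he => by
  obtain ⟨a, ha, rfl⟩ := mem_cj'.1 he
  rw [conj_mul, h2 a ha]; simp
omit [Finite G] in
theorem q_sq' {E D : Subgroup G} (h2 : ∀ e ∈ E, e * e = 1) (π : D →* Ph) : ∀ e ∈ img π E, e * e = 1 :=
  fun e he => by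
    obtain ⟨a, ha, hD, rfl⟩ := mem_img.1 he
    rw [← ap_mul π hD hD, h2 a ha, ap_one]

theorem E16 {x : G} (hx : F.T x) {E Y : Subgroup G} (hY : IsPGroup 2 Y) (hc : Y ≤ C{x}) (hE : E ≤ Y)
    (h2 : ∀ e ∈ E, e * e = 1) (h16 : 16 ≤ Nat.card E) (hEY : Y ≤ C[E]) : Nat.card Y ≤ 32 := by
  obtain ⟨g, -, e⟩ := F.embed hx hY hc
  obtain ⟨π, -, -, -, k3⟩ := F.exists_pi
  have c1 := (k3 _ ((cj_mono g hE).trans e)).1
  have c2 := (k3 _ e).1
  rw [card_cj] at c1 c2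
  obtain ⟨a, ha, h1⟩ := ex_not (D := img π (cj g E)) {1} (by rw [Finset.card_singleton]; omega)
  have := (e8 (q_sq' (q_sq h2 g) π) (by omega) ha (Finset.notMem_singleton.1 h1)).1
    (img_cent π (cent_cj hEY g))
  omega
theorem E32 {x : G} (hx : F.T x) {E E' Y : Subgroup G} (hY : IsPGroup 2 Y) (hc : Y ≤ C{x}) (hE : E ≤ Y)
    (hE' : E' ≤ Y) (h2 : ∀ e ∈ E, e * e = 1) (h2' : ∀ e ∈ E', e * e = 1) (h : 32 ≤ Nat.card E)
    (h' : 32 ≤ Nat.card E') : E = E' := by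
  obtain ⟨g, -, e⟩ := F.embed hx hY hc
  obtain ⟨π, -, -, -, k3⟩ := F.exists_pi
  have l1 := (cj_mono g hE).trans e
  have l2 := (cj_mono g hE').trans e
  have c1 := (k3 _ l1).1
  have c2 := (k3 _ l2).1
  have c3 := (k3 _ (sup_le l1 l2)).1
  rw [card_cj] at c1 c2
  have c4 := card_le (sup_le (e16 (q_sq' (q_sq h2 g) π) (by omega))
    (e16 (q_sq' (q_sq h2' g) π) (by omega)))
  rw [← img_sup π l1 l2, card_AA] at c4
  rw [← cj_sup, card_cj, cj_sup] at c3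
  exact (eq_of_card_ge (le_sup_left : E ≤ E ⊔ E') (by omega)).trans
    (eq_of_card_ge (le_sup_right : E' ≤ E ⊔ E') (by omega)).symm
theorem E44 {x : G} (hx : F.T x) {Y : Subgroup G} (hY : IsPGroup 2 Y) (hc : Y ≤ C{x}) {a b : G} (ha : a ∈ Y)
    (hb : b ∈ Y) (oa : orderOf a = 4) (ob : orderOf b = 4) (hab : a * a ≠ b * b) (ca : Y ≤ C{a}) (cb : Y ≤ C{b}) :
    Nat.card Y ≤ 32 := by
  obtain ⟨g, -, e⟩ := F.embed hx hY hc
  obtain ⟨π, -, k1, -, k3⟩ := F.exists_pi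
  have sq : ∀ y ∈ F.S0, y * y = F.p (ap π y * ap π y) := fun y hy => by
    obtain ⟨h1, h2 | h2⟩ := k1 y hy
    · rw [F.p_mul h1 h1, ← h2]
    · rw [F.p_mul h1 h1]
      conv_lhs => rw [h2, mul_assoc, ← mul_assoc (F.p _), ← (F.p_t _).eq, mul_assoc, ← mul_assoc, F.tt,
        one_mul]
  have o4 : ∀ a ∈ Y, orderOf a = 4 → ap π (g * a * g⁻¹) * ap π (g * a * g⁻¹) ≠ 1 ∧
      ap π (g * a * g⁻¹) * ap π (g * a * g⁻¹) * (ap π (g * a * g⁻¹) * ap π (g * a * g⁻¹)) = 1 := by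
    intro a ha oa
    have m := e (conj_mem_cj g ha)
    constructor
    · intro h
      have := sq _ m
      rw [h, F.p_one, conj_mul, conj_eq_one_iff, ← pow_two, ← orderOf_dvd_iff_pow_eq_one, oa] at this
      omega
    · rw [← ap_mul π m m, ← ap_mul π (mul_mem m m) (mul_mem m m), conj_mul, conj_mul,
        show a * a * (a * a) = a ^ orderOf a by rw [oa, show 4 = 2 + 2 from rfl, pow_add, pow_two],
        pow_orderOf_eq_one]
      simp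
  have ma := e (conj_mem_cj g ha)
  have mb := e (conj_mem_cj g hb)
  have ia := img_cent1 π (cj_C1 g a ▸ cj_mono g ca) ma
  have ib := img_cent1 π (cj_C1 g b ▸ cj_mono g cb) mb
  have c1 := (card_le_cn fun y hy => ⟨mem_C1.1 (ia hy), mem_C1.1 (ib hy)⟩).trans
    (f44 _ (o4 a ha oa).1 (o4 a ha oa).2 _ (o4 b hb ob).1 (o4 b hb ob).2 (fun h => hab (by
      have := sq _ ma
      rw [h, ← sq _ mb, conj_mul, conj_mul] at this
      exact mul_left_cancel (mul_right_cancel this)))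
      (mem_C1.1 (ib (ap_mem_img π (conj_mem_cj g ha) ma))))
  have c2 := (k3 _ e).1
  rw [card_cj] at c2
  omega
theorem N4 {E : Subgroup G} (hE : E ≤ F.S0) (hn : F.S0 ≤ N[E]) (h2 : ∀ e ∈ E, e * e = 1) (h4 : Nat.card E = 4)
    (hT : ∀ e ∈ E, ¬ F.T e) {g : G} : g ∈ E ↔ ∃ u : Ph, u.U0 ∧ g = F.p u := by
  classical
  obtain ⟨π, -, k1, k2, -⟩ := F.exists_pi
  have k : ∀ e ∈ E, ∃ u : Ph, u.U0 ∧ e = F.p u := fun e he => by
    have m := ap_mem_img π he (hE he)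
    have cj : ∀ s : Ph, s.inn → s * ap π e * s⁻¹ ∈ img π E := fun s hs =>
      conj_mem (k2 s (F.inn hs) ▸ ap_mem_N π (hn (F.p_mem s)) (F.p_mem s)) m
    rcases fN4 _ (q_sq' h2 π _ m) with h | ⟨s, hs, s', hs', h⟩
    · refine ⟨_, h, (k1 e (hE he)).2.resolve_right fun e1 => hT e he ?_⟩
      rw [e1]
      rcases (fU _ h).2 with e2 | e2
      · rw [e2, F.p_one, mul_one]; exact IsConj.refl _
      · exact F.T_tz e2
    · have := fin_le (D := img π E) ({1, ap π e, s * ap π e * s⁻¹, s' * ap π e * s'⁻¹,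
          ap π e * (s * ap π e * s⁻¹)} : Finset Ph) fun x hx => by
        simp only [Finset.mem_insert, Finset.mem_singleton] at hx
        rcases hx with rfl | rfl | rfl | rfl | rfl
        exacts [one_mem _, m, cj s hs, cj s' hs', mul_mem m (cj s hs)]
      have c := Nat.le_of_dvd (card_pos E) (card_img_dvd π E)
      omega
  refine ⟨k g, fun ⟨u, hu, e⟩ => ?_⟩
  have : (E : Set G) = (Finset.univ.filter Ph.U0).image F.p := by
    refine Set.eq_of_subset_of_ncard_le (fun e he => ?_) ?_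
    · obtain ⟨u, hu, rfl⟩ := k e he
      simpa using ⟨u, hu, rfl⟩
    · rw [Set.ncard_coe_finset, ← Nat.card_coe_set_eq]
      exact Finset.card_image_le.trans (f4.trans h4.symm).le
  rw [← SetLike.mem_coe, this, e]
  simpa using ⟨u, hu, rfl⟩
theorem Z4 {x : G} (hx : F.T x) {Y : Subgroup G} (hY : IsPGroup 2 Y) (hc : Y ≤ C{x})
    (h : Nat.card F.S0 ≤ Nat.card Y) : Nat.card ↥(Y ⊓ C[Y]) = 4 := by
  obtain ⟨g, -, e⟩ := F.embed hx hY hc
  obtain ⟨π, -, k1, k2, k3⟩ := F.exists_pi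
  have z : emb z1 ∈ H := F.inn (by decide)
  have k : img π (F.S0 ⊓ C[F.S0]) = zpowers z1 := by
    refine le_antisymm (fun y hy => ?_) (zpowers_le.2 (k2 z1 z ▸ ap_mem_img π ⟨F.p_mem _,
      mem_C'.2 fun y hy => ?_⟩ (F.p_mem _)))
    · have m := (img_inf_C_le π _ _ hy).2
      rcases fZ y fun s hs => mem_C.1 m s (k2 s (F.inn hs) ▸ ap_mem_img π (F.p_mem s) (F.p_mem s))
        with rfl | rfl
      exacts [one_mem _, mem_zpowers _]
    · obtain ⟨s, hs, rfl | rfl⟩ := F.mem_S0.1 hy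
      · rw [← F.p_mul z hs, ← F.p_mul hs z, fZ']
      · rw [← mul_assoc, ← (F.p_t _).eq, mul_assoc, mul_assoc, ← F.p_mul z hs, ← F.p_mul hs z, fZ']
  rw [← card_cj g, cj_inf, cj_C, eq_of_card_ge e (by rwa [card_cj]),
    (k3 _ inf_le_left).2 ⟨F.t_mem, mem_C_iff_le_C1.2 F.S0_C⟩, k, Nat.card_zpowers,
    orderOf_eq_prime (p := 2) (by decide +kernel) (by decide)]
/-- extremal transfer -/
theorem transfer (hG : ∀ K : Subgroup G, K.index ≠ 2) (S : Sylow 2 G) (h0 : F.S0 ≤ S) {R : Subgroup G}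
    (hR : R ≤ S) (hi : R.relIndex S = 2) (ht : F.t ∉ R) :
    ∃ x ∈ R, F.T x ∧ Nat.card ↥((S : Subgroup G) ⊓ C{x}) = Nat.card F.S0 := by
  obtain ⟨g, h1, h2⟩ := H6.XS.transfer_fix hG (Nat.not_even_iff_odd.1 fun e => S.not_dvd_index e.two_dvd)
    hR hi (h0 F.t_mem) ht (by rw [show 4 = 2 * 2 from rfl, pow_mul, sq F.t, F.tt, one_pow])
    (fun g _ => by rw [F.tt]; simp) F.S0_two F.S0_C
  have hx : F.T (g * F.t * g⁻¹) := isConj_iff.2 ⟨g, rfl⟩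
  refine ⟨_, h1, hx, le_antisymm (F.card_le_S0 hx (S.2.to_le inf_le_left) inf_le_right) ?_⟩
  rw [← card_cj g]
  exact card_le (le_inf h2 (cj_C1 g F.t ▸ cj_mono g F.S0_C))
theorem exists_cov : ∃ F' : Fr H (N[F.W] ⧸ F.W.subgroupOf N[F.W]), Nonempty (Cov F F') := by
  let π := QuotientGroup.mk' (F.W.subgroupOf N[F.W])
  have ker : ∀ g, π g = 1 ↔ g.1 ∈ F.W := fun g => QuotientGroup.eq_one_iff g
  have eq : ∀ a b, π a = π b → ∃ w ∈ F.W, a.1 = w * b.1 := fun a b e =>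
    ⟨_, (ker (a * b⁻¹)).1 (by rw [map_mul, map_inv, e, mul_inv_cancel]), by simp⟩
  let ψ := π.comp (F.ψ.codRestrict _ F.Wn)
  have hψ : ∀ a, ψ a = π ⟨F.ψ a, F.Wn a⟩ := fun _ => rfl
  have z : emb z1 ∈ H := F.inn (by decide)
  have zz : F.p z1 * F.p z1 = 1 := by
    rw [← F.p_mul z z, show z1 * z1 = 1 by decide +kernel, F.p_one]
  have cc : ∀ g : G, g * F.t * g⁻¹ * (g * F.t * g⁻¹) = 1 := fun g => by rw [conj_mul, F.tt]; simp
  refine ⟨⟨π ⟨F.t, F.tNW⟩, ψ, ⊥, F.h12, F.hAM, (injective_iff_map_eq_one _).2 fun a h => ?_, ?_, ?_,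
    fun h => ?_, by simp, bot_le, fun h => by simp, fun h _ => by rw [C_bot]; trivial, fun g hg => ?_, ?_,
    ?_⟩, ⟨⟨π, QuotientGroup.mk'_surjective _, ker, rfl, fun _ => rfl, fun _ => rfl⟩⟩⟩
  · exact Subtype.ext (F.q_K a.2 (mem_sup_left (F.e_coe a ▸ (ker _).1 h)))
  · refine orderOf_eq_prime ?_ fun h => F.t_not_W ((ker _).1 h)
    rw [← map_pow, ker, coe_pow, sq, F.tt]; exact one_mem _
  · rintro ⟨a, h⟩
    obtain ⟨w, hw, e⟩ := eq _ _ ((hψ a).symm.trans h)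
    have : a = 1 := Subtype.ext (F.q_K a.2 (by
      rw [F.e_coe, show F.ψ a = w * F.t from e]
      exact mul_mem (mem_sup_left hw) (mem_sup_right (mem_zpowers _))))
    rw [this, map_one] at h
    exact F.t_not_W ((ker _).1 h.symm)
  · exact (show Commute (⟨F.t, F.tNW⟩ : N[F.W]) ⟨F.ψ h, F.Wn h⟩ from Subtype.ext (F.tc h).eq).map π
  · obtain ⟨g, rfl⟩ := QuotientGroup.mk'_surjective _ g
    obtain ⟨w, hw, e⟩ := eq (g * ⟨F.t, F.tNW⟩ * g⁻¹) ⟨F.t, F.tNW⟩ (by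
      rw [map_mul, map_mul, map_inv, hg.eq, mul_inv_cancel_right])
    change g.1 * F.t * g.1⁻¹ = w * F.t at e
    rw [F.q_one' hw F.tCW F.tt (e ▸ cc g), one_mul, mul_inv_eq_iff_eq_mul] at e
    obtain ⟨w, hw, a, h⟩ := F.cent g e
    have w1 := (ker ⟨w, norm_self _ hw⟩).2 hw
    refine ⟨1, one_mem _, a, h.imp (fun e => ?_) fun e => ?_⟩
    · rw [← w1, hψ, ← map_mul]; exact congrArg π (Subtype.ext e)
    · rw [← w1, hψ, ← map_mul, ← map_mul]; exact congrArg π (Subtype.ext e)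
  · intro h
    obtain ⟨g, e⟩ := isConj_iff.1 h
    obtain ⟨g, rfl⟩ := QuotientGroup.mk'_surjective _ g
    obtain ⟨w, hw, e⟩ := eq (g * ⟨F.t, F.tNW⟩ * g⁻¹) ⟨F.ψ ⟨_, z⟩, F.Wn _⟩
      (by rw [map_mul, map_mul, map_inv]; exact e)
    change g.1 * F.t * g.1⁻¹ = w * F.ψ ⟨_, z⟩ at e
    rw [← F.e_eq z] at e
    rw [F.q_one' hw (F.eCW (emb_12.2 (by decide))) zz (e ▸ cc g), one_mul] at e
    exact F.nz' (isConj_iff.2 ⟨_, e⟩)
  · have zC : F.p z1 ∈ C[F.W] := F.eCW (emb_12.2 (by decide))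
    have hc : F.S0 ≤ C{F.t * F.p z1} := fun y hy => by
      refine mem_C1_comm.1 (mul_mem (mem_C1_comm.1 (F.S0_C hy)) (mem_C1.2 ?_))
      obtain ⟨s, hs, rfl | rfl⟩ := F.mem_S0.1 hy
      · rw [← F.p_mul z hs, ← F.p_mul hs z, fZ']
      · rw [← mul_assoc, ← (F.p_t _).eq, mul_assoc, mul_assoc, ← F.p_mul z hs, ← F.p_mul hs z, fZ']
    obtain ⟨g, e1, e2⟩ := F.embed F.tz' F.S0_two hc
    have n : F.S0 ≤ N[cj g F.W] := by
      rw [← cj_of_mem_N (mem_N_of_cj_le e2)]; exact norm_cj (F.S0_C.trans F.CtN) g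
    have gN := mem_N_of_cj_le (F.oddW (by rw [card_cj]; exact F.odd) (by
      rw [← e1, ← cj_C1]; exact cj_mono g (mem_C_iff_le_C1.1 (mul_mem F.tCW zC))) (n (F.p_mem _))
      (n (F.p_mem _)))
    refine (isConj_iff.2 ⟨π ⟨g, gN⟩, ?_⟩).symm
    rw [hψ, ← map_mul, ← map_inv, ← map_mul, ← map_mul]
    rw [p, F.e_eq z] at e1
    exact congrArg π (Subtype.ext e1)
end Fr

namespace Cov
variable {F : Fr H G} {F' : Fr H X} (C : Cov F F')
theorem πe (x : PG) : C.π ⟨F.e x, F.eNW x⟩ = F'.e x := by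
  by_cases h : x ∈ H
  · rw [F'.e_eq h, ← C.πψ]; exact congrArg C.π (Subtype.ext (F.e_eq h))
  · rw [show F'.e x = 1 from dif_neg h, ← map_one C.π]
    exact congrArg C.π (Subtype.ext (dif_neg h))
include C in
theorem tw : Nonempty (Cov F.tw F'.tw) := by
  refine ⟨⟨C.π, C.surj, C.ker, C.bot, C.πt, fun a => ?_⟩⟩
  by_cases ha : a.1 ∈ Spor.M12
  · rw [show F'.tw.ψ a = F'.ψ a from if_pos ha, ← C.πψ]
    exact congrArg C.π (Subtype.ext (if_pos ha))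
  · rw [show F'.tw.ψ a = F'.t * F'.ψ a from if_neg ha, ← C.πψ, ← C.πt F.tNW, ← map_mul]
    exact congrArg C.π (Subtype.ext (if_neg ha))
theorem lift {Y : Subgroup X} (hY : IsPGroup 2 Y) (h0 : F'.S0 ≤ Y) : ∃ l : Y →* G, Function.Injective l ∧
    (∀ y, ∃ h : l y ∈ N[F.W], C.π ⟨l y, h⟩ = y) ∧ (∀ h, l ⟨F'.t, h⟩ = F.t) ∧ ∀ s h, l ⟨F'.p s, h⟩ = F.p s := by
  have e1 : ap C.π F.t = F'.t := (ap_of_mem _ F.tNW).trans (C.πt _)
  have e2 : ∀ s, ap C.π (F.p s) = F'.p s := fun s => (ap_of_mem _ (F.eNW _)).trans (C.πe _)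
  obtain ⟨P, hP, h1⟩ := Sylow_superset (M := pre C.π Y) Nat.prime_two
    (isPi_of_isPGroup Nat.prime_two F.S0_two) fun g hg => mem_pre.2 ⟨F.CtN (F.S0_C hg), h0 (by
      obtain ⟨s, -, rfl | rfl⟩ := F.mem_S0.1 hg
      · rw [e2]; exact F'.p_mem s
      · rw [ap_mul _ F.tNW (F.CtN (F.S0_C (F.p_mem s))), e1, e2]; exact mul_mem F'.t_mem (F'.p_mem s))⟩
  have PN := hP.le.trans (pre_le _ _)
  have k := hP.img C.π (pre_le _ _)
  rw [img_pre_of_le (by rw [MonoidHom.range_eq_top.2 C.surj]; exact le_top)] at k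
  choose f f1 f2 using fun y : Y => (mem_img_of_le PN).1
    ((k.eq_self (isPi_of_isPGroup Nat.prime_two hY)).ge y.2)
  have un : ∀ y, ∀ g ∈ P, ap C.π g = y.1 → f y = g := fun y g hg e => by
    have m := mul_mem (f1 y) (inv_mem hg)
    refine mul_inv_eq_one.1 ((hP.pi.piElt m).eq_one (F.q_odd.piElt ((C.ker ⟨_, PN m⟩).1 ?_)))
    rw [← ap_of_mem _ (PN m), ap_mul _ (PN (f1 y)) (PN (inv_mem hg)), ap_inv _ (PN hg), e, f2,
      mul_inv_cancel]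
  refine ⟨MonoidHom.mk' f fun a b => un _ _ (mul_mem (f1 a) (f1 b)) ?_, fun a b e => Subtype.ext ?_,
    fun y => ⟨PN (f1 y), (ap_of_mem _ _).symm.trans (f2 y)⟩, fun h => un _ _ (h1 F.t_mem) e1,
    fun s h => un _ _ (h1 (F.p_mem s)) (e2 s)⟩
  · rw [ap_mul _ (PN (f1 a)) (PN (f1 b)), f2, f2, coe_mul]
  · rw [← f2, ← f2]; exact congrArg _ e
/-- the centralizer of `W` has a normal image -/
theorem centW {g x : N[F.W]} (hx : x.1 ∈ C[F.W]) {y : N[F.W]} {n : ℕ} (hy : y.1 ^ 2 ^ n = 1)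
    (e : C.π y = C.π (g * x * g⁻¹)) : y.1 ∈ C[F.W] := by
  have hc : (g * x * g⁻¹).1 ∈ C[F.W] := conj_mem (N_le_NC _ g.2) hx
  generalize g * x * g⁻¹ = c at hc e
  have hw := (C.ker (y * c⁻¹)).1 (by rw [map_mul, map_inv, e, mul_inv_cancel])
  obtain ⟨w, rfl⟩ : ∃ w, y = w * c := ⟨y * c⁻¹, by simp⟩
  rw [mul_inv_cancel_right] at hw
  rw [coe_mul, (show Commute w.1 c.1 from mem_C.1 hc _ hw).mul_pow, mul_eq_one_iff_eq_inv] at hy
  have k : w.1 ∈ zpowers (w.1 ^ 2 ^ n) := mem_zpowers_pow_iff.2 (Nat.Coprime.pow_left n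
    ((Nat.coprime_two_left).2 (F.odd.of_dvd_nat (orderOf_dvd_card' hw))))
  exact mul_mem (zpowers_le.2 (hy ▸ inv_mem (pow_mem hc _)) k) hc
end Cov

end H5.MC
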