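import Mathlib
import Cfsg.Prelude.Def_Characters

/-! Elementary calculus of `Cfsg.extendByZero` and `Cfsg.indFun` (no representation theory). -/

set_option autoImplicit false
open Cfsg
open scoped ComplexConjugate

namespace H5

section Ext0
variable {G : Type*} [Group G]

theorem ext0_coe (H : Subgroup G) (θ : H → ℂ) (h : H) : extendByZero H θ h = θ h :=
  Subtype.val_injective.extend_apply θ 0 h

theorem ext0_mem (H : Subgroup G) (θ : H → ℂ) {g : G} (hg : g ∈ H) :
    extendByZero H θ g = θ ⟨g, hg⟩ := ext0_coe H θ ⟨g, hg⟩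

theorem ext0_not_mem (H : Subgroup G) (θ : H → ℂ) {g : G} (hg : g ∉ H) :
    extendByZero H θ g = 0 := by
  unfold extendByZero
  rw [Function.extend_apply' _ _ _ (by rintro ⟨a, rfl⟩; exact hg a.2)]; rfl

open Classical in
theorem ext0_apply (H : Subgroup G) (θ : H → ℂ) (g : G) :
    extendByZero H θ g = if hg : g ∈ H then θ ⟨g, hg⟩ else 0 := by
  split_ifs with hg
  · exact ext0_mem H θ hg
  · exact ext0_not_mem H θ hg

open Classical in
theorem ext0_res (H : Subgroup G) (F : G → ℂ) (g : G) :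
    extendByZero H (fun h : H => F h) g = if g ∈ H then F g else 0 := by
  rw [ext0_apply]; split_ifs <;> rfl

theorem ext0_add (H : Subgroup G) (θ φ : H → ℂ) (g : G) :
    extendByZero H (θ + φ) g = extendByZero H θ g + extendByZero H φ g := by
  simp only [ext0_apply]; split_ifs <;> simp

theorem ext0_sub (H : Subgroup G) (θ φ : H → ℂ) (g : G) :
    extendByZero H (θ - φ) g = extendByZero H θ g - extendByZero H φ g := by
  simp only [ext0_apply]; split_ifs <;> simp

theorem ext0_smul (H : Subgroup G) (c : ℂ) (θ : H → ℂ) (g : G) :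
    extendByZero H (c • θ) g = c * extendByZero H θ g := by
  simp only [ext0_apply]; split_ifs <;> simp

theorem ext0_zero (H : Subgroup G) (g : G) : extendByZero H 0 g = 0 := by
  simp only [ext0_apply]; split_ifs <;> simp

theorem ext0_mul_res (H : Subgroup G) (θ : H → ℂ) (F : G → ℂ) (g : G) :
    extendByZero H (fun h : H => θ h * F h) g = extendByZero H θ g * F g := by
  simp only [ext0_apply]; split_ifs <;> simp

theorem ext0_conj (H : Subgroup G) (θ : H → ℂ) (g : G) :
    extendByZero H (fun h => conj (θ h)) g = conj (extendByZero H θ g) := by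
  simp only [ext0_apply]; split_ifs <;> simp

theorem ext0_conj_mem (H : Subgroup G) {θ : H → ℂ} (hθ : IsClassFunction H θ) {h : G}
    (hh : h ∈ H) (g : G) : extendByZero H θ (h * g * h⁻¹) = extendByZero H θ g := by
  by_cases hg : g ∈ H
  · rw [ext0_mem H θ hg, ext0_mem H θ (H.mul_mem (H.mul_mem hh hg) (H.inv_mem hh))]
    exact hθ ⟨g, hg⟩ ⟨h, hh⟩
  · rw [ext0_not_mem H θ hg, ext0_not_mem]
    intro h2
    apply hg
    have := H.mul_mem (H.mul_mem (H.inv_mem hh) h2) hh
    simpa [mul_assoc] using this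

theorem ext0_conj_mem' (H : Subgroup G) {θ : H → ℂ} (hθ : IsClassFunction H θ) {h : G}
    (hh : h ∈ H) (g : G) : extendByZero H θ (h⁻¹ * g * h) = extendByZero H θ g := by
  simpa using ext0_conj_mem H hθ (H.inv_mem hh) g

theorem sum_ext0 [Fintype G] (H : Subgroup G) [Fintype H] (θ : H → ℂ) :
    ∑ g : G, extendByZero H θ g = ∑ h : H, θ h := by
  classical
  rw [← Finset.sum_filter_of_ne (s := Finset.univ) (f := extendByZero H θ) (p := (· ∈ H))
        (fun x _ hx => by by_contra h; exact hx (ext0_not_mem H θ h))]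
  rw [Finset.sum_subtype (Finset.univ.filter (· ∈ H)) (p := (· ∈ H)) (by simp)]
  exact Finset.sum_congr rfl (fun h _ => ext0_coe H θ h)

theorem sum_ext0_mul [Fintype G] (H : Subgroup G) [Fintype H] (θ : H → ℂ) (F : G → ℂ) :
    ∑ g : G, extendByZero H θ g * F g = ∑ h : H, θ h * F h := by
  simp_rw [← ext0_mul_res]
  exact sum_ext0 H _

end Ext0

section Cosets
variable {G : Type*} [Group G]

theorem card_ne_zero' (G : Type*) [Finite G] [Nonempty G] : (Nat.card G : ℂ) ≠ 0 := by
  exact_mod_cast (Nat.card_pos (α := G)).ne'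

/-- The bijection `(G ⧸ H) × H ≃ G`, `(q, h) ↦ q.out * h`. -/
noncomputable def quotProdEquiv (H : Subgroup G) : (G ⧸ H) × H ≃ G :=
  Equiv.ofBijective (fun p => p.1.out * (p.2 : G)) (by
    constructor
    · rintro ⟨q, h⟩ ⟨q', h'⟩ hh
      simp only at hh
      have hq : q = q' := by
        have h1 : ((q.out * (h : G) : G) : G ⧸ H) = q := by
          rw [QuotientGroup.mk_mul_of_mem _ h.2, QuotientGroup.out_eq']
        have h2 : ((q'.out * (h' : G) : G) : G ⧸ H) = q' := by
          rw [QuotientGroup.mk_mul_of_mem _ h'.2, QuotientGroup.out_eq']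
        rw [← h1, hh, h2]
      subst hq
      have := mul_left_cancel hh
      rw [Subtype.val_injective this]
    · intro g
      obtain ⟨h, hh⟩ := QuotientGroup.mk_out_eq_mul H g
      exact ⟨⟨(g : G ⧸ H), h⁻¹⟩, by simp [hh]⟩)

theorem sum_eq_sum_quot_sum {M : Type*} [AddCommMonoid M] [Fintype G] (H : Subgroup G)
    [Fintype H] [Fintype (G ⧸ H)] (F : G → M) :
    ∑ x : G, F x = ∑ q : G ⧸ H, ∑ h : H, F (q.out * h) := by
  rw [← (quotProdEquiv H).sum_comp, Fintype.sum_prod_type]
  rfl

theorem sum_eq_card_mul_sum_quot [Fintype G] (H : Subgroup G) [Fintype (G ⧸ H)] (F : G → ℂ)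
    (hF : ∀ x : G, ∀ h ∈ H, F (x * h) = F x) :
    ∑ x : G, F x = Nat.card H * ∑ q : G ⧸ H, F q.out := by
  classical
  rw [sum_eq_sum_quot_sum H, Finset.mul_sum]
  refine Finset.sum_congr rfl (fun q _ => ?_)
  rw [Finset.sum_congr rfl (fun (h : H) _ => hF q.out h h.2)]
  simp

/-- If `G = HK` then a sum over `G` of a right `K`-invariant function is a multiple of the
sum over `H`. -/
theorem card_inf_mul_sum_eq [Fintype G] (H K : Subgroup G) [Fintype H]
    (hHK : ∀ g : G, ∃ h ∈ H, ∃ k ∈ K, g = h * k) (F : G → ℂ)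
    (hF : ∀ x : G, ∀ k ∈ K, F (x * k) = F x) :
    (Nat.card ↥(H ⊓ K) : ℂ) * ∑ x : G, F x = Nat.card K * ∑ h : H, F h := by
  classical
  have h1 : ∑ p : H × K, F ((p.1 : G) * p.2) = Nat.card K * ∑ h : H, F h := by
    rw [Fintype.sum_prod_type, Finset.mul_sum]
    refine Finset.sum_congr rfl (fun h _ => ?_)
    rw [Finset.sum_congr rfl (fun (k : K) _ => hF h k k.2)]
    simp
  rw [← h1, ← Finset.sum_fiberwise (s := Finset.univ) (g := fun p : H × K => (p.1 : G) * p.2),
    Finset.mul_sum]
  refine Finset.sum_congr rfl (fun x _ => ?_)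
  rw [Finset.sum_congr rfl (g := fun _ => F x) (fun p hp => by
    rw [(Finset.mem_filter.mp hp).2])]
  rw [Finset.sum_const, nsmul_eq_mul]
  congr 1
  obtain ⟨h, hh, k, hk, rfl⟩ := hHK x
  rw [Nat.card_eq_fintype_card, ← Finset.card_univ]
  norm_cast
  symm
  refine Finset.card_bij (fun p hp => ⟨h⁻¹ * p.1, ?_⟩) ?_ ?_ ?_
  · have hp' := (Finset.mem_filter.mp hp).2
    refine ⟨H.mul_mem (H.inv_mem hh) p.1.2, ?_⟩
    have : h⁻¹ * (p.1 : G) = k * (p.2 : G)⁻¹ := by
      rw [eq_mul_inv_iff_mul_eq, mul_assoc, hp']; simp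
    rw [this]; exact K.mul_mem hk (K.inv_mem p.2.2)
  · intro _ _; simp
  · rintro ⟨a, b⟩ hp ⟨a', b'⟩ hp' hab
    have h1 := (Finset.mem_filter.mp hp).2
    have h2 := (Finset.mem_filter.mp hp').2
    have ha : a = a' := Subtype.ext (mul_left_cancel (congrArg Subtype.val hab))
    subst ha
    have hb : b = b' := Subtype.ext (mul_left_cancel (h1.trans h2.symm))
    rw [hb]
  · rintro ⟨d, hd⟩ _
    refine ⟨⟨⟨h * d, H.mul_mem hh hd.1⟩, ⟨d⁻¹ * k, K.mul_mem (K.inv_mem hd.2) hk⟩⟩, ?_, ?_⟩
    · simp [mul_assoc]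
    · simp

end Cosets

section IndFun
variable {G : Type*} [Group G] [Fintype G]

theorem indFun_apply (H : Subgroup G) (θ : H → ℂ) (g : G) :
    indFun H θ g = (Nat.card H : ℂ)⁻¹ * ∑ x : G, extendByZero H θ (x⁻¹ * g * x) := rfl

theorem indFun_apply' (H : Subgroup G) (θ : H → ℂ) (g : G) :
    indFun H θ g = (Nat.card H : ℂ)⁻¹ * ∑ x : G, extendByZero H θ (x * g * x⁻¹) := by
  rw [indFun_apply, ← Equiv.sum_comp (Equiv.inv G)]
  simp

theorem indFun_eq_sum_quot (H : Subgroup G) [Fintype (G ⧸ H)] {θ : H → ℂ}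
    (hθ : IsClassFunction H θ) (g : G) :
    indFun H θ g = ∑ q : G ⧸ H, extendByZero H θ (q.out⁻¹ * g * q.out) := by
  rw [indFun_apply, sum_eq_card_mul_sum_quot H, ← mul_assoc, inv_mul_cancel₀ (card_ne_zero' H),
    one_mul]
  intro x h hh
  rw [← ext0_conj_mem' H hθ hh (x⁻¹ * g * x)]
  simp [mul_assoc]

theorem indFun_add (H : Subgroup G) (θ φ : H → ℂ) :
    indFun H (θ + φ) = indFun H θ + indFun H φ := by
  funext g; simp [indFun_apply, ext0_add, Finset.sum_add_distrib, mul_add]

theorem indFun_sub (H : Subgroup G) (θ φ : H → ℂ) :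
    indFun H (θ - φ) = indFun H θ - indFun H φ := by
  funext g; simp [indFun_apply, ext0_sub, Finset.sum_sub_distrib, mul_sub]

theorem indFun_smul (H : Subgroup G) (c : ℂ) (θ : H → ℂ) :
    indFun H (c • θ) = c • indFun H θ := by
  funext g; simp [indFun_apply, ext0_smul, ← Finset.mul_sum, mul_left_comm]

theorem indFun_zero (H : Subgroup G) : indFun H 0 = 0 := by
  funext g; simp [indFun_apply, ext0_zero]

theorem indFun_neg (H : Subgroup G) (θ : H → ℂ) : indFun H (-θ) = -indFun H θ := by
  rw [← zero_sub, indFun_sub, indFun_zero, zero_sub]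

/-- `indFun` as a linear map. -/
noncomputable def indL (H : Subgroup G) : (H → ℂ) →ₗ[ℂ] (G → ℂ) where
  toFun := indFun H
  map_add' := indFun_add H
  map_smul' := indFun_smul H

theorem indL_apply (H : Subgroup G) (θ : H → ℂ) : indL H θ = indFun H θ := rfl

theorem indFun_sum (H : Subgroup G) {ι : Type*} (s : Finset ι) (θ : ι → H → ℂ) :
    indFun H (∑ i ∈ s, θ i) = ∑ i ∈ s, indFun H (θ i) :=
  map_sum (indL H) θ s

theorem indFun_zsmul (H : Subgroup G) (c : ℤ) (θ : H → ℂ) :
    indFun H (c • θ) = c • indFun H θ := map_zsmul (indL H) c θ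

theorem indFun_nsmul (H : Subgroup G) (c : ℕ) (θ : H → ℂ) :
    indFun H (c • θ) = c • indFun H θ := map_nsmul (indL H) c θ

theorem indFun_isClassFunction (H : Subgroup G) (θ : H → ℂ) : IsClassFunction G (indFun H θ) := by
  intro g h
  rw [indFun_apply, indFun_apply, ← Equiv.sum_comp (Equiv.mulLeft h)]
  simp [mul_assoc]

theorem indFun_one_eq (H : Subgroup G) (θ : H → ℂ) : indFun H θ 1 = H.index * θ 1 := by
  rw [indFun_apply]
  simp only [mul_one, inv_mul_cancel, Finset.sum_const, Finset.card_univ, nsmul_eq_mul]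
  rw [ext0_mem H θ H.one_mem, ← Nat.card_eq_fintype_card, ← H.card_mul_index]
  push_cast
  have := card_ne_zero' H
  field_simp
  rfl

theorem indFun_mul_res (H : Subgroup G) (θ : H → ℂ) {χ : G → ℂ} (hχ : IsClassFunction G χ) :
    indFun H (fun h : H => θ h * χ h) = indFun H θ * χ := by
  funext g
  simp only [indFun_apply, ext0_mul_res, Pi.mul_apply, mul_assoc, Finset.sum_mul]
  congr 1
  refine Finset.sum_congr rfl (fun x _ => ?_)
  have := hχ g x⁻¹
  simp only [inv_inv, mul_assoc] at this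
  rw [this]

theorem indFun_res_mul (H : Subgroup G) (θ : H → ℂ) {χ : G → ℂ} (hχ : IsClassFunction G χ) :
    indFun H (fun h : H => χ h * θ h) = χ * indFun H θ := by
  rw [mul_comm χ, ← indFun_mul_res H θ hχ]; simp [mul_comm]

theorem indFun_conj (H : Subgroup G) (θ : H → ℂ) :
    indFun H (fun h => conj (θ h)) = fun g => conj (indFun H θ g) := by
  funext g
  simp [indFun_apply, ext0_conj]

theorem indFun_top (θ : (⊤ : Subgroup G) → ℂ) (hθ : IsClassFunction _ θ) (g : G) :
    indFun ⊤ θ g = θ ⟨g, trivial⟩ := by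
  rw [indFun_apply]
  rw [Finset.sum_congr rfl (fun x _ => ext0_conj_mem' ⊤ hθ (Subgroup.mem_top x) g)]
  rw [ext0_mem _ _ (Subgroup.mem_top g)]
  simp only [Finset.sum_const, Finset.card_univ, nsmul_eq_mul, Subgroup.card_top,
    Nat.card_eq_fintype_card]
  have : (Fintype.card G : ℂ) ≠ 0 := by exact_mod_cast Fintype.card_ne_zero
  field_simp

theorem indFun_top_res {χ : G → ℂ} (hχ : IsClassFunction G χ) :
    indFun ⊤ (fun h : (⊤ : Subgroup G) => χ h) = χ := by
  funext g
  rw [indFun_top _ (fun a b => hχ a b)]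

theorem indFun_eq_zero_of_forall_not_mem (H : Subgroup G) (θ : H → ℂ) {g : G}
    (hg : ∀ x : G, x⁻¹ * g * x ∉ H) : indFun H θ g = 0 := by
  rw [indFun_apply, Finset.sum_eq_zero (fun x _ => ext0_not_mem H θ (hg x)), mul_zero]

theorem indFun_normal_of_not_mem (N : Subgroup G) [hN : N.Normal] (θ : N → ℂ) {g : G}
    (hg : g ∉ N) : indFun N θ g = 0 := by
  apply indFun_eq_zero_of_forall_not_mem
  intro x hx
  apply hg
  have := hN.conj_mem _ hx x
  simpa [mul_assoc] using this

/-- Frobenius reciprocity, in bilinear form. -/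
theorem sum_indFun_mul (H : Subgroup G) [Fintype H] (θ : H → ℂ) {F : G → ℂ}
    (hF : IsClassFunction G F) :
    (Nat.card G : ℂ)⁻¹ * ∑ g : G, indFun H θ g * F g
      = (Nat.card H : ℂ)⁻¹ * ∑ h : H, θ h * F h := by
  simp only [indFun_apply, mul_assoc, Finset.sum_mul, ← Finset.mul_sum]
  rw [Finset.sum_comm]
  have : ∀ x : G, ∑ g : G, extendByZero H θ (x⁻¹ * (g * x)) * F g = ∑ h : H, θ h * F h := by
    intro x
    rw [← sum_ext0_mul, ← Equiv.sum_comp (MulAut.conj x).toEquiv]
    refine Finset.sum_congr rfl (fun g _ => ?_)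
    simp [mul_assoc, ← hF g x]
  rw [Finset.sum_congr rfl (fun x _ => this x)]
  simp only [Finset.sum_const, Finset.card_univ, nsmul_eq_mul, Nat.card_eq_fintype_card]
  have : (Fintype.card G : ℂ) ≠ 0 := by exact_mod_cast Fintype.card_ne_zero
  field_simp

/-- Frobenius reciprocity. -/
theorem classInner_indFun_left (H : Subgroup G) [Fintype H] (θ : H → ℂ) {χ : G → ℂ}
    (hχ : IsClassFunction G χ) :
    classInner (indFun H θ) χ = classInner θ (fun h : H => χ h) :=
  sum_indFun_mul H θ (F := fun g => conj (χ g)) (fun g h => by simp only [hχ g h])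

theorem classInner_indFun_right (H : Subgroup G) [Fintype H] (θ : H → ℂ) {χ : G → ℂ}
    (hχ : IsClassFunction G χ) :
    classInner χ (indFun H θ) = classInner (fun h : H => χ h) θ := by
  unfold classInner
  have := sum_indFun_mul H (fun h => conj (θ h)) hχ
  rw [indFun_conj] at this
  simpa [mul_comm] using this

/-- Transitivity of induction. -/
theorem indFun_indFun (H K : Subgroup G) [Fintype K] (hHK : H ≤ K) (θ : H → ℂ) :
    indFun K (indFun (H.subgroupOf K) (fun x => θ ⟨(x : K), Subgroup.mem_subgroupOf.mp x.2⟩))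
      = indFun H θ := by
  funext g
  have hc : Nat.card (H.subgroupOf K) = Nat.card H :=
    Nat.card_congr (Subgroup.subgroupOfEquivOfLe hHK).toEquiv
  have key : ∀ y : G, extendByZero K (indFun (H.subgroupOf K)
      (fun x => θ ⟨(x : K), Subgroup.mem_subgroupOf.mp x.2⟩)) y
      = (Nat.card H : ℂ)⁻¹ * ∑ k : K, extendByZero H θ ((k : G)⁻¹ * y * k) := by
    intro y
    by_cases hy : y ∈ K
    · rw [ext0_mem _ _ hy, indFun_apply, hc]
      congr 1
      refine Finset.sum_congr rfl (fun k _ => ?_)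
      by_cases hk : (k : G)⁻¹ * y * k ∈ H
      · rw [ext0_mem _ _ hk, ext0_mem _ _ (show k⁻¹ * ⟨y, hy⟩ * k ∈ H.subgroupOf K from hk)]
        rfl
      · rw [ext0_not_mem _ _ hk,
          ext0_not_mem _ _ (show k⁻¹ * ⟨y, hy⟩ * k ∉ H.subgroupOf K from hk)]
    · rw [ext0_not_mem _ _ hy, Finset.sum_eq_zero, mul_zero]
      intro k _
      apply ext0_not_mem
      intro hk
      apply hy
      have := K.mul_mem (K.mul_mem k.2 (hHK hk)) (K.inv_mem k.2)
      simpa [mul_assoc] using this
  rw [indFun_apply, indFun_apply]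
  simp_rw [key]
  rw [← Finset.mul_sum, Finset.sum_comm]
  have : ∀ k : K, ∑ x : G, extendByZero H θ ((k : G)⁻¹ * (x⁻¹ * g * x) * k)
      = ∑ x : G, extendByZero H θ (x⁻¹ * g * x) := by
    intro k
    rw [← Equiv.sum_comp (Equiv.mulRight (k : G)) (fun x => extendByZero H θ (x⁻¹ * g * x))]
    simp [mul_assoc]
  rw [Finset.sum_congr rfl (fun k _ => this k)]
  simp only [Finset.sum_const, Finset.card_univ, nsmul_eq_mul, Nat.card_eq_fintype_card]
  have : (Fintype.card K : ℂ) ≠ 0 := by exact_mod_cast Fintype.card_ne_zero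
  field_simp

/-- Transitivity of induction, for a subgroup `S` of the subgroup `K`. -/
theorem indFun_indFun_map (K : Subgroup G) [Fintype K] (S : Subgroup K) (θ : S → ℂ) :
    indFun K (indFun S θ)
      = indFun (S.map K.subtype) (fun x => θ ((S.equivMapOfInjective K.subtype
          K.subtype_injective).symm x)) := by
  rw [← indFun_indFun (S.map K.subtype) K (Subgroup.map_subtype_le S)]
  have hS : (S.map K.subtype).subgroupOf K = S := by
    ext x; simp [Subgroup.mem_subgroupOf]
  congr 1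
  have : ∀ (T : Subgroup K) (hT : T = S) (φ : T → ℂ), (∀ x : T, φ x = θ ⟨x, hT ▸ x.2⟩) →
      indFun S θ = indFun T φ := by
    rintro T rfl φ hφ
    congr 1; funext x; rw [hφ]
  apply this _ hS
  intro x
  congr 1
  rw [MulEquiv.symm_apply_eq]
  ext; simp

/-- Induction is compatible with surjective homomorphisms (inflation). -/
theorem indFun_comap {Γ : Type*} [Group Γ] [Fintype Γ] (f : Γ →* G) (hf : Function.Surjective f)
    (H : Subgroup G) (θ : H → ℂ) :
    indFun (H.comap f) (fun x => θ ⟨f x, x.2⟩) = fun γ => indFun H θ (f γ) := by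
  classical
  funext γ
  rw [indFun_apply, indFun_apply]
  have h1 : ∀ y : Γ, extendByZero (H.comap f) (fun x => θ ⟨f x, x.2⟩) y
      = extendByZero H θ (f y) := by
    intro y
    by_cases hy : f y ∈ H
    · rw [ext0_mem _ _ hy, ext0_mem _ _ (show y ∈ H.comap f from hy)]
    · rw [ext0_not_mem _ _ hy, ext0_not_mem _ _ (show y ∉ H.comap f from hy)]
  simp_rw [h1, map_mul, map_inv]
  have h2 : ∀ F : G → ℂ, ∑ y : Γ, F (f y) = Nat.card f.ker * ∑ x : G, F x := by
    intro F
    rw [← Finset.sum_fiberwise (s := Finset.univ) (g := f), Finset.mul_sum]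
    refine Finset.sum_congr rfl (fun x _ => ?_)
    rw [Finset.sum_congr rfl (g := fun _ => F x) (fun p hp => by
      rw [(Finset.mem_filter.mp hp).2])]
    rw [Finset.sum_const, nsmul_eq_mul]
    congr 1
    obtain ⟨y, rfl⟩ := hf x
    rw [MonoidHom.card_fiber_eq_of_mem_range f ⟨y, rfl⟩ ⟨1, map_one f⟩,
      Nat.card_eq_fintype_card, Fintype.card_subtype]
    simp [MonoidHom.mem_ker]
  rw [h2 (fun x => extendByZero H θ (x⁻¹ * f γ * x))]
  have h3 : Nat.card (H.comap f) = Nat.card f.ker * Nat.card H := by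
    have e1 := (H.comap f).card_mul_index
    have e2 := H.card_mul_index
    have e3 := Subgroup.index_comap_of_surjective H hf
    have e4 := f.ker.card_mul_index
    rw [Subgroup.index_ker, MonoidHom.range_eq_top.mpr hf, Subgroup.card_top, ← e2, ← e1, e3,
      ← mul_assoc] at e4
    exact (Nat.eq_of_mul_eq_mul_right (Nat.pos_of_ne_zero H.index_ne_zero_of_finite) e4).symm
  rw [h3]
  have := card_ne_zero' f.ker
  have := card_ne_zero' H
  push_cast
  field_simp

/-- Mackey's formula when `G = HK`: the restriction of `θ^G` to `H` is `(θ_{H ∩ K})^H`. -/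
theorem res_indFun_of_mul_eq_top (H K : Subgroup G) [Fintype H]
    (hHK : ∀ g : G, ∃ h ∈ H, ∃ k ∈ K, g = h * k) {θ : K → ℂ} (hθ : IsClassFunction K θ) :
    (fun h : H => indFun K θ h)
      = indFun (K.subgroupOf H) (fun x => θ ⟨(x : H), Subgroup.mem_subgroupOf.mp x.2⟩) := by
  funext y
  rw [indFun_apply, indFun_apply]
  have h1 := card_inf_mul_sum_eq H K hHK (fun x => extendByZero K θ (x⁻¹ * y * x)) (by
    intro x k hk
    rw [← ext0_conj_mem' K hθ hk (x⁻¹ * y * x)]
    simp [mul_assoc])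
  have h2 : Nat.card (K.subgroupOf H) = Nat.card ↥(H ⊓ K) := by
    rw [← Subgroup.inf_subgroupOf_right K H, inf_comm]
    exact Nat.card_congr (Subgroup.subgroupOfEquivOfLe inf_le_left).toEquiv
  have h3 : ∑ x : H, extendByZero (K.subgroupOf H)
      (fun x => θ ⟨(x : H), Subgroup.mem_subgroupOf.mp x.2⟩) (x⁻¹ * y * x)
      = ∑ x : H, extendByZero K θ ((x : G)⁻¹ * y * x) := by
    refine Finset.sum_congr rfl (fun x _ => ?_)
    by_cases hx : (x : G)⁻¹ * y * x ∈ K
    · rw [ext0_mem _ _ hx, ext0_mem _ _ (show x⁻¹ * y * x ∈ K.subgroupOf H from hx)]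
      rfl
    · rw [ext0_not_mem _ _ hx, ext0_not_mem _ _ (show x⁻¹ * y * x ∉ K.subgroupOf H from hx)]
  rw [h3, h2]
  have := card_ne_zero' K
  have := card_ne_zero' ↥(H ⊓ K)
  field_simp
  rw [← h1, mul_comm]

end IndFun

section Perm
variable {G : Type*} [Group G] [Fintype G]

open Classical in
theorem indFun_one_apply (H : Subgroup G) (g : G) :
    indFun H (fun _ => 1) g
      = (Nat.card H : ℂ)⁻¹ * ((Finset.univ.filter fun x : G => x⁻¹ * g * x ∈ H).card : ℂ) := by
  rw [indFun_apply]
  congr 1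
  simp_rw [ext0_res H (fun _ => 1)]
  simp

/-- The permutation character on `G ⧸ H`. -/
theorem indFun_one_eq_card_fixedBy (H : Subgroup G) (g : G) :
    indFun H (fun _ => 1) g = Nat.card (MulAction.fixedBy (G ⧸ H) g) := by
  classical
  rw [indFun_eq_sum_quot H (fun _ _ => rfl)]
  simp_rw [ext0_res H (fun _ => 1)]
  rw [Finset.sum_boole, Nat.card_eq_fintype_card, Fintype.card_subtype]
  congr 2
  ext q
  simp only [Finset.mem_filter, Finset.mem_univ, true_and, MulAction.mem_fixedBy]
  conv_rhs => rw [← QuotientGroup.out_eq' q]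
  rw [MulAction.Quotient.smul_mk, eq_comm, QuotientGroup.eq]
  simp [mul_assoc]

/-- A permutation character is the sum over the orbits of the characters induced from the trivial
characters of point stabilisers. -/
theorem card_fixedBy_eq_sum_orbits (X : Type*) [MulAction G X] [Finite X]
    [Fintype (MulAction.orbitRel.Quotient G X)] (g : G) :
    (Nat.card (MulAction.fixedBy X g) : ℂ)
      = ∑ ω : MulAction.orbitRel.Quotient G X,
          indFun (MulAction.stabilizer G (Quotient.out ω)) (fun _ => 1) g := by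
  classical
  have := Fintype.ofFinite X
  simp_rw [indFun_one_eq_card_fixedBy]
  norm_cast
  rw [← Nat.card_sigma]
  refine Nat.card_congr (Equiv.ofBijective
    (fun p : (Σ ω : MulAction.orbitRel.Quotient G X,
      MulAction.fixedBy (G ⧸ MulAction.stabilizer G (Quotient.out ω)) g) =>
      (⟨MulAction.ofQuotientStabilizer G (Quotient.out p.1) p.2.1, by
        have h := p.2.2
        rw [MulAction.mem_fixedBy] at h ⊢
        rw [← MulAction.ofQuotientStabilizer_smul, h]⟩ : MulAction.fixedBy X g)) ?_).symm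
  constructor
  · rintro ⟨ω, q, hq⟩ ⟨ω', q', hq'⟩ h
    simp only [Subtype.mk.injEq] at h
    have hω : ω = ω' := by
      have h1 := MulAction.ofQuotientStabilizer_mem_orbit G (Quotient.out ω) q
      have h2 := MulAction.ofQuotientStabilizer_mem_orbit G (Quotient.out ω') q'
      rw [← h] at h2
      rw [← Quotient.out_eq ω, ← Quotient.out_eq ω']
      apply Quotient.sound
      exact (MulAction.orbitRel G X).trans ((MulAction.orbitRel G X).symm h1) h2
    subst hω
    have := MulAction.injective_ofQuotientStabilizer G (Quotient.out ω) h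
    subst this
    rfl
  · rintro ⟨x, hx⟩
    let ω : MulAction.orbitRel.Quotient G X := Quotient.mk _ x
    have h1 : x ∈ MulAction.orbit G (Quotient.out ω) :=
      (MulAction.orbitRel G X).symm (Quotient.mk_out (s := MulAction.orbitRel G X) x)
    obtain ⟨a, ha⟩ := h1
    refine ⟨⟨ω, (a : G ⧸ MulAction.stabilizer G (Quotient.out ω)), ?_⟩, ?_⟩
    · rw [MulAction.mem_fixedBy]
      apply MulAction.injective_ofQuotientStabilizer G (Quotient.out ω)
      rw [MulAction.ofQuotientStabilizer_smul, MulAction.ofQuotientStabilizer_mk]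
      simp only at ha
      rw [ha]; exact hx
    · ext; simpa using ha

end Perm

end H5
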