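import Mathlib
import Cfsg.Prelude.Def_Characters
import Cfsg.Agent.H4.Core
import Cfsg.Agent.H5.Ind

/-! Small complements to the core character theory. -/

set_option autoImplicit false
open Cfsg H4
open scoped ComplexConjugate

namespace H5

section Basic
variable {G : Type*} [Group G]

theorem natCast_eq_one_of_sum_sq {ι : Type*} [Fintype ι] (n : ι → ℕ) (h : ∑ i, n i * n i = 1) :
    ∃ i, n i = 1 ∧ ∀ j, j ≠ i → n j = 0 := by
  classical
  have : ∃ i, n i ≠ 0 := by
    by_contra hc
    push Not at hc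
    simp [hc] at h
  obtain ⟨i, hi⟩ := this
  rw [← Finset.add_sum_erase _ _ (Finset.mem_univ i)] at h
  have h1 : 1 ≤ n i * n i := Nat.one_le_iff_ne_zero.mpr (mul_ne_zero hi hi)
  have h2 : n i * n i = 1 := by omega
  have h3 : ∑ x ∈ Finset.univ.erase i, n x * n x = 0 := by omega
  refine ⟨i, Nat.eq_one_of_mul_eq_one_left h2, fun j hj => ?_⟩
  have := (Finset.sum_eq_zero_iff.mp h3) j (by simp [hj])
  simpa using this

/-- A character of norm one is irreducible. -/
theorem isIrr_of_inner_self [Fintype G] {χ : G → ℂ} (hχ : IsCharacter G χ)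
    (h : classInner χ χ = 1) : IsIrrCharacter G χ := by
  classical
  choose n hn using fun ψ : IrrCharacter G => hχ.inner_nat ψ.2.isCharacter
  rw [hχ.classFun.inner_eq_sum] at h
  simp_rw [hn, map_natCast] at h
  obtain ⟨i, hi, hj⟩ := natCast_eq_one_of_sum_sq n (by exact_mod_cast h)
  have : χ = i := by
    rw [hχ.classFun.eq_sum, Finset.sum_eq_single i]
    · simp [hn, hi]
    · intro j _ hji; simp [hn, hj j hji]
    · simp
  rw [this]; exact i.2

theorem isIrr_iff_inner_self [Fintype G] {χ : G → ℂ} (hχ : IsCharacter G χ) :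
    IsIrrCharacter G χ ↔ classInner χ χ = 1 :=
  ⟨fun h => h.inner_self, isIrr_of_inner_self hχ⟩

theorem isCharacter_indFun [Fintype G] (H : Subgroup G) {θ : H → ℂ} (hθ : IsCharacter H θ) :
    IsCharacter G (indFun H θ) := by
  classical
  refine (indFun_isClassFunction H θ).isCharacter_of_inner_nat fun χ hχ => ?_
  rw [classInner_indFun_left H θ hχ.classFun]
  exact hθ.inner_nat (hχ.isCharacter.restrict H)

theorem isIrr_comp_surjective [Finite G] {Γ : Type*} [Group Γ] [Finite Γ] (f : Γ →* G)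
    (hf : Function.Surjective f) {χ : G → ℂ} (hχ : IsIrrCharacter G χ) :
    IsIrrCharacter Γ (fun x => χ (f x)) := by
  have := Fintype.ofFinite G
  have := Fintype.ofFinite Γ
  refine isIrr_of_inner_self (hχ.isCharacter.comp f) ?_
  rw [classInner_comp_surjective f hf, hχ.inner_self]

theorem isIrr_of_comp [Finite G] {Γ : Type*} [Group Γ] [Finite Γ] (f : Γ →* G)
    {χ : G → ℂ} (hχ : IsCharacter G χ) (h : IsIrrCharacter Γ (fun x => χ (f x))) :
    IsIrrCharacter G χ := by
  have := Fintype.ofFinite G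
  have := Fintype.ofFinite Γ
  have h0 : χ ≠ 0 := by
    rintro rfl; exact h.ne_zero rfl
  obtain ⟨ψ, hψ, hne⟩ := hχ.classFun.exists_irr_inner_ne_zero h0
  have h1 := hχ.sub_irr hψ hne
  have h2 := h1.comp f
  have h3 := hψ.isCharacter.comp f
  have h4 : (fun x => χ (f x)) = (fun x => (χ - ψ) (f x)) + (fun x => ψ (f x)) := by
    funext x; simp
  have h5 := h.inner_self
  rw [h4, classInner_add_left, classInner_add_right, classInner_add_right] at h5
  obtain ⟨a, ha⟩ := h2.inner_nat h2
  obtain ⟨b, hb⟩ := h2.inner_nat h3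
  obtain ⟨c, hc⟩ := h3.inner_nat h2
  obtain ⟨d, hd⟩ := h3.inner_nat h3
  rw [ha, hb, hc, hd] at h5
  have h6 : a + b + (c + d) = 1 := by exact_mod_cast h5
  have hd0 : d ≠ 0 := by
    rintro rfl
    have := classInner_self_eq_zero.mp (by simpa using hd)
    have h7 := congrFun this 1
    simp only [map_one, Pi.zero_apply] at h7
    exact hψ.apply_one_ne_zero h7
  have ha0 : a = 0 := by omega
  subst ha0
  have h8 := classInner_self_eq_zero.mp (by simpa using ha)
  have h9 := congrFun h8 1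
  simp only [map_one, Pi.zero_apply] at h9
  have := h1.eq_zero_of_apply_one (by simpa using h9)
  rw [sub_eq_zero.mp this]; exact hψ

theorem isIrr_comp_equiv [Finite G] {Γ : Type*} [Group Γ] (e : Γ ≃* G) {χ : G → ℂ}
    (hχ : IsIrrCharacter G χ) : IsIrrCharacter Γ (fun x => χ (e x)) := by
  have : Finite Γ := Finite.of_equiv _ e.symm.toEquiv
  exact isIrr_comp_surjective e.toMonoidHom e.surjective hχ

theorem isIrr_comp_equiv_iff [Finite G] {Γ : Type*} [Group Γ] (e : Γ ≃* G) {χ : G → ℂ} :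
    IsIrrCharacter Γ (fun x => χ (e x)) ↔ IsIrrCharacter G χ := by
  have : Finite Γ := Finite.of_equiv _ e.symm.toEquiv
  refine ⟨fun h => ?_, isIrr_comp_equiv e⟩
  simpa using isIrr_comp_equiv e.symm h

theorem isCharacter_comp_equiv_iff {Γ : Type*} [Group Γ] (e : Γ ≃* G) {χ : G → ℂ} :
    IsCharacter Γ (fun x => χ (e x)) ↔ IsCharacter G χ := by
  refine ⟨fun h => ?_, fun h => h.comp e.toMonoidHom⟩
  simpa using h.comp e.symm.toMonoidHom

theorem isIrr_conj [Finite G] {χ : G → ℂ} (hχ : IsIrrCharacter G χ) :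
    IsIrrCharacter G (fun g => conj (χ g)) := by
  have := Fintype.ofFinite G
  refine isIrr_of_inner_self hχ.isCharacter.conj ?_
  rw [classInner_conj_conj, hχ.inner_self]

theorem norm_eq_one_of_linear [Finite G] {lam : G → ℂ} (h : IsCharacter G lam) (h1 : lam 1 = 1)
    (g : G) : lam g * conj (lam g) = 1 := by
  rw [← h.apply_inv, ← h.map_mul_of_apply_one h1, mul_inv_cancel, h1]

theorem linear_ne_zero [Finite G] {lam : G → ℂ} (h : IsCharacter G lam) (h1 : lam 1 = 1)
    (g : G) : lam g ≠ 0 := fun h0 => by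
  have := norm_eq_one_of_linear h h1 g
  simp [h0] at this

theorem isIrr_linear_mul [Finite G] {lam χ : G → ℂ} (h : IsCharacter G lam) (h1 : lam 1 = 1)
    (hχ : IsIrrCharacter G χ) : IsIrrCharacter G (lam * χ) := by
  have := Fintype.ofFinite G
  refine isIrr_of_inner_self (h.mul hχ.isCharacter) ?_
  rw [← hχ.inner_self, classInner, classInner]
  congr 1
  refine Finset.sum_congr rfl (fun g _ => ?_)
  have := norm_eq_one_of_linear h h1 g
  simp only [Pi.mul_apply, map_mul]
  linear_combination (χ g * conj (χ g)) * this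

variable [Fintype G]

theorem inner_re_nonneg {χ ψ : G → ℂ} (hχ : IsCharacter G χ) (hψ : IsCharacter G ψ) :
    0 ≤ (classInner χ ψ).re := by
  obtain ⟨n, hn⟩ := hχ.inner_nat hψ
  rw [hn]; simp

theorem inner_add_eq_zero_left {χ φ ψ : G → ℂ} (hχ : IsCharacter G χ) (hφ : IsCharacter G φ)
    (hψ : IsCharacter G ψ) (h : classInner (χ + φ) ψ = 0) :
    classInner χ ψ = 0 ∧ classInner φ ψ = 0 := by
  obtain ⟨a, ha⟩ := hχ.inner_nat hψ
  obtain ⟨b, hb⟩ := hφ.inner_nat hψ
  rw [classInner_add_left, ha, hb] at h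
  have : a + b = 0 := by exact_mod_cast h
  rw [ha, hb]
  constructor <;> norm_cast <;> omega

/-- If `ψ` is a constituent of `χ` then the restriction of `χ` along `f` contains everything that
the restriction of `ψ` contains. -/
theorem inner_comp_ne_zero {Γ : Type*} [Group Γ] [Fintype Γ] (f : Γ →* G) {χ ψ : G → ℂ}
    (hχ : IsCharacter G χ) (hψ : IsIrrCharacter G ψ) (h : classInner χ ψ ≠ 0) {θ : Γ → ℂ}
    (hθ : IsCharacter Γ θ) (h2 : classInner (fun x => ψ (f x)) θ ≠ 0) :
    classInner (fun x => χ (f x)) θ ≠ 0 := by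
  intro h0
  have h4 : (fun x => χ (f x)) = (fun x => (χ - ψ) (f x)) + (fun x => ψ (f x)) := by
    funext x; simp
  rw [h4] at h0
  exact h2 (inner_add_eq_zero_left ((hχ.sub_irr hψ h).comp f) (hψ.isCharacter.comp f) hθ h0).2

theorem inner_comp_re_le {Γ : Type*} [Group Γ] [Fintype Γ] (f : Γ →* G) {χ ψ : G → ℂ}
    (hχ : IsCharacter G χ) (hψ : IsIrrCharacter G ψ) (h : classInner χ ψ ≠ 0) {θ : Γ → ℂ}
    (hθ : IsCharacter Γ θ) :
    (classInner (fun x => ψ (f x)) θ).re ≤ (classInner (fun x => χ (f x)) θ).re := by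
  have h4 : (fun x => χ (f x)) = (fun x => (χ - ψ) (f x)) + (fun x => ψ (f x)) := by
    funext x; simp
  rw [h4, classInner_add_left, Complex.add_re]
  have := inner_re_nonneg ((hχ.sub_irr hψ h).comp f) hθ
  linarith

/-- If a character's restriction along `f` contains `θ`, so does some irreducible constituent. -/
theorem exists_irr_constituent_comp {Γ : Type*} [Group Γ] [Fintype Γ] (f : Γ →* G) {χ : G → ℂ}
    (hχ : IsClassFunction G χ) {θ : Γ → ℂ} (h : classInner (fun x => χ (f x)) θ ≠ 0) :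
    ∃ ψ, IsIrrCharacter G ψ ∧ classInner χ ψ ≠ 0 ∧ classInner (fun x => ψ (f x)) θ ≠ 0 := by
  by_contra hc
  push Not at hc
  apply h
  have : (fun x => χ (f x))
      = ∑ ψ : IrrCharacter G, classInner χ ψ • (fun x => (ψ : G → ℂ) (f x)) := by
    funext x
    rw [hχ.apply_eq_sum (f x)]
    simp [Finset.sum_apply]
  rw [this, classInner_sum_left]
  refine Finset.sum_eq_zero (fun ψ _ => ?_)
  rw [classInner_smul_left]
  by_cases h1 : classInner χ ψ = 0
  · rw [h1, zero_mul]
  · rw [hc ψ ψ.2 h1, mul_zero]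

/-- A class function whose only irreducible constituent is `θ` is a multiple of `θ`. -/
theorem eq_inner_smul_of_unique {χ θ : G → ℂ} (hχ : IsClassFunction G χ)
    (hθ : IsIrrCharacter G θ) (h : ∀ ψ, IsIrrCharacter G ψ → classInner χ ψ ≠ 0 → ψ = θ) :
    χ = classInner χ θ • θ := by
  classical
  refine hχ.ext_inner (hθ.classFun.smul _) fun ψ hψ => ?_
  rw [classInner_smul_left, hθ.inner_eq_ite hψ]
  split_ifs with h1
  · simp [h1]
  · by_contra h2
    exact h1 (h ψ hψ (by simpa using h2)).symm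

theorem eq_of_inner_smul_ne_zero {θ ψ : G → ℂ} (hθ : IsIrrCharacter G θ)
    (hψ : IsIrrCharacter G ψ) {c : ℂ} (h : classInner (c • θ) ψ ≠ 0) : ψ = θ := by
  rw [classInner_smul_left] at h
  exact (hθ.eq_of_inner_ne_zero hψ (right_ne_zero_of_mul h)).symm

theorem inner_smul_self {θ : G → ℂ} (hθ : IsIrrCharacter G θ) (c : ℂ) :
    classInner (c • θ) θ = c := by
  rw [classInner_smul_left, hθ.inner_self, mul_one]

theorem exists_irr_constituent {χ : G → ℂ} (hχ : IsCharacter G χ) (h : χ 1 ≠ 0) :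
    ∃ ψ, IsIrrCharacter G ψ ∧ classInner χ ψ ≠ 0 :=
  hχ.classFun.exists_irr_inner_ne_zero (by rintro rfl; exact h rfl)

/-- If a sum of two characters is irreducible, one of them is zero. -/
theorem eq_zero_or_of_isIrr_add {χ ψ : G → ℂ} (hχ : IsCharacter G χ) (hψ : IsCharacter G ψ)
    (h : IsIrrCharacter G (χ + ψ)) : χ = 0 ∨ ψ = 0 := by
  have h5 := h.inner_self
  rw [classInner_add_left, classInner_add_right, classInner_add_right] at h5
  obtain ⟨a, ha⟩ := hχ.inner_nat hχ
  obtain ⟨b, hb⟩ := hχ.inner_nat hψ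
  obtain ⟨c, hc⟩ := hψ.inner_nat hχ
  obtain ⟨d, hd⟩ := hψ.inner_nat hψ
  rw [ha, hb, hc, hd] at h5
  have h6 : a + b + (c + d) = 1 := by exact_mod_cast h5
  by_cases ha0 : a = 0
  · left; subst ha0; exact classInner_self_eq_zero.mp (by simpa using ha)
  · right
    have : d = 0 := by omega
    subst this; exact classInner_self_eq_zero.mp (by simpa using hd)

/-- If an induced character is irreducible then so is the inducing character. -/
theorem isIrr_of_isIrr_indFun (H : Subgroup G) {θ : H → ℂ} (hθ : IsCharacter H θ)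
    (h : IsIrrCharacter G (indFun H θ)) : IsIrrCharacter H θ := by
  classical
  have h1 : θ 1 ≠ 0 := by
    intro h0
    apply h.apply_one_ne_zero
    rw [indFun_one_eq, h0, mul_zero]
  obtain ⟨ψ, hψ, hne⟩ := exists_irr_constituent hθ h1
  have h2 := hθ.sub_irr hψ hne
  have h3 : indFun H θ = indFun H (θ - ψ) + indFun H ψ := by
    rw [← indFun_add, sub_add_cancel]
  rw [h3] at h
  rcases eq_zero_or_of_isIrr_add (isCharacter_indFun H h2)
    (isCharacter_indFun H hψ.isCharacter) h with h4 | h4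
  · have h5 := congrFun h4 1
    rw [indFun_one_eq] at h5
    have h6 : (H.index : ℂ) ≠ 0 := by exact_mod_cast H.index_ne_zero_of_finite
    have h7 := h2.eq_zero_of_apply_one ((mul_eq_zero.mp h5).resolve_left h6)
    rw [sub_eq_zero.mp h7]; exact hψ
  · have h5 := congrFun h4 1
    rw [indFun_one_eq] at h5
    have h6 : (H.index : ℂ) ≠ 0 := by exact_mod_cast H.index_ne_zero_of_finite
    exact absurd ((mul_eq_zero.mp h5).resolve_left h6) hψ.apply_one_ne_zero

/-- If a product of two characters is irreducible, so is each factor. -/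
theorem isIrr_of_isIrr_mul {χ ψ : G → ℂ} (hχ : IsCharacter G χ) (hψ : IsCharacter G ψ)
    (h : IsIrrCharacter G (χ * ψ)) : IsIrrCharacter G χ := by
  have h0 : χ 1 ≠ 0 := left_ne_zero_of_mul h.apply_one_ne_zero
  have h0' : ψ 1 ≠ 0 := right_ne_zero_of_mul h.apply_one_ne_zero
  obtain ⟨φ, hφ, hne⟩ := exists_irr_constituent hχ h0
  have h2 := hχ.sub_irr hφ hne
  have h3 : χ * ψ = (χ - φ) * ψ + φ * ψ := by ring
  rw [h3] at h
  rcases eq_zero_or_of_isIrr_add (h2.mul hψ) (hφ.isCharacter.mul hψ) h with h4 | h4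
  · have h5 := congrFun h4 1
    have h7 := h2.eq_zero_of_apply_one ((mul_eq_zero.mp h5).resolve_right h0')
    rw [sub_eq_zero.mp h7]; exact hφ
  · have h5 := congrFun h4 1
    exact absurd ((mul_eq_zero.mp h5).resolve_right h0') hφ.apply_one_ne_zero

end Basic

section Subgroups
variable {G : Type*} [Group G]

/-- Restriction from `T` to `N ≤ T` versus restriction to `N.subgroupOf T`. -/
theorem classInner_subgroupOf {N T : Subgroup G} (h : N ≤ T) [Fintype N]
    [Fintype (N.subgroupOf T)] (φ ψ : N → ℂ) :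
    classInner (fun x : N.subgroupOf T => φ ⟨(x : T), Subgroup.mem_subgroupOf.mp x.2⟩)
      (fun x : N.subgroupOf T => ψ ⟨(x : T), Subgroup.mem_subgroupOf.mp x.2⟩)
      = classInner φ ψ :=
  classInner_comp_equiv (Subgroup.subgroupOfEquivOfLe h).toEquiv φ ψ

theorem isIrr_subgroupOf_iff [Finite G] {N T : Subgroup G} (h : N ≤ T) (φ : N → ℂ) :
    IsIrrCharacter (N.subgroupOf T)
      (fun x : N.subgroupOf T => φ ⟨(x : T), Subgroup.mem_subgroupOf.mp x.2⟩)
      ↔ IsIrrCharacter N φ :=
  isIrr_comp_equiv_iff (Subgroup.subgroupOfEquivOfLe h)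

theorem isCharacter_subgroupOf_iff {N T : Subgroup G} (h : N ≤ T) (φ : N → ℂ) :
    IsCharacter (N.subgroupOf T)
      (fun x : N.subgroupOf T => φ ⟨(x : T), Subgroup.mem_subgroupOf.mp x.2⟩)
      ↔ IsCharacter N φ :=
  isCharacter_comp_equiv_iff (Subgroup.subgroupOfEquivOfLe h)

theorem isCharacter_res_le {N T : Subgroup G} (h : N ≤ T) {ψ : T → ℂ} (hψ : IsCharacter T ψ) :
    IsCharacter N (fun n : N => ψ ⟨n, h n.2⟩) := hψ.comp (Subgroup.inclusion h)

theorem isClassFunction_res_le {N T : Subgroup G} (h : N ≤ T) {ψ : T → ℂ}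
    (hψ : IsClassFunction T ψ) :
    IsClassFunction N (fun n : N => ψ ⟨n, h n.2⟩) := hψ.comp (Subgroup.inclusion h)

end Subgroups

end H5
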