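import Mathlib
import Cfsg.Prelude.Def_Characters
import Cfsg.Agent.H4.Core
import Cfsg.Agent.H5.Ind
import Cfsg.Agent.H5.CharBasic

/-! Clifford theory: conjugate characters, inertia groups, Clifford's theorem, the Clifford
correspondence and Gallagher's theorem. -/

set_option autoImplicit false
open Cfsg H4
open scoped ComplexConjugate

namespace H5

section Cj
variable {G : Type*} [Group G]

/-- The conjugate `n ↦ θ (g n g⁻¹)` of a function on a normal subgroup. -/
def cj (N : Subgroup G) [hN : N.Normal] (g : G) (θ : N → ℂ) : N → ℂ :=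
  fun n => θ ⟨g * n * g⁻¹, hN.conj_mem (n : G) n.2 g⟩

variable (N : Subgroup G) [hN : N.Normal]

theorem cj_apply (g : G) (θ : N → ℂ) (n : N) :
    cj N g θ n = θ ⟨g * n * g⁻¹, hN.conj_mem (n : G) n.2 g⟩ := rfl

theorem cj_eq_comp (g : G) (θ : N → ℂ) : cj N g θ = fun n => θ (MulAut.conjNormal g n) := rfl

theorem cj_one (θ : N → ℂ) : cj N 1 θ = θ := by
  funext n; simp [cj_apply]

theorem cj_cj (g h : G) (θ : N → ℂ) : cj N g (cj N h θ) = cj N (h * g) θ := by
  funext n; simp [cj_apply, mul_assoc]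

theorem cj_apply_one (g : G) (θ : N → ℂ) : cj N g θ 1 = θ 1 := by
  simp only [cj_apply]; congr 1; ext; simp

theorem cj_add (g : G) (θ φ : N → ℂ) : cj N g (θ + φ) = cj N g θ + cj N g φ := rfl
theorem cj_sub (g : G) (θ φ : N → ℂ) : cj N g (θ - φ) = cj N g θ - cj N g φ := rfl
theorem cj_mul (g : G) (θ φ : N → ℂ) : cj N g (θ * φ) = cj N g θ * cj N g φ := rfl
theorem cj_smul (g : G) (c : ℂ) (θ : N → ℂ) : cj N g (c • θ) = c • cj N g θ := rfl

theorem cj_injective (g : G) : Function.Injective (cj N g) := by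
  intro θ φ h
  have := congrArg (cj N g⁻¹) h
  rwa [cj_cj, cj_cj, mul_inv_cancel, cj_one, cj_one] at this

theorem cj_of_mem {θ : N → ℂ} (hθ : IsClassFunction N θ) {g : G} (hg : g ∈ N) :
    cj N g θ = θ := by
  funext n; exact hθ n ⟨g, hg⟩

theorem cj_res {χ : G → ℂ} (hχ : IsClassFunction G χ) (g : G) :
    cj N g (fun n : N => χ n) = fun n : N => χ n := by
  funext n; exact hχ n g

theorem cj_res_le {T : Subgroup G} (hNT : N ≤ T) {ψ : T → ℂ} (hψ : IsClassFunction T ψ) {g : G}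
    (hg : g ∈ T) :
    cj N g (fun n : N => ψ ⟨n, hNT n.2⟩) = fun n : N => ψ ⟨n, hNT n.2⟩ := by
  funext n; exact hψ ⟨n, hNT n.2⟩ ⟨g, hg⟩

theorem cj_isClassFunction {θ : N → ℂ} (hθ : IsClassFunction N θ) (g : G) :
    IsClassFunction N (cj N g θ) := hθ.comp (MulAut.conjNormal g).toMonoidHom

theorem cj_isCharacter {θ : N → ℂ} (hθ : IsCharacter N θ) (g : G) :
    IsCharacter N (cj N g θ) := hθ.comp (MulAut.conjNormal g).toMonoidHom

theorem cj_isIrr [Finite G] {θ : N → ℂ} (hθ : IsIrrCharacter N θ) (g : G) :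
    IsIrrCharacter N (cj N g θ) := isIrr_comp_equiv (MulAut.conjNormal g) hθ

theorem classInner_cj_cj [Fintype N] (g : G) (θ φ : N → ℂ) :
    classInner (cj N g θ) (cj N g φ) = classInner θ φ :=
  classInner_comp_equiv (MulAut.conjNormal g).toEquiv θ φ

theorem classInner_res_cj [Fintype N] {χ : G → ℂ} (hχ : IsClassFunction G χ) (g : G)
    (θ : N → ℂ) :
    classInner (fun n : N => χ n) (cj N g θ) = classInner (fun n : N => χ n) θ := by
  conv_lhs => rw [← cj_res N hχ g, classInner_cj_cj]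

theorem ext0_cj (θ : N → ℂ) (g : G) (n : N) :
    extendByZero N θ (g * n * g⁻¹) = cj N g θ n :=
  ext0_mem N θ (hN.conj_mem (n : G) n.2 g)

/-- The inertia group of `θ`. -/
def inertia (θ : N → ℂ) : Subgroup G where
  carrier := {g | cj N g θ = θ}
  one_mem' := cj_one N θ
  mul_mem' := by
    intro a b ha hb
    simp only [Set.mem_ofPred_eq] at *
    rw [← cj_cj, ha, hb]
  inv_mem' := by
    intro a ha
    simp only [Set.mem_ofPred_eq] at *
    conv_lhs => rw [← ha]
    rw [cj_cj, mul_inv_cancel, cj_one]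

theorem mem_inertia {θ : N → ℂ} {g : G} : g ∈ inertia N θ ↔ cj N g θ = θ := Iff.rfl

theorem mem_inertia' {θ : N → ℂ} {g : G} :
    g ∈ inertia N θ ↔ ∀ n : N, θ ⟨g * n * g⁻¹, hN.conj_mem (n : G) n.2 g⟩ = θ n :=
  funext_iff

theorem le_inertia {θ : N → ℂ} (hθ : IsClassFunction N θ) : N ≤ inertia N θ :=
  fun _ hg => cj_of_mem N hθ hg

theorem inertia_eq_top_iff {θ : N → ℂ} : inertia N θ = ⊤ ↔ ∀ g, cj N g θ = θ := by
  simp [Subgroup.eq_top_iff', mem_inertia]

theorem cj_eq_cj_iff {θ : N → ℂ} {g h : G} : cj N g θ = cj N h θ ↔ g * h⁻¹ ∈ inertia N θ := by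
  rw [mem_inertia, ← cj_cj]
  constructor
  · intro e; rw [e, cj_cj, mul_inv_cancel, cj_one]
  · intro e
    have := congrArg (cj N h) e
    rwa [cj_cj, inv_mul_cancel, cj_one] at this

theorem forall_cj_iff {θ : N → ℂ} : (∀ g, cj N g θ = θ) ↔
    ∀ (g : G) (n : N), θ ⟨g * n * g⁻¹, hN.conj_mem (n : G) n.2 g⟩ = θ n :=
  forall_congr' fun _ => funext_iff

variable [Fintype G]

theorem indFun_normal_apply (θ : N → ℂ) (n : N) :
    indFun N θ n = (Nat.card N : ℂ)⁻¹ * ∑ g : G, cj N g θ n := by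
  rw [indFun_apply']; simp_rw [ext0_cj]

theorem res_indFun_normal (θ : N → ℂ) :
    (fun n : N => indFun N θ n) = (Nat.card N : ℂ)⁻¹ • ∑ g : G, cj N g θ := by
  funext n; simp [indFun_normal_apply, Finset.sum_apply]

theorem res_indFun_invariant {θ : N → ℂ} (h : ∀ g, cj N g θ = θ) :
    (fun n : N => indFun N θ n) = (N.index : ℂ) • θ := by
  rw [res_indFun_normal]
  simp only [h, Finset.sum_const, Finset.card_univ, ← Nat.card_eq_fintype_card]
  rw [← N.card_mul_index, ← Nat.cast_smul_eq_nsmul ℂ, smul_smul]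
  congr 1
  have := card_ne_zero N
  push_cast; field_simp

theorem indFun_cj (θ : N → ℂ) (g : G) : indFun N (cj N g θ) = indFun N θ := by
  funext x
  by_cases hx : x ∈ N
  · rw [indFun_normal_apply N _ ⟨x, hx⟩, indFun_normal_apply N _ ⟨x, hx⟩]
    simp_rw [cj_cj]
    rw [← Equiv.sum_comp (Equiv.mulLeft g) (fun a => cj N a θ ⟨x, hx⟩)]
    rfl
  · rw [indFun_normal_of_not_mem N _ hx, indFun_normal_of_not_mem N _ hx]

open Classical in
theorem classInner_indFun_normal [Fintype N] (θ φ : N → ℂ) :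
    classInner (indFun N θ) (indFun N φ)
      = (Nat.card N : ℂ)⁻¹ * ∑ g : G, classInner θ (cj N g φ) := by
  rw [classInner_indFun_left N θ (indFun_isClassFunction N φ), res_indFun_normal,
    classInner_smul_right, classInner_sum_right]
  simp

theorem sum_ite_cj_eq (θ : N → ℂ) [DecidableEq (N → ℂ)] :
    ∑ g : G, (if θ = cj N g θ then (1 : ℂ) else 0) = Nat.card (inertia N θ) := by
  classical
  rw [Finset.sum_boole, Nat.card_eq_fintype_card, Fintype.card_subtype]
  congr 2
  ext g; simp [mem_inertia, eq_comm]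

/-- `|N| ⟨θ^G, θ^G⟩ = |I_G(θ)|`. -/
theorem card_mul_inner_indFun_self {θ : N → ℂ} (hθ : IsIrrCharacter N θ) :
    (Nat.card N : ℂ) * classInner (indFun N θ) (indFun N θ) = Nat.card (inertia N θ) := by
  classical
  rw [classInner_indFun_normal, ← mul_assoc, mul_inv_cancel₀ (card_ne_zero N), one_mul]
  simp_rw [fun g => hθ.inner_eq_ite (cj_isIrr N hθ g)]
  convert sum_ite_cj_eq N θ

theorem isIrr_indFun_of_inertia_le {θ : N → ℂ} (hθ : IsIrrCharacter N θ)
    (h : inertia N θ ≤ N) : IsIrrCharacter G (indFun N θ) := by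
  refine isIrr_of_inner_self (isCharacter_indFun N hθ.isCharacter) ?_
  have h1 := card_mul_inner_indFun_self N hθ
  rw [le_antisymm h (le_inertia N hθ.classFun)] at h1
  exact mul_left_cancel₀ (card_ne_zero N) (by rw [h1, mul_one])

theorem inertia_le_of_isIrr_indFun {θ : N → ℂ} (hθ : IsIrrCharacter N θ)
    (h : IsIrrCharacter G (indFun N θ)) : inertia N θ ≤ N := by
  have h1 := card_mul_inner_indFun_self N hθ
  rw [h.inner_self, mul_one] at h1
  have h2 : Nat.card N = Nat.card (inertia N θ) := by exact_mod_cast h1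
  exact (Subgroup.eq_of_le_of_card_ge (le_inertia N hθ.classFun) h2.ge).ge

theorem inner_indFun_eq_zero_of_not_conj {θ φ : N → ℂ} (hθ : IsIrrCharacter N θ)
    (hφ : IsIrrCharacter N φ) (h : ∀ g, cj N g φ ≠ θ) :
    classInner (indFun N θ) (indFun N φ) = 0 := by
  classical
  rw [classInner_indFun_normal, Finset.sum_eq_zero, mul_zero]
  intro g _
  exact hθ.inner_of_ne (cj_isIrr N hφ g) (h g).symm

/-- Clifford: any two irreducible constituents of the restriction of an irreducible character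
are conjugate. -/
theorem exists_cj_eq_of_inner_ne_zero [Fintype N] {χ : G → ℂ} (hχ : IsIrrCharacter G χ)
    {θ φ : N → ℂ} (hθ : IsIrrCharacter N θ) (hφ : IsIrrCharacter N φ)
    (h1 : classInner (fun n : N => χ n) θ ≠ 0) (h2 : classInner (fun n : N => χ n) φ ≠ 0) :
    ∃ g : G, cj N g θ = φ := by
  by_contra hc
  push Not at hc
  have h3 := inner_indFun_eq_zero_of_not_conj N hφ hθ hc
  rw [classInner_indFun_left N φ (indFun_isClassFunction N θ)] at h3
  have h4 : classInner (indFun N θ) χ ≠ 0 := by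
    rw [classInner_indFun_left N θ hχ.classFun]
    exact fun h => h1 (classInner_comm_of_eq_zero h)
  exact inner_comp_ne_zero N.subtype (isCharacter_indFun N hθ.isCharacter) hχ h4
    hφ.isCharacter h2 (classInner_comm_of_eq_zero h3)

/-- Clifford's theorem, averaged form. -/
theorem clifford_avg [Fintype N] {χ : G → ℂ} (hχ : IsIrrCharacter G χ)
    {θ : N → ℂ} (hθ : IsIrrCharacter N θ) (h1 : classInner (fun n : N => χ n) θ ≠ 0) :
    (Nat.card (inertia N θ) : ℂ) • (fun n : N => χ n)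
      = classInner (fun n : N => χ n) θ • ∑ g : G, cj N g θ := by
  classical
  refine ((hχ.classFun.restrict N).smul _).ext_inner
    ((isClassFunction_sum _ _ fun g _ => cj_isClassFunction N hθ.classFun g).smul _)
    fun φ hφ => ?_
  rw [classInner_smul_left, classInner_smul_left, classInner_sum_left]
  by_cases h : ∃ g, cj N g θ = φ
  · obtain ⟨a, rfl⟩ := h
    rw [classInner_res_cj N hχ.classFun, mul_comm]
    congr 1
    rw [← Equiv.sum_comp (Equiv.mulRight a)]
    simp only [Equiv.coe_mulRight]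
    simp_rw [← cj_cj, classInner_cj_cj, fun g => (cj_isIrr N hθ g).inner_eq_ite hθ]
    rw [← sum_ite_cj_eq N θ]
    simp_rw [eq_comm]
  · push Not at h
    have h2 : classInner (fun n : N => χ n) φ = 0 := by
      by_contra h2
      obtain ⟨g, hg⟩ := exists_cj_eq_of_inner_ne_zero N hχ hθ hφ h1 h2
      exact h g hg
    rw [h2, Finset.sum_eq_zero fun g _ => (cj_isIrr N hθ g).inner_of_ne hφ (h g)]
    simp

/-- Degree form of Clifford's theorem: `χ(1) = e t θ(1)`. -/
theorem clifford_degree [Fintype N] {χ : G → ℂ} (hχ : IsIrrCharacter G χ)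
    {θ : N → ℂ} (hθ : IsIrrCharacter N θ) (h1 : classInner (fun n : N => χ n) θ ≠ 0) :
    χ 1 = classInner (fun n : N => χ n) θ * (inertia N θ).index * θ 1 := by
  have h := congrFun (clifford_avg N hχ hθ h1) 1
  simp only [Pi.smul_apply, smul_eq_mul, Finset.sum_apply, cj_apply_one, Finset.sum_const,
    Finset.card_univ, nsmul_eq_mul, ← Nat.card_eq_fintype_card, OneMemClass.coe_one] at h
  rw [← (inertia N θ).card_mul_index] at h
  push_cast at h
  apply mul_left_cancel₀ (card_ne_zero (inertia N θ))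
  rw [h]; ring

/-- Clifford's theorem for an invariant constituent. -/
theorem res_eq_smul_of_invariant [Fintype N] {χ : G → ℂ} (hχ : IsIrrCharacter G χ)
    {θ : N → ℂ} (hθ : IsIrrCharacter N θ) (hinv : ∀ g, cj N g θ = θ)
    (h1 : classInner (fun n : N => χ n) θ ≠ 0) :
    (fun n : N => χ n) = classInner (fun n : N => χ n) θ • θ := by
  refine eq_inner_smul_of_unique (hχ.classFun.restrict N) hθ fun φ hφ h2 => ?_
  obtain ⟨g, hg⟩ := exists_cj_eq_of_inner_ne_zero N hχ hθ hφ h1 h2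
  rw [← hg, hinv]

theorem exists_nat_res_eq_smul_of_invariant [Fintype N] {χ : G → ℂ} (hχ : IsIrrCharacter G χ)
    {θ : N → ℂ} (hθ : IsIrrCharacter N θ) (hinv : ∀ g, cj N g θ = θ)
    (h1 : classInner (fun n : N => χ n) θ ≠ 0) :
    ∃ e : ℕ, 0 < e ∧ classInner (fun n : N => χ n) θ = e ∧ (fun n : N => χ n) = (e : ℂ) • θ := by
  obtain ⟨e, he⟩ := (hχ.isCharacter.restrict N).inner_nat hθ.isCharacter
  refine ⟨e, Nat.pos_of_ne_zero ?_, he, ?_⟩
  · rintro rfl; exact h1 (by simpa using he)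
  · rw [← he]; exact res_eq_smul_of_invariant N hχ hθ hinv h1

omit [Fintype G] in
theorem invariant_of_res_eq_smul {χ : G → ℂ} (hχ : IsClassFunction G χ) {θ : N → ℂ} {e : ℂ}
    (he : e ≠ 0) (h : (fun n : N => χ n) = e • θ) (g : G) : cj N g θ = θ := by
  have h1 := cj_res N hχ g
  rw [h, cj_smul] at h1
  exact smul_right_injective _ he h1

omit hN in
/-- Every irreducible character of a subgroup lies under some irreducible character of `G`. -/
theorem exists_irr_over (H : Subgroup G) [Fintype H] {θ : H → ℂ} (hθ : IsIrrCharacter H θ) :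
    ∃ χ, IsIrrCharacter G χ ∧ classInner (fun n : H => χ n) θ ≠ 0 := by
  obtain ⟨χ, hχ, h⟩ := exists_irr_constituent (isCharacter_indFun H hθ.isCharacter) (by
    rw [indFun_one_eq]
    exact mul_ne_zero (by exact_mod_cast H.index_ne_zero_of_finite) hθ.apply_one_ne_zero)
  refine ⟨χ, hχ, fun h0 => h ?_⟩
  rw [classInner_indFun_left H θ hχ.classFun]
  exact classInner_comm_of_eq_zero h0

omit hN [Fintype G] in
theorem exists_irr_under (H : Subgroup G) [Fintype H] {χ : G → ℂ} (hχ : IsIrrCharacter G χ) :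
    ∃ θ, IsIrrCharacter H θ ∧ classInner (fun n : H => χ n) θ ≠ 0 :=
  exists_irr_constituent (hχ.isCharacter.restrict H) (by simpa using hχ.apply_one_ne_zero)

end Cj

section Relative
variable {G : Type*} [Group G] (N : Subgroup G) [hN : N.Normal]

/-- Transport of a function on `N` to `N.subgroupOf T`. -/
abbrev toSubOf (N T : Subgroup G) (θ : N → ℂ) : N.subgroupOf T → ℂ :=
  fun x => θ ⟨(x : T), Subgroup.mem_subgroupOf.mp x.2⟩

theorem cj_toSubOf (T : Subgroup G) (θ : N → ℂ) (t : T) :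
    cj (N.subgroupOf T) t (toSubOf N T θ) = toSubOf N T (cj N t θ) := rfl

omit hN in
theorem toSubOf_injective {T : Subgroup G} (hNT : N ≤ T) :
    Function.Injective (toSubOf N T) := by
  intro θ φ h
  funext n
  exact congrFun h ⟨⟨n, hNT n.2⟩, n.2⟩

theorem inertia_toSubOf {T : Subgroup G} (hNT : N ≤ T) (θ : N → ℂ) :
    inertia (N.subgroupOf T) (toSubOf N T θ) = (inertia N θ).subgroupOf T := by
  ext t
  rw [mem_inertia, cj_toSubOf, (toSubOf_injective N hNT).eq_iff]
  rfl

omit hN in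
theorem classInner_res_toSubOf {T : Subgroup G} (hNT : N ≤ T) [Fintype N]
    [Fintype (N.subgroupOf T)] (ψ : T → ℂ) (θ : N → ℂ) :
    classInner (fun x : N.subgroupOf T => ψ x) (toSubOf N T θ)
      = classInner (fun n : N => ψ ⟨n, hNT n.2⟩) θ :=
  classInner_subgroupOf hNT (fun n : N => ψ ⟨n, hNT n.2⟩) θ

variable [Fintype G]

/-- Clifford's theorem for `N ≤ T` and a `T`-invariant constituent. -/
theorem exists_nat_res_le_eq_smul {T : Subgroup G} (hNT : N ≤ T) [Fintype N] {ψ : T → ℂ}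
    (hψ : IsIrrCharacter T ψ) {θ : N → ℂ} (hθ : IsIrrCharacter N θ) (hT : T ≤ inertia N θ)
    (h1 : classInner (fun n : N => ψ ⟨n, hNT n.2⟩) θ ≠ 0) :
    ∃ e : ℕ, 0 < e ∧ classInner (fun n : N => ψ ⟨n, hNT n.2⟩) θ = e ∧
      (fun n : N => ψ ⟨n, hNT n.2⟩) = (e : ℂ) • θ := by
  classical
  rw [← classInner_res_toSubOf N hNT] at h1 ⊢
  obtain ⟨e, he, h2, h3⟩ := exists_nat_res_eq_smul_of_invariant (N.subgroupOf T) hψ
    ((isIrr_subgroupOf_iff hNT θ).mpr hθ) (fun t => by
      rw [cj_toSubOf, (mem_inertia N).mp (hT t.2)]) h1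
  refine ⟨e, he, h2, ?_⟩
  funext n
  exact congrFun h3 ⟨⟨n, hNT n.2⟩, n.2⟩

theorem exists_cj_eq_of_inner_ne_zero_le {T : Subgroup G} (hNT : N ≤ T) [Fintype N] {ψ : T → ℂ}
    (hψ : IsIrrCharacter T ψ) {θ φ : N → ℂ} (hθ : IsIrrCharacter N θ) (hφ : IsIrrCharacter N φ)
    (h1 : classInner (fun n : N => ψ ⟨n, hNT n.2⟩) θ ≠ 0)
    (h2 : classInner (fun n : N => ψ ⟨n, hNT n.2⟩) φ ≠ 0) :
    ∃ g ∈ T, cj N g θ = φ := by
  classical
  rw [← classInner_res_toSubOf N hNT] at h1 h2
  obtain ⟨t, ht⟩ := exists_cj_eq_of_inner_ne_zero (N.subgroupOf T) hψ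
    ((isIrr_subgroupOf_iff hNT θ).mpr hθ) ((isIrr_subgroupOf_iff hNT φ).mpr hφ) h1 h2
  exact ⟨t, t.2, toSubOf_injective N hNT ht⟩

/-- Clifford correspondence, main step: an irreducible character `χ` of `G` containing on the
inertia group `T` an irreducible `ψ` over `θ` is induced from `ψ`. -/
theorem clifford_corr_aux [Fintype N] {θ : N → ℂ} (hθ : IsIrrCharacter N θ) {T : Subgroup G}
    [Fintype T] (hT : T = inertia N θ) (hNT : N ≤ T) {ψ : T → ℂ} (hψ : IsIrrCharacter T ψ)
    (h1 : classInner (fun n : N => ψ ⟨n, hNT n.2⟩) θ ≠ 0) {χ : G → ℂ} (hχ : IsIrrCharacter G χ)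
    (h2 : classInner (fun t : T => χ t) ψ ≠ 0) :
    indFun T ψ = χ ∧
      classInner (fun n : N => ψ ⟨n, hNT n.2⟩) θ = classInner (fun n : N => χ n) θ := by
  obtain ⟨f, hf0, hf, hf'⟩ := exists_nat_res_le_eq_smul N hNT hψ hθ hT.le h1
  obtain ⟨e, he⟩ := (hχ.isCharacter.restrict N).inner_nat hθ.isCharacter
  have hle : (f : ℝ) ≤ e := by
    have := inner_comp_re_le (Subgroup.inclusion hNT) (hχ.isCharacter.restrict T) hψ h2
      hθ.isCharacter
    change (classInner (fun n : N => ψ ⟨n, hNT n.2⟩) θ).re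
      ≤ (classInner (fun n : N => χ n) θ).re at this
    rw [hf, he] at this
    simpa using this
  have hfe : f ≤ e := by exact_mod_cast hle
  have he0 : classInner (fun n : N => χ n) θ ≠ 0 := by
    rw [he]; exact_mod_cast (by omega : e ≠ 0)
  have hdeg := clifford_degree N hχ hθ he0
  rw [he, ← hT] at hdeg
  have h3 : classInner (indFun T ψ) χ ≠ 0 := by
    rw [classInner_indFun_left T ψ hχ.classFun]
    exact fun h => h2 (classInner_comm_of_eq_zero h)
  have hψ1 : ψ 1 = f * θ 1 := congrFun hf' 1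
  have h4 := (isCharacter_indFun T hψ.isCharacter).degree_le_of_inner_ne_zero hχ h3
  obtain ⟨d, hd0, hd⟩ := hθ.exists_nat_apply_one
  rw [indFun_one_eq, hψ1, hdeg, hd] at h4
  have h5 : e * T.index * d ≤ T.index * (f * d) := by
    norm_cast at h4
  have hi : 0 < T.index := Nat.pos_of_ne_zero T.index_ne_zero_of_finite
  have h6 : e ≤ f := by
    have : e * (T.index * d) ≤ f * (T.index * d) := by nlinarith
    exact Nat.le_of_mul_le_mul_right this (Nat.mul_pos hi hd0)
  have h7 : e = f := le_antisymm h6 hfe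
  subst h7
  refine ⟨(isCharacter_indFun T hψ.isCharacter).eq_of_inner_ne_zero_of_degree hχ h3 ?_, ?_⟩
  · rw [indFun_one_eq, hψ1, hdeg]; ring
  · rw [hf, he]

/-- Clifford correspondence: induction from the inertia group preserves irreducibility. -/
theorem clifford_isIrr_indFun [Fintype N] {θ : N → ℂ} (hθ : IsIrrCharacter N θ)
    {T : Subgroup G} (hT : T = inertia N θ) (hNT : N ≤ T) {ψ : T → ℂ} (hψ : IsIrrCharacter T ψ)
    (h1 : classInner (fun n : N => ψ ⟨n, hNT n.2⟩) θ ≠ 0) :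
    IsIrrCharacter G (indFun T ψ) := by
  classical
  obtain ⟨χ, hχ, h2⟩ := exists_irr_over T hψ
  rw [(clifford_corr_aux N hθ hT hNT hψ h1 hχ h2).1]; exact hχ

theorem clifford_inner_res_indFun [Fintype N] {θ : N → ℂ} (hθ : IsIrrCharacter N θ)
    {T : Subgroup G} (hT : T = inertia N θ) (hNT : N ≤ T) {ψ : T → ℂ} (hψ : IsIrrCharacter T ψ)
    (h1 : classInner (fun n : N => ψ ⟨n, hNT n.2⟩) θ ≠ 0) :
    classInner (fun n : N => indFun T ψ n) θ = classInner (fun n : N => ψ ⟨n, hNT n.2⟩) θ := by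
  classical
  obtain ⟨χ, hχ, h2⟩ := exists_irr_over T hψ
  obtain ⟨h3, h4⟩ := clifford_corr_aux N hθ hT hNT hψ h1 hχ h2
  rw [h3, h4]

/-- Clifford correspondence: surjectivity. -/
theorem clifford_exists_indFun [Fintype N] {θ : N → ℂ} (hθ : IsIrrCharacter N θ)
    {T : Subgroup G} (hT : T = inertia N θ) (hNT : N ≤ T) {χ : G → ℂ} (hχ : IsIrrCharacter G χ)
    (h : classInner (fun n : N => χ n) θ ≠ 0) :
    ∃ ψ : T → ℂ, IsIrrCharacter T ψ ∧ indFun T ψ = χ ∧
      classInner (fun n : N => ψ ⟨n, hNT n.2⟩) θ = classInner (fun n : N => χ n) θ := by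
  classical
  obtain ⟨ψ, hψ, h1, h2⟩ := exists_irr_constituent_comp (Subgroup.inclusion hNT)
    (hχ.classFun.restrict T) (θ := θ) h
  exact ⟨ψ, hψ, clifford_corr_aux N hθ hT hNT hψ h2 hχ h1⟩

/-- Clifford correspondence: injectivity. -/
theorem clifford_injective [Fintype N] {θ : N → ℂ} (hθ : IsIrrCharacter N θ)
    {T : Subgroup G} (hT : T = inertia N θ) (hNT : N ≤ T) {ψ ψ' : T → ℂ}
    (hψ : IsIrrCharacter T ψ) (hψ' : IsIrrCharacter T ψ')
    (h1 : classInner (fun n : N => ψ ⟨n, hNT n.2⟩) θ ≠ 0)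
    (h1' : classInner (fun n : N => ψ' ⟨n, hNT n.2⟩) θ ≠ 0)
    (h : indFun T ψ = indFun T ψ') : ψ = ψ' := by
  classical
  by_contra hne
  have hχ := clifford_isIrr_indFun N hθ hT hNT hψ h1
  have h2 : classInner (fun t : T => indFun T ψ t) ψ = 1 := by
    rw [← classInner_indFun_right T ψ hχ.classFun, hχ.inner_self]
  have h2' : classInner (fun t : T => indFun T ψ t) ψ' = 1 := by
    rw [← classInner_indFun_right T ψ' hχ.classFun, ← h, hχ.inner_self]
  have hc := (hχ.isCharacter.restrict T).sub_irr hψ (by rw [h2]; exact one_ne_zero)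
  have h3 : classInner ((fun t : T => indFun T ψ t) - ψ) ψ' ≠ 0 := by
    rw [classInner_sub_left, h2', hψ.inner_of_ne hψ' hne]; simp
  have h4 := inner_comp_ne_zero (Subgroup.inclusion hNT) hc hψ' h3 hθ.isCharacter h1'
  apply h4
  have h5 := clifford_inner_res_indFun N hθ hT hNT hψ h1
  change classInner ((fun n : N => indFun T ψ n) - fun n : N => ψ ⟨n, hNT n.2⟩) θ = 0
  rw [classInner_sub_left, h5, sub_self]

/-- An irreducible character whose restriction to a normal subgroup is not homogeneous is induced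
from a proper subgroup containing it. -/
theorem exists_indFun_of_not_homogeneous {χ : G → ℂ} (hχ : IsIrrCharacter G χ)
    (h : ¬ ∃ (θ : N → ℂ) (e : ℕ), IsIrrCharacter N θ ∧ (fun n : N => χ n) = (e : ℂ) • θ) :
    ∃ (T : Subgroup G) (ψ : T → ℂ), N ≤ T ∧ T ≠ ⊤ ∧ IsIrrCharacter T ψ ∧ indFun T ψ = χ := by
  classical
  obtain ⟨θ, hθ, h1⟩ := exists_irr_under N hχ
  obtain ⟨ψ, hψ, h2, -⟩ := clifford_exists_indFun N hθ rfl (le_inertia N hθ.classFun) hχ h1
  refine ⟨_, ψ, le_inertia N hθ.classFun, fun htop => h ?_, hψ, h2⟩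
  obtain ⟨e, -, -, he⟩ := exists_nat_res_eq_smul_of_invariant N hχ hθ
    ((inertia_eq_top_iff N).mp htop) h1
  exact ⟨θ, e, hθ, he⟩

end Relative

section Gallagher
variable {G : Type*} [Group G] [Fintype G] (N : Subgroup G) [hN : N.Normal]

theorem inner_indFun_self_invariant {θ : N → ℂ} (hθ : IsIrrCharacter N θ)
    (hinv : ∀ g, cj N g θ = θ) : classInner (indFun N θ) (indFun N θ) = N.index := by
  have h := card_mul_inner_indFun_self N hθ
  rw [(inertia_eq_top_iff N).mpr hinv, Subgroup.card_top, ← N.card_mul_index] at h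
  push_cast at h
  exact mul_left_cancel₀ (card_ne_zero N) h

theorem orthonormal_of_sum_eq {ι : Type*} [Fintype ι] [DecidableEq ι] (e : ι → ℕ) (m : ι → ι → ℕ)
    (hm : ∀ i, 1 ≤ m i i) (h : ∑ i, ∑ j, e i * e j * m i j = ∑ i, e i * e i) (i j : ι)
    (hi : e i ≠ 0) (hj : e j ≠ 0) : m i j = if i = j then 1 else 0 := by
  have h1 : ∑ i, e i * e i = ∑ i, ∑ j, if i = j then e i * e j else 0 := by simp
  rw [h1, ← Finset.sum_product', ← Finset.sum_product'] at h
  have hle : ∀ p ∈ Finset.univ ×ˢ Finset.univ,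
      (if p.1 = p.2 then e p.1 * e p.2 else 0) ≤ e p.1 * e p.2 * m p.1 p.2 := by
    rintro ⟨a, b⟩ _
    simp only
    split_ifs with hab
    · subst hab; exact Nat.le_mul_of_pos_right _ (hm a)
    · exact Nat.zero_le _
  have := (Finset.sum_eq_sum_iff_of_le hle).mp h.symm (i, j) (by simp)
  simp only at this
  have hpos : 0 < e i * e j := Nat.pos_of_ne_zero (mul_ne_zero hi hj)
  split_ifs at this ⊢ with hij
  · exact (Nat.eq_of_mul_eq_mul_left hpos (by rw [mul_one]; exact this)).symm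
  · exact (mul_eq_zero.mp this.symm).resolve_left hpos.ne'

/-- The orthonormality statement behind Gallagher's theorem. -/
theorem gallagher_inner {φ θ : N → ℂ} (hφ : IsIrrCharacter N φ) (hφinv : ∀ g, cj N g φ = φ)
    (hprod : IsIrrCharacter N (φ * θ)) {χ : G → ℂ} (hχ : IsCharacter G χ)
    (hext : ∀ n : N, χ n = θ n) {β γ : G → ℂ} (hβ : IsIrrCharacter G β) (hγ : IsIrrCharacter G γ)
    (hβ' : classInner (indFun N φ) β ≠ 0) (hγ' : classInner (indFun N φ) γ ≠ 0) :
    classInner (β * χ) (γ * χ) = classInner β γ := by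
  classical
  have hθ : θ = fun n : N => χ n := funext fun n => (hext n).symm
  have hθinv : ∀ g, cj N g θ = θ := fun g => by rw [hθ, cj_res N hχ.classFun]
  have hχ1 : χ 1 ≠ 0 := by
    have := right_ne_zero_of_mul hprod.apply_one_ne_zero
    rwa [← hext 1] at this
  have hA := isCharacter_indFun N hφ.isCharacter
  choose e he using fun β : IrrCharacter G => hA.inner_nat β.2.isCharacter
  choose m hm using fun β γ : IrrCharacter G =>
    (β.2.isCharacter.mul hχ).inner_nat (γ.2.isCharacter.mul hχ)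
  have h1 : indFun N (φ * θ) = ∑ β : IrrCharacter G, (e β : ℂ) • ((β : G → ℂ) * χ) := by
    have : φ * θ = fun n : N => φ n * χ n := by funext n; simp [hext]
    rw [this, indFun_mul_res N φ hχ.classFun, hA.classFun.eq_sum, Finset.sum_mul]
    simp_rw [he, smul_mul_assoc]
  have h2 := inner_indFun_self_invariant N hprod (fun g => by rw [cj_mul, hφinv, hθinv])
  rw [← inner_indFun_self_invariant N hφ hφinv, hA.classFun.inner_eq_sum, h1,
    classInner_sum_left] at h2
  simp_rw [classInner_sum_right, classInner_smul_left, classInner_smul_right, he, hm,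
    map_natCast, ← mul_assoc] at h2
  have h3 := orthonormal_of_sum_eq e m (fun β => by
    rw [Nat.one_le_iff_ne_zero]
    intro h0
    have h4 := hm β β
    rw [h0, Nat.cast_zero, classInner_self_eq_zero] at h4
    exact mul_ne_zero β.2.apply_one_ne_zero hχ1 (congrFun h4 1)) (by exact_mod_cast h2)
    ⟨β, hβ⟩ ⟨γ, hγ⟩ (fun h0 => hβ' (by rw [he ⟨β, hβ⟩, h0, Nat.cast_zero]))
    (fun h0 => hγ' (by rw [he ⟨γ, hγ⟩, h0, Nat.cast_zero]))
  rw [hm ⟨β, hβ⟩ ⟨γ, hγ⟩, h3, irr_inner ⟨β, hβ⟩ ⟨γ, hγ⟩]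
  split_ifs <;> simp

/-- Gallagher's theorem in the general form of Isaacs (6.16). -/
theorem gallagher_bijOn {φ θ : N → ℂ} (hφ : IsIrrCharacter N φ) (hφinv : ∀ g, cj N g φ = φ)
    (hprod : IsIrrCharacter N (φ * θ)) {χ : G → ℂ} (hχ : IsCharacter G χ)
    (hext : ∀ n : N, χ n = θ n) :
    Set.BijOn (fun β : G → ℂ => β * χ)
      {β : G → ℂ | IsIrrCharacter G β ∧ classInner (indFun N φ) β ≠ 0}
      {ψ : G → ℂ | IsIrrCharacter G ψ ∧ classInner (indFun N (φ * θ)) ψ ≠ 0} := by
  classical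
  have hA := isCharacter_indFun N hφ.isCharacter
  have h1 : indFun N (φ * θ)
      = ∑ β : IrrCharacter G, classInner (indFun N φ) β • ((β : G → ℂ) * χ) := by
    have : φ * θ = fun n : N => φ n * χ n := by funext n; simp [hext]
    rw [this, indFun_mul_res N φ hχ.classFun]
    conv_lhs => rw [hA.classFun.eq_sum, Finset.sum_mul]
    simp_rw [smul_mul_assoc]
  have hirr : ∀ β, IsIrrCharacter G β → classInner (indFun N φ) β ≠ 0 →
      IsIrrCharacter G (β * χ) := fun β hβ hβ' =>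
    isIrr_of_inner_self (hβ.isCharacter.mul hχ) (by
      rw [gallagher_inner N hφ hφinv hprod hχ hext hβ hβ hβ' hβ', hβ.inner_self])
  refine ⟨?_, ?_, ?_⟩
  · rintro β ⟨hβ, hβ'⟩
    refine ⟨hirr β hβ hβ', ?_⟩
    rw [h1, classInner_sum_left, Finset.sum_eq_single ⟨β, hβ⟩]
    · rw [classInner_smul_left, (hirr β hβ hβ').inner_self, mul_one]; exact hβ'
    · intro γ _ hne
      rw [classInner_smul_left]
      by_cases h0 : classInner (indFun N φ) γ = 0
      · rw [h0, zero_mul]
      · rw [gallagher_inner N hφ hφinv hprod hχ hext γ.2 hβ h0 hβ',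
          γ.2.inner_of_ne hβ (fun h => hne (Subtype.ext h)), mul_zero]
    · simp
  · rintro β ⟨hβ, hβ'⟩ γ ⟨hγ, hγ'⟩ h
    apply hβ.eq_of_inner_ne_zero hγ
    rw [← gallagher_inner N hφ hφinv hprod hχ hext hβ hγ hβ' hγ']
    simp only at h
    rw [← h, (hirr β hβ hβ').inner_self]; exact one_ne_zero
  · rintro ψ ⟨hψ, hψ'⟩
    rw [h1, classInner_sum_left] at hψ'
    obtain ⟨β, -, hβ⟩ := Finset.exists_ne_zero_of_sum_ne_zero hψ'
    rw [classInner_smul_left] at hβ
    have h2 := left_ne_zero_of_mul hβ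
    exact ⟨β, ⟨β.2, h2⟩, (hirr β β.2 h2).eq_of_inner_ne_zero hψ (right_ne_zero_of_mul hβ)⟩

/-- An irreducible character lies over the trivial character of `N` iff `N` is in its kernel. -/
theorem inner_indFun_one_ne_zero_iff {β : G → ℂ} (hβ : IsIrrCharacter G β) :
    classInner (indFun N (fun _ => 1)) β ≠ 0 ↔ ∀ n ∈ N, β n = β 1 := by
  classical
  rw [classInner_indFun_left N _ hβ.classFun]
  constructor
  · intro h n hn
    obtain ⟨e, -, -, he⟩ := exists_nat_res_eq_smul_of_invariant N hβ isIrrCharacter_one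
      (fun _ => rfl) (fun h0 => h (classInner_comm_of_eq_zero h0))
    have h1 := congrFun he ⟨n, hn⟩
    have h2 := congrFun he 1
    simp only [Pi.smul_apply, OneMemClass.coe_one] at h1 h2
    rw [h1, h2]
  · intro h h0
    have h1 : (fun n : N => β n) = β 1 • fun _ => 1 := by
      funext n; simp [h n n.2]
    have h2 := classInner_comm_of_eq_zero h0
    rw [h1, inner_smul_self isIrrCharacter_one] at h2
    exact hβ.apply_one_ne_zero h2

theorem inner_res_one_ne_zero_iff [Fintype N] {β : G → ℂ} (hβ : IsIrrCharacter G β) :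
    classInner (fun n : N => β n) (fun _ => 1) ≠ 0 ↔ ∀ n ∈ N, β n = β 1 := by
  rw [← inner_indFun_one_ne_zero_iff N hβ, classInner_indFun_left N _ hβ.classFun]
  exact not_congr ⟨classInner_comm_of_eq_zero, classInner_comm_of_eq_zero⟩

/-- Gallagher: products of an extension with characters of the quotient are irreducible. -/
theorem gallagher_isIrr {χ : G → ℂ} (hχ : IsCharacter G χ)
    (hχN : IsIrrCharacter N (fun n : N => χ n)) {β : G → ℂ} (hβ : IsIrrCharacter G β)
    (hβN : ∀ n ∈ N, β n = β 1) : IsIrrCharacter G (β * χ) :=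
  ((gallagher_bijOn N (φ := fun _ => 1) isIrrCharacter_one (fun _ => rfl)
    (by convert hχN; simp) hχ (fun _ => rfl)).1
    ⟨hβ, (inner_indFun_one_ne_zero_iff N hβ).mpr hβN⟩).1

theorem gallagher_injective {χ : G → ℂ} (hχ : IsCharacter G χ)
    (hχN : IsIrrCharacter N (fun n : N => χ n)) {β γ : G → ℂ} (hβ : IsIrrCharacter G β)
    (hβN : ∀ n ∈ N, β n = β 1) (hγ : IsIrrCharacter G γ) (hγN : ∀ n ∈ N, γ n = γ 1)
    (h : β * χ = γ * χ) : β = γ :=
  (gallagher_bijOn N (φ := fun _ => 1) isIrrCharacter_one (fun _ => rfl)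
    (by convert hχN; simp) hχ (fun _ => rfl)).2.1
    ⟨hβ, (inner_indFun_one_ne_zero_iff N hβ).mpr hβN⟩
    ⟨hγ, (inner_indFun_one_ne_zero_iff N hγ).mpr hγN⟩ h

theorem gallagher_exists [Fintype N] {χ : G → ℂ} (hχ : IsCharacter G χ)
    (hχN : IsIrrCharacter N (fun n : N => χ n)) {ψ : G → ℂ} (hψ : IsIrrCharacter G ψ)
    (h : classInner (fun n : N => ψ n) (fun n : N => χ n) ≠ 0) :
    ∃ β, IsIrrCharacter G β ∧ (∀ n ∈ N, β n = β 1) ∧ ψ = β * χ := by
  have h1 : ((fun _ => 1) * fun n : N => χ n) = fun n : N => χ n := by funext n; simp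
  have h2 : classInner (indFun N ((fun _ => 1) * fun n : N => χ n)) ψ ≠ 0 := by
    rw [h1, classInner_indFun_left N _ hψ.classFun]
    exact fun h0 => h (classInner_comm_of_eq_zero h0)
  obtain ⟨β, ⟨hβ, hβ'⟩, rfl⟩ := (gallagher_bijOn N (φ := fun _ => 1) isIrrCharacter_one
    (fun _ => rfl) (by rw [h1]; exact hχN) hχ (fun _ => rfl)).2.2 ⟨hψ, h2⟩
  exact ⟨β, hβ, (inner_indFun_one_ne_zero_iff N hβ).mp hβ', rfl⟩

end Gallagher

end H5
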