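import Mathlib
import Cfsg.Prelude.Def_Characters
import Cfsg.Prelude.Def_CharExt
import Cfsg.Agent.H4.Core
import Cfsg.Agent.H5.CharBasic

/-! Kernels and centres of characters, deflation, determinantal characters, transfer of linear
characters. -/

set_option autoImplicit false
open Cfsg H4 Module
open scoped ComplexConjugate

namespace H5

section Ker
variable {G : Type*} [Group G]

/-- The kernel of a function `χ`: the elements `g` with `χ (g * x) = χ x` for all `x`. -/
def charKer (χ : G → ℂ) : Subgroup G where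
  carrier := {g | ∀ x, χ (g * x) = χ x}
  one_mem' := by simp
  mul_mem' := by
    intro a b ha hb x
    rw [mul_assoc, ha, hb]
  inv_mem' := by
    intro a ha x
    rw [← ha (a⁻¹ * x)]; simp

theorem mem_charKer {χ : G → ℂ} {g : G} : g ∈ charKer χ ↔ ∀ x, χ (g * x) = χ x := Iff.rfl

theorem apply_of_mem_charKer {χ : G → ℂ} {g : G} (h : g ∈ charKer χ) : χ g = χ 1 := by
  simpa using h 1

theorem charKer_normal {χ : G → ℂ} (hχ : IsClassFunction G χ) : (charKer χ).Normal := by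
  refine ⟨fun a ha g x => ?_⟩
  rw [← hχ.conj_inv _ g, ← hχ.conj_inv x g, ← ha (g⁻¹ * x * g)]
  simp [mul_assoc]

theorem mul_mem_charKer_right {χ : G → ℂ} (hχ : IsClassFunction G χ) {g : G}
    (h : g ∈ charKer χ) (x : G) : χ (x * g) = χ x := by
  rw [hχ.mul_comm, h]

theorem mem_charKer_rep [Finite G] {V : Type*} [AddCommGroup V] [Module ℂ V]
    [FiniteDimensional ℂ V] (ρ : Representation ℂ G V) {g : G} :
    g ∈ charKer ρ.character ↔ ρ g = LinearMap.id := by
  constructor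
  · intro h
    rw [← rep_char_eq_iff, apply_of_mem_charKer h, ρ.char_one]
  · intro h x
    simp [Representation.character, h, ← Module.End.one_eq_id]

theorem mem_charKer_iff [Finite G] {χ : G → ℂ} (hχ : IsCharacter G χ) {g : G} :
    g ∈ charKer χ ↔ χ g = χ 1 := by
  refine ⟨apply_of_mem_charKer, fun h => ?_⟩
  obtain ⟨n, ρ, rfl⟩ := hχ
  rw [mem_charKer_rep, ← rep_char_eq_iff, h, ρ.char_one]

theorem le_charKer_iff [Finite G] {χ : G → ℂ} (hχ : IsCharacter G χ) {N : Subgroup G} :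
    N ≤ charKer χ ↔ ∀ n ∈ N, χ n = χ 1 :=
  forall₂_congr fun _ _ => mem_charKer_iff hχ

/-- The kernel of a character is contained in the kernel of each irreducible constituent. -/
theorem charKer_le_of_inner_ne_zero [Fintype G] {χ ψ : G → ℂ} (hχ : IsCharacter G χ)
    (hψ : IsIrrCharacter G ψ) (h : classInner χ ψ ≠ 0) : charKer χ ≤ charKer ψ := by
  intro g hg
  have h1 := hχ.sub_irr hψ h
  have h2 := apply_of_mem_charKer hg
  have h3 := h1.norm_le g
  have h4 := hψ.isCharacter.norm_le g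
  have h5 := Complex.re_le_norm ((χ - ψ) g)
  have h6 := Complex.re_le_norm (ψ g)
  simp only [Pi.sub_apply, Complex.sub_re, h2] at h3 h5
  obtain ⟨d, -, hd⟩ := hψ.exists_nat_apply_one
  rw [mem_charKer_iff hψ.isCharacter]
  have h7 : (ψ g).re = (ψ 1).re := by linarith
  have h8 : ‖ψ g‖ = (ψ g).re := by linarith
  have h9 : (ψ g).im = 0 := by
    have := Complex.sq_norm (ψ g)
    rw [h8, Complex.normSq_apply] at this
    nlinarith
  apply Complex.ext h7
  rw [h9, hd]; simp

/-- Deflation of a character along a surjective homomorphism. -/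
theorem exists_deflation [Finite G] {Q : Type*} [Group Q] (f : G →* Q)
    (hf : Function.Surjective f) {χ : G → ℂ} (hχ : IsCharacter G χ) (h : f.ker ≤ charKer χ) :
    ∃ χ' : Q → ℂ, IsCharacter Q χ' ∧ χ = fun g => χ' (f g) := by
  obtain ⟨n, ρ, rfl⟩ := hχ
  have key : ∀ a b : G, f a = f b → ρ a = ρ b := by
    intro a b hab
    have : a * b⁻¹ ∈ f.ker := by simp [MonoidHom.mem_ker, hab]
    have h1 := (mem_charKer_rep ρ).mp (h this)
    calc ρ a = ρ (a * b⁻¹) * ρ b := by rw [← map_mul]; simp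
      _ = ρ b := by rw [h1, ← Module.End.one_eq_id, one_mul]
  let σ : Representation ℂ Q (Fin n → ℂ) :=
    { toFun := fun q => ρ (Function.surjInv hf q)
      map_one' := by
        rw [key _ 1 (by rw [Function.surjInv_eq hf, map_one]), map_one]
      map_mul' := fun a b => by
        rw [← map_mul]
        exact key _ _ (by simp [Function.surjInv_eq hf]) }
  refine ⟨σ.character, ⟨n, σ, rfl⟩, ?_⟩
  funext g
  change LinearMap.trace ℂ _ (ρ g) = LinearMap.trace ℂ _ (ρ (Function.surjInv hf (f g)))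
  rw [key g _ (Function.surjInv_eq hf (f g)).symm]

theorem exists_irr_deflation [Finite G] {Q : Type*} [Group Q] (f : G →* Q)
    (hf : Function.Surjective f) {χ : G → ℂ} (hχ : IsIrrCharacter G χ) (h : f.ker ≤ charKer χ) :
    ∃ χ' : Q → ℂ, IsIrrCharacter Q χ' ∧ χ = fun g => χ' (f g) := by
  obtain ⟨χ', h1, h2⟩ := exists_deflation f hf hχ.isCharacter h
  have : Finite Q := Finite.of_surjective f hf
  exact ⟨χ', isIrr_of_comp f h1 (h2 ▸ hχ), h2⟩

/-- The centre `Z(χ)` of a function `χ`: the elements acting on `χ` by a scalar. -/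
def charCenter (χ : G → ℂ) : Subgroup G where
  carrier := {g | ∃ c : ℂˣ, ∀ x, χ (g * x) = c * χ x}
  one_mem' := ⟨1, by simp⟩
  mul_mem' := by
    rintro a b ⟨c, ha⟩ ⟨d, hb⟩
    exact ⟨c * d, fun x => by rw [mul_assoc, ha, hb, Units.val_mul, mul_assoc]⟩
  inv_mem' := by
    rintro a ⟨c, ha⟩
    refine ⟨c⁻¹, fun x => ?_⟩
    have := ha (a⁻¹ * x)
    rw [mul_inv_cancel_left] at this
    rw [this, ← mul_assoc, Units.inv_mul, one_mul]

theorem mem_charCenter {χ : G → ℂ} {g : G} :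
    g ∈ charCenter χ ↔ ∃ c : ℂˣ, ∀ x, χ (g * x) = c * χ x := Iff.rfl

theorem charKer_le_charCenter (χ : G → ℂ) : charKer χ ≤ charCenter χ :=
  fun _ h => ⟨1, fun x => by simp [h x]⟩

theorem charCenter_normal {χ : G → ℂ} (hχ : IsClassFunction G χ) : (charCenter χ).Normal := by
  refine ⟨fun a ⟨c, ha⟩ g => ⟨c, fun x => ?_⟩⟩
  rw [← hχ.conj_inv _ g, ← hχ.conj_inv x g, ← ha (g⁻¹ * x * g)]
  simp [mul_assoc]

theorem mem_charCenter_iff [Finite G] {χ : G → ℂ} (hχ : IsCharacter G χ) {g : G} :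
    g ∈ charCenter χ ↔ ‖χ g‖ = (χ 1).re := by
  obtain ⟨n, ρ, rfl⟩ := hχ
  rw [ρ.char_one, Complex.natCast_re]
  constructor
  · rintro ⟨c, hc⟩
    have h1 : ∀ k : ℕ, ρ.character (g ^ k) = c ^ k * ρ.character 1 := by
      intro k
      induction k with
      | zero => simp
      | succ k ih => rw [pow_succ', hc, ih]; ring
    have h2 := h1 (orderOf g)
    have h3 := h1 1
    rw [pow_orderOf_eq_one] at h2
    rw [pow_one, pow_one, ρ.char_one] at h3
    by_cases h0 : ρ.character 1 = 0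
    · rw [ρ.char_one] at h0
      rw [h3, h0]
      have : (finrank ℂ (Fin n → ℂ) : ℝ) = 0 := by exact_mod_cast h0
      rw [this]; simp
    · have h4 : (c : ℂ) ^ orderOf g = 1 := by
        apply mul_right_cancel₀ h0; rw [← h2, one_mul]
      rw [h3, norm_mul, norm_eq_one_of_pow_eq_one (orderOf_pos g).ne' h4]
      simp
  · intro h
    obtain ⟨ω, hω⟩ := (rep_norm_char_eq_iff ρ g).mp h
    by_cases h0 : ω = 0
    · refine ⟨1, fun x => ?_⟩
      have h1 : (1 : Module.End ℂ (Fin n → ℂ)) = 0 := by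
        rw [← map_one ρ, ← mul_inv_cancel g, map_mul, hω, h0]; simp
      have h2 : ∀ T : Module.End ℂ (Fin n → ℂ), T = 0 := fun T => by
        rw [← mul_one T, h1, mul_zero]
      simp [Representation.character, h2 (ρ (g * x)), h2 (ρ x)]
    · refine ⟨Units.mk0 ω h0, fun x => ?_⟩
      simp [Representation.character, hω, ← Module.End.one_eq_id]

/-- An element at which a character is `c * χ 1` with `|c| = 1` lies in the centre. -/
theorem mem_charCenter_of_apply [Finite G] {χ : G → ℂ} (hχ : IsCharacter G χ) {g : G} {c : ℂ}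
    (hc : ‖c‖ = 1) (h : χ g = c * χ 1) : g ∈ charCenter χ := by
  rw [mem_charCenter_iff hχ, h, norm_mul, hc, one_mul]
  obtain ⟨n, hn⟩ := hχ.exists_nat_apply_one
  rw [hn]; simp

theorem apply_mul_of_mem_charCenter {χ : G → ℂ} {g : G} (hg : g ∈ charCenter χ) (x : G) :
    χ 1 * χ (g * x) = χ g * χ x := by
  obtain ⟨c, hc⟩ := hg
  have := hc 1
  rw [mul_one] at this
  rw [hc, this]; ring

theorem commutator_mem_charKer {χ : G → ℂ} (hχ : IsClassFunction G χ) {g : G}
    (hg : g ∈ charCenter χ) (x : G) : g * x * g⁻¹ * x⁻¹ ∈ charKer χ := by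
  obtain ⟨c, hc⟩ := hg
  intro y
  have h1 := hc (x * g⁻¹ * x⁻¹ * y)
  have h2 := hc (g⁻¹ * (x⁻¹ * y * x))
  rw [mul_inv_cancel_left, hχ.conj_inv] at h2
  have h3 : χ (x * g⁻¹ * x⁻¹ * y) = χ (g⁻¹ * (x⁻¹ * y * x)) := by
    rw [← hχ.conj_inv _ x]; congr 1; group
  rw [h2, ← h3, ← h1]; congr 1; group

theorem center_le_charCenter [Finite G] {χ : G → ℂ} (hχ : IsIrrCharacter G χ) :
    Subgroup.center G ≤ charCenter χ := by
  intro z hz
  obtain ⟨n, ρ, hρ, rfl⟩ := hχ
  obtain ⟨c, hc⟩ := schur_scalar ρ (ρ z) (fun g => by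
    rw [← Module.End.mul_eq_comp, ← Module.End.mul_eq_comp, ← map_mul, ← map_mul,
      Subgroup.mem_center_iff.mp hz g])
  rw [mem_charCenter_iff (isCharacter_of_rep ρ), ρ.char_one, Complex.natCast_re,
    rep_norm_char_eq_iff]
  exact ⟨c, hc⟩

/-- On `Z(χ)` the character `χ` is `χ(1)` times a linear character. -/
theorem exists_linear_on_charCenter {χ : G → ℂ} (h1 : χ 1 ≠ 0) (Z : Subgroup G)
    (hZ : Z ≤ charCenter χ) : ∃ lam : Z →* ℂˣ, ∀ (z : Z) (x : G), χ (z * x) = lam z * χ x := by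
  choose c hc using fun z : Z => hZ z.2
  have huniq : ∀ (z : Z) (d : ℂˣ), (∀ x, χ (z * x) = d * χ x) → c z = d := by
    intro z d hd
    apply Units.ext
    apply mul_right_cancel₀ h1
    rw [← hc, ← hd]
  refine ⟨⟨⟨c, huniq _ _ (by simp)⟩, fun a b => huniq _ _ fun x => ?_⟩, hc⟩
  rw [Subgroup.coe_mul, mul_assoc, hc, hc, Units.val_mul, mul_assoc]

theorem charCenter_comp {Γ : Type*} [Group Γ] (f : Γ →* G) (χ : G → ℂ) :
    (charCenter χ).comap f ≤ charCenter (fun x => χ (f x)) := by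
  rintro g ⟨c, hc⟩
  exact ⟨c, fun x => by simp only [map_mul]; exact hc _⟩

theorem charKer_comp {Γ : Type*} [Group Γ] (f : Γ →* G) (χ : G → ℂ) :
    (charKer χ).comap f ≤ charKer (fun x => χ (f x)) := by
  intro g hg x
  simp only [map_mul]; exact hg _

theorem ker_le_charKer_comp {Γ : Type*} [Group Γ] (f : Γ →* G) (χ : G → ℂ) :
    f.ker ≤ charKer (fun x => χ (f x)) := by
  intro g hg x
  simp [MonoidHom.mem_ker.mp hg]

/-- If `G = H Z(χ)` (along a homomorphism) then the restriction of an irreducible `χ` is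
irreducible. -/
theorem isIrr_comp_of_charCenter [Finite G] {Γ : Type*} [Group Γ] [Finite Γ] (f : Γ →* G)
    {χ : G → ℂ} (hχ : IsIrrCharacter G χ)
    (h : ∀ g : G, ∃ z ∈ charCenter χ, ∃ x : Γ, g = z * f x) :
    IsIrrCharacter Γ (fun x => χ (f x)) := by
  classical
  have := Fintype.ofFinite G
  have := Fintype.ofFinite Γ
  have h1 : IsIrrCharacter f.range (fun x : f.range => χ x) := by
    refine isIrr_of_inner_self (hχ.isCharacter.restrict _) ?_
    have h2 := card_inf_mul_sum_eq f.range (charCenter χ) (fun g => by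
      obtain ⟨z, hz, x, rfl⟩ := h g
      refine ⟨f x, ⟨x, rfl⟩, (f x)⁻¹ * z * f x, ?_, by group⟩
      simpa using (charCenter_normal hχ.classFun).conj_mem z hz (f x)⁻¹)
      (fun g => χ g * conj (χ g)) (fun x k hk => by
        have h3 := (mem_charCenter_iff hχ.isCharacter).mp hk
        have h4 := apply_mul_of_mem_charCenter hk x
        rw [hχ.classFun.mul_comm x k]
        obtain ⟨d, hd0, hd⟩ := hχ.exists_nat_apply_one
        have hd' : (d : ℂ) ≠ 0 := by exact_mod_cast hd0.ne'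
        have h5 : χ k * conj (χ k) = d * d := by
          rw [Complex.mul_conj, Complex.normSq_eq_norm_sq, h3, hd]; simp [sq]
        have h6 : χ (k * x) = χ k * χ x / d := by rw [← h4, hd]; field_simp
        rw [h6]
        simp only [map_div₀, map_mul, map_natCast]
        field_simp
        linear_combination (χ x * conj (χ x)) * h5)
    rw [← card_mul_classInner, hχ.inner_self, mul_one,
      ← card_mul_classInner (fun x : f.range => χ x) (fun x : f.range => χ x)] at h2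
    have h3 := card_inf_mul_sum_eq f.range (charCenter χ) (fun g => by
      obtain ⟨z, hz, x, rfl⟩ := h g
      refine ⟨f x, ⟨x, rfl⟩, (f x)⁻¹ * z * f x, ?_, by group⟩
      simpa using (charCenter_normal hχ.classFun).conj_mem z hz (f x)⁻¹)
      (fun _ => 1) (fun _ _ _ => rfl)
    simp only [Finset.sum_const, Finset.card_univ, nsmul_eq_mul, mul_one,
      ← Nat.card_eq_fintype_card] at h3
    rw [h3, ← mul_assoc] at h2
    exact (mul_left_cancel₀ (mul_ne_zero (card_ne_zero _) (card_ne_zero _))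
      (by rw [← h2, mul_one])).symm
  exact isIrr_comp_surjective f.rangeRestrict f.rangeRestrict_surjective h1

end Ker

section Det

theorem sum_eq_of_powerSums_eq {ι κ : Type*} [Fintype ι] [Fintype κ] (ω : ι → ℂ) (ω' : κ → ℂ)
    (h : ∀ k : ℕ, ∑ i, ω i ^ k = ∑ j, ω' j ^ k) (f : ℂ → ℂ) :
    ∑ i, f (ω i) = ∑ j, f (ω' j) := by
  classical
  let S : Finset ℂ := Finset.univ.image ω ∪ Finset.univ.image ω'
  let p := Lagrange.interpolate S id f
  have hp : ∀ z ∈ S, p.eval z = f z := fun z hz =>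
    Lagrange.eval_interpolate_at_node (s := S) (v := id) f (Set.injOn_id _) hz
  have h1 : ∀ i, f (ω i) = p.eval (ω i) := fun i => (hp _ (by simp [S])).symm
  have h2 : ∀ j, f (ω' j) = p.eval (ω' j) := fun j => (hp _ (by simp [S])).symm
  simp_rw [h1, h2, Polynomial.eval_eq_sum_range]
  rw [Finset.sum_comm, Finset.sum_comm (s := Finset.univ)]
  simp_rw [← Finset.mul_sum, h]

theorem prod_eq_of_powerSums_eq {ι κ : Type*} [Fintype ι] [Fintype κ] (ω : ι → ℂ) (ω' : κ → ℂ)
    (h : ∀ k : ℕ, ∑ i, ω i ^ k = ∑ j, ω' j ^ k) (h0 : ∀ i, ω i ≠ 0) (h0' : ∀ j, ω' j ≠ 0) :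
    ∏ i, ω i = ∏ j, ω' j := by
  have := congrArg Complex.exp (sum_eq_of_powerSums_eq ω ω' h Complex.log)
  rw [Complex.exp_sum, Complex.exp_sum] at this
  simpa [Complex.exp_log (h0 _), Complex.exp_log (h0' _)] using this

variable {G : Type*} [Group G]

theorem det_eq_prod_of_eigenbasis {V : Type*} [AddCommGroup V] [Module ℂ V] {ι : Type*}
    [Fintype ι] (b : Basis ι ℂ V) (f : Module.End ℂ V) (ω : ι → ℂ) (h : ∀ i, f (b i) = ω i • b i) :
    LinearMap.det f = ∏ i, ω i := by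
  classical
  rw [← LinearMap.det_toMatrix b, ← Matrix.det_diagonal]
  congr 1
  ext i j
  simp [LinearMap.toMatrix_apply, h, Matrix.diagonal_apply, Finsupp.single_apply]
  split_ifs with h1 h2 h2
  · rw [h1]
  · exact absurd h1.symm h2
  · exact absurd h2.symm h1
  · rfl

theorem det_rep_eq_prod [Finite G] {V : Type*} [AddCommGroup V] [Module ℂ V]
    [FiniteDimensional ℂ V] (ρ : Representation ℂ G V) (g : G) {ι : Type*} [Fintype ι]
    (ω : ι → ℂ) (h0 : ∀ i, ω i ≠ 0) (h : ∀ k : ℕ, ρ.character (g ^ k) = ∑ i, ω i ^ k) :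
    LinearMap.det (ρ g) = ∏ i, ω i := by
  obtain ⟨b, ω', h1, h2, h3, -⟩ := rep_eigenbasis ρ g
  rw [det_eq_prod_of_eigenbasis b _ ω' h2]
  refine prod_eq_of_powerSums_eq _ _ (fun k => by rw [← h3, h]) (fun i hi => ?_) h0
  have := h1 i
  rw [hi, zero_pow (orderOf_pos g).ne'] at this
  exact zero_ne_one this

theorem detChar_eq_prod [Finite G] {χ : G → ℂ} (hχ : IsCharacter G χ) (g : G) {ι : Type*}
    [Fintype ι] (ω : ι → ℂ) (h0 : ∀ i, ω i ≠ 0) (h : ∀ k : ℕ, χ (g ^ k) = ∑ i, ω i ^ k) :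
    detChar χ g = ∏ i, ω i := by
  unfold detChar
  rw [dif_pos hχ]
  refine det_rep_eq_prod _ g ω h0 fun k => ?_
  rw [Classical.choose_spec (Classical.choose_spec hχ), h]

theorem exists_eigenvalues' [Finite G] {χ : G → ℂ} (hχ : IsCharacter G χ) (g : G) :
    ∃ (n : ℕ) (ω : Fin n → ℂ), χ 1 = n ∧ (∀ i, ω i ^ orderOf g = 1) ∧ (∀ i, ω i ≠ 0) ∧
      (∀ k : ℕ, χ (g ^ k) = ∑ i, ω i ^ k) ∧ detChar χ g = ∏ i, ω i := by
  obtain ⟨n, ω, h1, h2, h3⟩ := hχ.exists_eigenvalues g
  have h0 : ∀ i, ω i ≠ 0 := fun i hi => by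
    have := h2 i
    rw [hi, zero_pow (orderOf_pos g).ne'] at this
    exact zero_ne_one this
  exact ⟨n, ω, h1, h2, h0, h3, detChar_eq_prod hχ g ω h0 h3⟩

theorem detChar_rep [Finite G] {V : Type*} [AddCommGroup V] [Module ℂ V]
    [FiniteDimensional ℂ V] (ρ : Representation ℂ G V) (g : G) :
    detChar ρ.character g = LinearMap.det (ρ g) := by
  obtain ⟨n, ω, -, -, h0, h3, h4⟩ := exists_eigenvalues' (isCharacter_of_rep ρ) g
  rw [h4, det_rep_eq_prod ρ g ω h0 h3]

theorem exists_detChar_hom [Finite G] {χ : G → ℂ} (hχ : IsCharacter G χ) :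
    ∃ δ : G →* ℂˣ, ∀ g, detChar χ g = δ g := by
  obtain ⟨n, ρ, rfl⟩ := hχ
  exact ⟨MonoidHom.toHomUnits ((LinearMap.det (A := ℂ)).comp ρ), fun g => by
    rw [detChar_rep]; rfl⟩

theorem detChar_isCharacter [Finite G] {χ : G → ℂ} (hχ : IsCharacter G χ) :
    IsCharacter G (detChar χ) := by
  obtain ⟨δ, hδ⟩ := exists_detChar_hom hχ
  rw [funext hδ]; exact (isIrrCharacter_linear δ).isCharacter

theorem detChar_apply_one [Finite G] {χ : G → ℂ} (hχ : IsCharacter G χ) : detChar χ 1 = 1 := by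
  obtain ⟨δ, hδ⟩ := exists_detChar_hom hχ
  rw [hδ]; simp

theorem detChar_comp [Finite G] {Γ : Type*} [Group Γ] [Finite Γ] (f : Γ →* G) {χ : G → ℂ}
    (hχ : IsCharacter G χ) (x : Γ) : detChar (fun x => χ (f x)) x = detChar χ (f x) := by
  obtain ⟨n, ω, -, -, h0, h3, h4⟩ := exists_eigenvalues' hχ (f x)
  rw [h4]
  exact detChar_eq_prod (hχ.comp f) x ω h0 fun k => by rw [map_pow, h3]

theorem detChar_add [Finite G] {χ ψ : G → ℂ} (hχ : IsCharacter G χ) (hψ : IsCharacter G ψ)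
    (g : G) : detChar (χ + ψ) g = detChar χ g * detChar ψ g := by
  obtain ⟨n, ω, -, -, h0, h3, h4⟩ := exists_eigenvalues' hχ g
  obtain ⟨m, ω', -, -, h0', h3', h4'⟩ := exists_eigenvalues' hψ g
  rw [h4, h4', detChar_eq_prod (hχ.add hψ) g (Sum.elim ω ω') (by
    rintro (i | i)
    · exact h0 i
    · exact h0' i) (fun k => by simp [h3, h3', Fintype.sum_sum_type])]
  simp [Fintype.prod_sum_type]

/-- If `χ (g ^ k) = c ^ k * ψ (x ^ k)` for all `k` then `det χ g = c ^ d * det ψ x`. -/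
theorem detChar_eq_pow_mul [Finite G] {Γ : Type*} [Group Γ] [Finite Γ] {χ : G → ℂ}
    (hχ : IsCharacter G χ) {ψ : Γ → ℂ} (hψ : IsCharacter Γ ψ) (g : G) (x : Γ) {c : ℂ}
    (hc : c ≠ 0) (h : ∀ k : ℕ, χ (g ^ k) = c ^ k * ψ (x ^ k)) {d : ℕ} (hd : ψ 1 = d) :
    detChar χ g = c ^ d * detChar ψ x := by
  obtain ⟨m, ω', h1, -, h0', h3', h4'⟩ := exists_eigenvalues' hψ x
  have hm : m = d := by exact_mod_cast h1.symm.trans hd
  subst hm
  rw [h4', detChar_eq_prod hχ g (fun i => c * ω' i) (fun i => mul_ne_zero hc (h0' i))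
    (fun k => by rw [h, h3', Finset.mul_sum]; simp [mul_pow])]
  simp [Finset.prod_mul_distrib]

theorem linear_pow {lam : G → ℂ} (h : IsCharacter G lam) (h1 : lam 1 = 1) (g : G) (k : ℕ) :
    lam (g ^ k) = lam g ^ k := by
  obtain ⟨μ, rfl⟩ := h.exists_linear h1
  simp

theorem detChar_linear_mul [Finite G] {lam χ : G → ℂ} (h : IsCharacter G lam) (h1 : lam 1 = 1)
    (hχ : IsCharacter G χ) {d : ℕ} (hd : χ 1 = d) (g : G) :
    detChar (lam * χ) g = lam g ^ d * detChar χ g :=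
  detChar_eq_pow_mul (h.mul hχ) hχ g g (linear_ne_zero h h1 g)
    (fun k => by rw [Pi.mul_apply, linear_pow h h1]) hd

/-- If `χ (g ^ k) = d * c ^ k` for all `k` then `det χ g = c ^ d`. -/
theorem detChar_eq_pow [Finite G] {χ : G → ℂ} (hχ : IsCharacter G χ) (g : G) {c : ℂ}
    (hc : c ≠ 0) {d : ℕ} (h : ∀ k : ℕ, χ (g ^ k) = d * c ^ k) : detChar χ g = c ^ d := by
  rw [detChar_eq_prod hχ g (fun _ : Fin d => c) (fun _ => hc) (fun k => by simp [h])]
  simp

theorem detChar_linear [Finite G] {lam : G → ℂ} (h : IsCharacter G lam) (h1 : lam 1 = 1) :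
    detChar lam = lam := by
  funext g
  rw [detChar_eq_pow h g (linear_ne_zero h h1 g) (d := 1) (fun k => by
    rw [linear_pow h h1]; simp), pow_one]

theorem detChar_of_scalar [Finite G] {χ : G → ℂ} (hχ : IsCharacter G χ) {g : G} {c : ℂ}
    (hc : c ≠ 0) (h : ∀ x, χ (g * x) = c * χ x) {d : ℕ} (hd : χ 1 = d) :
    detChar χ g = c ^ d := by
  refine detChar_eq_pow hχ g hc fun k => ?_
  induction k with
  | zero => simp [hd]
  | succ k ih => rw [pow_succ', h, ih]; ring

end Det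

section Transfer
variable {G : Type*} [Group G] {H : Subgroup G} {A : Type*} [CommGroup A]

theorem transfer_eq_pow_of [H.FiniteIndex] (ϕ : H →* A) (g : G) (c : A)
    (key : ∀ (k : ℕ) (g₀ : G) (h : g₀⁻¹ * g ^ k * g₀ ∈ H), ϕ ⟨_, h⟩ = c ^ k) :
    MonoidHom.transfer ϕ g = c ^ H.index := by
  classical
  let := H.fintypeQuotientOfFiniteIndex
  rw [MonoidHom.transfer_eq_prod_quotient_orbitRel_zpowers_quot,
    Subgroup.index_eq_sum_minimalPeriod H g, ← Finset.prod_pow_eq_pow_sum]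
  exact Finset.prod_congr rfl fun q _ => key _ _ _

/-- Transfer of an extension `ν` (to `H ≥ N`) of an invariant linear character of the normal
subgroup `N`. -/
theorem transfer_apply_of_invariant [H.FiniteIndex] (N : Subgroup G) [hN : N.Normal]
    (hNH : N ≤ H) (lam : N →* A)
    (hinv : ∀ (g : G) (n : N), lam ⟨g * n * g⁻¹, hN.conj_mem (n : G) n.2 g⟩ = lam n)
    (ν : H →* A) (hν : ∀ n : N, ν ⟨n, hNH n.2⟩ = lam n) (n : N) :
    MonoidHom.transfer ν n = lam n ^ H.index := by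
  refine transfer_eq_pow_of ν n _ fun k g₀ h => ?_
  have h1 := hinv g₀⁻¹ (n ^ k)
  rw [← map_pow, ← h1, ← hν]
  congr 1
  ext; simp

end Transfer

end H5
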