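import Mathlib
import Cfsg.Agent.H3.PNil
import Cfsg.Agent.H6.SmallSylow
import Cfsg.Agent.H6.BaerSuzuki

/-! Group theory for the Brauer–Suzuki theorem (generalized quaternion Sylow subgroups of order
at least 16). -/

set_option autoImplicit false
open Cfsg Subgroup

namespace H5

variable {G : Type*} [Group G]

/-- A `p`-subgroup of `H` is `H`-conjugate into a Sylow subgroup of `G` contained in `H`. -/
theorem exists_conj_le_sylow_in [Finite G] {p : ℕ} [Fact p.Prime] (P : Sylow p G) {H Q : Subgroup G}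
    (hP : (P : Subgroup G) ≤ H) (hQ : IsPGroup p Q) (hQH : Q ≤ H) :
    ∃ g ∈ H, ∀ x ∈ Q, g * x * g⁻¹ ∈ P := by
  obtain ⟨g, hg⟩ := H6.exists_conj_le_sylow (P.subtype hP) (Q := Q.subgroupOf H)
    (hQ.comap_subtype)
  exact ⟨g, g.2, fun x hx => hg ⟨x, hQH hx⟩ hx⟩

theorem zpowers_eq_of_le_of_card [Finite G] {y : G} {A B : Subgroup G} (hA : A ≤ zpowers y)
    (hB : B ≤ zpowers y) (h : Nat.card A = Nat.card B) : A = B := by
  have h1 : A.subgroupOf (zpowers y) = B.subgroupOf (zpowers y) := by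
    have : IsCyclic (zpowers y) := inferInstance
    let := IsCyclic.commGroup (α := zpowers y)
    have hA' : Nat.card (A.subgroupOf (zpowers y)) = Nat.card A :=
      Nat.card_congr (subgroupOfEquivOfLe hA).toEquiv
    have hB' : Nat.card (B.subgroupOf (zpowers y)) = Nat.card B :=
      Nat.card_congr (subgroupOfEquivOfLe hB).toEquiv
    have key : ∀ C : Subgroup (zpowers y), C = (powMonoidHom (Nat.card C)).ker := by
      intro C
      apply Subgroup.eq_of_le_of_card_ge
      · intro c hc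
        exact congrArg Subtype.val (pow_card_eq_one' (x := (⟨c, hc⟩ : C)))
      · rw [IsCyclic.card_powMonoidHom_ker]
        exact Nat.le_of_dvd Nat.card_pos (Nat.gcd_dvd_right _ _)
    rw [key (A.subgroupOf _), key (B.subgroupOf _), hA', hB', h]
  rw [← map_subgroupOf_eq_of_le hA, h1, map_subgroupOf_eq_of_le hB]

/-- Presentation data of a generalized quaternion subgroup of order `2 ^ (n + 4)`. -/
structure QData (S : Subgroup G) (n : ℕ) (a x : G) : Prop where
  ord : orderOf a = 2 ^ (n + 3)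
  inv : x * a * x⁻¹ = a⁻¹
  sq : x * x = a ^ 2 ^ (n + 2)
  nmem : x ∉ zpowers a
  mem : ∀ g, g ∈ S ↔ g ∈ zpowers a ∨ x⁻¹ * g ∈ zpowers a

theorem exists_qdata [Finite G] {S : Subgroup G} {n : ℕ} (e : S ≃* QuaternionGroup (2 ^ (n + 2))) :
    ∃ a x : G, QData S n a x := by
  classical
  let f : QuaternionGroup (2 ^ (n + 2)) →* G := S.subtype.comp e.symm.toMonoidHom
  have hf : Function.Injective f := S.subtype_injective.comp e.symm.injective
  have hr : ∀ g, g ∈ S ↔ ∃ q, f q = g := fun g =>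
    ⟨fun h => ⟨e ⟨g, h⟩, by simp [f]⟩, fun ⟨q, h⟩ => h ▸ (e.symm q).2⟩
  have ha : ∀ i : ZMod (2 * 2 ^ (n + 2)), f (.a i) ∈ zpowers (f (.a 1)) := fun i => by
    refine ⟨(i.val : ℕ), ?_⟩
    simp only [zpow_natCast]
    rw [← map_pow, QuaternionGroup.a_one_pow, ZMod.natCast_zmod_val]
  have ha' : ∀ g ∈ zpowers (f (.a 1)), ∃ i, g = f (.a i) := by
    intro g hg
    obtain ⟨k, rfl⟩ := (mem_zpowers_iff_mem_range_orderOf).1 hg |> Finset.mem_image.1
      |>.imp fun k h => h.2
    exact ⟨k, by rw [← map_pow, QuaternionGroup.a_one_pow]⟩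
  refine ⟨f (.a 1), f (.xa 0), ?_, ?_, ?_, ?_, fun g => ?_⟩
  · rw [orderOf_injective f hf, QuaternionGroup.orderOf_a_one]; ring
  · rw [mul_inv_eq_iff_eq_mul, eq_inv_mul_iff_mul_eq, ← map_mul, ← map_mul]; simp
  · rw [← map_mul, ← map_pow, QuaternionGroup.a_one_pow]; simp
  · intro h
    obtain ⟨i, hi⟩ := ha' _ h
    cases hf hi
  · rw [hr]
    constructor
    · rintro ⟨q, rfl⟩
      cases q with
      | a i => exact Or.inl (ha i)
      | xa i =>
        refine Or.inr ?_
        have : (f (.xa 0))⁻¹ * f (.xa i) = f (.a i) := by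
          rw [inv_mul_eq_iff_eq_mul, ← map_mul]; simp
        rw [this]; exact ha i
    · rintro (h | h)
      · obtain ⟨i, hi⟩ := ha' _ h; exact ⟨_, hi.symm⟩
      · obtain ⟨i, hi⟩ := ha' _ h
        exact ⟨.xa 0 * .a i, by rw [map_mul, ← hi]; simp⟩

namespace QData

variable {S : Subgroup G} {n : ℕ} {a x : G} (h : QData S n a x)
include h

theorem a_mem : a ∈ S := (h.mem a).2 (Or.inl (mem_zpowers a))
theorem x_mem : x ∈ S := (h.mem x).2 (Or.inr (by simp))
theorem zp_le : zpowers a ≤ S := zpowers_le.2 h.a_mem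

theorem conj_zp {b : G} (hb : b ∈ zpowers a) : x * b * x⁻¹ = b⁻¹ := by
  obtain ⟨k, rfl⟩ := hb
  simp only
  rw [← conj_zpow, h.inv, inv_zpow]

theorem conj_zp' {b : G} (hb : b ∈ zpowers a) : x⁻¹ * b * x = b⁻¹ := by
  have := h.conj_zp (inv_mem hb)
  rw [inv_inv] at this
  calc x⁻¹ * b * x = x⁻¹ * (x * b⁻¹ * x⁻¹) * x := by rw [this]
    _ = b⁻¹ := by group

omit h in
theorem zp_comm {b c : G} (hb : b ∈ zpowers a) (hc : c ∈ zpowers a) : b * c = c * b := by
  obtain ⟨k, rfl⟩ := hb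
  obtain ⟨l, rfl⟩ := hc
  exact (Commute.zpow_zpow_self a k l).eq

/-- An element of `S` outside `⟨a⟩` inverts `⟨a⟩`. -/
theorem conj_of_nmem {g : G} (hg : g ∈ S) (hga : g ∉ zpowers a) {b : G} (hb : b ∈ zpowers a) :
    g * b * g⁻¹ = b⁻¹ := by
  have h1 := ((h.mem g).1 hg).resolve_left hga
  have h2 : g = x * (x⁻¹ * g) := by group
  generalize x⁻¹ * g = c at h1 h2
  subst h2
  have : x * c * b * (x * c)⁻¹ = x * (c * b * c⁻¹) * x⁻¹ := by group
  rw [this, zp_comm h1 hb, mul_inv_cancel_right, h.conj_zp hb]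

theorem sq_of_nmem {g : G} (hg : g ∈ S) (hga : g ∉ zpowers a) : g * g = a ^ 2 ^ (n + 2) := by
  have h1 := ((h.mem g).1 hg).resolve_left hga
  have h2 : g = x * (x⁻¹ * g) := by group
  generalize x⁻¹ * g = c at h1 h2
  subst h2
  have : x * c * (x * c) = (x * c * x⁻¹) * (x * x) * c := by group
  rw [this, h.conj_zp h1, h.sq, zp_comm (inv_mem h1) (pow_mem (mem_zpowers a) _)]; group

theorem orderOf_z : orderOf (a ^ 2 ^ (n + 2)) = 2 := by
  rw [orderOf_pow_of_dvd (by positivity) (by rw [h.ord]; exact pow_dvd_pow 2 (by omega)), h.ord,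
    pow_succ 2 (n + 2)]
  simp

theorem orderOf_sq : orderOf (a ^ 2) = 2 ^ (n + 2) := by
  rw [orderOf_pow_of_dvd (by positivity) (by rw [h.ord]; exact dvd_pow_self 2 (by omega)), h.ord,
    pow_succ 2 (n + 2)]
  simp

theorem sq_ne_inv : a ^ 2 ≠ (a ^ 2)⁻¹ := by
  intro h1
  have : (a ^ 2) ^ 2 = 1 := by rw [pow_two (a ^ 2)]; nth_rw 1 [h1]; simp
  have h2 := Nat.le_of_dvd two_pos (orderOf_dvd_of_pow_eq_one this)
  rw [h.orderOf_sq] at h2
  have : 2 ^ 2 ≤ 2 ^ (n + 2) := Nat.pow_le_pow_right two_pos (by omega)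
  omega

/-- The unique involution of `S`. -/
theorem eq_z [Finite G] {t : G} (ht : t ∈ S) (h2 : orderOf t = 2) : t = a ^ 2 ^ (n + 2) := by
  by_cases hta : t ∈ zpowers a
  · exact H6.eq_of_isCyclic_of_orderOf_two (S := zpowers a) inferInstance hta
      (pow_mem (mem_zpowers a) _) h2 h.orderOf_z
  · have := h.sq_of_nmem ht hta
    rw [H6.mul_self_of_orderOf_two h2] at this
    exact absurd this.symm (H6.ne_one_of_orderOf_two h.orderOf_z)

theorem sq_mem_of_nmem {U : Subgroup G} (hU : ∀ s ∈ S, ∀ u ∈ U, s * u * s⁻¹ ∈ U) {g : G}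
    (hg : g ∈ S) (hga : g ∉ zpowers a) (hgU : g ∈ U) : a ^ 2 ∈ U := by
  have h1 := mul_mem (hU a h.a_mem g hgU) (inv_mem hgU)
  have h2 := h.conj_of_nmem hg hga (inv_mem (mem_zpowers a))
  have : a * g * a⁻¹ * g⁻¹ = a * (g * a⁻¹ * g⁻¹) := by group
  rwa [this, h2, inv_inv, ← pow_two] at h1

theorem commutator_eq : ⁅S, S⁆ = zpowers (a ^ 2) := by
  apply le_antisymm
  · have key : ∀ b ∈ zpowers a, b * b ∈ zpowers (a ^ 2) := by
      rintro b ⟨k, rfl⟩
      exact ⟨k, by simp only; rw [← zpow_natCast, ← zpow_mul, ← zpow_add]; congr 1; ring⟩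
    rw [commutator_le]
    intro g hg k hk
    rw [commutatorElement_def]
    by_cases hga : g ∈ zpowers a <;> by_cases hka : k ∈ zpowers a
    · rw [zp_comm hga hka]; simp
    · have : g * k * g⁻¹ * k⁻¹ = g * (k * g⁻¹ * k⁻¹) := by group
      rw [this, h.conj_of_nmem hk hka (inv_mem hga), inv_inv]; exact key g hga
    · rw [h.conj_of_nmem hg hga hka]; exact key _ (inv_mem hka)
    · have h1 := ((h.mem g).1 hg).resolve_left hga
      have h2 := ((h.mem k).1 hk).resolve_left hka
      have h3 : g⁻¹ * k ∈ zpowers a := by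
        have := mul_mem (inv_mem h1) h2
        simpa [mul_assoc] using this
      have h4 : k = g * (g⁻¹ * k) := by group
      generalize g⁻¹ * k = c at h3 h4
      subst h4
      have : g * (g * c) * g⁻¹ * (g * c)⁻¹ = g * (g * c * g⁻¹ * c⁻¹) * g⁻¹ := by group
      rw [this, h.conj_of_nmem hg hga h3, h.conj_of_nmem hg hga (mul_mem (inv_mem h3) (inv_mem h3))]
      exact inv_mem (key _ (inv_mem h3))
  · rw [zpowers_le]
    have := commutator_mem_commutator h.a_mem h.x_mem
    rw [commutatorElement_def] at this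
    have h2 : a * x * a⁻¹ * x⁻¹ = a * (x * a⁻¹ * x⁻¹) := by group
    rwa [h2, h.conj_zp (inv_mem (mem_zpowers a)), inv_inv, ← pow_two] at this

omit h in
theorem mem_C {g : G} : g ∈ centralizer (zpowers (a ^ 2) : Set G) ↔ g * a ^ 2 * g⁻¹ = a ^ 2 := by
  rw [mul_inv_eq_iff_eq_mul]
  constructor
  · intro hg; exact (hg _ (mem_zpowers _)).symm
  · rintro hg _ ⟨k, rfl⟩
    exact ((Commute.zpow_right (show Commute g (a ^ 2) from hg) k).eq).symm

omit h in
theorem zp_le_C : zpowers a ≤ centralizer (zpowers (a ^ 2) : Set G) := by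
  rw [zpowers_le, mem_C]; group

theorem inf_C : S ⊓ centralizer (zpowers (a ^ 2) : Set G) = zpowers a := by
  refine le_antisymm (fun g hg => ?_) (le_inf h.zp_le zp_le_C)
  by_contra hga
  have h1 := h.conj_of_nmem hg.1 hga (pow_mem (mem_zpowers a) 2)
  rw [mem_C.1 hg.2] at h1
  exact h.sq_ne_inv h1

theorem x_nmem_C : x ∉ centralizer (zpowers (a ^ 2) : Set G) := fun hx =>
  h.nmem (h.inf_C ▸ (⟨h.x_mem, hx⟩ : x ∈ S ⊓ _))

theorem le_N : S ≤ normalizer (zpowers (a ^ 2) : Set G) := by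
  rw [← h.commutator_eq]
  exact normalizer_commutator_ge_left S S

theorem card_D [Finite G] : Nat.card (zpowers (a ^ 2)) = 2 ^ (n + 2) := by
  rw [Nat.card_zpowers, h.orderOf_sq]

end QData

/-- The subgroup generated by the elements of odd order of `C`. -/
def oddPart (C : Subgroup G) : Subgroup G := closure {g : G | g ∈ C ∧ (orderOf g).Coprime 2}

theorem oddPart_eq (C : Subgroup G) : oddPart C = (pResidual 2 C).map C.subtype :=
  (H3.map_subtype_pResidual_eq_closure 2 C).symm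

theorem oddPart_le (C : Subgroup G) : oddPart C ≤ C := by
  rw [oddPart_eq]; exact map_subtype_le _

theorem mem_oddPart {C : Subgroup G} {g : G} (hg : g ∈ C) (h : (orderOf g).Coprime 2) :
    g ∈ oddPart C := subset_closure ⟨hg, h⟩

theorem normalizer_le_normalizer_oddPart (C : Subgroup G) :
    normalizer (C : Set G) ≤ normalizer (oddPart C : Set G) := by
  rw [oddPart_eq]; exact H3.normalizer_le_normalizer_map_pResidual 2 C

theorem normalizer_le_normalizer_centralizer' (D : Subgroup G) :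
    normalizer (D : Set G) ≤ normalizer (centralizer (D : Set G) : Set G) := by
  intro g hg
  have key : ∀ g ∈ normalizer (D : Set G), ∀ c ∈ centralizer (D : Set G),
      g * c * g⁻¹ ∈ centralizer (D : Set G) := by
    intro g hg c hc d hd
    have := hc _ (((mem_normalizer_iff'').1 hg d).1 hd)
    calc d * (g * c * g⁻¹) = g * (g⁻¹ * d * g * c) * g⁻¹ := by group
      _ = g * c * g⁻¹ * d := by rw [this]; group
  rw [mem_normalizer_iff]
  exact fun c => ⟨key g hg c, fun hc => by simpa [mul_assoc] using key _ (inv_mem hg) _ hc⟩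

/-- If `H` contains a Sylow `2`-subgroup `S` of `G` then `H = O²(H) S`. -/
theorem oddPart_sup_sylow [Finite G] (S : Sylow 2 G) {H : Subgroup G} (hS : (S : Subgroup G) ≤ H) :
    oddPart H ⊔ S = H := by
  have := congrArg (map H.subtype) (H3.pResidual_sup_sylow (S.subtype hS))
  rwa [Subgroup.map_sup, ← oddPart_eq, Sylow.coe_subtype, map_subgroupOf_eq_of_le hS, ← MonoidHom.range_eq_map,
    range_subtype] at this

/-- A subgroup all of whose `2`-subgroups are cyclic has a normal `2`-complement. -/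
theorem odd_card_oddPart [Finite G] {C : Subgroup G}
    (h : ∀ Q : Subgroup G, Q ≤ C → IsPGroup 2 Q → IsCyclic Q) : Odd (Nat.card (oddPart C)) := by
  obtain ⟨T⟩ : Nonempty (Sylow 2 C) := inferInstance
  have hT : IsCyclic (T : Subgroup C) := by
    have := h ((T : Subgroup C).map C.subtype) (map_subtype_le _) (T.2.map _)
    exact isCyclic_of_surjective _
      ((T : Subgroup C).equivMapOfInjective C.subtype C.subtype_injective).symm.surjective
  have := (H3.hasNPC_iff_sylow T).2 (H6.exists_normal_complement_of_cyclic T hT)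
  rw [H3.hasNPC_subgroup_iff, ← oddPart_eq] at this
  exact Nat.coprime_two_right.1 this

theorem isCyclic_of_conj_le_zpowers {Q : Subgroup G} {g a : G}
    (h : ∀ y ∈ Q, g * y * g⁻¹ ∈ zpowers a) : IsCyclic Q := by
  let f : Q →* zpowers a := ((MulAut.conj g).toMonoidHom.comp Q.subtype).codRestrict _
    fun y => h y y.2
  refine isCyclic_of_injective f fun y z hyz => ?_
  have := congrArg Subtype.val hyz
  simpa [f] using this

/-- An element of odd order normalizing a cyclic `2`-subgroup centralizes it. -/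
theorem mem_centralizer_of_odd_of_cyclic [Finite G] {d g : G} {k : ℕ} (hd : orderOf d = 2 ^ k)
    (hg : g ∈ normalizer (zpowers d : Set G)) (ho : (orderOf g).Coprime 2) :
    g ∈ centralizer (zpowers d : Set G) := by
  let f : normalizer (zpowers d : Set G) →* MulAut (zpowers d) := (zpowers d).normalizerMonoidHom
  have h1 : orderOf (f ⟨g, hg⟩) ∣ orderOf g := by
    exact (orderOf_map_dvd f _).trans (by rw [← Subgroup.orderOf_coe])
  have h2 : orderOf (f ⟨g, hg⟩) ∣ 2 ^ (k - 1) := by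
    have := orderOf_dvd_natCard (f ⟨g, hg⟩)
    rw [IsCyclic.card_mulAut, Nat.card_zpowers, hd] at this
    rcases k with _ | k
    · simpa using this
    · rwa [Nat.totient_prime_pow Nat.prime_two (by omega), show 2 - 1 = 1 from rfl, mul_one] at this
  have h3 : orderOf (f ⟨g, hg⟩) = 1 :=
    Nat.eq_one_of_dvd_coprimes (Nat.Coprime.pow_right _ ho) h1 h2
  have h4 : (⟨g, hg⟩ : normalizer (zpowers d : Set G)) ∈ f.ker := orderOf_eq_one_iff.1 h3
  rw [normalizerMonoidHom_ker] at h4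
  exact h4

namespace QData

variable [Finite G] {S : Sylow 2 G} {n : ℕ} {a x : G} (h : QData (S : Subgroup G) n a x)
include h

theorem conj_two_subgroup {Q : Subgroup G} (hQ : IsPGroup 2 Q)
    (hQC : Q ≤ centralizer (zpowers (a ^ 2) : Set G)) :
    ∃ g ∈ normalizer (zpowers (a ^ 2) : Set G), ∀ y ∈ Q, g * y * g⁻¹ ∈ zpowers a := by
  obtain ⟨g, hg, hgQ⟩ := exists_conj_le_sylow_in S h.le_N hQ (hQC.trans (centralizer_le_normalizer _))
  refine ⟨g, hg, fun y hy => ?_⟩
  rw [← h.inf_C]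
  exact ⟨hgQ y hy, (mem_normalizer_iff.1 (normalizer_le_normalizer_centralizer' _ hg) y).1 (hQC hy)⟩

theorem odd_K : Odd (Nat.card (oddPart (centralizer (zpowers (a ^ 2) : Set G)))) :=
  odd_card_oddPart fun _ hQC hQ =>
    let ⟨_, _, hg⟩ := h.conj_two_subgroup hQ hQC
    isCyclic_of_conj_le_zpowers hg

theorem oddPart_N : oddPart (normalizer (zpowers (a ^ 2) : Set G)) =
    oddPart (centralizer (zpowers (a ^ 2) : Set G)) := by
  unfold oddPart
  congr 1
  ext g
  exact ⟨fun hg => ⟨mem_centralizer_of_odd_of_cyclic h.orderOf_sq hg.1 hg.2, hg.2⟩,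
    fun hg => ⟨centralizer_le_normalizer _ hg.1, hg.2⟩⟩

theorem K_sup_S : oddPart (centralizer (zpowers (a ^ 2) : Set G)) ⊔ S =
    normalizer (zpowers (a ^ 2) : Set G) := by
  rw [← h.oddPart_N, oddPart_sup_sylow S h.le_N]

omit h [Finite G] in
theorem N_le_NK : normalizer (zpowers (a ^ 2) : Set G) ≤
    normalizer (oddPart (centralizer (zpowers (a ^ 2) : Set G)) : Set G) :=
  (normalizer_le_normalizer_centralizer' _).trans (normalizer_le_normalizer_oddPart _)

theorem exists_mul_of_mem_N {g : G} (hg : g ∈ normalizer (zpowers (a ^ 2) : Set G)) :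
    ∃ k ∈ oddPart (centralizer (zpowers (a ^ 2) : Set G)), ∃ s ∈ S, g = k * s := by
  rw [← h.K_sup_S] at hg
  have : g ∈ ((oddPart (centralizer (zpowers (a ^ 2) : Set G)) ⊔ S : Subgroup G) : Set G) := hg
  rw [coe_mul_of_right_le_normalizer_left _ _ (h.le_N.trans N_le_NK)] at this
  obtain ⟨k, hk, s, hs, rfl⟩ := this
  exact ⟨k, hk, s, hs, rfl⟩

theorem exists_mul_of_mem_C {g : G} (hg : g ∈ centralizer (zpowers (a ^ 2) : Set G)) :
    ∃ k ∈ oddPart (centralizer (zpowers (a ^ 2) : Set G)), ∃ s ∈ zpowers a, g = k * s := by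
  obtain ⟨k, hk, s, hs, rfl⟩ := h.exists_mul_of_mem_N (centralizer_le_normalizer _ hg)
  refine ⟨k, hk, s, ?_, rfl⟩
  rw [← h.inf_C]
  exact ⟨hs, (mul_mem_cancel_left (oddPart_le _ hk)).1 hg⟩

theorem K_sup_a : oddPart (centralizer (zpowers (a ^ 2) : Set G)) ⊔ zpowers a =
    centralizer (zpowers (a ^ 2) : Set G) := by
  refine le_antisymm (sup_le (oddPart_le _) zp_le_C) fun g hg => ?_
  obtain ⟨k, hk, s, hs, rfl⟩ := h.exists_mul_of_mem_C hg
  exact mul_mem_sup hk hs

theorem mem_N_iff {g : G} : g ∈ normalizer (zpowers (a ^ 2) : Set G) ↔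
    g ∈ centralizer (zpowers (a ^ 2) : Set G) ∨ x⁻¹ * g ∈ centralizer (zpowers (a ^ 2) : Set G) := by
  constructor
  · intro hg
    obtain ⟨k, hk, s, hs, rfl⟩ := h.exists_mul_of_mem_N hg
    rcases (h.mem s).1 hs with h1 | h1
    · exact Or.inl (mul_mem (oddPart_le _ hk) (zp_le_C h1))
    · refine Or.inr ?_
      have h2 := ((mem_normalizer_iff'').1 (normalizer_le_normalizer_centralizer' _
        (h.le_N h.x_mem)) k).1 (oddPart_le _ hk)
      have : x⁻¹ * (k * s) = x⁻¹ * k * x * (x⁻¹ * s) := by group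
      rw [this]; exact mul_mem h2 (zp_le_C h1)
  · rintro (hg | hg)
    · exact centralizer_le_normalizer _ hg
    · exact (mul_mem_cancel_left (inv_mem (h.le_N h.x_mem))).1 (centralizer_le_normalizer _ hg)

theorem index_C : ((centralizer (zpowers (a ^ 2) : Set G)).subgroupOf
    (normalizer (zpowers (a ^ 2) : Set G))).index = 2 := by
  rw [index_eq_two_iff']
  refine ⟨⟨x⁻¹, inv_mem (h.le_N h.x_mem)⟩, fun b => ?_⟩
  simp only [mem_subgroupOf, coe_mul]
  rcases h.mem_N_iff.1 b.2 with h1 | h1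
  · exact Or.inr ⟨h1, fun h2 => h.x_nmem_C (inv_mem_iff.1 ((mul_mem_cancel_right h1).1 h2))⟩
  · exact Or.inl ⟨h1, fun h2 => h.x_nmem_C (inv_mem_iff.1 ((mul_mem_cancel_right h2).1 h1))⟩

theorem D_le_zpowers {y : G} (hy : y ∈ centralizer (zpowers (a ^ 2) : Set G))
    (hd : 2 ^ (n + 2) ∣ orderOf y) : zpowers (a ^ 2) ≤ zpowers y := by
  -- the subgroup of order `2 ^ (n + 2)` of `⟨y⟩`
  have ho : orderOf (y ^ (orderOf y / 2 ^ (n + 2))) = 2 ^ (n + 2) :=
    orderOf_pow_orderOf_div (orderOf_pos y).ne' hd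
  set u := y ^ (orderOf y / 2 ^ (n + 2)) with hu
  have hQ : IsPGroup 2 (zpowers u) := IsPGroup.of_card (by rw [Nat.card_zpowers, ho])
  obtain ⟨g, hg, hgu⟩ := h.conj_two_subgroup hQ (zpowers_le.2 (pow_mem hy _))
  have h1 : zpowers (g * u * g⁻¹) = zpowers (a ^ 2) :=
    zpowers_eq_of_le_of_card (zpowers_le.2 (hgu u (mem_zpowers u)))
      (zpowers_le.2 (pow_mem (mem_zpowers a) 2))
      (by rw [Nat.card_zpowers, H6.orderOf_conj, ho, h.card_D])
  intro d hd
  have h2 := (mem_normalizer_iff.1 hg d).1 hd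
  rw [← h1] at h2
  obtain ⟨k, hk⟩ := h2
  simp only [conj_zpow, mul_left_inj, mul_right_inj] at hk
  rw [← hk]
  exact zpow_mem (pow_mem (mem_zpowers y) _) _

theorem mem_N_of_conj {g y : G} (hy : y ∈ centralizer (zpowers (a ^ 2) : Set G))
    (hd : 2 ^ (n + 2) ∣ orderOf y) (hg : g * y * g⁻¹ ∈ centralizer (zpowers (a ^ 2) : Set G)) :
    g ∈ normalizer (zpowers (a ^ 2) : Set G) := by
  have h1 := h.D_le_zpowers hy hd
  have h2 := h.D_le_zpowers hg (by rwa [H6.orderOf_conj])
  have h3 : zpowers (g * a ^ 2 * g⁻¹) = zpowers (a ^ 2) := by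
    refine zpowers_eq_of_le_of_card ?_ h2 (by simp only [Nat.card_zpowers, H6.orderOf_conj])
    obtain ⟨k, hk⟩ := h1 (mem_zpowers _)
    simp only at hk
    rw [zpowers_le, ← hk, ← conj_zpow]
    exact zpow_mem (mem_zpowers _) _
  apply mem_normalizer_fintype
  rintro _ ⟨k, rfl⟩
  simp only [SetLike.mem_coe]
  rw [← conj_zpow, ← h3]
  exact zpow_mem (mem_zpowers _) _

/-- Commuting involutions coincide. -/
theorem eq_of_commute {s t : G} (hs : orderOf s = 2) (ht : orderOf t = 2) (hst : Commute s t) :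
    s = t := by
  have hQ : IsPGroup 2 (zpowers s ⊔ zpowers t : Subgroup G) := by
    refine IsPGroup.to_sup_of_normal_right' (H6.isPGroup_zpowers_of_orderOf_two hs)
      (H6.isPGroup_zpowers_of_orderOf_two ht) ?_
    refine le_trans ?_ (centralizer_le_normalizer _)
    rintro _ ⟨k, rfl⟩ _ ⟨l, rfl⟩
    exact (hst.zpow_zpow k l).eq.symm
  obtain ⟨g, hg⟩ := H6.exists_conj_le_sylow S hQ
  have h1 := h.eq_z (hg s (mem_sup_left (mem_zpowers s))) (by rwa [H6.orderOf_conj])
  have h2 := h.eq_z (hg t (mem_sup_right (mem_zpowers t))) (by rwa [H6.orderOf_conj])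
  simpa using h1.trans h2.symm

/-- The product of two involutions has odd order. -/
theorem odd_mul {s t : G} (hs : orderOf s = 2) (ht : orderOf t = 2) : Odd (orderOf (s * t)) := by
  by_contra hodd
  have he := Nat.not_odd_iff_even.1 hodd
  obtain ⟨h1, h2, h3⟩ := H6.central_involution (H6.mul_self_of_orderOf_two hs)
    (H6.mul_self_of_orderOf_two ht) he
  have h4 := (h.eq_of_commute h1 hs h2).symm.trans (h.eq_of_commute h1 ht h3)
  subst h4
  rw [H6.mul_self_of_orderOf_two hs, orderOf_one] at he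
  exact absurd he (by decide)

end QData

end H5
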