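import Mathlib
import Cfsg.Agent.H2.MinNormal

/-! Chief factors above a normal subgroup with solvable quotient, stated inside the group. -/

set_option autoImplicit false
open scoped commutatorElement

namespace H5

variable {G : Type*} [Group G]

/-- `G` is solvable modulo `N`: some term of the derived series lies in `N`. -/
def SolvMod (N : Subgroup G) : Prop := ∃ k, derivedSeries G k ≤ N

theorem SolvMod.mono {N M : Subgroup G} (h : SolvMod N) (hle : N ≤ M) : SolvMod M :=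
  h.imp fun _ hk => hk.trans hle

theorem SolvMod.comap {Γ : Type*} [Group Γ] {N : Subgroup G} (h : SolvMod N) (f : Γ →* G) :
    SolvMod (N.comap f) := by
  obtain ⟨k, hk⟩ := h
  exact ⟨k, Subgroup.map_le_iff_le_comap.mp ((map_derivedSeries_le_derivedSeries f k).trans hk)⟩

theorem solvMod_of_isSolvable [h : Group.IsSolvable G] (N : Subgroup G) : SolvMod N := by
  obtain ⟨k, hk⟩ := h.solvable
  exact ⟨k, by rw [hk]; exact bot_le⟩

theorem solvMod_iff (N : Subgroup G) [N.Normal] : SolvMod N ↔ Group.IsSolvable (G ⧸ N) := by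
  constructor
  · rintro ⟨k, hk⟩
    refine ⟨⟨k, ?_⟩⟩
    rw [← map_derivedSeries_eq (QuotientGroup.mk'_surjective N), H2.map_mk'_eq_bot_iff]
    exact hk
  · intro h
    have := (solvMod_of_isSolvable (⊥ : Subgroup (G ⧸ N))).comap (QuotientGroup.mk' N)
    rwa [MonoidHom.comap_bot, QuotientGroup.ker_mk'] at this

/-- `K / L` is a chief factor of `G`. -/
structure IsChief (L K : Subgroup G) : Prop where
  normal_left : L.Normal
  normal_right : K.Normal
  lt : L < K
  eq_or_eq : ∀ M : Subgroup G, M.Normal → L ≤ M → M ≤ K → M = L ∨ M = K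

theorem exists_isChief_above [Finite G] (L M : Subgroup G) [hL : L.Normal] [hM : M.Normal]
    (h : L < M) : ∃ K, IsChief L K ∧ K ≤ M := by
  obtain ⟨K, ⟨h1, h2, h3⟩, hmin⟩ := exists_minimal_of_wellFoundedLT
    (fun K : Subgroup G => K.Normal ∧ L < K ∧ K ≤ M) ⟨M, hM, h, le_rfl⟩
  refine ⟨K, ⟨hL, h1, h2, fun X hX h4 h5 => ?_⟩, h3⟩
  rcases h4.eq_or_lt with h6 | h6
  · exact Or.inl h6.symm
  · exact Or.inr (le_antisymm h5 (hmin ⟨hX, h6, h5.trans h3⟩ h5))

theorem exists_isChief_below [Finite G] (N K : Subgroup G) [hN : N.Normal] [hK : K.Normal]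
    (h : N < K) : ∃ L, IsChief L K ∧ N ≤ L := by
  obtain ⟨L, ⟨h1, h2, h3⟩, hmax⟩ := exists_maximal_of_wellFoundedGT
    (fun L : Subgroup G => L.Normal ∧ L < K ∧ N ≤ L) ⟨N, hN, h, le_rfl⟩
  refine ⟨L, ⟨h1, hK, h2, fun X hX h4 h5 => ?_⟩, h3⟩
  rcases h5.eq_or_lt with h6 | h6
  · exact Or.inr h6
  · exact Or.inl (le_antisymm (hmax ⟨hX, h6, h3.trans h4⟩ h4) h4)

theorem IsChief.isMinNormal {L K : Subgroup G} [L.Normal] (h : IsChief L K) :
    H2.IsMinNormal (K.map (QuotientGroup.mk' L)) := by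
  have := h.normal_right
  refine ⟨Subgroup.Normal.map inferInstance _ (QuotientGroup.mk'_surjective L), ?_, ?_⟩
  · rw [Ne, H2.map_mk'_eq_bot_iff]; exact not_le_of_gt h.lt
  · intro M hM hle
    have h1 : M.comap (QuotientGroup.mk' L) ≤ K := by
      have := Subgroup.comap_mono (f := QuotientGroup.mk' L) hle
      rwa [H2.comap_map_mk', sup_eq_left.mpr h.lt.le] at this
    rcases h.eq_or_eq _ (hM.comap _) (H2.le_comap_mk' L M) h1 with h2 | h2
    · left; rw [← H2.map_comap_mk' L M, h2, H2.map_mk'_eq_bot_iff]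
    · right; rw [← H2.map_comap_mk' L M, h2]

theorem IsChief.commutator_le {L K : Subgroup G} (h : IsChief L K) (hs : SolvMod L) :
    ⁅K, K⁆ ≤ L := by
  have := h.normal_left
  have := (solvMod_iff L).mp hs
  have h1 := h.isMinNormal.isMulCommutative inferInstance
  rw [← H2.map_mk'_eq_bot_iff, Subgroup.map_commutator, Subgroup.commutator_eq_bot_iff_le_centralizer]
  exact Subgroup.le_centralizer _

theorem IsChief.exists_prime [Finite G] {L K : Subgroup G} [L.Normal] (h : IsChief L K)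
    (hs : SolvMod L) : ∃ p : ℕ, p.Prime ∧ IsPGroup p (K.map (QuotientGroup.mk' L)) ∧
      ∃ a, L.relIndex K = p ^ a := by
  have := (solvMod_iff L).mp hs
  obtain ⟨p, hp, h1⟩ := h.isMinNormal.exists_isPGroup inferInstance
  have := Fact.mk hp
  exact ⟨p, hp, h1, by rw [H2.relIndex_eq_card_map_mk']; exact h1.exists_card_eq⟩

theorem commutator_le_iff' {A B L : Subgroup G} :
    ⁅A, B⁆ ≤ L ↔ ∀ a ∈ A, ∀ b ∈ B, a * b * a⁻¹ * b⁻¹ ∈ L := Subgroup.commutator_le

/-- A subgroup between `L` and `G` normalised by `H` and by `K` is normal when `G = HK`. -/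
theorem normal_of_mul_eq_top {H K Q : Subgroup G} (hHK : ∀ g : G, ∃ h ∈ H, ∃ k ∈ K, g = h * k)
    (h1 : ∀ h ∈ H, ∀ x ∈ Q, h * x * h⁻¹ ∈ Q) (h2 : ∀ k ∈ K, ∀ x ∈ Q, k * x * k⁻¹ ∈ Q) :
    Q.Normal := by
  refine ⟨fun x hx g => ?_⟩
  obtain ⟨h, hh, k, hk, rfl⟩ := hHK g
  have := h1 h hh _ (h2 k hk x hx)
  simpa [mul_assoc] using this

theorem exists_mul_of_sup_eq_top {H K : Subgroup G} [K.Normal] (h : H ⊔ K = ⊤) (g : G) :
    ∃ x ∈ H, ∃ k ∈ K, g = x * k := by
  have : g ∈ (↑(H ⊔ K) : Set G) := by rw [h]; trivial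
  rw [Subgroup.mul_normal] at this
  obtain ⟨x, hx, k, hk, rfl⟩ := this
  exact ⟨x, hx, k, hk, rfl⟩

theorem exists_mul_of_sup_eq_top' {H K : Subgroup G} [hK : K.Normal] (h : H ⊔ K = ⊤) (g : G) :
    ∃ k ∈ K, ∃ x ∈ H, g = k * x := by
  obtain ⟨x, hx, k, hk, rfl⟩ := exists_mul_of_sup_eq_top h g
  exact ⟨x * k * x⁻¹, hK.conj_mem k hk x, x, hx, by simp⟩

/-- A maximal subgroup with core `L` complements a chief factor `K / L` (solvable case). -/
theorem IsChief.compl_of_isCoatom {H K : Subgroup G} (hH : IsCoatom H)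
    (h : IsChief H.normalCore K) (hs : SolvMod H.normalCore) :
    H ⊔ K = ⊤ ∧ H ⊓ K = H.normalCore := by
  have := h.normal_right
  have h1 : ¬ K ≤ H := fun hle => not_le_of_gt h.lt (Subgroup.normal_le_normalCore.mpr hle)
  have h2 : H ⊔ K = ⊤ := hH.2 _ (lt_of_le_of_ne le_sup_left fun e => h1 (e ▸ le_sup_right))
  refine ⟨h2, le_antisymm ?_ (le_inf H.normalCore_le h.lt.le)⟩
  have h3 : (H ⊓ K).Normal := by
    refine normal_of_mul_eq_top (exists_mul_of_sup_eq_top h2) (fun a ha x hx =>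
      ⟨H.mul_mem (H.mul_mem ha hx.1) (H.inv_mem ha), this.conj_mem x hx.2 a⟩)
      (fun k hk x hx => ⟨?_, this.conj_mem x hx.2 k⟩)
    have h4 := commutator_le_iff'.mp (h.commutator_le hs) k hk x hx.2
    simpa using H.mul_mem (H.normalCore_le h4) hx.1
  exact Subgroup.normal_le_normalCore.mpr inf_le_left

/-- A normal `p`-subgroup modulo `L` centralises a chief `p`-factor `K / L`. -/
theorem IsChief.commutator_le_of_isPGroup [Finite G] {L K M : Subgroup G} [L.Normal] [hM : M.Normal]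
    (h : IsChief L K) {p : ℕ} (hp : p.Prime) (hMp : IsPGroup p (M.map (QuotientGroup.mk' L))) :
    ⁅K, M⁆ ≤ L := by
  have := Fact.mk hp
  have h1 := h.isMinNormal.le_centralizer_of_isNilpotent
    (Subgroup.Normal.map hM _ (QuotientGroup.mk'_surjective L)) hMp.isNilpotent
  rw [← H2.map_mk'_eq_bot_iff, Subgroup.map_commutator,
    Subgroup.commutator_eq_bot_iff_le_centralizer]
  exact h1

end H5
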