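import Mathlib

/-! Non-unital rings of functions: products of `(c - f)` (Banaschewski-type lemmas). -/

set_option autoImplicit false

namespace H5

/-- If `R` is an additive subgroup of a commutative ring, closed under products, then
`∏ (c i - f i) - ∏ c i ∈ R` for integers `c i` and `f i ∈ R`. -/
theorem prod_sub_mem_of_mul_closed {A : Type*} [CommRing A] (R : AddSubgroup A)
    (hmul : ∀ f ∈ R, ∀ g ∈ R, f * g ∈ R) {ι : Type*} (s : Finset ι) (c : ι → ℤ) (f : ι → A)
    (hf : ∀ i ∈ s, f i ∈ R) :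
    ∏ i ∈ s, ((c i : A) - f i) - ((∏ i ∈ s, c i : ℤ) : A) ∈ R := by
  classical
  induction s using Finset.induction_on with
  | empty => simp
  | insert a s ha ih =>
    rw [Finset.prod_insert ha, Finset.prod_insert ha]
    have h1 := ih (fun i hi => hf i (Finset.mem_insert_of_mem hi))
    have h2 := hf a (Finset.mem_insert_self _ _)
    set P := ∏ i ∈ s, ((c i : A) - f i)
    set C : ℤ := ∏ i ∈ s, c i
    have : ((c a : A) - f a) * P - ((c a * C : ℤ) : A)
        = c a • (P - (C : A)) - f a * (P - (C : A)) - C • f a := by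
      simp only [zsmul_eq_mul]; push_cast; ring
    rw [this]
    exact R.sub_mem (R.sub_mem (R.zsmul_mem h1 _) (hmul _ h2 _ h1)) (R.zsmul_mem h2 _)

/-- If for every point `x` some `f x ∈ R` takes the integer value `c x` at `x`, then the constant
`∏ c x` lies in `R`. -/
theorem const_prod_mem_of_mul_closed {S K : Type*} [Fintype S] [CommRing K]
    (R : AddSubgroup (S → K)) (hmul : ∀ f ∈ R, ∀ g ∈ R, f * g ∈ R) (c : S → ℤ) (f : S → S → K)
    (hf : ∀ x, f x ∈ R) (hc : ∀ x, f x x = c x) :
    (((∏ x, c x : ℤ) : S → K)) ∈ R := by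
  have h := prod_sub_mem_of_mul_closed R hmul Finset.univ c f (fun i _ => hf i)
  have h0 : ∏ i : S, ((c i : S → K) - f i) = 0 := by
    funext x
    rw [Finset.prod_apply]
    exact Finset.prod_eq_zero (Finset.mem_univ x) (by simp [hc x])
  rw [h0, zero_sub] at h
  simpa using R.neg_mem h

/-- An additive subgroup of `ℤ` not contained in `pℤ` for any prime `p` contains `1`. -/
theorem one_mem_of_forall_prime (I : AddSubgroup ℤ)
    (h : ∀ p : ℕ, p.Prime → ∃ m ∈ I, ¬ (p : ℤ) ∣ m) : (1 : ℤ) ∈ I := by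
  obtain ⟨a, ha⟩ := Int.subgroup_cyclic I
  have hdiv : ∀ m ∈ I, a ∣ m := by
    intro m hm
    rw [ha, AddSubgroup.mem_closure_singleton] at hm
    obtain ⟨n, rfl⟩ := hm
    exact Dvd.intro_left n (by simp)
  have haI : a ∈ I := by rw [ha]; exact AddSubgroup.subset_closure rfl
  by_cases h1 : a.natAbs = 1
  · rcases Int.natAbs_eq_iff.mp h1 with h2 | h2
    · simpa [h2] using haI
    · have := I.neg_mem haI
      simpa [h2] using this
  · obtain ⟨p, hp, hpa⟩ := Nat.exists_prime_and_dvd h1
    obtain ⟨m, hm, hpm⟩ := h p hp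
    exact absurd ((Int.natCast_dvd.mpr hpa).trans (hdiv m hm)) hpm

end H5
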