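import Mathlib
import Cfsg.Prelude.Def_Characters
import Cfsg.Prelude.Def_CharExt
import Cfsg.Agent.H4.Core
import Cfsg.Agent.H4.Central
import Cfsg.Agent.H5.CharBasic
import Cfsg.Agent.H5.Clifford
import Cfsg.Agent.H5.Kernel
import Cfsg.Agent.H5.RingFun

/-! Character triples: an invariant irreducible character `θ` of `N ⊲ G` extends to a finite
central extension `Γ` of `G`.  Extension theorems. -/

set_option autoImplicit false
open Cfsg H4 Module
open scoped ComplexConjugate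

namespace H5

universe u

theorem nonempty_equiv_of_char_eq {G : Type*} [Group G] [Finite G] {V W : Type*} [AddCommGroup V]
    [Module ℂ V] [FiniteDimensional ℂ V] [AddCommGroup W] [Module ℂ W] [FiniteDimensional ℂ W]
    (ρ : Representation ℂ G V) (σ : Representation ℂ G W) [ρ.IsIrreducible] [σ.IsIrreducible]
    (h : ρ.character = σ.character) : Nonempty (ρ.Equiv σ) := by
  have := Fintype.ofFinite G
  by_contra hc
  have : IsEmpty (ρ.Equiv σ) := not_nonempty_iff.mp hc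
  have h1 := rep_classInner_eq_finrank ρ σ
  rw [← h, (isIrrCharacter_of_rep ρ).inner_self] at h1
  simp [finrank_eq_zero_of_subsingleton] at h1

theorem irreducible_comp_equiv {G H : Type*} [Group G] [Group H] {V : Type*} [AddCommGroup V]
    [Module ℂ V] (ρ : Representation ℂ G V) [h : ρ.IsIrreducible] (e : H ≃* G) :
    Representation.IsIrreducible (ρ.comp e.toMonoidHom) := by
  let φ : Subrepresentation ρ ≃o Subrepresentation (ρ.comp e.toMonoidHom) :=
    { toFun := fun U => ⟨U.toSubmodule, fun g v hv => U.apply_mem_toSubmodule (e g) hv⟩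
      invFun := fun U => ⟨U.toSubmodule, fun g v hv => by
        simpa using U.apply_mem_toSubmodule (e.symm g) hv⟩
      left_inv := fun U => rfl
      right_inv := fun U => rfl
      map_rel_iff' := Iff.rfl }
  exact φ.isSimpleOrder_iff.mp h

/-- Gallagher's theorem along a homomorphism with normal range. -/
theorem gallagher_exists_hom {Γ N : Type*} [Group Γ] [Finite Γ] [Group N] [Fintype N]
    (f : N →* Γ) (hf : f.range.Normal) {χ : Γ → ℂ} (hχ : IsCharacter Γ χ)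
    (hχN : IsIrrCharacter N (fun n => χ (f n))) {ψ : Γ → ℂ} (hψ : IsIrrCharacter Γ ψ)
    (h : classInner (fun n => ψ (f n)) (fun n => χ (f n)) ≠ 0) :
    ∃ β, IsIrrCharacter Γ β ∧ (∀ n, β (f n) = β 1) ∧ ψ = β * χ := by
  classical
  have := Fintype.ofFinite Γ
  obtain ⟨β, h1, h2, h3⟩ := gallagher_exists f.range hχ
    (isIrr_of_comp f.rangeRestrict (hχ.restrict _) hχN) hψ (by
      rw [← classInner_comp_surjective f.rangeRestrict f.rangeRestrict_surjective]
      exact h)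
  exact ⟨β, h1, fun n => h2 _ ⟨n, rfl⟩, h3⟩

theorem gallagher_isIrr_hom {Γ N : Type*} [Group Γ] [Finite Γ] [Group N] [Finite N]
    (f : N →* Γ) (hf : f.range.Normal) {χ : Γ → ℂ} (hχ : IsCharacter Γ χ)
    (hχN : IsIrrCharacter N (fun n => χ (f n))) {β : Γ → ℂ} (hβ : IsIrrCharacter Γ β)
    (h : ∀ n, β (f n) = β 1) : IsIrrCharacter Γ (β * χ) := by
  have := Fintype.ofFinite Γ
  exact gallagher_isIrr f.range hχ (isIrr_of_comp f.rangeRestrict (hχ.restrict _) hχN) hβ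
    (by rintro _ ⟨n, rfl⟩; exact h n)

theorem gallagher_injective_hom {Γ N : Type*} [Group Γ] [Finite Γ] [Group N] [Finite N]
    (f : N →* Γ) (hf : f.range.Normal) {χ : Γ → ℂ} (hχ : IsCharacter Γ χ)
    (hχN : IsIrrCharacter N (fun n => χ (f n))) {β γ : Γ → ℂ} (hβ : IsIrrCharacter Γ β)
    (h : ∀ n, β (f n) = β 1) (hγ : IsIrrCharacter Γ γ) (h' : ∀ n, γ (f n) = γ 1)
    (e : β * χ = γ * χ) : β = γ := by
  have := Fintype.ofFinite Γ
  exact gallagher_injective f.range hχ (isIrr_of_comp f.rangeRestrict (hχ.restrict _) hχN) hβ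
    (by rintro _ ⟨n, rfl⟩; exact h n) hγ (by rintro _ ⟨n, rfl⟩; exact h' n) e

/-- Two extensions of the same irreducible character differ by a linear character. -/
theorem exists_linear_of_ext_hom {Γ N : Type*} [Group Γ] [Finite Γ] [Group N] [Finite N]
    (f : N →* Γ) (hf : f.range.Normal) {χ ψ : Γ → ℂ} (hχ : IsCharacter Γ χ) (hψ : IsCharacter Γ ψ)
    (hχN : IsIrrCharacter N (fun n => χ (f n))) (h : ∀ n, ψ (f n) = χ (f n)) :
    ∃ β : Γ →* ℂˣ, (∀ n, β (f n) = 1) ∧ ∀ x, ψ x = β x * χ x := by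
  have := Fintype.ofFinite N
  have h1 : (fun n => ψ (f n)) = fun n => χ (f n) := funext h
  obtain ⟨β, h2, h3, h4⟩ := gallagher_exists_hom f hf hχ hχN
    (isIrr_of_comp f hψ (h1 ▸ hχN)) (by rw [h1, hχN.inner_self]; exact one_ne_zero)
  have h5 : β 1 = 1 := by
    have h6 := congrFun h4 1
    have h7 := h 1
    have h8 := hχN.apply_one_ne_zero
    simp only [map_one, Pi.mul_apply] at h6 h7 h8
    apply mul_right_cancel₀ h8
    rw [← h6, h7, one_mul]
  obtain ⟨b, rfl⟩ := h2.isCharacter.exists_linear h5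
  refine ⟨b, fun n => Units.ext ?_, fun x => congrFun h4 x⟩
  simpa using h3 n

/-- A finite central extension `Γ` of `G`, containing a normal copy of `N`, to which `θ`
extends. -/
structure Triple {G : Type u} [Group G] (N : Subgroup G) [hN : N.Normal] (θ : N → ℂ) where
  θ_irr : IsIrrCharacter N θ
  /-- the central extension -/
  Γ : Type u
  [grp : Group Γ]
  [fin : Fintype Γ]
  /-- the projection -/
  π : Γ →* G
  π_surj : Function.Surjective π
  central : π.ker ≤ Subgroup.center Γ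
  /-- the lift of `N` -/
  ι : N →* Γ
  π_ι : ∀ n, π (ι n) = n
  conj_ι : ∀ (γ : Γ) (n : N),
    γ * ι n * γ⁻¹ = ι ⟨π γ * n * (π γ)⁻¹, hN.conj_mem _ n.2 _⟩
  /-- the extension of `θ` -/
  Ψ : Γ → ℂ
  Ψ_irr : IsIrrCharacter Γ Ψ
  Ψ_ι : ∀ n, Ψ (ι n) = θ n
  /-- the central character -/
  lam : π.ker →* ℂˣ
  Ψ_mul : ∀ (z : π.ker) (x : Γ), Ψ (z * x) = lam z * Ψ x

attribute [instance] Triple.grp Triple.fin

theorem finite_setOf_pow_eq_one {k : ℕ} (hk : k ≠ 0) : {c : ℂ | c ^ k = 1}.Finite := by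
  refine (Polynomial.nthRoots k (1 : ℂ)).toFinset.finite_toSet.subset fun c hc => ?_
  simpa [Polynomial.mem_nthRoots (Nat.pos_of_ne_zero hk)] using hc

theorem exists_triple {G : Type u} [Group G] [Finite G] (N : Subgroup G) [hN : N.Normal]
    {θ : N → ℂ} (hθ : IsIrrCharacter N θ) (hinv : ∀ g, cj N g θ = θ) :
    Nonempty (Triple N θ) := by
  classical
  have hθ' := hθ
  obtain ⟨d, ρ, hρ, rfl⟩ := hθ
  have hd : 0 < d := by simpa using finrank_pos_of_irreducible ρ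
  set m := Nat.card N with hm
  have hm0 : m ≠ 0 := Nat.card_pos.ne'
  let E := Module.End ℂ (Fin d → ℂ)
  let Γ : Subgroup (G × Eˣ) :=
    { carrier := {p | (∀ x : N, (p.2 : E) * ρ x = ρ (MulAut.conjNormal p.1 x) * p.2) ∧
        LinearMap.det (p.2 : E) ^ m = 1}
      one_mem' := ⟨fun x => by simp, by simp⟩
      mul_mem' := by
        rintro a b ⟨ha, ha'⟩ ⟨hb, hb'⟩
        refine ⟨fun x => ?_, ?_⟩
        · simp only [Prod.snd_mul, Units.val_mul, Prod.fst_mul, map_mul, MulAut.mul_apply]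
          rw [mul_assoc, hb, ← mul_assoc, ha, mul_assoc]
        · simp only [Prod.snd_mul, Units.val_mul, map_mul, mul_pow, ha', hb', mul_one]
      inv_mem' := by
        rintro a ⟨ha, ha'⟩
        refine ⟨fun x => ?_, ?_⟩
        · have := ha (MulAut.conjNormal a.1⁻¹ x)
          simp only [map_inv, MulAut.apply_inv_self] at this
          simp only [Prod.snd_inv, Prod.fst_inv, map_inv]
          rw [Units.inv_mul_eq_iff_eq_mul, ← mul_assoc, this, mul_assoc, Units.mul_inv, mul_one]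
        · have h1 : LinearMap.det ((a.2⁻¹ : Eˣ) : E) * LinearMap.det (a.2 : E) = 1 := by
            rw [← map_mul, Units.inv_mul, map_one]
          have h2 := congrArg (· ^ m) h1
          simp only [mul_pow, ha', mul_one, one_pow] at h2
          exact h2 }
  let π : Γ →* G := (MonoidHom.fst G Eˣ).comp Γ.subtype
  have hπ : ∀ γ : Γ, π γ = γ.1.1 := fun _ => rfl
  have hscal : ∀ z : Γ, z ∈ π.ker → ∃ c : ℂ, (z.1.2 : E) = c • (1 : E) ∧ c ^ (d * m) = 1 := by
    intro z hz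
    have h1 : z.1.1 = 1 := hz
    obtain ⟨c, hc⟩ := schur_scalar ρ (z.1.2 : E) (fun x => by
      have := z.2.1 x
      rw [h1, map_one, MulAut.one_apply] at this
      exact this)
    refine ⟨c, hc, ?_⟩
    have := z.2.2
    rw [hc, LinearMap.det_smul] at this
    simpa [pow_mul] using this
  have hsurj : Function.Surjective π := by
    intro g
    have := irreducible_comp_equiv ρ (MulAut.conjNormal g : N ≃* N)
    obtain ⟨φ⟩ := nonempty_equiv_of_char_eq ρ (ρ.comp (MulAut.conjNormal g : N ≃* N).toMonoidHom)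
      (hinv g).symm
    let T : Eˣ := LinearMap.GeneralLinearGroup.ofLinearEquiv φ.toLinearEquiv
    have hT : ∀ x : N, (T : E) * ρ x = ρ (MulAut.conjNormal g x) * T := fun x => φ.1.2 x
    have hdet : LinearMap.det (T : E) ≠ 0 := (T.isUnit.map LinearMap.det).ne_zero
    obtain ⟨c, hc⟩ := IsAlgClosed.exists_pow_nat_eq (LinearMap.det (T : E))⁻¹ hd
    have hc0 : c ≠ 0 := by
      rintro rfl
      rw [zero_pow hd.ne'] at hc
      exact inv_ne_zero hdet hc.symm
    refine ⟨⟨(g, Units.mk0 c hc0 • T), fun x => ?_, ?_⟩, rfl⟩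
    · simp only [Units.val_smul, Units.smul_mk0, smul_mul_assoc, mul_smul_comm, hT]
    · simp only [Units.val_smul, Units.smul_mk0]
      rw [LinearMap.det_smul]
      simp [hc, hdet]
  have hcent : π.ker ≤ Subgroup.center Γ := by
    intro z hz
    obtain ⟨c, hc, -⟩ := hscal z hz
    have h1 : z.1.1 = 1 := hz
    rw [Subgroup.mem_center_iff]
    intro γ
    ext
    · simp [h1]
    · simp [hc]
  have hfin : Finite Γ := by
    rw [MonoidHom.finite_iff_finite_ker_range π]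
    refine ⟨?_, inferInstance⟩
    refine @Finite.of_injective_finite_range _ _ (fun z : π.ker => (z.1.1.2 : E)) ?_ ?_
    · intro a b hab
      have ha : a.1.1.1 = 1 := a.2
      have hb : b.1.1.1 = 1 := b.2
      ext1; ext1
      exact Prod.ext (ha.trans hb.symm) (Units.ext hab)
    · refine ((finite_setOf_pow_eq_one (mul_ne_zero hd.ne' hm0)).image
        (fun c : ℂ => c • (1 : E))).subset ?_
      rintro _ ⟨z, rfl⟩
      obtain ⟨c, hc, hc'⟩ := hscal z.1 z.2
      exact ⟨c, hc', hc.symm⟩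
  let ι : N →* Γ := (N.subtype.prod ρ.asGroupHom).codRestrict Γ (fun n => ⟨fun x => by
      simp only [MonoidHom.prod_apply, Representation.asGroupHom_apply, ← map_mul]
      congr 1
      ext; simp, by
      simp only [MonoidHom.prod_apply, Representation.asGroupHom_apply]
      rw [← map_pow, ← map_pow, hm, pow_card_eq_one', map_one, map_one]⟩)
  let τ : Representation ℂ Γ (Fin d → ℂ) :=
    (Units.coeHom E).comp ((MonoidHom.snd G Eˣ).comp Γ.subtype)
  have hτι : ∀ n, τ.character (ι n) = ρ.character n := fun n => rfl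
  have hτ : IsIrrCharacter Γ τ.character :=
    isIrr_of_comp ι (isCharacter_of_rep τ) (by simpa only [hτι] using hθ')
  obtain ⟨lam, hlam⟩ := exists_linear_on_charCenter hτ.apply_one_ne_zero π.ker
    (hcent.trans (center_le_charCenter hτ))
  refine ⟨@Triple.mk G _ N hN _ hθ' Γ _ (Fintype.ofFinite Γ) π hsurj hcent ι (fun _ => rfl) ?_
    τ.character hτ hτι lam hlam⟩
  intro γ n
  ext
  · rfl
  · have := γ.2.1 n
    change ((γ.1.2 : E) * ρ n * ((γ.1.2)⁻¹ : Eˣ)) _ _ = _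
    rw [this, mul_assoc, Units.mul_inv, mul_one]
    rfl

/-- A linear character of a subgroup extends iff it is trivial on the commutator subgroup. -/
theorem exists_linear_extension {G : Type*} [Group G] [Finite G] (M : Subgroup G) (ν : M →* ℂˣ)
    (h : ∀ m : M, (m : G) ∈ commutator G → ν m = 1) :
    ∃ κ : G →* ℂˣ, ∀ m : M, κ m = ν m := by
  let f : M →* Abelianization G := Abelianization.of.comp M.subtype
  have hker : f.rangeRestrict.ker ≤ ν.ker := by
    intro m hm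
    rw [MonoidHom.ker_rangeRestrict, MonoidHom.mem_ker] at hm
    apply h
    rw [← Abelianization.ker_of]; exact hm
  let ν' : f.range →* ℂˣ :=
    f.rangeRestrict.liftOfSurjective f.rangeRestrict_surjective ⟨ν, hker⟩
  have hν' : ∀ m, ν' (f.rangeRestrict m) = ν m := fun m =>
    MonoidHom.liftOfRightInverse_comp_apply _ _ _ _ m
  have : NeZero ((Monoid.exponent (Abelianization G) : ℕ) : ℂ) :=
    ⟨by exact_mod_cast Monoid.exponent_ne_zero_of_finite⟩
  obtain ⟨κ, hκ⟩ := MonoidHom.domRestrict_surjective ℂ f.range ν'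
  refine ⟨κ.comp Abelianization.of, fun m => ?_⟩
  rw [← hν', ← hκ]; rfl

theorem degree_dvd_index_of_le_charCenter {G : Type*} [Group G] [Finite G] {χ : G → ℂ}
    (hχ : IsIrrCharacter G χ) (Z : Subgroup G) (hZ : Z ≤ charCenter χ) {d : ℕ} (hd : χ 1 = d) :
    d ∣ Z.index :=
  hχ.degree_dvd_index Z (fun _ hz => (mem_charCenter_iff hχ.isCharacter).mp (hZ hz)) hd

namespace Triple

variable {G : Type u} [Group G] {N : Subgroup G} [hN : N.Normal] {θ : N → ℂ} (T : Triple N θ)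

theorem ι_injective : Function.Injective T.ι := fun a b h =>
  Subtype.ext (by rw [← T.π_ι, h, T.π_ι])

theorem range_normal : T.ι.range.Normal :=
  ⟨by rintro _ ⟨n, rfl⟩ γ; exact ⟨_, (T.conj_ι γ n).symm⟩⟩

theorem Ψ_res : (fun n => T.Ψ (T.ι n)) = θ := funext T.Ψ_ι

theorem res_irr : IsIrrCharacter N (fun n => T.Ψ (T.ι n)) := by
  rw [T.Ψ_res]; exact T.θ_irr

theorem Ψ_one : T.Ψ 1 = θ 1 := by rw [← T.Ψ_ι, map_one]

theorem comm {z : T.Γ} (hz : z ∈ T.π.ker) (x : T.Γ) : x * z = z * x :=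
  Subgroup.mem_center_iff.mp (T.central hz) x

theorem mul_inv_ι_mem {γ : T.Γ} (h : T.π γ ∈ N) : γ * (T.ι ⟨T.π γ, h⟩)⁻¹ ∈ T.π.ker := by
  simp [MonoidHom.mem_ker, T.π_ι]

theorem exists_eq_mul {γ : T.Γ} (h : T.π γ ∈ N) : ∃ (z : T.π.ker) (n : N), γ = z * T.ι n :=
  ⟨⟨_, T.mul_inv_ι_mem h⟩, ⟨T.π γ, h⟩, by simp⟩

include T in
theorem finite_G : Finite G := Finite.of_surjective T.π T.π_surj

/-- The linear character `z ι(n) ↦ lam z` of `π⁻¹(N)`. -/
noncomputable def ν : N.comap T.π →* ℂˣ where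
  toFun m := T.lam ⟨_, T.mul_inv_ι_mem m.2⟩
  map_one' := by
    rw [← map_one T.lam]; congr 1; ext
    have : (⟨T.π ((1 : N.comap T.π) : T.Γ), (1 : N.comap T.π).2⟩ : N) = 1 := by ext; simp
    change ((1 : N.comap T.π) : T.Γ) * (T.ι ⟨T.π ((1 : N.comap T.π) : T.Γ), _⟩)⁻¹ = 1
    rw [this]; simp
  map_mul' a b := by
    rw [← map_mul T.lam]; congr 1; ext
    have : (⟨T.π ((a * b : N.comap T.π) : T.Γ), (a * b : N.comap T.π).2⟩ : N)
        = ⟨T.π a, a.2⟩ * ⟨T.π b, b.2⟩ := by ext; simp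
    change ((a * b : N.comap T.π) : T.Γ) * (T.ι ⟨T.π ((a * b : N.comap T.π) : T.Γ), _⟩)⁻¹
      = ((a : T.Γ) * (T.ι ⟨T.π a, a.2⟩)⁻¹) * ((b : T.Γ) * (T.ι ⟨T.π b, b.2⟩)⁻¹)
    rw [this]
    simp only [map_mul, Subgroup.coe_mul, mul_inv_rev]
    have h := T.comm (T.mul_inv_ι_mem b.2) (T.ι ⟨T.π a, a.2⟩)⁻¹
    rw [mul_assoc (a : T.Γ) (T.ι _)⁻¹, h]
    simp only [mul_assoc]

theorem ν_ι (n : N) (h : T.ι n ∈ N.comap T.π) : T.ν ⟨T.ι n, h⟩ = 1 := by
  rw [← map_one T.lam]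
  change T.lam _ = _
  congr 1; ext
  have : (⟨T.π (T.ι n), h⟩ : N) = n := Subtype.ext (T.π_ι n)
  simp [this]

theorem ν_ker (z : T.π.ker) (h : (z : T.Γ) ∈ N.comap T.π) : T.ν ⟨z, h⟩ = T.lam z := by
  change T.lam _ = _
  congr 1; ext
  have : (⟨T.π z, h⟩ : N) = 1 := Subtype.ext z.2
  simp [this]

theorem ι_mem_comap {H : Subgroup G} (hNH : N ≤ H) (n : N) : T.ι n ∈ H.comap T.π := by
  rw [Subgroup.mem_comap, T.π_ι]; exact hNH n.2

theorem ker_mem_comap (H : Subgroup G) (z : T.π.ker) : (z : T.Γ) ∈ H.comap T.π := by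
  rw [Subgroup.mem_comap, MonoidHom.mem_ker.mp z.2]; exact H.one_mem

/-- The exponents `k` such that `ν ^ k` extends to a linear character of `Γ`. -/
def goodExp : AddSubgroup ℤ where
  carrier := {k | ∃ κ : T.Γ →* ℂˣ, (∀ n, κ (T.ι n) = 1) ∧ ∀ z : T.π.ker, κ z = T.lam z ^ k}
  zero_mem' := ⟨1, by simp, by simp⟩
  add_mem' := by
    rintro a b ⟨κ, h1, h2⟩ ⟨κ', h1', h2'⟩
    exact ⟨κ * κ', by simp [h1, h1'], by simp [h2, h2', zpow_add]⟩
  neg_mem' := by
    rintro a ⟨κ, h1, h2⟩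
    exact ⟨κ⁻¹, by simp [h1], by simp [h2]⟩

theorem mem_goodExp {k : ℤ} : k ∈ T.goodExp ↔
    ∃ κ : T.Γ →* ℂˣ, (∀ n, κ (T.ι n) = 1) ∧ ∀ z : T.π.ker, κ z = T.lam z ^ k := Iff.rfl

theorem extends_of_one_mem (h : (1 : ℤ) ∈ T.goodExp) :
    ∃ χ : G → ℂ, IsIrrCharacter G χ ∧ ∀ n : N, χ n = θ n := by
  obtain ⟨κ, h1, h2⟩ := h
  have hirr := isIrr_linear_mul (isIrrCharacter_linear κ⁻¹).isCharacter (by simp) T.Ψ_irr
  obtain ⟨χ, hχ, h3⟩ := exists_irr_deflation T.π T.π_surj hirr (fun z hz x => by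
    have := T.Ψ_mul ⟨z, hz⟩ x
    have h4 := h2 ⟨z, hz⟩
    simp only at this h4
    simp [this, h4]
    field_simp)
  refine ⟨χ, hχ, fun n => ?_⟩
  have := congrFun h3 (T.ι n)
  simp only [Pi.mul_apply, MonoidHom.inv_apply, h1, inv_one, Units.val_one, one_mul, T.π_ι,
    T.Ψ_ι] at this
  exact this.symm

/-- Transfer of a good linear character from `π⁻¹(H)` to `Γ`. -/
theorem index_mul_mem (H : Subgroup G) (hNH : N ≤ H) (κ : H.comap T.π →* ℂˣ) (k : ℤ)
    (h1 : ∀ n, κ ⟨T.ι n, T.ι_mem_comap hNH n⟩ = 1)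
    (h2 : ∀ z : T.π.ker, κ ⟨z, T.ker_mem_comap H z⟩ = T.lam z ^ k) :
    (H.index : ℤ) * k ∈ T.goodExp := by
  refine ⟨MonoidHom.transfer κ, fun n => ?_, fun z => ?_⟩
  · rw [transfer_eq_pow_of κ _ 1, one_pow]
    intro j g h
    have := T.conj_ι g⁻¹ (n ^ j)
    rw [inv_inv, map_pow] at this
    rw [one_pow, ← h1]
    congr 1
    exact Subtype.ext this
  · rw [transfer_eq_pow_of κ _ (T.lam z ^ k), Subgroup.index_comap_of_surjective _ T.π_surj,
      mul_comm, zpow_mul, zpow_natCast]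
    intro j g h
    rw [← h2, ← map_pow]
    congr 1
    ext
    have := T.comm (T.π.ker.pow_mem z.2 j) g
    simp only [SubmonoidClass.mk_pow]
    rw [mul_assoc, ← this, inv_mul_cancel_left]

theorem index_mem : (N.index : ℤ) ∈ T.goodExp := by
  simpa using T.index_mul_mem N le_rfl T.ν 1 (fun n => T.ν_ι n _) (fun z => by
    rw [T.ν_ker, zpow_one])

/-- The lift of `N` as a homomorphism to `π⁻¹(H)`. -/
def ιTo (H : Subgroup G) (hNH : N ≤ H) : N →* H.comap T.π :=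
  T.ι.codRestrict _ (T.ι_mem_comap hNH)

theorem ιTo_range_normal (H : Subgroup G) (hNH : N ≤ H) : (T.ιTo H hNH).range.Normal :=
  ⟨by rintro _ ⟨n, rfl⟩ γ; exact ⟨_, Subtype.ext (T.conj_ι γ n).symm⟩⟩

/-- The projection `π⁻¹(H) → H`. -/
def πTo (H : Subgroup G) : H.comap T.π →* H := T.π.subgroupComap H

theorem πTo_surj (H : Subgroup G) : Function.Surjective (T.πTo H) := by
  rintro ⟨h, hh⟩
  obtain ⟨γ, rfl⟩ := T.π_surj h
  exact ⟨⟨γ, hh⟩, rfl⟩

theorem πTo_ιTo (H : Subgroup G) (hNH : N ≤ H) (n : N) :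
    T.πTo H (T.ιTo H hNH n) = ⟨n, hNH n.2⟩ := Subtype.ext (T.π_ι n)

theorem πTo_ker (H : Subgroup G) (z : T.π.ker) :
    T.πTo H ⟨z, T.ker_mem_comap H z⟩ = 1 := Subtype.ext z.2

theorem index_mem_of_ext (H : Subgroup G) (hNH : N ≤ H) {η : H → ℂ} (hη : IsCharacter H η)
    (hext : ∀ n : N, η ⟨n, hNH n.2⟩ = θ n) : (H.index : ℤ) ∈ T.goodExp := by
  have := T.finite_G
  obtain ⟨β, h1, h2⟩ := exists_linear_of_ext_hom (T.ιTo H hNH) (T.ιTo_range_normal H hNH)
    (T.Ψ_irr.isCharacter.restrict (H.comap T.π)) (hη.comp (T.πTo H)) T.res_irr (fun n => by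
      rw [T.πTo_ιTo, hext]; exact (T.Ψ_ι n).symm)
  simpa using T.index_mul_mem H hNH β⁻¹ 1 (fun n => by
    rw [MonoidHom.inv_apply, inv_eq_one]; exact h1 n) (fun z => by
    rw [MonoidHom.inv_apply, zpow_one, inv_eq_iff_mul_eq_one]
    have h3 := h2 ⟨z, T.ker_mem_comap H z⟩
    have h4 := T.Ψ_mul z 1
    rw [mul_one] at h4
    simp only [T.πTo_ker, h4, T.Ψ_one] at h3
    have h5 := hext 1
    have h6 : η 1 = θ 1 := h5
    rw [h6] at h3
    apply Units.ext
    apply mul_right_cancel₀ T.θ_irr.apply_one_ne_zero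
    rw [Units.val_one, one_mul, Units.val_mul, mul_assoc, ← h3])

theorem degree_mem_of_det_ext {d : ℕ} (hd : θ 1 = d) (μ : G →* ℂˣ)
    (hμ : ∀ n : N, (μ n : ℂ) = detChar θ n) : (d : ℤ) ∈ T.goodExp := by
  have := T.finite_G
  obtain ⟨δ, hδ⟩ := exists_detChar_hom T.Ψ_irr.isCharacter
  refine ⟨δ * (μ.comp T.π)⁻¹, fun n => ?_, fun z => ?_⟩
  · have h1 := detChar_comp T.ι T.Ψ_irr.isCharacter n
    rw [T.Ψ_res, hδ, ← hμ] at h1
    simp [T.π_ι, Units.ext h1.symm]
  · have h1 := detChar_of_scalar T.Ψ_irr.isCharacter (T.lam z).ne_zero (T.Ψ_mul z)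
      (T.Ψ_one.trans hd)
    rw [hδ] at h1
    have h2 : δ z = T.lam z ^ d := Units.ext (by simpa using h1)
    simp [h2, MonoidHom.mem_ker.mp z.2]

theorem one_mem_of_commutator (h : ∀ (z : T.π.ker) (n : N), z * T.ι n ∈ commutator T.Γ →
    T.lam z = 1) : (1 : ℤ) ∈ T.goodExp := by
  obtain ⟨κ, hκ⟩ := exists_linear_extension (N.comap T.π) T.ν (fun m hm => by
    apply h _ ⟨T.π m, m.2⟩
    simpa using hm)
  refine ⟨κ, fun n => ?_, fun z => ?_⟩
  · rw [hκ ⟨_, T.ι_mem_comap le_rfl n⟩, T.ν_ι]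
  · rw [hκ ⟨_, T.ker_mem_comap N z⟩, T.ν_ker, zpow_one]

theorem eq_one_of_mul_ι_mem_range {z : T.π.ker} {n : N} (h : z * T.ι n ∈ T.ι.range) : z = 1 := by
  obtain ⟨n', hn'⟩ := h
  have h1 := congrArg T.π hn'
  rw [map_mul, T.π_ι, T.π_ι, MonoidHom.mem_ker.mp z.2, one_mul] at h1
  rw [Subtype.ext h1] at hn'
  exact Subtype.ext (by simpa using hn'.symm)

theorem one_mem_of_isCyclic (hcyc : IsCyclic (G ⧸ N)) : (1 : ℤ) ∈ T.goodExp := by
  apply T.one_mem_of_commutator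
  intro z n h
  have := T.range_normal
  suffices hc : commutator T.Γ ≤ T.ι.range by
    rw [T.eq_one_of_mul_ι_mem_range (hc h), map_one]
  obtain ⟨q, hq⟩ := hcyc.exists_generator
  obtain ⟨g, rfl⟩ := QuotientGroup.mk_surjective q
  obtain ⟨γ, rfl⟩ := T.π_surj g
  have key : ∀ a : T.Γ, ∃ (i : ℤ) (z : T.π.ker),
      QuotientGroup.mk' T.ι.range a = QuotientGroup.mk' T.ι.range (γ ^ i * z) := by
    intro a
    obtain ⟨i, hi⟩ := Subgroup.mem_zpowers_iff.mp (hq (T.π a))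
    rw [← QuotientGroup.mk_zpow, QuotientGroup.eq, ← map_zpow, ← map_inv, ← map_mul] at hi
    obtain ⟨z, n, h⟩ := T.exists_eq_mul hi
    refine ⟨i, z, ?_⟩
    rw [QuotientGroup.mk'_apply, QuotientGroup.mk'_apply, eq_comm, QuotientGroup.eq, mul_inv_rev,
      mul_assoc, h]
    exact ⟨n, by simp⟩
  rw [commutator_def, Subgroup.commutator_le]
  intro a _ b _
  rw [← QuotientGroup.ker_mk' T.ι.range, MonoidHom.mem_ker, map_commutatorElement,
    commutatorElement_eq_one_iff_mul_comm]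
  obtain ⟨i, z, ha⟩ := key a
  obtain ⟨j, w, hb⟩ := key b
  rw [ha, hb, ← map_mul, ← map_mul]
  congr 1
  have hz := T.comm z.2
  have hw := T.comm w.2
  calc γ ^ i * z * (γ ^ j * w) = γ ^ i * (z * γ ^ j) * w := by simp only [mul_assoc]
    _ = γ ^ (i + j) * (z * w) := by rw [← hz, zpow_add]; simp only [mul_assoc]
    _ = γ ^ (j + i) * (w * z) := by rw [add_comm, hw]
    _ = γ ^ j * (w * γ ^ i) * z := by rw [← hw (γ ^ i), zpow_add]; simp only [mul_assoc]
    _ = γ ^ j * w * (γ ^ i * z) := by simp only [mul_assoc]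

/-- Every irreducible character over `θ` factors as `β Ψ` on `Γ`. -/
theorem exists_factor [Fintype N] {χ : G → ℂ} (hχ : IsIrrCharacter G χ)
    (h : classInner (fun n : N => χ n) θ ≠ 0) :
    ∃ β, IsIrrCharacter T.Γ β ∧ (∀ n, β (T.ι n) = β 1) ∧ (fun γ => χ (T.π γ)) = β * T.Ψ := by
  have := T.finite_G
  refine gallagher_exists_hom T.ι T.range_normal T.Ψ_irr.isCharacter T.res_irr
    (isIrr_comp_surjective T.π T.π_surj hχ) ?_
  simpa only [T.π_ι, T.Ψ_ι] using h

theorem comap_le_charCenter {β : T.Γ → ℂ} (hβ : IsIrrCharacter T.Γ β)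
    (h : ∀ n, β (T.ι n) = β 1) : N.comap T.π ≤ charCenter β := by
  intro γ hγ
  obtain ⟨z, n, rfl⟩ := T.exists_eq_mul hγ
  exact (charCenter β).mul_mem (center_le_charCenter hβ (T.central z.2))
    (charKer_le_charCenter β ((mem_charKer_iff hβ.isCharacter).mpr (h n)))

end Triple

section Extension
variable {G : Type u} [Group G] [Finite G] (N : Subgroup G) [hN : N.Normal] {θ : N → ℂ}

theorem extends_of_isCyclic (hcyc : IsCyclic (G ⧸ N)) (hθ : IsIrrCharacter N θ)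
    (hinv : ∀ g, cj N g θ = θ) : ∃ χ : G → ℂ, IsIrrCharacter G χ ∧ ∀ n : N, χ n = θ n := by
  obtain ⟨T⟩ := exists_triple N hθ hinv
  exact T.extends_of_one_mem (T.one_mem_of_isCyclic hcyc)

theorem extends_of_forall_prime (hθ : IsIrrCharacter N θ) (hinv : ∀ g, cj N g θ = θ)
    (hsyl : ∀ p : ℕ, p.Prime → ∃ (P : Subgroup G) (hNP : N ≤ P) (η : P → ℂ),
      ¬ p ∣ P.index ∧ IsCharacter P η ∧ ∀ n : N, η ⟨(n : G), hNP n.2⟩ = θ n) :
    ∃ χ : G → ℂ, IsIrrCharacter G χ ∧ ∀ n : N, χ n = θ n := by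
  obtain ⟨T⟩ := exists_triple N hθ hinv
  refine T.extends_of_one_mem (one_mem_of_forall_prime _ fun p hp => ?_)
  obtain ⟨P, hNP, η, h1, h2, h3⟩ := hsyl p hp
  exact ⟨_, T.index_mem_of_ext P hNP h2 h3, by exact_mod_cast h1⟩

theorem one_mem_of_coprime (I : AddSubgroup ℤ) {a b : ℕ} (ha : (a : ℤ) ∈ I) (hb : (b : ℤ) ∈ I)
    (h : Nat.Coprime a b) : (1 : ℤ) ∈ I := by
  obtain ⟨u, v, huv⟩ := Nat.isCoprime_iff_coprime.mpr h
  rw [← huv]
  exact I.add_mem (by simpa using I.zsmul_mem ha u) (by simpa using I.zsmul_mem hb v)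

/-- Gallagher's extension theorem. -/
theorem extends_of_det_extends (hθ : IsIrrCharacter N θ) (hinv : ∀ g, cj N g θ = θ) {d : ℕ}
    (hd : θ 1 = d) (hcop : Nat.Coprime N.index d) (μ : G →* ℂˣ)
    (hμ : ∀ n : N, (μ n : ℂ) = detChar θ n) :
    ∃ χ : G → ℂ, IsIrrCharacter G χ ∧ ∀ n : N, χ n = θ n := by
  obtain ⟨T⟩ := exists_triple N hθ hinv
  exact T.extends_of_one_mem (one_mem_of_coprime _ T.index_mem
    (T.degree_mem_of_det_ext hd μ hμ) hcop)

theorem dvd_index_of_res_eq_smul (hθ : IsIrrCharacter N θ) {χ : G → ℂ} (hχ : IsIrrCharacter G χ)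
    {e : ℕ} (he : (fun n : N => χ n) = (e : ℂ) • θ) : e ∣ N.index := by
  classical
  have := Fintype.ofFinite G
  have h1 : χ 1 = e * θ 1 := congrFun he 1
  have he0 : (e : ℂ) ≠ 0 := left_ne_zero_of_mul (h1 ▸ hχ.apply_one_ne_zero)
  obtain ⟨T⟩ := exists_triple N hθ (invariant_of_res_eq_smul N hχ.classFun he0 he)
  obtain ⟨β, hβ, h2, h3⟩ := T.exists_factor hχ (by rw [he, inner_smul_self hθ]; exact he0)
  have h4 := congrFun h3 1
  simp only [map_one, Pi.mul_apply, T.Ψ_one, h1] at h4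
  rw [← Subgroup.index_comap_of_surjective N T.π_surj]
  exact degree_dvd_index_of_le_charCenter hβ _ (T.comap_le_charCenter hβ h2)
    (mul_right_cancel₀ hθ.apply_one_ne_zero h4).symm

/-- Isaacs (11.29): `χ(1)/θ(1)` divides `|G : N|`. -/
theorem exists_degree_eq_mul_dvd_index [Fintype N] (hθ : IsIrrCharacter N θ) {χ : G → ℂ}
    (hχ : IsIrrCharacter G χ) (h : classInner (fun n : N => χ n) θ ≠ 0) :
    ∃ k : ℕ, χ 1 = k * θ 1 ∧ k ∣ N.index := by
  classical
  have := Fintype.ofFinite G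
  have hNT := le_inertia N hθ.classFun
  obtain ⟨ψ, hψ, h1, h2⟩ := clifford_exists_indFun N hθ rfl hNT hχ h
  obtain ⟨e, -, -, he⟩ := exists_nat_res_le_eq_smul N hNT hψ hθ le_rfl (h2 ▸ h)
  have h3 := dvd_index_of_res_eq_smul (N.subgroupOf (inertia N θ))
    ((isIrr_subgroupOf_iff hNT θ).mpr hθ) hψ (e := e) (by
      funext x; exact congrFun he ⟨(x : inertia N θ), x.2⟩)
  refine ⟨e * (inertia N θ).index, ?_, ?_⟩
  · have h4 : ψ 1 = e * θ 1 := congrFun he 1
    rw [← h1, indFun_one_eq, h4]; push_cast; ring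
  · rw [← Subgroup.relIndex_mul_index hNT]
    exact Nat.mul_dvd_mul_right h3 _

end Extension

end H5
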