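import Mathlib
import Cfsg.Prelude.Def_Characters
import Cfsg.Agent.H5.Triple
import Cfsg.Agent.H5.Chief

/-! Homogeneous characters and Berger's theorem: quasi-primitive characters of solvable groups
are primitive. -/

set_option autoImplicit false
open Cfsg H4 Module
open scoped ComplexConjugate

namespace H5

universe u

section Homog
variable {G : Type*} [Group G]

/-- A multiple of one irreducible character. -/
def Homog (χ : G → ℂ) : Prop := ∃ (θ : G → ℂ) (e : ℕ), IsIrrCharacter G θ ∧ χ = (e : ℂ) • θ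

theorem homog_iff [Fintype G] {χ : G → ℂ} (hχ : IsCharacter G χ) : Homog χ ↔
    ∀ ψ ψ', IsIrrCharacter G ψ → IsIrrCharacter G ψ' → classInner χ ψ ≠ 0 →
      classInner χ ψ' ≠ 0 → ψ = ψ' := by
  constructor
  · rintro ⟨θ, e, hθ, rfl⟩ ψ ψ' h1 h2 h3 h4
    rw [eq_of_inner_smul_ne_zero hθ h1 h3, eq_of_inner_smul_ne_zero hθ h2 h4]
  · intro h
    by_cases h0 : χ = 0
    · exact ⟨_, 0, isIrrCharacter_one, by simp [h0]⟩
    · obtain ⟨ψ, hψ, h1⟩ := hχ.classFun.exists_irr_inner_ne_zero h0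
      obtain ⟨e, he⟩ := hχ.inner_nat hψ.isCharacter
      refine ⟨ψ, e, hψ, ?_⟩
      rw [← he]
      exact eq_inner_smul_of_unique hχ.classFun hψ fun φ hφ h2 => h _ _ hφ hψ h2 h1

theorem Homog.comp_surjective [Finite G] {Γ : Type*} [Group Γ] [Finite Γ] {χ : G → ℂ}
    (h : Homog χ) (f : Γ →* G) (hf : Function.Surjective f) : Homog (fun x => χ (f x)) := by
  obtain ⟨θ, e, hθ, rfl⟩ := h
  exact ⟨_, e, isIrr_comp_surjective f hf hθ, rfl⟩

theorem charCenter_smul {θ : G → ℂ} {c : ℂ} (hc : c ≠ 0) : charCenter (c • θ) = charCenter θ := by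
  ext g
  refine exists_congr fun d => forall_congr' fun x => ?_
  simp only [Pi.smul_apply, smul_eq_mul]
  rw [mul_left_comm, mul_right_inj' hc]

theorem Homog.comp_of_charCenter [Finite G] {Γ : Type*} [Group Γ] [Finite Γ] {χ : G → ℂ}
    (h : Homog χ) (f : Γ →* G) (hf : ∀ g : G, ∃ z ∈ charCenter χ, ∃ x : Γ, g = z * f x) :
    Homog (fun x => χ (f x)) := by
  obtain ⟨θ, e, hθ, rfl⟩ := h
  by_cases he : e = 0
  · exact ⟨_, 0, isIrrCharacter_one, by funext x; simp [he]⟩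
  · rw [charCenter_smul (by exact_mod_cast he)] at hf
    exact ⟨_, e, isIrr_comp_of_charCenter f hθ hf, rfl⟩

theorem homog_of_mul {Γ N : Type*} [Group Γ] [Finite Γ] [Group N] [Finite N] (f : N →* Γ)
    (hf : f.range.Normal) {Ψ β : Γ → ℂ} (hΨ : IsCharacter Γ Ψ)
    (hΨN : IsIrrCharacter N (fun n => Ψ (f n))) (hβ : IsCharacter Γ β)
    (hβN : ∀ n, β (f n) = β 1) (h : Homog (β * Ψ)) : Homog β := by
  have := Fintype.ofFinite Γ
  rw [homog_iff hβ]
  rw [homog_iff (hβ.mul hΨ)] at h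
  have key : ∀ ψ, IsIrrCharacter Γ ψ → classInner β ψ ≠ 0 → (∀ n, ψ (f n) = ψ 1) ∧
      IsIrrCharacter Γ (ψ * Ψ) ∧ classInner (β * Ψ) (ψ * Ψ) ≠ 0 := by
    intro ψ hψ h1
    have h2 : ∀ n, ψ (f n) = ψ 1 := fun n => apply_of_mem_charKer
      (charKer_le_of_inner_ne_zero hβ hψ h1 ((mem_charKer_iff hβ).mpr (hβN n)))
    have h3 := gallagher_isIrr_hom f hf hΨ hΨN hψ h2
    refine ⟨h2, h3, fun h0 => ?_⟩
    have h4 : β * Ψ = (β - ψ) * Ψ + ψ * Ψ := by ring
    rw [h4] at h0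
    have := (inner_add_eq_zero_left ((hβ.sub_irr hψ h1).mul hΨ) h3.isCharacter h3.isCharacter h0).2
    rw [h3.inner_self] at this
    exact one_ne_zero this
  intro ψ ψ' h1 h2 h3 h4
  obtain ⟨a1, a2, a3⟩ := key ψ h1 h3
  obtain ⟨b1, b2, b3⟩ := key ψ' h2 h4
  exact gallagher_injective_hom f hf hΨ hΨN h1 a1 h2 b1 (h _ _ a2 b2 a3 b3)

theorem norm_eq_one_of_scalar [Finite G] {χ : G → ℂ} (h1 : χ 1 ≠ 0) {g : G} {c : ℂ}
    (hc : ∀ x, χ (g * x) = c * χ x) : ‖c‖ = 1 := by
  have h2 : ∀ k : ℕ, χ (g ^ k) = c ^ k * χ 1 := by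
    intro k
    induction k with
    | zero => simp
    | succ k ih => rw [pow_succ', hc, ih]; ring
  have h3 := h2 (orderOf g)
  rw [pow_orderOf_eq_one] at h3
  exact norm_eq_one_of_pow_eq_one (orderOf_pos g).ne'
    (mul_right_cancel₀ h1 (by rw [← h3, one_mul]))

/-- A scalar element of a character acts by the same scalar on each constituent. -/
theorem scalar_of_constituent [Fintype G] {χ ψ : G → ℂ} (hχ : IsCharacter G χ)
    (hψ : IsIrrCharacter G ψ) (h : classInner χ ψ ≠ 0) {g : G} {c : ℂ}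
    (hc : ∀ x, χ (g * x) = c * χ x) (x : G) : ψ (g * x) = c * ψ x := by
  have h1 := hχ.sub_irr hψ h
  have hχ1 : χ 1 ≠ 0 := fun h0 => h (by rw [hχ.eq_zero_of_apply_one h0, classInner_zero_left])
  have hc1 := norm_eq_one_of_scalar hχ1 hc
  have hcc : conj c * c = 1 := by
    rw [mul_comm, Complex.mul_conj, Complex.normSq_eq_norm_sq, hc1]; simp
  have h2 : χ g = c * χ 1 := by simpa using hc 1
  have h3 := h1.norm_le g
  have h4 := hψ.isCharacter.norm_le g
  have h5 := Complex.re_le_norm (conj c * (χ - ψ) g)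
  have h6 := Complex.re_le_norm (conj c * ψ g)
  rw [norm_mul, Complex.norm_conj, hc1, one_mul] at h5 h6
  have h7 : conj c * (χ - ψ) g = χ 1 - conj c * ψ g := by
    rw [Pi.sub_apply, h2, mul_sub, ← mul_assoc, hcc, one_mul]
  rw [h7, Complex.sub_re] at h5
  rw [Pi.sub_apply (i := 1), Complex.sub_re] at h3
  obtain ⟨d, -, hd⟩ := hψ.exists_nat_apply_one
  have h8 : (conj c * ψ g).re = (ψ 1).re := by linarith
  have h9 : ‖conj c * ψ g‖ = (conj c * ψ g).re := by
    rw [norm_mul, Complex.norm_conj, hc1, one_mul]; linarith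
  have h10 : (conj c * ψ g).im = 0 := by
    have := Complex.sq_norm (conj c * ψ g)
    rw [h9, Complex.normSq_apply] at this
    nlinarith
  have h11 : conj c * ψ g = ψ 1 := by
    apply Complex.ext h8
    rw [h10, hd]; simp
  have h12 : ψ g = c * ψ 1 := by rw [← h11, ← mul_assoc, mul_comm c, hcc, one_mul]
  have h13 := apply_mul_of_mem_charCenter (mem_charCenter_of_apply hψ.isCharacter hc1 h12) x
  apply mul_left_cancel₀ hψ.apply_one_ne_zero
  rw [h13, h12]; ring

theorem charCenter_le_of_inner_ne_zero [Fintype G] {χ ψ : G → ℂ} (hχ : IsCharacter G χ)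
    (hψ : IsIrrCharacter G ψ) (h : classInner χ ψ ≠ 0) : charCenter χ ≤ charCenter ψ :=
  fun _ ⟨c, hc⟩ => ⟨c, scalar_of_constituent hχ hψ h hc⟩

/-- The centre of an induced character lies in the inducing subgroup. -/
theorem charCenter_indFun_le [Fintype G] (H : Subgroup G) {θ : H → ℂ} (hθ : IsCharacter H θ)
    (h0 : θ 1 ≠ 0) : charCenter (indFun H θ) ≤ H := by
  classical
  intro z hz
  by_contra hzH
  rw [mem_charCenter_iff (isCharacter_indFun H hθ), indFun_one_eq, indFun_apply] at hz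
  obtain ⟨d, hd⟩ := hθ.exists_nat_apply_one
  have hd0 : (0 : ℝ) < d := by
    have : d ≠ 0 := by rintro rfl; exact h0 (by simpa using hd)
    exact_mod_cast Nat.pos_of_ne_zero this
  have hle : ∀ y : G, ‖extendByZero H θ y‖ ≤ d := by
    intro y
    by_cases hy : y ∈ H
    · rw [ext0_mem _ _ hy]
      have := hθ.norm_le ⟨y, hy⟩
      rwa [hd, Complex.natCast_re] at this
    · rw [ext0_not_mem _ _ hy, norm_zero]; exact hd0.le
  have hlt : ∑ x : G, ‖extendByZero H θ (x⁻¹ * z * x)‖ < ∑ _x : G, (d : ℝ) :=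
    Finset.sum_lt_sum (fun x _ => hle _) ⟨1, Finset.mem_univ _, by
      rw [inv_one, one_mul, mul_one, ext0_not_mem _ _ hzH, norm_zero]; exact hd0⟩
  have h1 := (norm_sum_le _ _).trans_lt hlt
  rw [Finset.sum_const, Finset.card_univ, nsmul_eq_mul, ← Nat.card_eq_fintype_card,
    ← H.card_mul_index] at h1
  rw [norm_mul, norm_inv, Complex.norm_natCast, hd] at hz
  have hc : (0 : ℝ) < Nat.card H := by exact_mod_cast Nat.card_pos
  have h2 : ‖∑ x : G, extendByZero H θ (x⁻¹ * z * x)‖ = Nat.card H * (H.index * d) := by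
    rw [inv_mul_eq_iff_eq_mul₀ hc.ne'] at hz
    rw [hz]; norm_cast
  rw [h2] at h1
  push_cast at h1
  linarith

theorem inner_res_ne_zero_of_indFun [Fintype G] (H : Subgroup G) [Fintype H] {θ : H → ℂ}
    (h : IsIrrCharacter G (indFun H θ)) : classInner (fun x : H => indFun H θ x) θ = 1 := by
  rw [← classInner_indFun_right H θ h.classFun, h.inner_self]

theorem indFun_apply_of_ker [Fintype G] (H : Subgroup G) {θ : H → ℂ} {g : G}
    (h : ∀ x : G, ∃ hx : x⁻¹ * g * x ∈ H, θ ⟨_, hx⟩ = θ 1) : indFun H θ g = indFun H θ 1 := by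
  rw [indFun_apply, indFun_apply]
  congr 1
  refine Finset.sum_congr rfl fun x _ => ?_
  obtain ⟨hx, h1⟩ := h x
  rw [ext0_mem _ _ hx, h1, mul_one, inv_mul_cancel, ext0_mem _ _ H.one_mem]; rfl

end Homog

namespace Triple
variable {G : Type u} [Group G] {N : Subgroup G} [hN : N.Normal] {φ : N → ℂ} (T : Triple N φ)

theorem homog_factor {χ : G → ℂ} {β : T.Γ → ℂ} (hβ : IsCharacter T.Γ β)
    (hβN : ∀ n, β (T.ι n) = β 1) (hfac : (fun γ => χ (T.π γ)) = β * T.Ψ)
    (hqp : ∀ M : Subgroup G, M.Normal → N ≤ M → Homog (fun m : M => χ m))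
    (R : Subgroup T.Γ) (hR : R.Normal) (hNR : N.comap T.π ≤ R) : Homog (fun r : R => β r) := by
  have := T.finite_G
  have h1 := (hqp (R.map T.π) (hR.map _ T.π_surj) (fun n hn =>
    ⟨T.ι ⟨n, hn⟩, hNR (T.ι_mem_comap le_rfl _), T.π_ι _⟩)).comp_surjective (T.π.subgroupMap R)
    (T.π.subgroupMap_surjective R)
  let f : N →* R := T.ι.codRestrict R fun n => hNR (T.ι_mem_comap le_rfl n)
  refine homog_of_mul f ⟨by rintro _ ⟨n, rfl⟩ γ; exact ⟨_, Subtype.ext (T.conj_ι γ n).symm⟩⟩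
    (T.Ψ_irr.isCharacter.restrict R) T.res_irr (hβ.restrict R) hβN ?_
  convert h1 using 1
  funext r
  exact (congrFun hfac r).symm

theorem indFun_factor [Fintype G] {H : Subgroup G} (hNH : N ≤ H) {θ : H → ℂ}
    (hθ : IsCharacter H θ) (hχ : IsIrrCharacter G (indFun H θ)) {e : ℂ}
    (he : (fun n : N => indFun H θ n) = e • φ) {β : T.Γ → ℂ} (hβ : IsIrrCharacter T.Γ β)
    (hβN : ∀ n, β (T.ι n) = β 1) (hfac : (fun γ => indFun H θ (T.π γ)) = β * T.Ψ) :
    ∃ β' : H.comap T.π → ℂ, IsCharacter _ β' ∧ indFun (H.comap T.π) β' = β := by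
  classical
  have hθi := isIrr_of_isIrr_indFun H hθ hχ
  have h1 : classInner (fun n : N => θ ⟨n, hNH n.2⟩) φ ≠ 0 := by
    obtain ⟨φ', h2, h3⟩ := exists_irr_constituent (isCharacter_res_le hNH hθ)
      hθi.apply_one_ne_zero
    have h4 := inner_comp_ne_zero (Subgroup.inclusion hNH) (hχ.isCharacter.restrict H) hθi
      (by rw [inner_res_ne_zero_of_indFun H hχ]; exact one_ne_zero) h2.isCharacter h3
    change classInner (fun n : N => indFun H θ n) φ' ≠ 0 at h4
    rw [he] at h4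
    rwa [eq_of_inner_smul_ne_zero T.θ_irr h2 h4] at h3
  obtain ⟨β', h2, h3, h4⟩ := gallagher_exists_hom (T.ιTo H hNH) (T.ιTo_range_normal H hNH)
    (T.Ψ_irr.isCharacter.restrict (H.comap T.π)) T.res_irr
    (isIrr_comp_surjective (T.πTo H) (T.πTo_surj H) hθi) (by
      simp only [T.πTo_ιTo]
      convert h1
      exact T.Ψ_ι _)
  have h5 : indFun (H.comap T.π) β' * T.Ψ = β * T.Ψ := by
    rw [← hfac, ← indFun_comap T.π T.π_surj, ← indFun_mul_res _ _ T.Ψ_irr.classFun]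
    congr 1
    exact h4.symm
  have h6 := isCharacter_indFun _ h2.isCharacter
  refine ⟨β', h2.isCharacter, gallagher_injective_hom T.ι T.range_normal T.Ψ_irr.isCharacter
    T.res_irr (isIrr_of_isIrr_mul h6 T.Ψ_irr.isCharacter ?_) (fun n => ?_) hβ hβN h5⟩
  · rw [h5, ← hfac]; exact isIrr_comp_surjective T.π T.π_surj hχ
  · refine indFun_apply_of_ker _ fun x => ?_
    have h7 := T.conj_ι x⁻¹ n
    rw [inv_inv] at h7
    refine ⟨h7 ▸ T.ι_mem_comap hNH _, ?_⟩
    rw [← h3]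
    congr 1
    exact Subtype.ext h7

end Triple

/-- The statement proved by induction in Berger's theorem. -/
def BergerStmt (G : Type u) [Group G] [Fintype G] (χ : G → ℂ) : Prop :=
  IsIrrCharacter G χ → SolvMod (charCenter χ) →
    (∀ M : Subgroup G, M.Normal → charCenter χ ≤ M → Homog (fun m : M => χ m)) →
    ∀ (H : Subgroup G) (θ : H → ℂ), IsCharacter H θ → indFun H θ = χ → H = ⊤

theorem berger_reduction {G : Type u} [Group G] [Fintype G] (N H : Subgroup G) [N.Normal]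
    (hNH : N ≤ H) (hs : SolvMod N) {θ : H → ℂ} (hθ : IsCharacter H θ)
    (hχ : IsIrrCharacter G (indFun H θ))
    (hqp : ∀ M : Subgroup G, M.Normal → N ≤ M → Homog (fun m : M => indFun H θ m))
    (ih : ∀ (Γ : Type u) [Group Γ] [Fintype Γ] (β : Γ → ℂ),
      (charCenter β).index ≤ N.index → BergerStmt Γ β) : H = ⊤ := by
  classical
  obtain ⟨φ, e, hφ, he⟩ := hqp N inferInstance le_rfl
  have he0 : (e : ℂ) ≠ 0 := left_ne_zero_of_mul (congrFun he 1 ▸ hχ.apply_one_ne_zero)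
  obtain ⟨T⟩ := exists_triple N hφ (invariant_of_res_eq_smul N hχ.classFun he0 he)
  obtain ⟨β, hβ, h2, h3⟩ := T.exists_factor hχ (by rw [he, inner_smul_self hφ]; exact he0)
  obtain ⟨β', h4, h5⟩ := T.indFun_factor hNH hθ hχ he hβ h2 h3
  have h6 := T.comap_le_charCenter hβ h2
  have h7 := ih T.Γ β (by
    rw [← Subgroup.index_comap_of_surjective N T.π_surj]
    exact Subgroup.index_antitone h6) hβ ((hs.comap T.π).mono h6)
    (fun R hR hle => T.homog_factor hβ.isCharacter h2 h3 hqp R hR (h6.trans hle)) _ β' h4 h5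
  rw [← Subgroup.map_comap_eq_self_of_surjective T.π_surj H, h7, ← MonoidHom.range_eq_map,
    MonoidHom.range_eq_top.mpr T.π_surj]

theorem berger_step {G : Type u} [Group G] [Fintype G] {H : Subgroup G} (hH : IsCoatom H)
    {θ : H → ℂ} (hθ : IsCharacter H θ) {χ : G → ℂ} (hχθ : indFun H θ = χ)
    (hχ : IsIrrCharacter G χ) (hcore : H.normalCore = charCenter χ)
    (hs : SolvMod (charCenter χ))
    (hqp : ∀ M : Subgroup G, M.Normal → charCenter χ ≤ M → Homog (fun m : M => χ m))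
    (ih : ∀ (Γ : Type u) [Group Γ] [Fintype Γ] (β : Γ → ℂ),
      (charCenter β).index < (charCenter χ).index → BergerStmt Γ β) : False := by
  classical
  set Z := charCenter χ with hZ
  have hZn : Z.Normal := charCenter_normal hχ.classFun
  have hZH : Z ≤ H := hcore ▸ H.normalCore_le
  obtain ⟨K, hK, -⟩ := exists_isChief_above Z ⊤ (lt_of_le_of_lt hZH hH.lt_top)
  have hKn := hK.normal_right
  obtain ⟨hsup, hinf⟩ := IsChief.compl_of_isCoatom hH (hcore ▸ hK) (hcore ▸ hs)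
  rw [hcore] at hinf
  obtain ⟨p, hp, hKp, a, ha⟩ := hK.exists_prime hs
  obtain ⟨ξ, b, hξ, hb⟩ := hqp K hKn hK.lt.le
  have hb0 : (b : ℂ) ≠ 0 := left_ne_zero_of_mul (congrFun hb 1 ▸ hχ.apply_one_ne_zero)
  have hχK : ∀ k : K, χ k = b * ξ k := congrFun hb
  have hθi := isIrr_of_isIrr_indFun H hθ (hχθ ▸ hχ)
  have hθχ : classInner (fun x : H => χ x) θ = 1 := by
    rw [← hχθ]; exact inner_res_ne_zero_of_indFun H (hχθ ▸ hχ)
  obtain ⟨lam, hlam⟩ := exists_linear_on_charCenter hχ.apply_one_ne_zero Z le_rfl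
  have hlam1 : ∀ z, (lam z : ℂ) * conj (lam z : ℂ) = 1 :=
    norm_eq_one_of_linear (isIrrCharacter_linear lam).isCharacter (by simp)
  have hθZ : ∀ z : Z, θ ⟨z, hZH z.2⟩ = lam z * θ 1 := fun z => by
    simpa using scalar_of_constituent (hχ.isCharacter.restrict H) hθi
      (by rw [hθχ]; exact one_ne_zero) (g := ⟨z, hZH z.2⟩) (c := lam z) (fun x => hlam z x) 1
  have hξZ : ∀ (z : Z) (k : K), ξ (⟨z, hK.lt.le z.2⟩ * k) = lam z * ξ k := fun z k => by
    apply mul_left_cancel₀ hb0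
    rw [← hχK, mul_left_comm, ← hχK]; exact hlam z k
  have hvan : ∀ k : K, (k : G) ∉ Z → ξ k = 0 := fun k hk => by
    have : χ k = 0 := by
      rw [← hχθ]
      refine indFun_eq_zero_of_forall_not_mem H θ fun x hx => hk ?_
      have h1 : x⁻¹ * k * x ∈ Z := by
        rw [← hinf]; exact ⟨hx, by simpa using hKn.conj_mem _ k.2 x⁻¹⟩
      simpa [mul_assoc] using hZn.conj_mem _ h1 x
    rw [hχK] at this
    exact (mul_eq_zero.mp this).resolve_left hb0
  obtain ⟨e, he0, he⟩ := hξ.exists_nat_apply_one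
  have hbe : (b : ℂ) = θ 1 * e := by
    have h1 := inner_smul_self hξ (b : ℂ)
    rw [← hb, ← hχθ, res_indFun_of_mul_eq_top K H (exists_mul_of_sup_eq_top' hsup) hθ.classFun,
      H5.classInner_indFun_left _ _ hξ.classFun, classInner_def,
      Finset.sum_congr rfl (g := fun _ => θ 1 * e), Finset.sum_const, Finset.card_univ,
      ← Nat.card_eq_fintype_card, nsmul_eq_mul, ← mul_assoc, inv_mul_cancel₀ (card_ne_zero _),
      one_mul] at h1
    · exact h1.symm
    · intro x _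
      have hx : ((x : K) : G) ∈ Z := by rw [← hinf]; exact ⟨x.2, (x : K).2⟩
      have h2 := hθZ ⟨_, hx⟩
      have h3 := hξZ ⟨_, hx⟩ 1
      rw [mul_one, he] at h3
      change ξ (x : K) = _ at h3
      rw [h2, h3, map_mul, map_natCast]
      linear_combination (θ 1 * e) * hlam1 ⟨_, hx⟩
  have he1 : e ≠ 1 := by
    rintro rfl
    obtain ⟨k, hk, hkZ⟩ := SetLike.exists_of_lt hK.lt
    exact linear_ne_zero hξ.isCharacter (by simpa using he) ⟨k, hk⟩ (hvan ⟨k, hk⟩ hkZ)
  have hep : e ∣ p ^ a := by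
    rw [← ha]
    exact degree_dvd_index_of_le_charCenter hξ (Z.subgroupOf K)
      (fun z hz => ⟨lam ⟨z, hz⟩, hξZ ⟨z, hz⟩⟩) he
  obtain ⟨T⟩ := exists_triple K hξ (invariant_of_res_eq_smul K hχ.classFun hb0 hb)
  obtain ⟨β, hβ, hβK, hfac⟩ := T.exists_factor hχ (by rw [hb, inner_smul_self hξ]; exact hb0)
  have hβc := T.comap_le_charCenter hβ hβK
  set Ĥ := H.comap T.π with hĤ
  have hdec : ∀ γ : T.Γ, ∃ (k : K) (x : Ĥ), γ = T.ι k * x := by
    intro γ
    obtain ⟨k, hk, h, hh, e1⟩ := exists_mul_of_sup_eq_top' hsup (T.π γ)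
    refine ⟨⟨k, hk⟩, ⟨(T.ι ⟨k, hk⟩)⁻¹ * γ, ?_⟩, by simp⟩
    rw [hĤ, Subgroup.mem_comap, map_mul, map_inv, T.π_ι, e1]; simpa using hh
  have hbH : IsIrrCharacter Ĥ (fun x : Ĥ => β x) :=
    isIrr_comp_of_charCenter Ĥ.subtype hβ fun γ => by
      obtain ⟨k, x, rfl⟩ := hdec γ
      exact ⟨_, hβc (T.ι_mem_comap le_rfl k), x, rfl⟩
  have hP := T.Ψ_irr.isCharacter.restrict Ĥ
  have ht := hθ.comp (T.πTo H)
  have hβ1 : β 1 = b := by
    have h1 := congrFun hfac 1
    have h2 := hχK 1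
    simp only [map_one, Pi.mul_apply, T.Ψ_one, OneMemClass.coe_one] at h1 h2
    exact mul_right_cancel₀ hξ.apply_one_ne_zero (h1.symm.trans h2)
  have hmul : (fun x => θ (T.πTo H x)) * (fun x : Ĥ => conj (T.Ψ x)) = fun x : Ĥ => β x := by
    refine (ht.mul hP.conj).eq_of_inner_ne_zero_of_degree hbH ?_ ?_
    · rw [classInner_mul_left]
      have h1 : ((fun x : Ĥ => β x) * fun g : Ĥ => conj (conj (T.Ψ g)))
          = fun x => (fun h : H => χ h) (T.πTo H x) := by
        funext x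
        simp only [Pi.mul_apply, Complex.conj_conj]
        exact (congrFun hfac x).symm
      rw [h1, classInner_comp_surjective (T.πTo H) (T.πTo_surj H) θ (fun h : H => χ h),
        ← conj_classInner, hθχ, map_one]
      exact one_ne_zero
    · simp only [Pi.mul_apply, map_one, OneMemClass.coe_one, T.Ψ_one, he, map_natCast, hβ1, hbe]
  set Zh : Subgroup Ĥ := Z.comap (T.π.comp Ĥ.subtype) with hZh
  have hZhn : Zh.Normal := hZn.comap _
  have hZhb : Zh ≤ charCenter (fun x : Ĥ => β x) := fun x hx =>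
    charCenter_comp Ĥ.subtype β (hβc (hK.lt.le hx))
  have hZhP : Zh ≤ charCenter (fun x : Ĥ => T.Ψ x) := by
    intro x hx
    apply charCenter_comp Ĥ.subtype T.Ψ
    obtain ⟨z, n, h1⟩ := T.exists_eq_mul (γ := x) (hK.lt.le hx)
    have hn : (n : G) ∈ Z := by
      have h2 := congrArg T.π h1
      rw [map_mul, T.π_ι, MonoidHom.mem_ker.mp z.2, one_mul] at h2
      rw [← h2]; exact hx
    change (x : T.Γ) ∈ charCenter T.Ψ
    rw [h1]
    refine Subgroup.mul_mem _ (center_le_charCenter T.Ψ_irr (T.central z.2))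
      (mem_charCenter_of_apply T.Ψ_irr.isCharacter (c := lam ⟨n, hn⟩)
        (norm_eq_one_of_scalar hχ.apply_one_ne_zero (hlam ⟨n, hn⟩)) ?_)
    rw [T.Ψ_ι, T.Ψ_one, ← hξZ, mul_one]
  have hidx : Zh.index < Z.index := by
    have h1 : Zh = (Z.subgroupOf H).comap (T.πTo H) := rfl
    rw [h1, Subgroup.index_comap_of_surjective _ (T.πTo_surj H),
      ← Subgroup.relIndex_mul_index hZH]
    exact lt_mul_of_one_lt_right (Nat.pos_of_ne_zero Subgroup.index_ne_zero_of_finite)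
      (Subgroup.one_lt_index_of_ne_top hH.1)
  have hprim := ih Ĥ (fun x : Ĥ => β x) ((Subgroup.index_antitone hZhb).trans_lt hidx) hbH
    ((hs.comap _).mono hZhb) (fun R hR hle => by
      have := T.range_normal
      let R' := R.map Ĥ.subtype ⊔ T.ι.range
      have hR' : R'.Normal := by
        refine normal_of_mul_eq_top (H := T.ι.range) (K := Ĥ) (fun γ => by
          obtain ⟨k, x, rfl⟩ := hdec γ
          exact ⟨_, ⟨k, rfl⟩, x, x.2, rfl⟩) (fun h hh x hx =>
            R'.mul_mem (R'.mul_mem (Subgroup.mem_sup_right hh) hx)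
              (R'.inv_mem (Subgroup.mem_sup_right hh))) (fun h hh x hx => ?_)
        have hx' : x ∈ (↑R' : Set T.Γ) := hx
        rw [Subgroup.mul_normal] at hx'
        obtain ⟨_, ⟨r, hr, rfl⟩, k, hk, rfl⟩ := hx'
        have e1 : h * (Ĥ.subtype r * k) * h⁻¹ = (h * r * h⁻¹) * (h * k * h⁻¹) := by
          simp [mul_assoc]
        simp only []
        rw [e1]
        exact R'.mul_mem (Subgroup.mem_sup_left ⟨_, hR.conj_mem r hr ⟨h, hh⟩, rfl⟩)
          (Subgroup.mem_sup_right (this.conj_mem k hk h))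
      have hKR : K.comap T.π ≤ R' := by
        intro γ hγ
        obtain ⟨z, n, rfl⟩ := T.exists_eq_mul hγ
        refine R'.mul_mem (Subgroup.mem_sup_left ⟨⟨z, T.ker_mem_comap H z⟩, hle (hZhb ?_), rfl⟩)
          (Subgroup.mem_sup_right ⟨n, rfl⟩)
        exact T.ker_mem_comap Z z
      have h1 := T.homog_factor hβ.isCharacter hβK hfac
        (fun M hM hKM => hqp M hM (hK.lt.le.trans hKM)) R' hR' hKR
      let f : R →* R' := (Ĥ.subtype.comp R.subtype).codRestrict R'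
        fun r => Subgroup.mem_sup_left ⟨r, r.2, rfl⟩
      refine h1.comp_of_charCenter f fun g => ?_
      have hg : (g : T.Γ) ∈ (↑(T.ι.range ⊔ R.map Ĥ.subtype) : Set T.Γ) := by
        rw [sup_comm]; exact g.2
      rw [Subgroup.normal_mul] at hg
      obtain ⟨_, ⟨k, rfl⟩, _, ⟨r, hr, rfl⟩, e1⟩ := hg
      exact ⟨⟨T.ι k, Subgroup.mem_sup_right ⟨k, rfl⟩⟩,
        charCenter_comp R'.subtype β (hβc (T.ι_mem_comap le_rfl k)), ⟨r, hr⟩,
        Subtype.ext e1.symm⟩)
  have hPi : IsIrrCharacter Ĥ (fun x : Ĥ => T.Ψ x) := by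
    have h1 := isIrr_conj (isIrr_of_isIrr_mul hP.conj ht (by rw [mul_comm, hmul]; exact hbH))
    simpa using h1
  have hPq : ∀ Q : Subgroup Ĥ, Q.Normal → Homog (fun x : Q => T.Ψ ((x : Ĥ) : T.Γ)) := by
    intro Q hQ
    by_contra hc
    obtain ⟨S, γ, -, hS, hγ, h1⟩ := exists_indFun_of_not_homogeneous Q hPi hc
    refine hS (hprim S (fun s => θ (T.πTo H s) * conj (γ s))
      ((ht.restrict S).mul hγ.isCharacter.conj) ?_)
    rw [indFun_res_mul S _ ht.classFun, indFun_conj, h1, hmul]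
  have hP1 : T.Ψ ((1 : Ĥ) : T.Γ) = e := T.Ψ_one.trans he
  by_cases hZht : Zh = ⊤
  · have := degree_dvd_index_of_le_charCenter hPi Zh hZhP hP1
    rw [hZht, Subgroup.index_top, Nat.dvd_one] at this
    exact he1 this
  obtain ⟨Q', hQ', -⟩ := exists_isChief_above Zh ⊤ (lt_top_iff_ne_top.mpr hZht)
  obtain ⟨q, hq, hQq, c, hc⟩ := hQ'.exists_prime (hs.comap _)
  set Q := Q'.map (T.π.comp Ĥ.subtype) with hQ
  have hQH : Q ≤ H := by rintro _ ⟨x, -, rfl⟩; exact x.2
  have hZQ : Z ≤ Q := by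
    intro z hz
    obtain ⟨x, hx⟩ := T.πTo_surj H ⟨z, hZH hz⟩
    have h1 : T.π x = z := congrArg Subtype.val hx
    exact ⟨x, hQ'.lt.le (show T.π x ∈ Z from h1 ▸ hz), h1⟩
  have hQn : ∀ h ∈ H, ∀ x ∈ Q, h * x * h⁻¹ ∈ Q := by
    rintro h hh _ ⟨x, hx, rfl⟩
    obtain ⟨y, hy⟩ := T.πTo_surj H ⟨h, hh⟩
    have h1 : T.π y = h := congrArg Subtype.val hy
    exact ⟨_, hQ'.normal_right.conj_mem x hx y, by simp [h1]⟩
  suffices hcomm : ∀ k ∈ K, ∀ x ∈ Q, k * x * k⁻¹ * x⁻¹ ∈ Z by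
    have h1 : Q.Normal := normal_of_mul_eq_top (exists_mul_of_sup_eq_top hsup) hQn
      (fun k hk x hx => by simpa using Q.mul_mem (hZQ (hcomm k hk x hx)) hx)
    have h2 : Q ≤ Z := hcore ▸ Subgroup.normal_le_normalCore.mpr hQH
    exact not_le_of_gt hQ'.lt fun x hx => h2 ⟨x, hx, rfl⟩
  by_cases hqp' : q = p
  · subst hqp'
    have hM : (Q ⊔ K).Normal := by
      refine normal_of_mul_eq_top (exists_mul_of_sup_eq_top hsup) (fun h hh x hx => ?_)
        (fun k hk x hx => Subgroup.mul_mem _ (Subgroup.mul_mem _ (Subgroup.mem_sup_right hk) hx)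
          (Subgroup.inv_mem _ (Subgroup.mem_sup_right hk)))
      have hx' : x ∈ (↑(Q ⊔ K) : Set G) := hx
      rw [Subgroup.mul_normal] at hx'
      obtain ⟨y, hy, k, hk, rfl⟩ := hx'
      have e1 : h * (y * k) * h⁻¹ = (h * y * h⁻¹) * (h * k * h⁻¹) := by simp [mul_assoc]
      simp only []
      rw [e1]
      exact Subgroup.mul_mem _ (Subgroup.mem_sup_left (hQn h hh y hy))
        (Subgroup.mem_sup_right (hKn.conj_mem k hk h))
    have hQp : IsPGroup q (Q.map (QuotientGroup.mk' Z)) := by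
      rintro ⟨_, _, ⟨x, hx, rfl⟩, rfl⟩
      obtain ⟨j, hj⟩ := hQq ⟨_, x, hx, rfl⟩
      refine ⟨j, Subtype.ext ?_⟩
      have h1 := congrArg Subtype.val hj
      change ((QuotientGroup.mk' Zh) x) ^ q ^ j = 1 at h1
      change ((QuotientGroup.mk' Z) ((T.π.comp Ĥ.subtype) x)) ^ q ^ j = 1
      rw [← map_pow, QuotientGroup.mk'_apply, QuotientGroup.eq_one_iff] at h1
      rw [← map_pow, ← map_pow, QuotientGroup.mk'_apply, QuotientGroup.eq_one_iff]
      exact h1
    have := Subgroup.Normal.map hKn _ (QuotientGroup.mk'_surjective Z)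
    have h1 := hK.commutator_le_of_isPGroup (M := Q ⊔ K) hq (by
      rw [Subgroup.map_sup]; exact hQp.to_sup_of_normal_right hKp)
    exact fun k hk x hx => commutator_le_iff'.mp h1 k hk x (Subgroup.mem_sup_left hx)
  · obtain ⟨ψ, c', hψ, h1⟩ := hPq Q' hQ'.normal_right
    obtain ⟨f, -, hf⟩ := hψ.exists_nat_apply_one
    have h2 : (e : ℂ) = c' * f := by rw [← hP1, ← hf]; exact congrFun h1 1
    have h3 : e = c' * f := by exact_mod_cast h2
    have hc0 : (c' : ℂ) ≠ 0 := left_ne_zero_of_mul (b := (f : ℂ)) (by rw [← h2]; exact_mod_cast he0.ne')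
    have h4 : f ∣ q ^ c := by
      rw [← hc]
      refine degree_dvd_index_of_le_charCenter hψ (Zh.subgroupOf Q') (fun x hx => ?_) hf
      rw [← charCenter_smul hc0, ← h1]
      exact charCenter_comp Q'.subtype (fun x : Ĥ => T.Ψ x) (hZhP hx)
    have h5 : f = 1 := Nat.eq_one_of_dvd_coprimes
      (Nat.Coprime.pow c a ((Nat.coprime_primes hq hp).mpr hqp')) h4
      ((Dvd.intro_left _ h3.symm).trans hep)
    subst h5
    rintro k hk _ ⟨x, hx, rfl⟩
    have h6 : (x : T.Γ) ∈ charCenter T.Ψ := by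
      have hψ1 : ψ 1 = 1 := by simpa using hf
      refine mem_charCenter_of_apply T.Ψ_irr.isCharacter (c := ψ ⟨x, hx⟩) ?_ ?_
      · refine norm_eq_one_of_scalar (χ := ψ) hψ.apply_one_ne_zero (g := ⟨x, hx⟩) fun y => ?_
        exact hψ.isCharacter.map_mul_of_apply_one hψ1 _ _
      · have h7 : T.Ψ x = c' * ψ ⟨x, hx⟩ := congrFun h1 ⟨x, hx⟩
        rw [h7, T.Ψ_one, he, h2]; simp [mul_comm]
    have h7 := apply_of_mem_charKer (commutator_mem_charKer T.Ψ_irr.classFun h6 (T.ι ⟨k, hk⟩))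
    rw [T.conj_ι, ← map_inv T.ι, ← map_mul, T.Ψ_ι, T.Ψ_one] at h7
    have h8 : T.π x * k * (T.π x)⁻¹ * k⁻¹ ∈ Z := by
      by_contra h9
      exact hξ.apply_one_ne_zero (h7 ▸ hvan _ h9)
    simpa [mul_assoc] using Z.inv_mem h8

theorem berger_aux (n : ℕ) : ∀ (G : Type u) [Group G] [Fintype G] (χ : G → ℂ),
    (charCenter χ).index = n → BergerStmt G χ := by
  induction n using Nat.strong_induction_on with
  | _ n ih =>
  intro G _ _ χ hn hχ hs hqp H θ hθ hχθ
  classical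
  by_contra hH
  obtain ⟨H', hH', hle⟩ := (eq_top_or_exists_le_coatom H).resolve_left hH
  have hθ' := isCharacter_indFun _ ((isCharacter_subgroupOf_iff hle θ).mpr hθ)
  have h1 := (H5.indFun_indFun H H' hle θ).trans hχθ
  have hZn := charCenter_normal hχ.classFun
  have h2 : charCenter χ ≤ H'.normalCore := by
    rw [Subgroup.normal_le_normalCore, ← h1]
    refine charCenter_indFun_le H' hθ' fun h0 => hχ.apply_one_ne_zero ?_
    rw [← h1, indFun_one_eq, h0, mul_zero]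
  rcases h2.eq_or_lt with h3 | h3
  · exact berger_step hH' hθ' h1 hχ h3.symm hs hqp fun Γ _ _ β hβ => ih _ (hn ▸ hβ) Γ β rfl
  · refine hH'.1 (berger_reduction H'.normalCore H' H'.normalCore_le (hs.mono h2) hθ' (h1 ▸ hχ)
      (fun M hM hle => h1 ▸ hqp M hM (h2.trans hle)) fun Γ _ _ β hβ => ih _ ?_ Γ β rfl)
    rw [← hn]
    exact hβ.trans_lt (Subgroup.index_strictAnti h3)

/-- Relative form of Berger's theorem. -/
theorem berger_relative {G : Type u} [Group G] [Fintype G] (N H : Subgroup G) [N.Normal]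
    (hNH : N ≤ H) (hs : SolvMod N) {θ : H → ℂ} (hθ : IsCharacter H θ)
    (hχ : IsIrrCharacter G (indFun H θ))
    (hqp : ∀ M : Subgroup G, M.Normal → N ≤ M → Homog (fun m : M => indFun H θ m)) : H = ⊤ :=
  berger_reduction N H hNH hs hθ hχ hqp fun Γ _ _ β _ => berger_aux _ Γ β rfl

end H5
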