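import Mathlib
import Cfsg.Prelude.Def_Characters
import Cfsg.Prelude.Def_Blocks
import Cfsg.Agent.H2.MinNormal
import Cfsg.Agent.H4.Frobenius
import Cfsg.Agent.H5.Berger

/-! Miscellaneous lemmas: maximal ideals over `p`, averages over normal subgroups, monomial
characters of nilpotent groups, Taketa's theorem, decomposition of nilpotent groups. -/

set_option autoImplicit false
open Cfsg H4
open scoped ComplexConjugate

namespace H5

universe u

theorem exists_isPModular {p : ℕ} (hp : p.Prime) : ∃ M : Ideal AlgInt, IsPModular p M := by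
  obtain ⟨M, hM, h⟩ := Ideal.exists_le_maximal (Ideal.span {(p : AlgInt)}) (by
    rw [Ne, Ideal.span_singleton_eq_top]
    intro hu
    obtain ⟨b, hb⟩ := hu.exists_right_inv
    have h1 : (p : ℂ) * b = 1 := by exact_mod_cast congrArg Subtype.val hb
    have h2 : (b : ℂ) = (1 : ℕ) / p := by
      rw [eq_div_iff (by exact_mod_cast hp.ne_zero), mul_comm, h1, Nat.cast_one]
    exact hp.one_lt.ne' (Nat.dvd_one.mp (nat_dvd_of_isIntegral_div hp.ne_zero (h2 ▸ b.2))))
  exact ⟨M, hp, hM, h (Ideal.subset_span rfl)⟩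

variable {G : Type*} [Group G]

theorem sum_normal_mul [Fintype G] (N : Subgroup G) [hN : N.Normal] [Fintype N] {χ : G → ℂ}
    (hχ : IsIrrCharacter G χ) (g : G) :
    ∑ n : N, χ (n * g) = (∑ n : N, χ n) / χ 1 * χ g := by
  have h := hχ.sum_classFun_mul (f := extendByZero N fun _ => 1) (fun x y => by
    by_cases hx : x ∈ N
    · rw [ext0_mem _ _ hx, ext0_mem _ _ (hN.conj_mem x hx y)]
    · rw [ext0_not_mem _ _ hx, ext0_not_mem]
      intro h
      exact hx (by simpa [mul_assoc] using hN.conj_mem _ h y⁻¹)) g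
  rw [sum_ext0_mul N _ (fun x => χ (x * g)), sum_ext0_mul] at h
  simpa using h

/-- The sum of an irreducible character over a coset of a normal subgroup not in its kernel. -/
theorem sum_normal_mul_eq_zero [Finite G] (N : Subgroup G) [hN : N.Normal] [Fintype N] {χ : G → ℂ}
    (hχ : IsIrrCharacter G χ) (h : ¬ N ≤ charKer χ) (g : G) : ∑ n : N, χ (n * g) = 0 := by
  have := Fintype.ofFinite G
  have h1 : classInner (fun n : N => χ n) (fun _ => 1) = 0 := by
    by_contra h0
    exact h ((le_charKer_iff hχ.isCharacter).mpr ((inner_res_one_ne_zero_iff N hχ).mp h0))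
  have h2 := card_mul_classInner (fun n : N => χ n) (fun _ => 1)
  rw [h1] at h2
  simp only [mul_zero, map_one, mul_one] at h2
  rw [sum_normal_mul N hχ, ← h2]; simp

theorem sum_mul_of_le_charKer (N : Subgroup G) [Fintype N] {χ : G → ℂ}
    (h : N ≤ charKer χ) (g : G) : ∑ n : N, χ (n * g) = Nat.card N * χ g := by
  rw [Finset.sum_congr rfl fun (n : N) _ => h n.2 g]
  simp

theorem commutator_le_charKer_of_linear [Finite G] {χ : G → ℂ} (hχ : IsCharacter G χ)
    (h1 : χ 1 = 1) : commutator G ≤ charKer χ := by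
  obtain ⟨lam, rfl⟩ := hχ.exists_linear h1
  intro g hg x
  have := Abelianization.commutator_subset_ker lam hg
  rw [MonoidHom.mem_ker] at this
  simp [this]

theorem commutator_le_of_forall_linear [Finite G] (N : Subgroup G) [N.Normal]
    (h : ∀ χ, IsIrrCharacter G χ → N ≤ charKer χ → χ 1 = 1) : commutator G ≤ N := by
  intro g hg
  by_contra hgN
  obtain ⟨χ, hχ, h1, h2⟩ := exists_irr_le_charKer_not_mem N hgN
  exact h2 (apply_of_mem_charKer (commutator_le_charKer_of_linear hχ.isCharacter (h χ hχ h1) hg))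

theorem apply_one_eq_one_of_commutator_le [Finite G] {χ : G → ℂ} (hχ : IsIrrCharacter G χ)
    (h : commutator G ≤ charKer χ) : χ 1 = 1 := by
  obtain ⟨ψ, hψ, rfl⟩ := exists_irr_deflation (Abelianization.of (G := G))
    (fun x => QuotientGroup.mk_surjective x) hχ (by rwa [Abelianization.ker_of])
  simpa using hψ.apply_one_of_comm mul_comm

theorem mem_charKer_of_constituents [Fintype G] {χ : G → ℂ} (hχ : IsClassFunction G χ) {g : G}
    (h : ∀ ψ, IsIrrCharacter G ψ → classInner χ ψ ≠ 0 → g ∈ charKer ψ) : g ∈ charKer χ := by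
  intro x
  rw [hχ.apply_eq_sum, hχ.apply_eq_sum x]
  refine Finset.sum_congr rfl fun ψ _ => ?_
  by_cases h0 : classInner χ ψ = 0
  · rw [h0, zero_mul, zero_mul]
  · rw [h ψ ψ.2 h0 x]

theorem mem_charCenter_of_homog_comm [Finite G] {χ : G → ℂ} (hχ : IsCharacter G χ) {B : Type*}
    [Group B] [Finite B] (f : B →* G) (hB : ∀ a b : B, a * b = b * a)
    (h : Homog fun b => χ (f b)) (b : B) : f b ∈ charCenter χ := by
  obtain ⟨θ, e, hθ, he⟩ := h
  have h1 := hθ.apply_one_of_comm hB
  have h2 := congrFun he 1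
  have h3 := congrFun he b
  simp only [map_one, Pi.smul_apply, smul_eq_mul, h1, mul_one] at h2 h3
  exact mem_charCenter_of_apply hχ (c := θ b) (norm_eq_one_of_scalar hθ.apply_one_ne_zero
    (hθ.isCharacter.map_mul_of_apply_one h1 b)) (by rw [h3, h2, mul_comm])

theorem apply_one_eq_one_of_charCenter_eq_top [Finite G] {χ : G → ℂ} (hχ : IsIrrCharacter G χ)
    (h : charCenter χ = ⊤) : χ 1 = 1 := by
  have h1 := isIrr_comp_of_charCenter (⊥ : Subgroup G).subtype hχ
    fun g => ⟨g, h ▸ Subgroup.mem_top g, 1, by simp⟩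
  simpa using h1.apply_one_of_comm fun a b => Subsingleton.elim _ _

/-- `χ` is monomial. -/
def Monomial [Fintype G] (χ : G → ℂ) : Prop :=
  ∃ (H : Subgroup G) (lam : H →* ℂˣ), χ = indFun H (fun h => (lam h : ℂ))

theorem Monomial.indFun [Fintype G] {T : Subgroup G} [Fintype T] {ψ : T → ℂ} (h : Monomial ψ) :
    Monomial (indFun T ψ) := by
  obtain ⟨H, lam, rfl⟩ := h
  exact ⟨H.map T.subtype, lam.comp
    (H.equivMapOfInjective T.subtype T.subtype_injective).symm.toMonoidHom,
    H5.indFun_indFun_map T H _⟩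

theorem monomial_of_linear [Fintype G] {χ : G → ℂ} (hχ : IsCharacter G χ) (h1 : χ 1 = 1) :
    Monomial χ := by
  obtain ⟨lam, rfl⟩ := hχ.exists_linear h1
  exact ⟨⊤, lam.comp (Subgroup.subtype ⊤), (indFun_top_res hχ.classFun).symm⟩

/-- A quasi-primitive character of a nilpotent group is linear. -/
theorem apply_one_eq_one_of_nilpotent [Finite G] [Group.IsNilpotent G] {χ : G → ℂ}
    (hχ : IsIrrCharacter G χ) (h : ∀ N : Subgroup G, N.Normal → Homog fun n : N => χ n) :
    χ 1 = 1 := by
  apply apply_one_eq_one_of_charCenter_eq_top hχ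
  by_contra hZ
  have := charCenter_normal hχ.classFun
  obtain ⟨x, -, hx, hc⟩ := H2.exists_mem_central_mod (N := charCenter χ) (C := ⊤)
    (fun h => hZ (top_le_iff.mp h))
  have h1 := h _ (H2.normal_of_commutator_top_le hc)
  have h2 := h1.comp_of_charCenter
    (Subgroup.inclusion (le_sup_right : Subgroup.zpowers x ≤ charCenter χ ⊔ Subgroup.zpowers x))
    fun g => by
      have hg : (g : G) ∈ (↑(charCenter χ ⊔ Subgroup.zpowers x) : Set G) := g.2
      rw [Subgroup.normal_mul] at hg
      obtain ⟨z, hz, y, hy, e⟩ := hg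
      exact ⟨⟨z, Subgroup.mem_sup_left hz⟩, charCenter_comp (Subgroup.subtype _) χ hz, ⟨y, hy⟩,
        Subtype.ext e.symm⟩
  exact hx (mem_charCenter_of_homog_comm hχ.isCharacter (Subgroup.zpowers x).subtype
    (fun a b => mul_comm' a b) h2 ⟨x, Subgroup.mem_zpowers x⟩)

theorem monomial_of_nilpotent_aux (n : ℕ) : ∀ (G : Type u) [Group G] [Fintype G]
    [Group.IsNilpotent G], Nat.card G = n → ∀ χ : G → ℂ, IsIrrCharacter G χ → Monomial χ := by
  induction n using Nat.strong_induction_on with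
  | _ n ih =>
  intro G _ _ _ hn χ hχ
  classical
  by_cases h : ∀ N : Subgroup G, N.Normal → Homog fun n : N => χ n
  · exact monomial_of_linear hχ.isCharacter (apply_one_eq_one_of_nilpotent hχ h)
  · push Not at h
    obtain ⟨N, hN, h⟩ := h
    obtain ⟨T, ψ, -, hT, hψ, rfl⟩ := exists_indFun_of_not_homogeneous N hχ h
    exact (ih _ (hn ▸ H2.card_lt_of_ne_top hT) T rfl ψ hψ).indFun

/-- Nilpotent groups are M-groups. -/
theorem monomial_of_nilpotent [Fintype G] [Group.IsNilpotent G] {χ : G → ℂ}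
    (hχ : IsIrrCharacter G χ) : Monomial χ :=
  monomial_of_nilpotent_aux _ G rfl χ hχ

theorem taketa_aux [Fintype G] (hM : ∀ χ : G → ℂ, IsIrrCharacter G χ → Monomial χ) (d : ℕ) :
    ∀ χ : G → ℂ, IsIrrCharacter G χ → (χ 1).re ≤ d → derivedSeries G d ≤ charKer χ := by
  classical
  induction d with
  | zero =>
    intro χ hχ h
    have := hχ.one_le_apply_one_re
    simp only [Nat.cast_zero] at h
    linarith
  | succ d ih =>
    intro χ hχ hd
    obtain ⟨H, lam, rfl⟩ := hM χ hχ
    have h1 : derivedSeries G d ≤ H := by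
      have h2 := isCharacter_indFun H (isCharacter_one (G := H))
      refine le_trans ?_ ((charKer_le_charCenter _).trans
        (charCenter_indFun_le H isCharacter_one one_ne_zero))
      intro g hg
      refine mem_charKer_of_constituents h2.classFun fun ψ hψ h0 => ?_
      by_cases hψ1 : ψ = fun _ => 1
      · subst hψ1; exact fun _ => rfl
      refine ih ψ hψ ?_ hg
      have h3 : classInner (indFun H fun _ => 1) (fun _ => 1) ≠ 0 := by
        rw [H5.classInner_indFun_left H _ (isClassFunction_const 1), classInner_one_one]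
        exact one_ne_zero
      have h4 := (h2.sub_irr isIrrCharacter_one h3).degree_le_of_inner_ne_zero hψ (by
        rwa [classInner_sub_left, isIrrCharacter_one.inner_of_ne hψ (Ne.symm hψ1), sub_zero])
      simp only [Pi.sub_apply, indFun_one_eq, map_one, Units.val_one, mul_one, Complex.sub_re,
        Complex.natCast_re, Complex.one_re, Nat.cast_add, Nat.cast_one] at h4 hd
      linarith
    intro g hg
    rw [mem_charKer_iff hχ.isCharacter]
    refine indFun_apply_of_ker H fun x => ?_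
    have h2 : x⁻¹ * g * x ∈ derivedSeries G (d + 1) := by
      simpa using (derivedSeries_normal G (d + 1)).conj_mem g hg x⁻¹
    have h3 : derivedSeries G (d + 1) ≤ lam.ker.map H.subtype := by
      rw [derivedSeries_succ, commutator_le_iff']
      intro a ha b hb
      refine ⟨⟨a, h1 ha⟩ * ⟨b, h1 hb⟩ * ⟨a, h1 ha⟩⁻¹ * ⟨b, h1 hb⟩⁻¹, ?_, rfl⟩
      change lam _ = 1
      rw [map_mul, map_mul, map_mul, map_inv, map_inv, mul_inv_cancel_comm, mul_inv_cancel]
    obtain ⟨y, hy, e⟩ := h3 h2
    refine ⟨e ▸ y.2, ?_⟩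
    have : lam y = 1 := hy
    simp only [← e, map_one]
    exact congrArg Units.val this

/-- Taketa's theorem. -/
theorem taketa [Fintype G] (hM : ∀ χ : G → ℂ, IsIrrCharacter G χ → Monomial χ) :
    Group.IsSolvable G := by
  refine ⟨⟨Nat.card G, eq_bot_iff.mpr fun g hg => eq_one_of_forall_irr fun χ hχ => ?_⟩⟩
  obtain ⟨d, -, hd⟩ := hχ.exists_nat_apply_one
  refine apply_of_mem_charKer (taketa_aux hM _ χ hχ ?_ hg)
  rw [hd, Complex.natCast_re, Nat.cast_le]
  exact Nat.le_of_dvd Nat.card_pos (hχ.degree_dvd_card hd)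

/-- Splitting of a nilpotent group along a coprime factorisation. -/
theorem nilp_decomp [Finite G] (hG : Group.IsNilpotent G) {m n : ℕ} (hcop : m.Coprime n)
    (hdvd : Nat.card G ∣ m * n) : ∃ A B : Subgroup G, A.Normal ∧ B.Normal ∧
      (∀ g, g ∈ A ↔ (orderOf g).Coprime n) ∧ (∀ g, g ∈ B ↔ (orderOf g).Coprime m) ∧
      (∀ a ∈ A, ∀ b ∈ B, Commute a b) ∧ A.IsComplement' B ∧ Nat.card A ∣ m ∧ Nat.card B ∣ n := by
  have hA := H2.pPrimeCore_coprime n G
  have hB := H2.pPrimeCore_coprime m G
  have hA' : Nat.card (pPrimeCore n G) ∣ m :=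
    hA.dvd_of_dvd_mul_right ((Subgroup.card_subgroup_dvd_card _).trans hdvd)
  have hB' : Nat.card (pPrimeCore m G) ∣ n :=
    hB.dvd_of_dvd_mul_left ((Subgroup.card_subgroup_dvd_card _).trans hdvd)
  have key : ∀ (k : ℕ) (g : G), g ∈ pPrimeCore k G ↔ (orderOf g).Coprime k := fun k g =>
    ⟨fun h => (H2.pPrimeCore_coprime k G).coprime_dvd_left (Subgroup.orderOf_dvd_natCard _ h),
      fun h => H2.le_pPrimeCore_of_isSubnormal (H2.isSubnormal_of_isNilpotent _)
        (by rwa [Nat.card_zpowers]) (Subgroup.mem_zpowers g)⟩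
  have hdisj : Disjoint (pPrimeCore n G) (pPrimeCore m G) :=
    Subgroup.disjoint_of_coprime_natCard (hB.symm.coprime_dvd_left hA')
  refine ⟨pPrimeCore n G, pPrimeCore m G, inferInstance, inferInstance, key n, key m,
    fun a ha b hb => Subgroup.commute_of_normal_of_disjoint _ _ inferInstance inferInstance hdisj
      a b ha hb, ?_, hA', hB'⟩
  refine Subgroup.isComplement'_of_disjoint_and_mul_eq_univ hdisj ?_
  rw [← Subgroup.normal_mul, Subgroup.coe_eq_univ]
  refine H2.eq_top_of_forall_sylow_le fun p hp => ?_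
  obtain ⟨P⟩ : Nonempty (Sylow p G) := inferInstance
  refine ⟨P, fun g hg => ?_⟩
  obtain ⟨k, hk⟩ := IsPGroup.iff_orderOf.mp P.isPGroup' ⟨g, hg⟩
  rw [Subgroup.orderOf_mk] at hk
  by_cases hpn : p ∣ n
  · refine Subgroup.mem_sup_right ((key m g).mpr (hk ▸ Nat.Coprime.pow_left k ?_))
    exact (Nat.Prime.coprime_iff_not_dvd hp.out).mpr fun h =>
      hp.out.one_lt.ne' (Nat.eq_one_of_dvd_coprimes hcop h hpn)
  · exact Subgroup.mem_sup_left ((key n g).mpr (hk ▸ Nat.Coprime.pow_left k
      ((Nat.Prime.coprime_iff_not_dvd hp.out).mpr hpn)))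

end H5
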