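import Mathlib
import Cfsg.Prelude.Def_Characters
import Cfsg.Agent.H5.Misc

/-! Sums of class functions over products of two conjugacy classes. -/

set_option autoImplicit false
open Cfsg H4
open scoped ComplexConjugate

namespace H5

variable {G : Type*} [Group G] [Fintype G]

open Classical in
/-- The conjugacy class of `a` as a finset. -/
noncomputable def cl (a : G) : Finset G := Finset.univ.filter (IsConj a)

theorem mem_cl {a x : G} : x ∈ cl a ↔ IsConj a x := by simp [cl]

theorem card_cl (a : G) : (cl a).card = (Subgroup.centralizer ({a} : Set G)).index := by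
  classical
  rw [← card_isConj_eq_index, Nat.card_eq_fintype_card, Fintype.card_subtype]
  congr

theorem card_centralizer_mul_card_cl (a : G) :
    (Nat.card (Subgroup.centralizer ({a} : Set G)) : ℂ) * (cl a).card = Nat.card G := by
  rw [card_cl, ← Nat.cast_mul, Subgroup.card_mul_index]

theorem sum_conj_eq_cl (a : G) (F : G → ℂ) : ∑ x : G, F (x * a * x⁻¹) =
    (Nat.card (Subgroup.centralizer ({a} : Set G)) : ℂ) * ∑ g ∈ cl a, F g := by
  rw [sum_conj_eq_card_mul_sum]; congr

theorem sum_cl_classFun {θ : G → ℂ} (hθ : IsClassFunction G θ) (a : G) :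
    ∑ g ∈ cl a, θ g = (cl a).card * θ a := by
  rw [Finset.sum_congr rfl fun g hg => (hθ.apply_of_isConj (mem_cl.mp hg)).symm]
  simp

theorem sum_cl_mul {χ : G → ℂ} (hχ : IsIrrCharacter G χ) (a z : G) :
    ∑ x ∈ cl a, χ (x * z) = (cl a).card * χ a * χ z / χ 1 := by
  apply mul_left_cancel₀ (card_ne_zero (Subgroup.centralizer ({a} : Set G)))
  rw [← sum_conj_eq_cl a (fun x => χ (x * z)), hχ.sum_conj_mul, ← card_centralizer_mul_card_cl a]
  ring

theorem sum_cl_cl {χ : G → ℂ} (hχ : IsIrrCharacter G χ) (a b : G) :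
    ∑ x ∈ cl a, ∑ y ∈ cl b, χ (x * y) = (cl a).card * (cl b).card * (χ a * χ b / χ 1) := by
  rw [Finset.sum_comm]
  simp only [sum_cl_mul hχ, ← Finset.sum_div, ← Finset.mul_sum, sum_cl_classFun hχ.classFun]
  ring

theorem sum_cl_conj (a : G) (F : G → ℂ) (t : G) :
    ∑ x ∈ cl a, F (t⁻¹ * x * t) = ∑ x ∈ cl a, F x := by
  refine Finset.sum_bij (fun x _ => t⁻¹ * x * t) (fun x hx => ?_) (fun x _ y _ h => ?_)
    (fun y hy => ⟨t * y * t⁻¹, ?_, by group⟩) (fun _ _ => rfl)
  · exact mem_cl.mpr ((mem_cl.mp hx).trans (isConj_iff.mpr ⟨t⁻¹, by simp⟩))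
  · simpa using h
  · exact mem_cl.mpr ((mem_cl.mp hy).trans (isConj_iff.mpr ⟨t, rfl⟩))

theorem sum_cl_cl_indFun (H : Subgroup G) (φ : H → ℂ) (a b : G) :
    ∑ x ∈ cl a, ∑ y ∈ cl b, indFun H φ (x * y) =
      H.index * ∑ x ∈ cl a, ∑ y ∈ cl b, extendByZero H φ (x * y) := by
  simp only [H5.indFun_apply, ← Finset.mul_sum]
  simp_rw [Finset.sum_comm (s := cl b) (t := Finset.univ)]
  rw [Finset.sum_comm]
  have : ∀ t : G, ∑ x ∈ cl a, ∑ y ∈ cl b, extendByZero H φ (t⁻¹ * (x * y) * t) =
      ∑ x ∈ cl a, ∑ y ∈ cl b, extendByZero H φ (x * y) := by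
    intro t
    rw [← sum_cl_conj a (fun x => ∑ y ∈ cl b, extendByZero H φ (x * y)) t]
    refine Finset.sum_congr rfl fun x _ => ?_
    rw [← sum_cl_conj b (fun y => extendByZero H φ (t⁻¹ * x * t * y)) t]
    refine Finset.sum_congr rfl fun y _ => ?_
    congr 1; group
  simp only [this, Finset.sum_const, Finset.card_univ, nsmul_eq_mul, ← Nat.card_eq_fintype_card,
    card_eq_card_mul_index H]
  have := card_ne_zero H
  field_simp

open Classical in
/-- Class multiplication coefficients. -/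
theorem card_cl_mul_eq (a b c : G) :
    (((cl a).filter fun x => IsConj b (x⁻¹ * c)).card : ℂ) = (cl a).card * (cl b).card / Nat.card G *
      ∑ χ : IrrCharacter G, χ.1 a * χ.1 b * conj (χ.1 c) / χ.1 1 := by
  apply mul_left_cancel₀ (card_ne_zero (Subgroup.centralizer ({b} : Set G)))
  have h1 : ∀ x : G, (Nat.card (Subgroup.centralizer ({b} : Set G)) : ℂ) *
      (if IsConj b (x⁻¹ * c) then 1 else 0) = ∑ χ : IrrCharacter G, χ.1 b * χ.1 (x * c⁻¹) := by
    intro x
    have : ∀ χ : IrrCharacter G, χ.1 (x * c⁻¹) = conj (χ.1 (x⁻¹ * c)) := fun χ => by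
      rw [← χ.2.apply_inv, χ.2.classFun.mul_comm]; simp
    simp only [this]
    split_ifs with h
    · rw [column_orth_of_isConj h, mul_one]
    · rw [column_orth_of_not_isConj h, mul_zero]
  rw [← Finset.sum_boole, Finset.mul_sum]
  simp only [h1]
  rw [Finset.sum_comm, Finset.mul_sum, Finset.mul_sum]
  refine Finset.sum_congr rfl fun χ _ => ?_
  rw [← Finset.mul_sum, sum_cl_mul χ.2, χ.2.apply_inv, ← card_centralizer_mul_card_cl b]
  have := card_ne_zero (Subgroup.centralizer ({b} : Set G))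
  have : ((cl b).card : ℂ) ≠ 0 :=
    right_ne_zero_of_mul (by rw [card_centralizer_mul_card_cl]; exact card_ne_zero G)
  field_simp

end H5
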