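import Mathlib
import Cfsg.Agent.H5.BSGroup
import Cfsg.Agent.H5.ClassMul

/-! The Brauer–Suzuki theorem for generalized quaternion Sylow subgroups of order at least 16. -/

set_option autoImplicit false
open Cfsg H4 Subgroup
open scoped ComplexConjugate

namespace H5

variable {G : Type*} [Group G]

/-- Value of an induced class function at an element whose conjugates in the support come from two
cosets. -/
theorem indFun_apply_two_cosets [Fintype G] (C : Subgroup G) {φ : C → ℂ} (hφ : IsClassFunction C φ)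
    {x y : G} (hx : x ∉ C)
    (h : ∀ g, extendByZero C φ (g⁻¹ * y * g) ≠ 0 → g ∈ C ∨ x⁻¹ * g ∈ C) :
    indFun C φ y = extendByZero C φ y + extendByZero C φ (x⁻¹ * y * x) := by
  classical
  let := Fintype.ofFinite (G ⧸ C)
  have key : ∀ g : G, extendByZero C φ (((g : G ⧸ C).out)⁻¹ * y * (g : G ⧸ C).out) =
      extendByZero C φ (g⁻¹ * y * g) := by
    intro g
    obtain ⟨c, hc⟩ := QuotientGroup.mk_out_eq_mul C g
    rw [hc, ← ext0_conj_mem' C hφ c.2 (g⁻¹ * y * g)]
    congr 1; group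
  rw [H5.indFun_eq_sum_quot C hφ, Finset.sum_eq_add ((1 : G) : G ⧸ C) (x : G ⧸ C)]
  · rw [key, key]; simp
  · intro h1
    exact hx (by simpa using QuotientGroup.eq.1 h1)
  · intro q _ hq
    by_contra h0
    rcases h _ h0 with h1 | h1
    · exact hq.1 (by rw [← q.out_eq']; exact (QuotientGroup.eq.2 (by simpa using h1)).symm)
    · exact hq.2 (by rw [← q.out_eq']; exact (QuotientGroup.eq.2 h1).symm)
  · simp
  · simp

/-- A generalized character of norm three, degree zero, containing `-1`. -/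
theorem exists_of_norm_three [Fintype G] {θ : G → ℂ} (hθ : IsGeneralizedCharacter G θ)
    (h3 : classInner θ θ = 3) (h1 : θ 1 = 0) (hone : classInner θ (fun _ => 1) = -1) :
    ∃ χ₁ χ₂ : G → ℂ, IsIrrCharacter G χ₁ ∧ IsIrrCharacter G χ₂ ∧ χ₁ ≠ (fun _ => 1) ∧
      χ₂ ≠ (fun _ => 1) ∧ χ₁ ≠ χ₂ ∧ θ = χ₁ - χ₂ - fun _ => 1 := by
  have hone' : classInner (fun _ => 1) θ = -1 := by rw [← hθ.inner_comm isGen_one, hone]
  have hη : IsGeneralizedCharacter G (θ + fun _ => 1) := hθ.add isGen_one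
  have h2 : classInner (θ + fun _ => 1) (θ + fun _ => 1) = 2 := by
    rw [classInner_add_left, classInner_add_right, classInner_add_right, h3, hone, hone',
      classInner_one_one]; ring
  have h0 : classInner (θ + fun _ => 1) (fun _ => 1) = 0 := by
    rw [classInner_add_left, hone, classInner_one_one]; ring
  obtain ⟨χ, ψ, ε, δ, hχ, hψ, hne, hε, hδ, he⟩ := hη.exists_of_inner_self_two h2
  have hv := congrFun he 1
  simp only [Pi.add_apply, h1, Pi.smul_apply, smul_eq_mul, zero_add] at hv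
  rw [he, classInner_add_left, classInner_smul_left, classInner_smul_left,
    hχ.inner_eq_ite isIrrCharacter_one, hψ.inner_eq_ite isIrrCharacter_one] at h0
  have hχ1 : χ ≠ fun _ => 1 := by
    rintro rfl
    rw [if_pos rfl, if_neg hne.symm] at h0
    rcases hε with rfl | rfl <;> simp at h0
  have hψ1 : ψ ≠ fun _ => 1 := by
    rintro rfl
    rw [if_pos rfl, if_neg hne] at h0
    rcases hδ with rfl | rfl <;> simp at h0
  obtain ⟨a, ha, ha'⟩ := hχ.exists_nat_apply_one
  obtain ⟨b, hb, hb'⟩ := hψ.exists_nat_apply_one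
  rw [ha', hb'] at hv
  have hv' : (1 : ℤ) = ε * a + δ * b := by exact_mod_cast hv
  have hθe : θ = (ε : ℂ) • χ + (δ : ℂ) • ψ - fun _ => 1 := by rw [← he]; simp
  rcases hε with rfl | rfl <;> rcases hδ with rfl | rfl
  · omega
  · exact ⟨χ, ψ, hχ, hψ, hχ1, hψ1, hne, by rw [hθe]; simp [sub_eq_add_neg]⟩
  · exact ⟨ψ, χ, hψ, hχ, hψ1, hχ1, hne.symm, by rw [hθe]; ext g; simp; ring⟩
  · omega

theorem apply_one_of_commutator_le [Finite G] {χ : G → ℂ} (hχ : IsIrrCharacter G χ)
    (h : commutator G ≤ charKer χ) : χ 1 = 1 := by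
  obtain ⟨χ', hχ', rfl⟩ := exists_irr_deflation (Abelianization.of (G := G))
    (fun q => Quotient.inductionOn q fun g => ⟨g, rfl⟩) hχ (by rwa [Abelianization.ker_of])
  simpa using hχ'.apply_one_of_comm mul_comm

namespace QData

variable {S : Sylow 2 G} {n : ℕ} {a x : G}

theorem exists_lam [Finite G] (h : QData (S : Subgroup G) n a x) :
    ∃ lam : centralizer (zpowers (a ^ 2) : Set G) →* ℂˣ,
      (lam ⟨a, zp_le_C (mem_zpowers a)⟩ : ℂ) = Complex.I ∧
      (∀ y, lam y ≠ 1 → 2 ^ (n + 2) ∣ orderOf (y : G)) ∧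
      ∀ (y : centralizer (zpowers (a ^ 2) : Set G))
        (hy : x⁻¹ * y * x ∈ centralizer (zpowers (a ^ 2) : Set G)), lam ⟨_, hy⟩ = (lam y)⁻¹ := by
  let C := centralizer (zpowers (a ^ 2) : Set G)
  let K := (oddPart C).subgroupOf C
  have hN : K.Normal := normal_subgroupOf_of_le_normalizer
    ((centralizer_le_normalizer _).trans N_le_NK)
  let a' : C := ⟨a, zp_le_C (mem_zpowers a)⟩
  have hgen : ∀ y : C, ∃ k : C, k ∈ K ∧ ∃ j : ℤ, y = k * a' ^ j := by
    intro y
    obtain ⟨k, hk, _, ⟨j, rfl⟩, hy⟩ := h.exists_mul_of_mem_C y.2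
    exact ⟨⟨k, oddPart_le _ hk⟩, hk, j, Subtype.ext (by simpa [a'] using hy)⟩
  have hgen' : ∀ q : C ⧸ K, q ∈ zpowers (a' : C ⧸ K) := by
    intro q
    obtain ⟨y, rfl⟩ := QuotientGroup.mk_surjective q
    obtain ⟨k, hk, j, rfl⟩ := hgen y
    exact ⟨j, by simp [(QuotientGroup.eq_one_iff k).2 hk]⟩
  have hord : orderOf (a' : C ⧸ K) = 2 ^ (n + 3) := by
    apply Nat.dvd_antisymm
    · rw [← h.ord]
      exact (orderOf_map_dvd (QuotientGroup.mk' K) a').trans (by rw [← Subgroup.orderOf_coe])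
    · rw [← h.ord, orderOf_dvd_iff_pow_eq_one]
      have h1 : a' ^ orderOf (a' : C ⧸ K) ∈ K := by
        rw [← QuotientGroup.eq_one_iff, QuotientGroup.mk_pow, pow_orderOf_eq_one]
      exact H3.eq_one_of_mem_of_coprime S.2 (pow_mem h.a_mem _)
        (H3.orderOf_coprime_of_mem (Nat.coprime_two_right.2 h.odd_K) h1)
  let i : ℂˣ := Units.mk0 Complex.I Complex.I_ne_zero
  have hi : i ^ 4 = 1 := Units.ext (by simp [i])
  let mu : C ⧸ K →* ℂˣ := monoidHomOfForallMemZpowers hgen' (g' := i)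
    ((orderOf_dvd_of_pow_eq_one hi).trans (by
      rw [hord]; exact pow_dvd_pow 2 (show 2 ≤ n + 3 by omega)))
  have hmu : mu a' = i := monoidHomOfForallMemZpowers_apply_gen _ _
  have hval : ∀ k ∈ K, ∀ j : ℤ, mu ((k * a' ^ j : C) : C ⧸ K) = i ^ j := by
    intro k hk j
    simp [(QuotientGroup.eq_one_iff k).2 hk, hmu]
  refine ⟨mu.comp (QuotientGroup.mk' K), by simp [a', hmu, i], fun y hy => ?_, fun y hy => ?_⟩
  · by_contra hnd
    apply hy
    have h1 : orderOf (y : C ⧸ K) ∣ orderOf (y : G) :=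
      (orderOf_map_dvd (QuotientGroup.mk' K) y).trans (by rw [← Subgroup.orderOf_coe])
    obtain ⟨j, hj⟩ := hgen' (y : C ⧸ K)
    simp only at hj
    have h2 : orderOf (y : C ⧸ K) ∣ 2 ^ (n + 3) := by
      rw [← hord]
      exact orderOf_dvd_of_mem_zpowers (hgen' _)
    obtain ⟨m, hm, hm'⟩ := (Nat.dvd_prime_pow Nat.prime_two).1 h2
    have h3 : m ≤ n + 1 := by
      by_contra hlt
      exact hnd ((pow_dvd_pow 2 (by omega)).trans (hm' ▸ h1))
    have h4 : (a' : C ⧸ K) ^ (j * (2 ^ (n + 1) : ℕ)) = 1 := by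
      rw [zpow_mul, hj, zpow_natCast, ← orderOf_dvd_iff_pow_eq_one, hm']
      exact pow_dvd_pow 2 h3
    rw [← orderOf_dvd_iff_zpow_eq_one, hord] at h4
    have h5 : (4 : ℤ) ∣ j := by
      have : ((2 ^ (n + 3) : ℕ) : ℤ) = 4 * (2 ^ (n + 1) : ℕ) := by push_cast; ring
      rw [this] at h4
      exact (mul_dvd_mul_iff_right (by positivity)).1 h4
    obtain ⟨l, rfl⟩ := h5
    simp only [MonoidHom.comp_apply, QuotientGroup.mk'_apply]
    rw [← hj, map_zpow, hmu, zpow_mul]
    have : i ^ (4 : ℤ) = 1 := hi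
    rw [this, one_zpow]
  · obtain ⟨k, hk, j, rfl⟩ := hgen y
    have hk' : x⁻¹ * k * x ∈ oddPart C :=
      ((mem_normalizer_iff'').1 (N_le_NK (h.le_N h.x_mem)) k).1 hk
    have : (⟨_, hy⟩ : C) = ⟨_, oddPart_le _ hk'⟩ * a' ^ (-j) := by
      apply Subtype.ext
      have h1 := h.conj_zp' (zpow_mem (mem_zpowers a) j)
      simp only [coe_mul, SubgroupClass.coe_zpow, a', zpow_neg, InvMemClass.coe_inv]
      rw [← h1]; group
    simp only [MonoidHom.comp_apply, QuotientGroup.mk'_apply]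
    rw [this, hval _ hk', hval _ hk, zpow_neg]

theorem exists_pair [Fintype G] (h : QData (S : Subgroup G) n a x) :
    ∃ χ₁ χ₂ : G → ℂ, IsIrrCharacter G χ₁ ∧ IsIrrCharacter G χ₂ ∧ χ₁ ≠ (fun _ => 1) ∧
      χ₂ ≠ (fun _ => 1) ∧ χ₁ 1 = χ₂ 1 + 1 ∧ ∀ g : G, ¬ 4 ∣ orderOf g → χ₁ g - χ₂ g = 1 := by
  classical
  obtain ⟨lam, hla, hls, hlx⟩ := h.exists_lam
  let C := centralizer (zpowers (a ^ 2) : Set G)
  let l : C → ℂ := fun y => lam y
  let l' : C → ℂ := fun y => (lam⁻¹ : C →* ℂˣ) y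
  have hl : IsIrrCharacter C l := isIrrCharacter_linear lam
  have hl' : IsIrrCharacter C l' := isIrrCharacter_linear lam⁻¹
  have h1 : IsIrrCharacter C (fun _ => 1) := isIrrCharacter_one
  let a' : C := ⟨a, zp_le_C (mem_zpowers a)⟩
  have hla' : l' a' = -Complex.I := by simp [l', a', hla]
  have hI : ∀ z : ℂ, z.im ≠ 1 → l a' ≠ z := fun z hz hh => hz (by
    rw [← hh]; simp [l, a', hla])
  have n1 : l ≠ fun _ => 1 := fun hh => hI 1 (by simp) (congrFun hh a')
  have n2 : l ≠ l' := fun hh => hI _ (by rw [hla']; norm_num) (congrFun hh a')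
  have n3 : (fun _ => 1) ≠ l' := fun hh => by
    have := congrArg Complex.im ((congrFun hh a').trans hla'); simp at this
  let φ : C → ℂ := l - fun _ => 1
  have hφg : IsGeneralizedCharacter C φ := hl.isGen.sub isGen_one
  have hsupp : ∀ g, extendByZero C φ g ≠ 0 → g ∈ C ∧ 2 ^ (n + 2) ∣ orderOf g := by
    intro g hg
    by_cases hgC : g ∈ C
    · refine ⟨hgC, hls ⟨g, hgC⟩ fun h0 => hg ?_⟩
      rw [ext0_mem C φ hgC]; simp [φ, l, h0]
    · exact absurd (ext0_not_mem C φ hgC) hg
  have hzero : ∀ g : G, ¬ 4 ∣ orderOf g → indFun C φ g = 0 := by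
    intro g hg
    rw [H5.indFun_apply', Finset.sum_eq_zero, mul_zero]
    intro z _
    by_contra h0
    have := (hsupp _ h0).2
    rw [H6.orderOf_conj] at this
    exact hg ((pow_dvd_pow 2 (show 2 ≤ n + 2 by omega)).trans this)
  have hres : ∀ y : C, φ y * conj (indFun C φ y) = φ y * conj ((l + l' - fun _ => 2 : C → ℂ) y) := by
    intro y
    by_cases hy : φ y = 0
    · simp [hy]
    have hy' := hsupp y (by rwa [ext0_coe])
    have hxy : x⁻¹ * y * x ∈ C := ((mem_normalizer_iff'').1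
      (normalizer_le_normalizer_centralizer' _ (h.le_N h.x_mem)) y).1 y.2
    rw [indFun_apply_two_cosets C hφg.classFun h.x_nmem_C, ext0_coe, ext0_mem C φ hxy]
    · congr 2
      simp only [φ, l, l', Pi.sub_apply, Pi.add_apply, hlx y hxy, MonoidHom.inv_apply]; ring
    · intro g hg
      refine h.mem_N_iff.1 (inv_mem_iff.1 (h.mem_N_of_conj hy'.1 hy'.2 ?_))
      simpa using (hsupp _ hg).1
  have hθ : IsGeneralizedCharacter G (indFun C φ) := by
    rw [H5.indFun_sub]
    exact (isCharacter_indFun C hl.isCharacter).isGen.sub (isCharacter_indFun C isCharacter_one).isGen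
  have h3 : classInner (indFun C φ) (indFun C φ) = 3 := by
    rw [H5.classInner_indFun_left C φ hθ.classFun]
    have : classInner φ (fun y : C => indFun C φ y) = classInner φ (l + l' - fun _ => 2) := by
      simp only [classInner_def, hres]
    have h2 : (fun _ : C => (2 : ℂ)) = (fun _ => 1) + fun _ => 1 := by ext; norm_num
    rw [this, h2]
    simp only [φ, classInner_sub_left, classInner_sub_right, classInner_add_right, hl.inner_self,
      hl.inner_of_ne h1 n1, hl.inner_of_ne hl' n2, h1.inner_of_ne hl n1.symm, h1.inner_of_ne hl' n3,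
      h1.inner_self]
    ring
  have hone : classInner (indFun C φ) (fun _ => 1) = -1 := by
    rw [H5.classInner_indFun_left C φ (isClassFunction_const 1)]
    simp only [φ, classInner_sub_left, hl.inner_of_ne h1 n1, h1.inner_self]; ring
  obtain ⟨χ₁, χ₂, hχ₁, hχ₂, m1, m2, -, he⟩ :=
    exists_of_norm_three hθ h3 (hzero 1 (by simp)) hone
  have key : ∀ g : G, ¬ 4 ∣ orderOf g → χ₁ g - χ₂ g = 1 := fun g hg => by
    have := hzero g hg
    rw [he] at this
    simpa [sub_eq_zero] using this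
  refine ⟨χ₁, χ₂, hχ₁, hχ₂, m1, m2, ?_, key⟩
  rw [← key 1 (by simp)]; ring

theorem exists_normal_even [Finite G] (h : QData (S : Subgroup G) n a x) :
    ∃ M : Subgroup G, M.Normal ∧ Even (Nat.card M) ∧ ¬ commutator G ≤ M := by
  let := Fintype.ofFinite G
  obtain ⟨χ₁, χ₂, hχ₁, hχ₂, -, -, hd, hv⟩ := h.exists_pair
  set z := a ^ 2 ^ (n + 2)
  have hz : orderOf z = 2 := h.orderOf_z
  have hsum : ∑ s ∈ cl z, ∑ t ∈ cl z, (χ₁ (s * t) - χ₂ (s * t)) =
      ∑ s ∈ cl z, ∑ t ∈ cl z, (1 : ℂ) := by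
    refine Finset.sum_congr rfl fun s hs => Finset.sum_congr rfl fun t ht => hv _ fun h4 => ?_
    have := h.odd_mul ((H6.orderOf_of_isConj (mem_cl.1 hs)).symm.trans hz)
      ((H6.orderOf_of_isConj (mem_cl.1 ht)).symm.trans hz)
    exact Nat.not_even_iff_odd.2 this (even_iff_two_dvd.2 (dvd_trans (by norm_num) h4))
  simp only [Finset.sum_sub_distrib, sum_cl_cl hχ₁, sum_cl_cl hχ₂, Finset.sum_const, nsmul_eq_mul]
    at hsum
  have hc : ((cl z).card : ℂ) ≠ 0 := by
    exact_mod_cast (Finset.card_pos.2 ⟨z, mem_cl.2 (IsConj.refl z)⟩).ne'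
  have hzv := hv z (by rw [hz]; norm_num)
  have e1 := hχ₁.apply_one_ne_zero
  have e2 := hχ₂.apply_one_ne_zero
  have hz1 : χ₁ z = χ₂ z + 1 := by rw [← hzv]; ring
  have key : χ₂ z = χ₂ 1 := by
    rw [hz1, hd] at hsum
    rw [hd] at e1
    field_simp at hsum
    have : (χ₂ z - χ₂ 1) ^ 2 = 0 := by linear_combination -hsum
    exact sub_eq_zero.1 (pow_eq_zero_iff two_ne_zero |>.1 this)
  refine ⟨charKer χ₁, charKer_normal hχ₁.classFun, ?_, fun hle => ?_⟩
  · have hm : z ∈ charKer χ₁ := (mem_charKer_iff hχ₁.isCharacter).2 (by rw [hz1, key, hd])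
    rw [even_iff_two_dvd, ← hz]
    exact orderOf_dvd_natCard _ hm
  · have := apply_one_of_commutator_le hχ₁ hle
    rw [hd] at this
    exact e2 (by simpa using this)

end QData

theorem normal_closure_involutions : (closure {g : G | orderOf g = 2}).Normal := by
  have : closure {g : G | orderOf g = 2} = normalClosure {g : G | orderOf g = 2} := by
    refine le_antisymm closure_le_normalClosure ((closure_le _).2 fun g hg => subset_closure ?_)
    obtain ⟨t, ht, hc⟩ := Group.mem_conjugatesOfSet_iff.1 hg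
    exact (H6.orderOf_of_isConj hc).symm.trans ht
  rw [this]; infer_instance

theorem QData.subgroupOf {S H : Subgroup G} {n : ℕ} {a x : G} (h : QData S n a x) (hS : S ≤ H) :
    QData (S.subgroupOf H) n ⟨a, hS h.a_mem⟩ ⟨x, hS h.x_mem⟩ := by
  have key : ∀ g : H, g ∈ zpowers (⟨a, hS h.a_mem⟩ : H) ↔ (g : G) ∈ zpowers a := fun g =>
    ⟨fun ⟨k, hk⟩ => ⟨k, by simpa using congrArg Subtype.val hk⟩,
      fun ⟨k, hk⟩ => ⟨k, Subtype.ext (by simpa using hk)⟩⟩
  refine ⟨by rw [← Subgroup.orderOf_coe, h.ord], Subtype.ext h.inv, Subtype.ext (by simpa using h.sq),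
    by rw [key]; exact h.nmem, fun g => ?_⟩
  rw [key, key, mem_subgroupOf, h.mem]; rfl

namespace QData

variable [Finite G] {S : Sylow 2 G} {n : ℕ} {a x : G} (h : QData (S : Subgroup G) n a x)
include h

theorem inf_closure_le : (S : Subgroup G) ⊓ closure {g : G | orderOf g = 2} ≤ zpowers a := by
  set U := closure {g : G | orderOf g = 2} with hU
  have hUn : U.Normal := normal_closure_involutions
  intro g hg
  by_contra hga
  have h2 : a ^ 2 ∈ U := h.sq_mem_of_nmem (fun s _ u hu => hUn.conj_mem u hu s) hg.1 hga hg.2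
  let H : Subgroup G := S ⊔ U
  have hSH : (S : Subgroup G) ≤ H := le_sup_left
  have h' : QData ((S.subtype hSH : Sylow 2 H) : Subgroup H) n _ _ := h.subgroupOf hSH
  obtain ⟨M, hM, hev, hnc⟩ := h'.exists_normal_even
  apply hnc
  obtain ⟨s, hs⟩ := exists_prime_orderOf_dvd_card' 2 (even_iff_two_dvd.1 hev)
  have hUM : U ≤ M.map H.subtype := by
    rw [hU, closure_le]
    intro t ht
    have htH : t ∈ H := mem_sup_right (subset_closure ht)
    have hs' : orderOf (s : H) = 2 := by rw [Subgroup.orderOf_coe, hs]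
    have ht' : orderOf (⟨t, htH⟩ : H) = 2 := by rw [← Subgroup.orderOf_coe]; exact ht
    obtain ⟨c, hc⟩ := isConj_iff.1 (H6.isConj_of_odd (H6.mul_self_of_orderOf_two hs')
      (H6.mul_self_of_orderOf_two ht') (h'.odd_mul hs' ht'))
    exact ⟨_, hc ▸ hM.conj_mem _ s.2 c, rfl⟩
  have hHH : ⁅H, H⁆ ≤ U := by
    have e1 : H.map (QuotientGroup.mk' U) = (S : Subgroup G).map (QuotientGroup.mk' U) := by
      rw [Subgroup.map_sup, (Subgroup.map_eq_bot_iff U).2 (by simp), sup_bot_eq]
    rw [← QuotientGroup.ker_mk' U, ← Subgroup.map_eq_bot_iff, map_commutator, e1, ← map_commutator,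
      h.commutator_eq, Subgroup.map_eq_bot_iff, QuotientGroup.ker_mk', zpowers_le]
    exact h2
  rw [← map_le_map_iff_of_injective H.subtype_injective, map_subtype_commutator]
  exact hHH.trans hUM

theorem isCyclic_of_le_closure {Q : Subgroup G} (hQ : IsPGroup 2 Q)
    (hQU : Q ≤ closure {g : G | orderOf g = 2}) : IsCyclic Q := by
  obtain ⟨g, hg⟩ := H6.exists_conj_le_sylow S hQ
  exact isCyclic_of_conj_le_zpowers fun y hy => h.inf_closure_le
    ⟨hg y hy, normal_closure_involutions.conj_mem y (hQU hy) g⟩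

/-- If `O(G) = 1` then the involution of `S` is central. -/
theorem center_eq (hO : ∀ N : Subgroup G, N.Normal → Odd (Nat.card N) → N = ⊥) :
    center G = zpowers (a ^ 2 ^ (n + 2)) := by
  set U := closure {g : G | orderOf g = 2} with hU
  have hUn : U.Normal := normal_closure_involutions
  have h1 : oddPart U = ⊥ := by
    refine hO _ ?_ (odd_card_oddPart fun Q hQU hQ => h.isCyclic_of_le_closure hQ hQU)
    rw [← normalizer_eq_top_iff, eq_top_iff, ← U.normalizer_eq_top]
    exact normalizer_le_normalizer_oddPart U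
  have h2 : IsPGroup 2 U := by
    rw [oddPart_eq, map_eq_bot_iff_of_injective _ U.subtype_injective] at h1
    exact H3.pResidual_eq_bot_iff.1 h1
  have h3 : U ≤ S := h2.le_sylow_of_normal S
  apply le_antisymm
  · intro g hg
    obtain ⟨u, hu, v, hv, ⟨k, hk⟩, hvo, rfl⟩ := H3.exists_decomp 2 g
    have hgc := zpowers_le.2 hg
    have hv1 : v = 1 := by
      have := hO _ (H6.normal_zpowers_of_mem_center (hgc hv))
        (by rw [Nat.card_zpowers]; exact Nat.coprime_two_right.1 hvo)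
      simpa using this
    subst hv1
    rw [mul_one] at hg ⊢
    have := H6.normal_zpowers_of_mem_center hg
    have huS : u ∈ S := by
      obtain ⟨m, -, hm⟩ := (Nat.dvd_prime_pow Nat.prime_two).1 (orderOf_dvd_of_pow_eq_one hk)
      have : IsPGroup 2 (zpowers u) := IsPGroup.of_card (by rw [Nat.card_zpowers, hm])
      exact this.le_sylow_of_normal S (mem_zpowers u)
    have hua : u ∈ zpowers a := by
      rw [← h.inf_C]; exact ⟨huS, center_le_centralizer _ hg⟩
    have h4 := h.conj_zp hua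
    rw [mem_center_iff.1 hg x, mul_inv_cancel_right] at h4
    by_cases hu1 : u = 1
    · rw [hu1]; exact one_mem _
    · rw [h.eq_z huS (H6.orderOf_eq_two_of (by nth_rw 1 [h4]; simp) hu1)]; exact mem_zpowers _
  · rw [zpowers_le, mem_center_iff]
    intro g
    have := h.eq_z (h3 (hUn.conj_mem _ (subset_closure h.orderOf_z) g))
      (by rw [H6.orderOf_conj, h.orderOf_z])
    rwa [mul_inv_eq_iff_eq_mul] at this

end QData

end H5
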