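import Mathlib
import Cfsg.Prelude.Def_Characters
import Cfsg.Agent.H4.Core
import Cfsg.Agent.H4.Gen
import Cfsg.Agent.H5.Ind
import Cfsg.Agent.H5.CharBasic
import Cfsg.Agent.H5.Clifford

/-! Brauer's permutation lemma and consequences (real characters of groups of odd order,
inertia groups in Frobenius-like situations). -/

set_option autoImplicit false
open Cfsg H4
open scoped ComplexConjugate

namespace H5

variable {G : Type*} [Group G]

/-- Brauer's permutation lemma, general form. -/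
theorem brauer_perm [Finite G] (σ : IrrCharacter G → IrrCharacter G)
    (τ : ConjClasses G → ConjClasses G) (f : G → G)
    (hσ : ∀ (χ : IrrCharacter G) (g : G), (σ χ : G → ℂ) g = (χ : G → ℂ) (f g))
    (hτ : ∀ g, τ (ConjClasses.mk g) = ConjClasses.mk (f g)) :
    Nat.card {χ : IrrCharacter G // σ χ = χ} = Nat.card {C : ConjClasses G // τ C = C} := by
  classical
  have := Fintype.ofFinite G
  have := Fintype.ofFinite (ConjClasses G)
  have h1 : (Nat.card {χ : IrrCharacter G // σ χ = χ} : ℂ)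
      = ∑ χ : IrrCharacter G, classInner (σ χ : G → ℂ) χ := by
    simp only [irr_inner, Nat.card_eq_fintype_card, Fintype.card_subtype, Finset.sum_boole]
  have h2 : (Nat.card {C : ConjClasses G // τ C = C} : ℂ)
      = ∑ C : ConjClasses G, if τ C = C then (1 : ℂ) else 0 := by
    simp only [Nat.card_eq_fintype_card, Fintype.card_subtype, Finset.sum_boole]
  have h3 := sum_card_centralizer_mul (fun C : ConjClasses G => if τ C = C then (1 : ℂ) else 0)
  apply Nat.cast_injective (R := ℂ)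
  apply mul_left_cancel₀ (card_ne_zero G)
  rw [h1, h2, ← h3, Finset.mul_sum]
  simp only [card_mul_classInner, hσ]
  rw [Finset.sum_comm]
  refine Finset.sum_congr rfl fun g _ => ?_
  rw [hτ]
  simp only [ConjClasses.mk_eq_mk_iff_isConj]
  split_ifs with h
  · rw [column_orth_of_isConj h, card_centralizer_of_isConj h, mul_one]
  · rw [column_orth_of_not_isConj h, mul_zero]

/-- If only the identity class is fixed, only the principal character is fixed. -/
theorem eq_one_of_comp_eq [Finite G] (f : G → G) (hf1 : f 1 = 1)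
    (hirr : ∀ χ, IsIrrCharacter G χ → IsIrrCharacter G (fun g => χ (f g)))
    (hf : ∀ g, IsConj (f g) g → g = 1) {θ : G → ℂ} (hθ : IsIrrCharacter G θ)
    (h : ∀ g, θ (f g) = θ g) : θ = fun _ => 1 := by
  have hc : ∀ g h, IsConj g h → IsConj (f g) (f h) := fun g h hgh =>
    (isConj_iff_irr _ _).mpr fun χ hχ => (hirr χ hχ).classFun.apply_of_isConj hgh
  have h1 := brauer_perm (fun χ => ⟨fun g => χ.1 (f g), hirr χ.1 χ.2⟩)
    (Quotient.map' f hc) f (fun _ _ => rfl) (fun _ => rfl)
  have h2 : Nat.card {C : ConjClasses G // (Quotient.map' f hc : ConjClasses G → ConjClasses G) C = C}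
      = 1 := by
    rw [Nat.card_eq_one_iff_unique]
    refine ⟨⟨?_⟩, ⟨⟨ConjClasses.mk 1, ?_⟩⟩⟩
    · rintro ⟨C, hC⟩ ⟨D, hD⟩
      obtain ⟨g, rfl⟩ := ConjClasses.mk_surjective C
      obtain ⟨h, rfl⟩ := ConjClasses.mk_surjective D
      have h3 := hf g (ConjClasses.mk_eq_mk_iff_isConj.mp hC)
      have h4 := hf h (ConjClasses.mk_eq_mk_iff_isConj.mp hD)
      subst h3 h4; rfl
    · change ConjClasses.mk (f 1) = _
      rw [hf1]
  replace h1 := Nat.card_eq_one_iff_unique.mp (h1.trans h2)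
  have h3 := h1.1.elim ⟨⟨θ, hθ⟩, Subtype.ext (funext h)⟩ ⟨irrOne G, rfl⟩
  exact congrArg (fun x => x.1.1) h3

theorem eq_one_of_isConj_inv [Finite G] (hodd : Odd (Nat.card G)) {g : G} (h : IsConj g⁻¹ g) :
    g = 1 := by
  obtain ⟨x, hx⟩ := isConj_iff.mp h
  have h1 : Commute (x ^ 2) g := by
    have h2 : x * g * x⁻¹ = g⁻¹ := by
      have := congrArg (·⁻¹) hx
      simpa [mul_assoc] using this
    have : x ^ 2 * g * (x ^ 2)⁻¹ = g := by
      calc x ^ 2 * g * (x ^ 2)⁻¹ = x * (x * g * x⁻¹) * x⁻¹ := by simp [sq, mul_assoc]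
        _ = g := by rw [h2, hx]
    exact mul_inv_eq_iff_eq_mul.mp this
  obtain ⟨k, hk⟩ := hodd
  have h2 : x = (x ^ 2) ^ (k + 1) := by
    rw [← pow_mul, show 2 * (k + 1) = Nat.card G + 1 by omega, pow_succ, pow_card_eq_one', one_mul]
  have h3 : Commute x g⁻¹ := by rw [h2]; exact (h1.pow_left _).inv_right
  rw [h3.eq, mul_inv_cancel_right] at hx
  have h4 : g ^ 2 = 1 := by rw [sq]; nth_rewrite 1 [← hx]; exact inv_mul_cancel g
  have h5 : g = (g ^ 2) ^ (k + 1) := by
    rw [← pow_mul, show 2 * (k + 1) = Nat.card G + 1 by omega, pow_succ, pow_card_eq_one', one_mul]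
  rw [h5, h4, one_pow]

/-- A real irreducible character of a group of odd order is principal. -/
theorem eq_one_of_real_of_odd [Finite G] (hodd : Odd (Nat.card G)) {θ : G → ℂ}
    (hθ : IsIrrCharacter G θ) (h : ∀ g, conj (θ g) = θ g) : θ = fun _ => 1 :=
  eq_one_of_comp_eq (·⁻¹) inv_one (fun _ hχ => hχ.inv) (fun _ hg => eq_one_of_isConj_inv hodd hg)
    hθ fun g => by rw [hθ.apply_inv, h]

variable (N : Subgroup G) [hN : N.Normal]

/-- An element fixing no nontrivial class of `N` fixes no nonprincipal character of `N`. -/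
theorem eq_one_of_cj_eq [Finite G] {g : G}
    (hg : ∀ n ∈ N, ∀ x ∈ N, Commute (x * g) n → n = 1) {θ : N → ℂ}
    (hθ : IsIrrCharacter N θ) (h : cj N g θ = θ) : θ = fun _ => 1 := by
  refine eq_one_of_comp_eq (MulAut.conjNormal g : N ≃* N) (map_one _)
    (fun χ hχ => cj_isIrr N hχ g) (fun n hn => ?_) hθ (congrFun h)
  obtain ⟨x, hx⟩ := isConj_iff.mp hn
  have h1 : (x : G) * (g * n * g⁻¹) * (x : G)⁻¹ = n := congrArg Subtype.val hx
  refine Subtype.ext (hg n n.2 x x.2 ?_)
  rw [commute_iff_eq, ← mul_inv_eq_iff_eq_mul]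
  simpa [mul_assoc] using h1

theorem inertia_le_of_centralizer [Finite G]
    (hC : ∀ n ∈ N, n ≠ 1 → Subgroup.centralizer ({n} : Set G) ≤ N) {θ : N → ℂ}
    (hθ : IsIrrCharacter N θ) (h1 : θ ≠ fun _ => 1) : inertia N θ ≤ N := by
  intro g hg
  by_contra hgN
  refine h1 (eq_one_of_cj_eq N (fun n hn x hx hc => ?_) hθ hg)
  by_contra hn1
  have := hC n hn hn1 (Subgroup.mem_centralizer_singleton_iff.mpr hc)
  exact hgN ((Subgroup.mul_mem_cancel_left N hx).mp this)

theorem isIrr_indFun_of_centralizer [Fintype G]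
    (hC : ∀ n ∈ N, n ≠ 1 → Subgroup.centralizer ({n} : Set G) ≤ N) {θ : N → ℂ}
    (hθ : IsIrrCharacter N θ) (h1 : θ ≠ fun _ => 1) : IsIrrCharacter G (indFun N θ) :=
  isIrr_indFun_of_inertia_le N hθ (inertia_le_of_centralizer N hC hθ h1)

/-- If `C_N(h) = 1` then every element of `N h` is `N`-conjugate to `h`. -/
theorem exists_conj_eq_mul [Finite G] {h : G} (hh : ∀ n ∈ N, Commute h n → n = 1) {x : G}
    (hx : x ∈ N) : ∃ y ∈ N, y * h * y⁻¹ = x * h := by
  let F : N → N := fun y => ⟨y * h * (y : G)⁻¹ * h⁻¹, by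
    have := N.mul_mem y.2 (hN.conj_mem _ (N.inv_mem y.2) h)
    simpa [mul_assoc] using this⟩
  have hF : Function.Injective F := by
    intro a b hab
    have h1 : (a : G) * h * (a : G)⁻¹ * h⁻¹ = b * h * (b : G)⁻¹ * h⁻¹ := congrArg Subtype.val hab
    have h2 := hh ((b : G)⁻¹ * a) (N.mul_mem (N.inv_mem b.2) a.2) (by
      rw [commute_iff_eq]
      have h3 := mul_right_cancel h1
      calc h * ((b : G)⁻¹ * a) = (b : G)⁻¹ * (b * h * (b : G)⁻¹) * a := by group
        _ = (b : G)⁻¹ * a * h := by rw [← h3]; group)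
    exact Subtype.ext (inv_mul_eq_one.mp h2).symm
  obtain ⟨y, hy⟩ := Finite.surjective_of_injective hF ⟨x, hx⟩
  exact ⟨y, y.2, by rw [← mul_inv_eq_iff_eq_mul]; exact congrArg Subtype.val hy⟩

/-- In a Frobenius group the kernel contains the centralizers of its nonidentity elements. -/
theorem centralizer_le_of_frobenius [Finite G] (H : Subgroup G) (hsup : N ⊔ H = ⊤)
    (hfpf : ∀ h ∈ H, h ≠ 1 → ∀ k ∈ N, h * k = k * h → k = 1) {n : G} (hn : n ∈ N) (hn1 : n ≠ 1) :
    Subgroup.centralizer ({n} : Set G) ≤ N := by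
  intro g hg
  have hg' : g ∈ (↑(N ⊔ H) : Set G) := by rw [hsup]; trivial
  rw [Subgroup.normal_mul] at hg'
  obtain ⟨x, hx, h, hh, rfl⟩ := hg'
  by_cases h1 : h = 1
  · subst h1; simpa using hx
  obtain ⟨y, hy, e⟩ := exists_conj_eq_mul N (hfpf h hh h1) hx
  have h2 : x * h * n = n * (x * h) := Subgroup.mem_centralizer_singleton_iff.mp hg
  rw [← e] at h2
  have h3 := hfpf h hh h1 (y⁻¹ * n * y) (by simpa using hN.conj_mem n hn y⁻¹) (by
    calc h * (y⁻¹ * n * y) = y⁻¹ * (y * h * y⁻¹ * n) * y := by group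
      _ = y⁻¹ * n * y * h := by rw [h2]; group)
  exfalso
  exact hn1 (by
    calc n = y * (y⁻¹ * n * y) * y⁻¹ := by group
      _ = 1 := by rw [h3]; simp)

/-- In a group of odd order a nonprincipal character of a normal subgroup is not conjugate to
its complex conjugate. -/
theorem cj_ne_conj_of_odd [Finite G] (hodd : Odd (Nat.card G)) {θ : N → ℂ}
    (hθ : IsIrrCharacter N θ) (h1 : θ ≠ fun _ => 1) (g : G) :
    cj N g θ ≠ fun n => conj (θ n) := by
  intro h
  have h2 : g ^ 2 ∈ inertia N θ := by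
    rw [mem_inertia, sq, ← cj_cj, h]
    funext n
    have := congrFun h n
    rw [cj_apply] at this ⊢
    rw [this, Complex.conj_conj]
  obtain ⟨k, hk⟩ := hodd
  have h3 : g = (g ^ 2) ^ (k + 1) := by
    rw [← pow_mul, show 2 * (k + 1) = Nat.card G + 1 by omega, pow_succ, pow_card_eq_one', one_mul]
  have h4 : cj N g θ = θ := by rw [← mem_inertia, h3]; exact pow_mem h2 _
  refine h1 (eq_one_of_real_of_odd ?_ hθ fun n => (congrFun (h4.symm.trans h) n).symm)
  exact Odd.of_dvd_nat ⟨k, hk⟩ N.card_subgroup_dvd_card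

end H5
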