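import Mathlib
import Cfsg.Prelude.Def_Characters
import Cfsg.Prelude.Def_CharExt
import Cfsg.Agent.H5.Triple

/-! Coprime extension theorems (Isaacs 6.24-6.28, 8.15, 8.16) and Ito's theorem. -/

set_option autoImplicit false
open Cfsg H4 Module
open scoped ComplexConjugate

namespace H5

universe u

section Linear
variable {G : Type*} [Group G]

/-- The coercion of linear characters to functions, as a monoid homomorphism. -/
def linCoe (G : Type*) [Group G] : (G →* ℂˣ) →* (G → ℂ) where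
  toFun lam := fun g => lam g
  map_one' := by funext g; simp
  map_mul' a b := by funext g; simp

theorem linCoe_injective : Function.Injective (linCoe G) := fun a b h => by
  ext g; exact congrFun h g

theorem orderOf_linear (lam : G →* ℂˣ) : orderOf (fun g => (lam g : ℂ)) = orderOf lam :=
  orderOf_injective (linCoe G) linCoe_injective lam

theorem pow_index_eq_one_of_trivial (N : Subgroup G) [N.Normal] {A : Type*} [CommGroup A]
    (β : G →* A) (h : ∀ n : N, β n = 1) : β ^ N.index = 1 := by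
  ext g
  rw [MonoidHom.pow_apply, ← map_pow]
  exact h ⟨_, N.pow_index_mem g⟩

variable [Finite G] (N : Subgroup G) [hN : N.Normal]

theorem linear_extends_of_forall_prime (lam : N →* ℂˣ)
    (hinv : ∀ (g : G) (n : N), lam ⟨g * n * g⁻¹, hN.conj_mem (n : G) n.2 g⟩ = lam n)
    (hsyl : ∀ p : ℕ, p.Prime → p ∣ orderOf lam → ∃ (H : Subgroup G) (hNH : N ≤ H) (ν : H →* ℂˣ),
      ¬ p ∣ H.index ∧ ∀ n : N, ν ⟨(n : G), hNH n.2⟩ = lam n) :
    ∃ μ : G →* ℂˣ, ∀ n : N, μ n = lam n := by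
  let I : AddSubgroup ℤ :=
    { carrier := {k | ∃ κ : G →* ℂˣ, ∀ n : N, κ n = lam n ^ k}
      zero_mem' := ⟨1, by simp⟩
      add_mem' := by
        rintro a b ⟨κ, h⟩ ⟨κ', h'⟩
        exact ⟨κ * κ', by simp [h, h', zpow_add]⟩
      neg_mem' := by
        rintro a ⟨κ, h⟩
        exact ⟨κ⁻¹, by simp [h]⟩ }
  obtain ⟨μ, hμ⟩ : (1 : ℤ) ∈ I := by
    refine one_mem_of_forall_prime I fun p hp => ?_
    by_cases hd : p ∣ orderOf lam
    · obtain ⟨H, hNH, ν, h1, h2⟩ := hsyl p hp hd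
      refine ⟨H.index, ⟨MonoidHom.transfer ν, fun n => ?_⟩, by exact_mod_cast h1⟩
      rw [transfer_apply_of_invariant N hNH lam hinv ν h2, zpow_natCast]
    · refine ⟨orderOf lam, ⟨1, fun n => ?_⟩, by exact_mod_cast hd⟩
      rw [zpow_natCast, ← MonoidHom.pow_apply, pow_orderOf_eq_one]; rfl
  exact ⟨μ, by simpa using hμ⟩

omit [Finite G] hN in
theorem orderOf_dvd_of_res {lam : N →* ℂˣ} {μ : G →* ℂˣ} (h : ∀ n : N, μ n = lam n) :
    orderOf lam ∣ orderOf μ := by
  rw [orderOf_dvd_iff_pow_eq_one]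
  ext n
  rw [MonoidHom.pow_apply, ← h, ← MonoidHom.pow_apply, pow_orderOf_eq_one]; rfl

omit [Finite G] in
theorem linear_ext_unique {lam : N →* ℂˣ} {μ μ' : G →* ℂˣ} (h : ∀ n : N, μ n = lam n)
    (h' : ∀ n : N, μ' n = lam n) (hc : Nat.Coprime N.index (orderOf μ))
    (hc' : Nat.Coprime N.index (orderOf μ')) : μ' = μ := by
  have h1 := pow_index_eq_one_of_trivial N (μ' * μ⁻¹) (fun n => by simp [h, h'])
  have h2 : (μ' * μ⁻¹) ^ (orderOf μ * orderOf μ') = 1 := by
    have key : ∀ {A : Type _} [CommGroup A] (a b : A),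
        (b * a⁻¹) ^ (orderOf a * orderOf b) = 1 := by
      intro A _ a b
      rw [mul_pow, inv_pow, pow_mul a, pow_orderOf_eq_one, mul_comm (orderOf a), pow_mul,
        pow_orderOf_eq_one]; simp
    exact key μ μ'
  have h3 := (pow_eq_one_iff_of_coprime (Nat.Coprime.mul_right hc hc')).mp ⟨h1, h2⟩
  exact mul_inv_eq_one.mp h3

theorem exists_linear_extension_of_coprime (lam : N →* ℂˣ)
    (hinv : ∀ (g : G) (n : N), lam ⟨g * n * g⁻¹, hN.conj_mem (n : G) n.2 g⟩ = lam n)
    (hcop : Nat.Coprime N.index (orderOf lam)) :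
    ∃ μ : G →* ℂˣ, (∀ n : N, μ n = lam n) ∧ orderOf μ = orderOf lam := by
  obtain ⟨u, v, huv⟩ := Nat.isCoprime_iff_coprime.mpr hcop
  have h1 : ∀ n : N, (MonoidHom.transfer lam ^ u) n = lam n := by
    intro n
    rw [MonoidHom.zpow_apply, transfer_apply_of_invariant N le_rfl lam hinv lam (fun _ => rfl),
      ← zpow_natCast, ← zpow_mul]
    have h2 : lam n ^ (orderOf lam : ℤ) = 1 := by
      rw [zpow_natCast, ← MonoidHom.pow_apply, pow_orderOf_eq_one]; rfl
    calc lam n ^ ((N.index : ℤ) * u) = lam n ^ ((N.index : ℤ) * u) * (lam n ^ (orderOf lam : ℤ)) ^ v := by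
          rw [h2, one_zpow, mul_one]
      _ = lam n ^ (u * N.index + v * orderOf lam) := by
          rw [← zpow_mul, ← zpow_add]; congr 1; ring
      _ = lam n := by rw [huv, zpow_one]
  refine ⟨_, h1, Nat.dvd_antisymm ?_ (orderOf_dvd_of_res N h1)⟩
  have key : ∀ {A : Type _} [CommGroup A] (a : A) (u : ℤ) (m : ℕ), a ^ m = 1 →
      orderOf (a ^ u) ∣ m := by
    intro A _ a u m h
    rw [orderOf_dvd_iff_pow_eq_one, ← zpow_natCast, ← zpow_mul, mul_comm, zpow_mul, zpow_natCast,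
      h, one_zpow]
  refine key (MonoidHom.transfer lam) u _ ?_
  ext g
  classical
  let := N.fintypeQuotientOfFiniteIndex
  rw [MonoidHom.pow_apply, MonoidHom.transfer_eq_prod_quotient_orbitRel_zpowers_quot,
    ← Finset.prod_pow]
  simp_rw [← MonoidHom.pow_apply, pow_orderOf_eq_one]
  simp

end Linear

section Det
variable {G : Type u} [Group G] [Finite G] (N : Subgroup G) [hN : N.Normal] {θ : N → ℂ}

omit hN in
theorem detChar_res {χ : G → ℂ} (hχ : IsCharacter G χ) (hext : ∀ n : N, χ n = θ n) (n : N) :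
    detChar χ n = detChar θ n := by
  rw [← funext hext]; exact (detChar_comp N.subtype hχ n).symm

theorem detChar_cj (hθ : IsCharacter N θ) (g : G) : detChar (cj N g θ) = cj N g (detChar θ) :=
  funext fun n => detChar_comp (MulAut.conjNormal g : N ≃* N).toMonoidHom hθ n

theorem exists_linear_of_ext {χ ψ : G → ℂ} (hθ : IsIrrCharacter N θ) (hχ : IsCharacter G χ)
    (hψ : IsCharacter G ψ) (h1 : ∀ n : N, χ n = θ n) (h2 : ∀ n : N, ψ n = θ n) :
    ∃ β : G →* ℂˣ, (∀ n : N, β n = 1) ∧ ∀ x, ψ x = β x * χ x :=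
  exists_linear_of_ext_hom N.subtype (by rw [N.range_subtype]; exact hN) hχ hψ
    (by rw [← funext h1] at hθ; exact hθ) (fun n => (h2 n).trans (h1 n).symm)

/-- Extensions with coprime degree are determined by their determinant. -/
theorem ext_unique_of_det (hθ : IsIrrCharacter N θ) {d : ℕ} (hd : θ 1 = d)
    (hcop : Nat.Coprime N.index d) {χ ψ : G → ℂ} (hχ : IsCharacter G χ) (hψ : IsCharacter G ψ)
    (h1 : ∀ n : N, χ n = θ n) (h2 : ∀ n : N, ψ n = θ n) (h : detChar ψ = detChar χ) : ψ = χ := by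
  obtain ⟨β, hβ, hψβ⟩ := exists_linear_of_ext N hθ hχ hψ h1 h2
  have h3 : ψ = (fun g => (β g : ℂ)) * χ := funext hψβ
  have h4 : β ^ d = 1 := by
    ext g
    have := detChar_linear_mul (isIrrCharacter_linear β).isCharacter (by simp) hχ
      ((h1 1).trans hd) g
    rw [← h3, h] at this
    have h5 := linear_ne_zero (detChar_isCharacter hχ) (detChar_apply_one hχ) g
    have h6 : (β g : ℂ) ^ d = 1 := mul_right_cancel₀ h5 (by rw [← this, one_mul])
    simpa using h6
  have h5 := (pow_eq_one_iff_of_coprime hcop).mp ⟨pow_index_eq_one_of_trivial N β hβ, h4⟩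
  funext g; rw [hψβ, h5]; simp

theorem exists_ext_with_det {d : ℕ} (hd : θ 1 = d)
    (hcop : Nat.Coprime N.index d) {η : G → ℂ} (hη : IsIrrCharacter G η)
    (hext : ∀ n : N, η n = θ n) (μ : G →* ℂˣ) (hμ : ∀ n : N, (μ n : ℂ) = detChar θ n) :
    ∃ χ, IsIrrCharacter G χ ∧ (∀ n : N, χ n = θ n) ∧ detChar χ = fun g => (μ g : ℂ) := by
  obtain ⟨δ, hδ⟩ := exists_detChar_hom hη.isCharacter
  have h1 : ∀ n : N, (μ * δ⁻¹) n = 1 := fun n => by
    have : δ n = μ n := Units.ext (by rw [← hδ, hμ, detChar_res N hη.isCharacter hext])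
    simp [this]
  have h2 := pow_index_eq_one_of_trivial N _ h1
  obtain ⟨u, v, huv⟩ := Nat.isCoprime_iff_coprime.mpr hcop
  have h3 : ((μ * δ⁻¹) ^ v) ^ d = μ * δ⁻¹ := by
    have key : ∀ {A : Type _} [CommGroup A] (a : A), a ^ N.index = 1 → (a ^ v) ^ d = a := by
      intro A _ a h2
      calc (a ^ v) ^ d = (a ^ N.index) ^ u * (a ^ v) ^ d := by rw [h2, one_zpow, one_mul]
        _ = a ^ (u * N.index + v * d) := by
            rw [← zpow_natCast, ← zpow_natCast, ← zpow_mul, ← zpow_mul, ← zpow_add, mul_comm u]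
        _ = _ := by rw [huv, zpow_one]
    exact key _ h2
  set β := (μ * δ⁻¹) ^ v with hβ
  refine ⟨(fun g => (β g : ℂ)) * η,
    isIrr_linear_mul (isIrrCharacter_linear β).isCharacter (by simp) hη, fun n => ?_, ?_⟩
  · simp only [Pi.mul_apply, hβ, MonoidHom.zpow_apply, h1, one_zpow, Units.val_one, one_mul, hext]
  · funext g
    rw [detChar_linear_mul (isIrrCharacter_linear β).isCharacter (by simp) hη.isCharacter
      ((hext 1).trans hd), hδ, ← Units.val_pow_eq_pow_val, ← MonoidHom.pow_apply, h3]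
    simp

theorem extends_iff_det_extends (hθ : IsIrrCharacter N θ) (hinv : ∀ g, cj N g θ = θ) {d : ℕ}
    (hd : θ 1 = d) (hcop : Nat.Coprime N.index d) :
    (∃ χ : G → ℂ, IsIrrCharacter G χ ∧ (∀ n : N, χ n = θ n)) ↔
      ∃ μ : G → ℂ, IsCharacter G μ ∧ μ 1 = 1 ∧ ∀ n : N, μ n = detChar θ n := by
  constructor
  · rintro ⟨χ, hχ, h⟩
    exact ⟨detChar χ, detChar_isCharacter hχ.isCharacter, detChar_apply_one hχ.isCharacter,
      detChar_res N hχ.isCharacter h⟩
  · rintro ⟨μ, hμ, h1, h⟩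
    obtain ⟨μ, rfl⟩ := hμ.exists_linear h1
    exact extends_of_det_extends N hθ hinv hd hcop μ h

/-- The canonical extension in the coprime case (Isaacs 6.28 / 8.16). -/
theorem exists_canonical_extension (hθ : IsIrrCharacter N θ) (hinv : ∀ g, cj N g θ = θ) {d : ℕ}
    (hd : θ 1 = d) (hcop : Nat.Coprime N.index (detOrder θ * d)) :
    ∃ χ : G → ℂ, (IsIrrCharacter G χ ∧ (∀ n : N, χ n = θ n) ∧ detOrder χ = detOrder θ) ∧
      ∀ χ' : G → ℂ, IsIrrCharacter G χ' → (∀ n : N, χ' n = θ n) →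
        Nat.Coprime N.index (detOrder χ') → χ' = χ := by
  obtain ⟨lam, hlam⟩ := exists_detChar_hom hθ.isCharacter
  have hlam' : detChar θ = fun n => (lam n : ℂ) := funext hlam
  have ho : detOrder θ = orderOf lam := by rw [detOrder, hlam', orderOf_linear]
  have hc1 : Nat.Coprime N.index (orderOf lam) := ho ▸ Nat.Coprime.coprime_mul_right_right hcop
  have hc2 : Nat.Coprime N.index d := Nat.Coprime.coprime_mul_left_right hcop
  obtain ⟨μ, hμ, hμo⟩ := exists_linear_extension_of_coprime N lam (fun g n => Units.ext (by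
    have := congrFun (detChar_cj N hθ.isCharacter g) n
    rw [hinv, hlam'] at this
    exact this.symm)) hc1
  have hμ' : ∀ n : N, (μ n : ℂ) = detChar θ n := fun n => by rw [hμ, hlam]
  obtain ⟨η, hη, hηN⟩ := extends_of_det_extends N hθ hinv hd hc2 μ hμ'
  obtain ⟨χ, hχ, hχN, hχd⟩ := exists_ext_with_det N hd hc2 hη hηN μ hμ'
  refine ⟨χ, ⟨hχ, hχN, by rw [detOrder, hχd, orderOf_linear, hμo, ho]⟩, fun χ' h1 h2 h3 => ?_⟩
  refine ext_unique_of_det N hθ hd hc2 hχ.isCharacter h1.isCharacter hχN h2 ?_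
  obtain ⟨δ, hδ⟩ := exists_detChar_hom h1.isCharacter
  have hδ' : detChar χ' = fun n => (δ n : ℂ) := funext hδ
  rw [detOrder, hδ', orderOf_linear] at h3
  rw [hχd, hδ', linear_ext_unique N hμ (fun n => Units.ext (by
    rw [← hδ, detChar_res N h1.isCharacter h2, hlam])) (hμo ▸ hc1) h3]

/-- An invariant character of a normal Hall subgroup extends. -/
theorem extends_of_coprime_card (hθ : IsIrrCharacter N θ) (hinv : ∀ g, cj N g θ = θ)
    (hcop : Nat.Coprime N.index (Nat.card N)) :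
    ∃ χ : G → ℂ, IsIrrCharacter G χ ∧ ∀ n : N, χ n = θ n := by
  obtain ⟨d, -, hd⟩ := hθ.exists_nat_apply_one
  obtain ⟨lam, hlam⟩ := exists_detChar_hom hθ.isCharacter
  have h1 : detOrder θ ∣ Nat.card N := by
    rw [detOrder, funext hlam, orderOf_linear, orderOf_dvd_iff_pow_eq_one]
    ext n; rw [MonoidHom.pow_apply, ← map_pow, pow_card_eq_one', map_one]; rfl
  obtain ⟨χ, ⟨h2, h3, -⟩, -⟩ := exists_canonical_extension N hθ hinv hd
    (Nat.Coprime.mul_right (hcop.coprime_dvd_right h1)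
      (hcop.coprime_dvd_right (hθ.degree_dvd_card hd)))
  exact ⟨χ, h2, h3⟩

/-- Ito's theorem. -/
theorem degree_dvd_index_of_abelian_normal (hab : ∀ a ∈ N, ∀ b ∈ N, a * b = b * a) {χ : G → ℂ}
    (hχ : IsIrrCharacter G χ) {d : ℕ} (hd : χ 1 = d) : d ∣ N.index := by
  classical
  have := Fintype.ofFinite G
  obtain ⟨θ, hθ, h⟩ := exists_irr_under N hχ
  obtain ⟨k, hk, h2⟩ := exists_degree_eq_mul_dvd_index N hθ hχ h
  rw [hθ.apply_one_of_comm (fun a b => Subtype.ext (hab a a.2 b b.2)), mul_one, hd] at hk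
  rwa [Nat.cast_inj.mp hk]

end Det

end H5
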