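import Mathlib
import Cfsg.Agent.H27.PF6

/-! A Feit–Sibley type coherence theorem and related lemmas (for Suzuki's Theorem C). -/

set_option autoImplicit false
set_option linter.unusedSectionVars false

namespace H5.FS

open Cfsg H24 H27 H4
open scoped ComplexConjugate

universe u v

variable {Γ : Type u} [Group Γ] [Finite Γ] {Γ' : Type v} [Group Γ'] [Finite Γ']

/-- Peterfalvi (6.7) with the oddness of `L` replaced by the non-reality of `z`. -/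
theorem const_irr_mod {P L Z : Subgroup Γ} (hTI : NTI ⊤ L ((P : Set Γ) \ {1})) (hPL : P ≤ L)
    (hZ : Z ⊴ L) (hZP : Z ≤ Z[P]) {φ : Γ → ℂ}
    (hφ : φ ∈ Irr ⊤) (hc : ∀ x ∈ Z, ∀ y ∈ Z, x ≠ 1 → y ≠ 1 → φ x = φ y) {z : Γ} (hz : z ∈ Z)
    (hz1 : z ≠ 1) (hfus : ∀ g, g * z * g⁻¹ ∈ L → g ∈ L) (hnr : ∀ g ∈ L, g * z * g⁻¹ ≠ z⁻¹) :
    ∃ n : ℤ, φ z = n ∧ (♯P : ℤ) ∣ deg φ - n := by
  classical
  have := Fintype.ofFinite Γ
  have hφ' := mem_Irr_top.mp hφ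
  obtain ⟨n, hn⟩ := hφ'.isGen.exists_int_of_pow (g := z) (orderOf_pos z).ne' (pow_orderOf_eq_one z)
    fun m hm => hc _ (pow_mem hz m) _ hz (fun e => hz1 (by
      have := pow_gcd_eq_one.mpr ⟨e, pow_orderOf_eq_one z⟩
      rwa [hm.gcd_eq_one, pow_one] at this)) hz1
  refine ⟨n, hn, ?_⟩
  let C := Finset.univ.filter fun g => IsConj z g
  have hC : ∀ u ∈ C, ∃ g, u = g * z * g⁻¹ := fun u hu => by
    obtain ⟨g, hg⟩ := isConj_iff.mp (Finset.mem_filter.mp hu).2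
    exact ⟨g, hg.symm⟩
  have hCZ : ∀ u ∈ C, u ∈ L → u ∈ Z := fun u hu huL => by
    obtain ⟨g, rfl⟩ := hC u hu
    exact hZ.conj_mem (hfus g huL) hz
  let F : Γ → Γ → ℂ := fun w u => φ (u * w) - n
  have hsum : ∀ w ∈ Z, w ≠ 1 → (Nat.card C{z} : ℂ) * ∑ u ∈ C, F w u =
      Nat.card Γ * φ z * φ z / φ 1 - Nat.card Γ * n := fun w hw hw1 => by
    rw [← sum_conj_eq_card_mul_sum z (F w)]
    simp only [F]
    rw [Finset.sum_sub_distrib, hφ'.sum_conj_mul, hc w hw z hz hw1 hz1]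
    simp
  have hint : ∀ w ∈ Z, IsIntegral ℤ ((∑ u ∈ C.filter (· ∉ Z), F w u) / ♯P) := fun w hw => by
    refine H2.isIntegral_sum_div_of_free_conj P _ (fun a ha x hx => ?_) (fun a ha x hx e => ?_) _
      (fun a ha x _ => ?_) fun x => (hφ'.isCharacter.isIntegral _).sub (isIntegral_intCast n)
    · simp only [C, Finset.mem_filter, Finset.mem_univ, true_and] at hx ⊢
      exact ⟨hx.1.trans (isConj_iff.mpr ⟨a, rfl⟩), fun h =>
        hx.2 ((H24.conj_mem_iff (hZ.norm (hPL ha))).mp h)⟩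
    · by_contra ha1
      refine (Finset.mem_filter.mp hx).2 (hCZ x (Finset.mem_filter.mp hx).1
        (hTI.cent_le (a := a) ⟨ha, ha1⟩ ⟨trivial, mem_C1.mpr e.symm⟩))
    · simp only [F]
      rw [← hφ'.classFun (x * w) a, show a * (x * w) * a⁻¹ = a * x * (w * a⁻¹) by group,
        mem_C'.mp (hZP hw).2 _ (inv_mem ha)]
      congr 2
      group
  have hZsum : ∀ w ∈ Z, ∑ u ∈ C.filter (· ∈ Z), F w u =
      if w⁻¹ ∈ C then φ 1 - n else 0 := fun w hw => by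
    have h0 : ∀ u ∈ C.filter (· ∈ Z), u ≠ w⁻¹ → F w u = 0 := fun u hu hu' => by
      have huZ := (Finset.mem_filter.mp hu).2
      simp only [F]
      rw [hc _ (mul_mem huZ hw) z hz (fun e => hu' (eq_inv_of_mul_eq_one_left e)) hz1, hn, sub_self]
    split_ifs with h
    · rw [Finset.sum_eq_single_of_mem w⁻¹ (Finset.mem_filter.mpr ⟨h, inv_mem hw⟩) h0]
      simp [F]
    · exact Finset.sum_eq_zero fun u hu => h0 u hu fun e => h (e ▸ (Finset.mem_filter.mp hu).1)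
  have h1 : z⁻¹ ∉ C := fun h => by
    obtain ⟨g, hg⟩ := hC _ h
    exact hnr g (hfus g (hg ▸ inv_mem (hZ.le hz))) hg.symm
  have h2 : z⁻¹⁻¹ ∈ C := Finset.mem_filter.mpr ⟨Finset.mem_univ _, by rw [inv_inv]⟩
  have h3 := mul_left_cancel₀ (cardC_ne_zero _)
    ((hsum z hz hz1).trans (hsum z⁻¹ (inv_mem hz) (inv_ne_one.mpr hz1)).symm)
  rw [← Finset.sum_filter_add_sum_filter_not C (· ∈ Z), ← Finset.sum_filter_add_sum_filter_not C
    (· ∈ Z), hZsum z hz, hZsum _ (inv_mem hz), if_neg h1, if_pos h2, zero_add] at h3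
  have h4 := (hint z hz).sub (hint _ (inv_mem hz))
  rw [← sub_div, h3, add_sub_cancel_right, irr_one_eq hφ] at h4
  refine int_dvd_of_isIntegral_div (by exact_mod_cast H24.card_ne_zero P) ?_
  push_cast
  exact h4

section coh
variable {K L : Subgroup Γ} {G : Subgroup Γ'} {τ : (Γ → ℂ) →ₗ[ℂ] (Γ' → ℂ)}
  {R₀ : (Γ → ℂ) → Finset (Γ' → ℂ)}

/-- The induction of Peterfalvi (6.6). -/
theorem coh_ppow {S T : Finset (Γ → ℂ)} (hS : Subcoh L G S τ R₀) (hT : ConjSub T S)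
    (hi : T ⊆ Irr L) {p e : ℕ} (hp : p.Prime) (p3 : 3 ≤ p) (hcop : p.Coprime e)
    (hdeg : ∀ χ ∈ T, ∃ b, deg χ = e * p ^ b ∧ (p ^ b) ^ 2 ∣ ∑ χ ∈ T, deg χ ^ 2) :
    Coherent L G T τ := by
  classical
  have hcs : ∀ n, ConjSub (T.filter fun χ => deg χ < n) S :=
    fun n => ⟨(Finset.filter_subset _ _).trans hT.sub, fun χ hχ => by
      rw [Finset.mem_filter] at hχ ⊢
      exact ⟨hT.conj_mem χ hχ.1, by rw [deg_conjC]; exact hχ.2⟩⟩
  suffices H : ∀ n, Coherent L G (T.filter fun χ => deg χ < n) τ by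
    refine (H (T.sup deg + 1)).mono fun χ hχ => ?_
    exact Finset.mem_filter.mpr ⟨hχ, Nat.lt_succ_of_le (Finset.le_sup hχ)⟩
  intro n
  induction n with
  | zero => simpa using coherent_empty L G τ
  | succ n ih =>
  have hn : ∀ ψ ∈ T.filter fun χ => deg χ < n + 1,
      ψ ∉ T.filter (fun χ => deg χ < n) → deg ψ = n := fun ψ h1 h2 => by
    rw [Finset.mem_filter] at h1 h2
    have : ¬ deg ψ < n := fun e => h2 ⟨h1.1, e⟩
    omega
  rcases (T.filter fun χ => deg χ < n).eq_empty_or_nonempty with h0 | ⟨ξ, hξ⟩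
  · refine (hS.sub (hcs (n + 1))).uniform_degree_coherence fun φ hφ ψ hψ => ?_
    rw [(hS.char φ ((hcs _).sub hφ)).one_eq, (hS.char ψ ((hcs _).sub hψ)).one_eq,
      hn φ hφ (by simp [h0]), hn ψ hψ (by simp [h0])]
  refine hS.extend_cover (hcs n) ih (hcs (n + 1)).sub fun ψ hψ hψ' => ⟨ξ, hξ, ?_⟩
  have h1 := hn ψ hψ hψ'
  obtain ⟨b, hb, hb'⟩ := hdeg ψ (Finset.mem_filter.mp hψ).1
  obtain ⟨a, ha, -⟩ := hdeg ξ (Finset.mem_filter.mp hξ).1
  have x0 : 0 < deg ξ := irr_deg_pos (hi (Finset.mem_filter.mp hξ).1)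
  have e0 : 0 < e := Nat.pos_of_mul_pos_right (ha ▸ x0)
  have hab : a < b := by
    have := (Finset.mem_filter.mp hξ).2
    rw [← h1, ha, hb] at this
    exact (Nat.pow_lt_pow_iff_right hp.one_lt).mp (Nat.lt_of_mul_lt_mul_left this)
  refine ⟨by rw [ha, hb]; exact Nat.mul_dvd_mul_left _ (pow_dvd_pow p hab.le), ?_⟩
  rw [Finset.sum_congr rfl fun χ hχ => by rw [irr_norm (hi (Finset.mem_filter.mp hχ).1), div_one]]
  have h2 : deg ψ ^ 2 ∣ ∑ χ ∈ T.filter fun χ => deg χ < n, deg χ ^ 2 := by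
    rw [hb, mul_pow]
    refine Nat.Coprime.mul_dvd_of_dvd_of_dvd (((hcop.symm.pow_right b).pow 2 2))
      (Finset.dvd_sum fun χ hχ => ?_) ?_
    · obtain ⟨d, hd, -⟩ := hdeg χ (Finset.mem_filter.mp hχ).1
      exact pow_dvd_pow_of_dvd ⟨_, hd⟩ 2
    rw [← Finset.sum_filter_add_sum_filter_not _ fun χ => deg χ < n] at hb'
    refine (Nat.dvd_add_left (Finset.dvd_sum fun χ hχ => ?_)).mp hb'
    obtain ⟨h4, h5⟩ := Finset.mem_filter.mp hχ
    obtain ⟨d, hd, -⟩ := hdeg χ h4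
    rw [← h1, hb, hd, not_lt] at h5
    rw [hd]
    exact pow_dvd_pow_of_dvd (Dvd.dvd.mul_left (pow_dvd_pow p ((Nat.pow_le_pow_iff_right
      hp.one_lt).mp (Nat.le_of_mul_le_mul_left h5 e0))) _) 2
  have h3 := Nat.le_of_dvd (lt_of_lt_of_le (by positivity) (Finset.single_le_sum
    (f := fun χ => deg χ ^ 2) (fun _ _ => Nat.zero_le _) hξ)) h2
  have h4 : 3 * deg ξ ≤ deg ψ := by
    rw [ha, hb, mul_left_comm]
    refine Nat.mul_le_mul_left _ ((Nat.mul_le_mul_right _ p3).trans ?_)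
    rw [← pow_succ']
    exact Nat.pow_le_pow_right hp.pos hab
  have h5 : 2 * deg ψ * deg ξ < ∑ χ ∈ T.filter fun χ => deg χ < n, deg χ ^ 2 := by
    nlinarith
  exact_mod_cast h5

theorem cent_mod {Z A N : Subgroup Γ} (hZ : Z ≤ C[K]) (hA : A ≤ K) (h : ⁅K, A⁆ ≤ N) :
    ∀ z ∈ Z ⊔ A, ∀ x ∈ K, x * z * x⁻¹ * z⁻¹ ∈ N := by
  intro y hy x hx
  obtain ⟨z, hz, a, ha, rfl⟩ := (mem_sup_of_norm' (norm_of_cent (cents_of_le hZ hA))).mp hy
  have h1 := mul_mem (mul_mem (mul_mem hx (hA ha)) (inv_mem hx)) (inv_mem (hA ha))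
  rw [show x * (z * a) * x⁻¹ * (z * a)⁻¹ = x * z * (a * x⁻¹ * a⁻¹ * z⁻¹) by group,
    ← comm_of_cent hZ hz hx, show z * x * (a * x⁻¹ * a⁻¹ * z⁻¹) = z * (x * a * x⁻¹ * a⁻¹) * z⁻¹ by
      group, comm_of_cent hZ hz h1, mul_inv_cancel_right]
  exact h (Subgroup.commutator_mem_commutator hx ha)

theorem sum_sq {Z M : Subgroup Γ} (hK : K ⊴ L) (hZ : Z ⊴ L) (hM : M ⊴ L) (hZK : Z ≤ K)
    (hMK : M ≤ K) (hi : Z ⊓ M = ⊥) : ∑ φ ∈ seqIndD K L Z M, (deg φ : ℝ) ^ 2 / cfnorm L φ =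
      K.relIndex L * ((Z ⊔ M).relIndex K * ((♯Z : ℝ) - 1)) := by
  have h1 : seqIndD K L Z M = seqIndD K L (Z ⊔ M) M := by
    ext φ
    simp only [mem_seqIndD, sup_le_iff]
    exact exists_congr fun θ => by tauto
  have h2 : M.relIndex (Z ⊔ M) = ♯Z := by
    rw [sup_comm, relIndex_sup_of_norm (hZ.le.trans hM.norm), ← card_inf_mul_relIndex M Z,
      inf_comm, hi, Subgroup.card_bot, one_mul]
  rw [h1, sum_seqIndD_square hK (hZ.sup hM) hM le_sup_right (sup_le hZK hMK), h2]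

/-- Coherence of the characters of `L` not having `Z ≤ Z(P)` in their kernel, where `K = P × R` is
nilpotent and `L/K` acts semiregularly on `Z`. -/
theorem coh {P R Z : Subgroup Γ} {p : ℕ} (hp : p.Prime) (p3 : 3 ≤ p) (hK : K ⊴ L) (hn : Nil K)
    (hd : DP P R K) (hP : IsPi {p} P) (hR : R ⊴ L) (hR1 : R ≠ ⊥) (hZ : Z ⊴ L) (hZP : Z ≤ P)
    (hZK : Z ≤ C[K]) (hcop : p.Coprime (K.relIndex L)) (hb : 2 * K.relIndex L + 1 ≤ ♯Z)
    (hi : seqIndD K L Z ⊥ ⊆ Irr L) (hS : Subcoh L G (seqIndD K L Z ⊥) τ R₀) :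
    Coherent L G (seqIndD K L Z ⊥) τ := by
  have hZK' : Z ≤ K := hZP.trans hd.left_le
  have hint : ∀ M ≤ R, Z ⊓ M = ⊥ := fun M hM => eq_bot_of_le hd.inf (inf_le_inf hZP hM)
  have hsub := fun M => seqIndD_conjSub K L (le_refl Z) (bot_le : ⊥ ≤ M)
  have hKR : ⁅K, R⁆ = ⁅R, R⁆ := hd.symm.isProd.comm_left_of_cent hd.symm.cent
  obtain ⟨c, hc⟩ : ∃ c, (Z ⊔ R).relIndex K = p ^ c := by
    refine (piNat_singleton hp (H24.relIndex_pos _ _).ne').mp fun q hq h => hP q hq (h.trans ?_)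
    exact (Subgroup.relIndex_dvd_of_le_left K le_sup_right).trans hd.symm.isProd.relIndex_dvd
  suffices H : ∀ A, A ⊴ L → A ≤ ⁅R, R⁆ → Coherent L G (seqIndD K L Z A) τ →
      Coherent L G (seqIndD K L Z ⊥) τ by
    refine H _ hR.der1 le_rfl (coh_ppow hS (hsub _) ((hsub _).sub.trans hi) hp p3 hcop
      fun χ hχ => ?_)
    obtain ⟨θ, h1, h2, -, rfl⟩ := mem_seqIndD.mp hχ
    have h3 := cent_mod hZK hd.right_le (hKR.trans_le h2)
    have h4 := irr_deg_dvd_index_central h1 (sup_le hZK' hd.right_le) h3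
    have h5 := irr_deg_sq_le h1 (sup_le hZK' hd.right_le) h3
    rw [hc] at h4 h5
    obtain ⟨b, -, hb'⟩ := (Nat.dvd_prime_pow hp).mp h4
    refine ⟨b, by rw [(irr_char h1).deg_ind hK.le, hb'], ?_⟩
    rw [hb', ← pow_mul] at h5
    have h6 := sum_sq hK hZ hR.der1 hZK' ((der1_le R).trans hd.right_le) (hint _ (der1_le R))
    rw [Finset.sum_congr rfl fun χ hχ => by rw [irr_norm (hi ((hsub _).sub hχ)), div_one]] at h6
    obtain ⟨m, hm⟩ : ∃ m, ♯Z = m + 1 := ⟨♯Z - 1, by omega⟩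
    rw [hm, Nat.cast_add, Nat.cast_one, add_sub_cancel_right] at h6
    have h7 : ∑ χ ∈ seqIndD K L Z ⁅R, R⁆, deg χ ^ 2 =
      K.relIndex L * ((Z ⊔ ⁅R, R⁆).relIndex K * m) := by exact_mod_cast h6
    rw [h7, ← pow_mul]
    refine (((pow_dvd_pow p ((Nat.pow_le_pow_iff_right hp.one_lt).mp h5)).trans ?_).mul_right
      _).mul_left _
    rw [← hc]
    exact Subgroup.relIndex_dvd_of_le_left K (sup_le_sup_left (der1_le R) Z)
  intro A
  induction A using subgroup_ind with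
  | h A ih =>
  intro hA hAR hcoh
  rcases eq_or_ne A ⊥ with rfl | h1
  · exact hcoh
  have hAR' : A < R := hAR.trans_lt ((hn.of_le hd.right_le).sol.der1_lt hR1)
  have hAK := hAR'.le.trans hd.right_le
  obtain ⟨B, h4, -⟩ := exists_chief_below (Nml.bot L) hA (bot_lt_iff_ne_bot.mpr h1)
  refine ih B h4.lt h4.nmlV (h4.le.trans hAR) (hS.extend_cover (hsub A) hcoh (hsub B).sub
    fun ψ hψ _ => ?_)
  obtain ⟨θ, h5, h6, h7, rfl⟩ := mem_seqIndD.mp hψ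
  obtain ⟨i, hi', j, hj, rfl⟩ := dprod_surj hd h5
  obtain ⟨i1, i2⟩ := mem_irrK.mp hi'
  obtain ⟨j1, j2⟩ := mem_irrK.mp hj
  have h8 := irr_deg_sq_le h5 (sup_le hZK' hAK) (cent_mod hZK hAK
    ((Chief.comm_le_of_nil h4 hK hAK (hn.quo B)).trans h6))
  have h9 := irr_deg_sq_le i1 (sup_le hZK' hd.right_le) (cent_mod hZK hd.right_le
    (hKR.trans_le ((der1_le R).trans i2)))
  refine ⟨cfInd L K i, mem_seqIndD.mpr ⟨i, i1, hAR'.le.trans i2, fun h => h7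
    ((le_inf h (hZP.trans j2)).trans (cfker_mul_le K i j)), rfl⟩, ?_, ?_⟩
  · rw [(irr_char h5).deg_ind hK.le, (irr_char i1).deg_ind hK.le,
      (irr_char i1).deg_mul (irr_char j1)]
    exact Nat.mul_dvd_mul_left _ (Dvd.intro _ rfl)
  have h10 : (Z ⊔ R).relIndex K < (Z ⊔ A).relIndex K := by
    rw [← Subgroup.relIndex_mul_relIndex (Z ⊔ A) (Z ⊔ R) K (sup_le_sup_left hAR'.le Z)
      (sup_le hZK' hd.right_le)]
    refine lt_mul_of_one_lt_left (H24.relIndex_pos _ _) (lt_of_le_of_ne (H24.relIndex_pos _ _) fun e => ?_)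
    refine hAR'.not_ge fun r hr => ?_
    obtain ⟨z, hz, a, ha, rfl⟩ := (mem_sup_of_norm (hA.le.trans hZ.norm)).mp
      (Subgroup.relIndex_eq_one.mp e.symm (Subgroup.mem_sup_right hr))
    have : z ∈ Z ⊓ R := ⟨hz, (Subgroup.mul_mem_cancel_right _ (hAR'.le ha)).mp hr⟩
    rw [hint R le_rfl, Subgroup.mem_bot] at this
    rwa [this, one_mul]
  rw [sum_sq hK hZ hA hZK' hAK (hint _ hAR'.le), (irr_char h5).deg_ind hK.le,
    (irr_char i1).deg_ind hK.le]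
  have h11 : deg (i * j) * deg i < (Z ⊔ A).relIndex K := by
    refine lt_of_pow_lt_pow_left₀ 2 (Nat.zero_le _) ?_
    have := H24.relIndex_pos (Z ⊔ A) K
    calc (deg (i * j) * deg i) ^ 2 ≤ (Z ⊔ A).relIndex K * (Z ⊔ R).relIndex K := by
          rw [mul_pow]; exact Nat.mul_le_mul h8 h9
      _ < _ := by rw [sq]; exact (Nat.mul_lt_mul_left this).mpr h10
  have e0 : (0 : ℝ) < K.relIndex L := by exact_mod_cast H24.relIndex_pos K L
  have h12 : (deg (i * j) : ℝ) * deg i < (Z ⊔ A).relIndex K := by exact_mod_cast h11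
  have h13 : (2 * K.relIndex L : ℝ) ≤ ♯Z - 1 := by
    rw [le_sub_iff_add_le]; exact_mod_cast hb
  push_cast
  calc 2 * (K.relIndex L * deg (i * j) : ℝ) * (K.relIndex L * deg i) =
        K.relIndex L * ((deg (i * j) * deg i) * (2 * K.relIndex L)) := by ring
    _ < _ := mul_lt_mul_of_pos_left (mul_lt_mul h12 h13 (by positivity) (by positivity)) e0

end coh

/-- Mackey's formula for a doubly transitive action. -/
theorem mackey {H D : Subgroup Γ} {t : Γ} (hD : ∀ x, x ∈ D ↔ x ∈ H ∧ t * x * t⁻¹ ∈ H)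
    (ht : ∀ g, g ∉ H → ∃ h ∈ H, ∃ h' ∈ H, g = h * t * h') (hc : Nat.card Γ * ♯D = ♯H * ♯D + ♯H * ♯H)
    {φ ψ : Γ → ℂ} (hφ : φ ∈ CF H) (hψ : ψ ∈ CF H) :
    cfdot ⊤ (cfInd ⊤ H φ) (cfInd ⊤ H ψ) = cfdot H φ ψ + cfdot D φ (cfConj t ψ) := by
  let F : Γ → ℂ := fun g => ∑ x ∈ fs (H : Set Γ), φ x * conj (ψ (g * x * g⁻¹))
  have hF : ∀ h ∈ H, ∀ h' ∈ H, ∀ g, F (h * g * h') = F g := fun h hh h' hh' g => by
    simp only [F]
    rw [← sum_fs_conj_mem hh' fun x => φ x * conj (ψ (g * x * g⁻¹))]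
    refine sum_fs_congr fun x _ => ?_
    rw [CF_conj hφ hh', ← CF_conj hψ hh (g * _ * _)]
    congr 3; group
  have h1 : F 1 = ♯H * cfdot H φ ψ := by
    rw [cfdot_def, mul_inv_cancel_left₀ (cardC_ne_zero H)]; simp [F]
  have h2 : F t = ♯D * cfdot D φ (cfConj t ψ) := by
    rw [cfdot_def, mul_inv_cancel_left₀ (cardC_ne_zero D)]
    exact (sum_fs_subset (fun x hx => ((hD x).mp hx).1) _ fun x hx hx' => by
      rw [CF_zero hψ fun h => hx' ((hD x).mpr ⟨hx, h⟩), map_zero, mul_zero]).symm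
  have h3 : ∑ g ∈ fs ((⊤ : Subgroup Γ) : Set Γ), F g = (Nat.card Γ - ♯H : ℂ) * F t + ♯H * F 1 := by
    rw [sum_fs_diff (B := H) (by simp), sum_fs_congr (g := fun _ => F t) fun g hg => by
      obtain ⟨h, hh, h', hh', rfl⟩ := ht g hg.2
      exact hF h hh h' hh' t, sum_fs_congr (A := (H : Set Γ)) (f := F) (g := fun _ => F 1) fun g hg => by
      simpa using hF g hg 1 (one_mem H) 1, sum_fs_const, sum_fs_const, nsmul_eq_mul, nsmul_eq_mul]
    congr 2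
    have := sum_fs_diff (A := ((⊤ : Subgroup Γ) : Set Γ)) (B := H) (by simp) fun _ => (1 : ℂ)
    simp only [sum_fs_const, nsmul_eq_mul, mul_one, SetLike.coe_sort_coe, Subgroup.card_top] at this
    rw [this, add_sub_cancel_right]
  have h4 : cfdot ⊤ (cfInd ⊤ H φ) (cfInd ⊤ H ψ) =
      (♯H : ℂ)⁻¹ * ((♯H : ℂ)⁻¹ * ∑ g ∈ fs ((⊤ : Subgroup Γ) : Set Γ), F g) := by
    rw [cfdot_cfInd_left le_top _ (cfInd_mem_CF _ _ _), cfdot_def, Finset.sum_comm]
    congr 1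
    rw [Finset.mul_sum]
    refine sum_fs_congr fun x _ => ?_
    rw [cfInd_of_mem H ψ (Subgroup.mem_top x), cfRes_CF hψ, map_mul, map_sum, ← Finset.mul_sum]
    simp only [map_inv₀, map_natCast]
    ring
  have h5 : (Nat.card Γ * ♯D : ℂ) = ♯H * ♯D + ♯H * ♯H := by exact_mod_cast hc
  have := cardC_ne_zero H
  rw [h4, h3, h1, h2]
  field_simp
  linear_combination cfdot D φ (cfConj t ψ) * h5

theorem cfInd_apply_of_fus {H : Subgroup Γ} {φ : Γ → ℂ} (hφ : φ ∈ CF H) {x : Γ}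
    (h : ∀ g, g * x * g⁻¹ ∈ H → g ∈ H) : cfInd ⊤ H φ x = φ x := by
  rw [cfInd_of_mem H φ (Subgroup.mem_top x), cfRes_CF hφ, ← sum_fs_subset (A := H) (by simp) _
    fun g _ hg => CF_zero hφ fun h' => hg (h g h'), sum_fs_congr fun g hg => CF_conj hφ hg x,
    sum_fs_const, nsmul_eq_mul, SetLike.coe_sort_coe, inv_mul_cancel_left₀ (cardC_ne_zero H)]

theorem orth_of_antireal {G : Subgroup Γ} {ψ β α : Γ → ℂ} (hψ : IsChar G ψ)
    (h0 : cfdot G ψ (conjC ψ) = 0) (hβ : β ∈ vchar G) (h2 : cfnorm G β = 2) (h1 : β 1 = 0)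
    (hr : conjC β = -β) (h3 : cfdot G ψ β = 0) (hα : IsDirr G α) (h4 : cfdot G α β ≠ 0) :
    cfdot G ψ α = 0 := by
  obtain ⟨μ, hμ, ν, hν, hne, rfl⟩ := vchar_norm_two_sub hβ h2 h1
  have h5 : ν = conjC μ := by
    by_contra h
    have := cfdot_conjC_conjC G (μ - ν) μ
    rw [hr, cfdot_neg_left, cfdot_sub_left, cfdot_sub_left, irr_dot_self hμ, irr_dot_ne hν hμ hne.symm,
      irr_dot_ne hν (irr_conjC hμ) h, irr_dot hμ (irr_conjC hμ)] at this
    split_ifs at this <;> norm_num at this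
  rw [cfdot_sub_right, sub_eq_zero] at h3
  have h6 : cfdot G ψ μ = 0 := by
    by_contra h
    exact char_dot_ne_zero_of_constt hψ hψ.conjC hν (h3 ▸ h) (by
      rwa [h5, cfdot_conjC_conjC, map_ne_zero]) h0
  rw [cfdot_sub_right] at h4
  rcases hα.cases (irr_dirr hμ) with rfl | rfl | h7
  · exact h6
  · rw [cfdot_neg_right, h6, neg_zero]
  rcases hα.cases (irr_dirr hν) with rfl | rfl | h8
  · exact h3 ▸ h6
  · rw [cfdot_neg_right, ← h3, h6, neg_zero]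
  · rw [h7, h8, sub_zero] at h4; exact absurd rfl h4

theorem eq_one_of_sq {W : Subgroup Γ} (hW : Odd ♯W) {w : Γ} (hw : w ∈ W) (h : w * w = 1) : w = 1 :=
  H2.eq_one_of_conj_eq_inv hW (one_mem W) hw (by simpa using eq_inv_of_mul_eq_one_left h)

theorem lin_eq_one {W H : Subgroup Γ} (hW : Odd ♯W) {lam : Γ → ℂ} (h : IsLin H lam) (hWH : W ≤ H)
    {w : Γ} (hw : w ∈ W) (hr : conj (lam w) = lam w) : lam w = 1 := by
  obtain ⟨k, hk⟩ := Odd.of_dvd_nat hW (orderOf_dvd_card' hw)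
  have h1 := h.pow_orderOf (hWH hw)
  have h2 := h.mul_conj (hWH hw)
  rw [hr] at h2
  rwa [hk, pow_succ, pow_mul, sq, h2, one_pow, one_mul] at h1

/-- The character-theoretic core of Suzuki's Theorem C. -/
theorem core [IsSimpleGroup Γ] {K W L : Subgroup Γ} (hsd : SD K W L) (hW : Odd ♯W) (hn : Nil K)
    (h2 : 2 ∣ ♯K) (hTI : ∀ x ∈ K, x ≠ 1 → ∀ g, g * x * g⁻¹ ∈ L → g ∈ L)
    (hfpf : ∀ d ∈ W, d ≠ 1 → ∀ y ∈ K, Odd (orderOf y) → d * y = y * d → y = 1)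
    {ψ : Γ → ℂ} (hψ : IsChar ⊤ ψ) (n2 : cfnorm ⊤ ψ = 2) (hψc : cfdot ⊤ ψ (conjC ψ) = 0)
    (hψ1 : cfdot ⊤ ψ (cfOne ⊤) = 0) (hv : ∀ x ∈ K, x ≠ 1 → ψ x = 1) (hv1 : ψ 1 = ♯K + 1) :
    IsPGroup 2 K := by
  classical
  have hK := hsd.nml
  refine (IsPGroup.iff_card (p := 2)).mpr ((piNat_singleton Nat.prime_two Nat.card_pos.ne').mp
    fun p hp hd => ?_)
  by_contra hp2
  have hpo : Odd p := hp.odd_of_ne_two hp2
  have hdp := hn.pcoreC {p}
  have hP := pcore_pi {p} K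
  set P := O[{p}, K]
  have hZ : Z[P] ⊴ L := (hK.pcore {p}).center
  have hZK : Z[P] ≤ Z[K] := by rw [← hn.pcore_center]; exact pcore_le _ _
  have hZ1 : Z[P] ≠ ⊥ := (hn.of_le hdp.left_le).center_ne_bot (hn.pcore_ne_bot hp rfl hd)
  have hZP : Z[P] ≤ P := inf_le_left
  generalize Z[P] = Z at hZ hZK hZ1 hZP
  have hZK' : Z ≤ K := hZK.trans inf_le_left
  obtain ⟨c, hc⟩ := (piNat_singleton hp Nat.card_pos.ne').mp (hP.of_le hZP)
  have hZo : Odd ♯Z := hc ▸ hpo.pow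
  have hsr : Semireg Z W := semireg_iff.mpr fun d hd h1 y hy e =>
    hfpf d hd h1 y (hZK' hy) (Odd.of_dvd_nat hZo (orderOf_dvd_card' hy)) e.symm
  have hWZ := hsd.right_le.trans hZ.norm
  have hi := PF6.irr_of_semireg hsd hZ hZK hsr
  have hN : NTI ⊤ L (shp K) := ⟨le_top, fun x hx => hK.le hx.1, fun g hg x hx =>
    ⟨hK.conj_mem hg hx.1, by simpa using hx.2⟩, fun x hx g _ hg => hTI x hx.1 hx.2 g (hK.le hg.1)⟩
  have hT := seqIndD_subT K L Z ⊥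
  have hcc := seqIndD_conjSub K L (le_refl Z) (le_refl ⊥)
  obtain ⟨R₀, hS⟩ : ∃ R₀, Subcoh L ⊤ (seqIndD K L Z ⊥) (cfInd ⊤ L) R₀ := by
    refine irr_subcoherent hi hcc.conj_mem (fun χ hχ e => ?_) ⟨fun φ hφ φ' hφ' =>
      hN.cfdot_cfInd (zsp0_seqInd_on hK hT hφ).2 (zsp0_seqInd_on hK hT hφ'), fun φ hφ =>
      vchar_ind (zsp_seqInd_vchar hK.le hT (zsp0_le_zsp _ hφ)) le_top⟩ fun φ hφ => by
        rw [cfInd_one le_top, (mem_zsp0.mp hφ).2, mul_zero]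
    have h0 := hi hχ
    obtain ⟨θ, h1, -, h3, rfl⟩ := mem_seqIndD.mp hχ
    rw [conjC, cfAut_cfInd] at e
    obtain ⟨g, hg, e'⟩ := mem_cfclass.mp ((cfInd_eq_iff_cfclass hK h1 (irr_conjC h1)).mp e)
    obtain ⟨k, hk, w, hw, rfl⟩ := hsd.isProd.mul g hg
    rw [cfConj_mul, cfConj_CF (irr_CF h1) hk] at e'
    have h4 : w * w ∈ K := (ind_irr_iff hK h1).mp h0 (H27.mem_inertia.mpr ⟨hsd.right_le (mul_mem hw hw),
      by rw [cfConj_mul, e', conjC, ← cfAut_cfConj, e']; exact conjC_conjC θ⟩)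
    obtain rfl := eq_one_of_sq hW hw (Subgroup.mem_bot.mp (hsd.inf ▸ ⟨h4, mul_mem hw hw⟩))
    obtain ⟨lam, h5, h6, h7⟩ := PF6.res_central hZK h1
    refine h3 (h7 (CF_ext (irr_CF h5.irr) (cfOne_mem_CF Z) fun z hz => ?_))
    rw [cfOne_of_mem hz]
    refine lin_eq_one hZo h5 le_rfl hz (mul_left_cancel₀ (irr_one_ne_zero h1) ?_)
    have h8 := congrFun h6 z
    have h9 := congrFun e' z
    rw [cfRes_of_mem _ hz, Pi.smul_apply, smul_eq_mul] at h8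
    rw [cfConj_one, conjC, cfAut_apply, h8, map_mul, vchar_conj_one (irr_vchar h1)] at h9
    exact h9.symm
  have e1 := hsd.relIndex_left
  obtain ⟨τ₁, hc₁⟩ := coh (p := p) hp (by have := hp.two_le; have : p ≠ 2 := hp2; omega) hK hn hdp hP (hK.pcore _)
    (hn.pcore_ne_bot Nat.prime_two (Ne.symm hp2) h2) hZ hZP (hZK.trans inf_le_right)
    (e1 ▸ (hsr.coprime hWZ).coprime_dvd_left ((hP.of_le hZP).dvd_card hZ1))
    (e1 ▸ two_mul_add_one_le hW hZo (one_lt_card hZ1) (hsr.dvd_pred hWZ)) hi hS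
  have hX := seqIndD_eq_irrKD hK hZ hZK' hi
  have o1 : ∀ χ ∈ seqIndD K L Z ⊥, cfdot ⊤ ψ (τ₁ χ) = 0 := fun χ hχ => by
    have m := hS.sub_conj_mem hχ
    have hχ' := hS.conj_mem χ hχ
    refine orth_of_antireal hψ hψc (hS.isom.vchar _ m) ((hS.isom.norm m).trans
      (irr_sub_conjC_norm (hi hχ) (hS.nreal χ hχ))) (hS.one _ m) ?_ ?_ (hc₁.dirr hχ (hi hχ)) ?_
    · rw [conjC, cfAut_cfInd, ← map_neg, map_sub, neg_sub]
      exact congrArg (fun x => cfInd ⊤ L (conjC χ - x)) (conjC_conjC χ)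
    · rw [cfdot_cfInd_right le_top hψ.CF, cfdot_eq_zero_comm, cfdot_congr_on
        (zsp0_seqInd_on hK hT m).2 (ψ' := cfOne L) fun x hx hx' => by
          rw [hv x hx.1 hx.2, cfOne_of_mem hx'], cfdot_sub_left, seqInd_ortho_one hK.le hZK' hχ,
        seqInd_ortho_one hK.le hZK' hχ', sub_zero]
    · rw [← hc₁.ext _ m, map_sub, cfdot_sub_right, hc₁.dot hχ hχ, hc₁.dot hχ hχ', hS.dot_conjC hχ,
        irr_dot_self (hi hχ)]
      simp
  obtain ⟨z, hz, hz1⟩ := exists_ne_one hZ1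
  obtain ⟨χ₁, h1⟩ := seqIndD_nonempty L (Nml.bot K) (H := Z) fun h => hZ1 (le_bot_iff.mp h)
  have main : ∀ f ∈ Irr ⊤, cfdot ⊤ ψ f ≠ 0 → ∃ m : ℤ, 0 < m ∧ f 1 - f z = ♯K * m := by
    intro f hf hψf
    have o : ∀ χ ∈ seqIndD K L Z ⊥, cfdot ⊤ f (τ₁ χ) = 0 := fun χ hχ => by
      rcases (irr_dirr hf).cases (hc₁.dirr hχ (hi hχ)) with h | h | h
      · exact absurd (h ▸ o1 χ hχ) hψf
      · exact absurd (by rw [h, cfdot_neg_right, o1 χ hχ, neg_zero]) hψf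
      · exact h
    have key : ∀ χ ∈ irrKD L Z ⊥, cfdot L f χ = cfdot L f χ₁ / χ₁ 1 * χ 1 := by
      intro χ hχ
      rw [← hX] at hχ
      have h2 := cfdot_cfInd_right le_top (irr_CF hf) (χ - (χ 1 / χ₁ 1) • χ₁) (H := L)
      rw [hc₁.ext_div (fun _ h' => hS.vchar h') (mem_zsp_of_mem hχ) (mem_zsp_of_mem h1)
        (hS.one_ne_zero h1)] at h2
      simp only [cfdot_sub_right, cfdot_smul_right, o χ hχ, o χ₁ h1, map_div₀,
        vchar_conj_one (hS.vchar hχ), vchar_conj_one (hS.vchar h1)] at h2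
      linear_combination -h2
    obtain ⟨n, hn1, m, hm⟩ := const_irr_mod hN hK.le hZ hZK hf (fun x hx y hy hx1 hy1 => by
      have hr := cfRes_mem_CF (H := L) le_top (irr_CF hf)
      rw [← cfRes_of_mem f (hZ.le hx), ← cfRes_of_mem f (hZ.le hy), CF_apply_eq_sum hr,
        CF_apply_eq_sum hr, ← sub_eq_zero, ← Finset.sum_sub_distrib, Finset.sum_congr rfl
          (g := fun χ => cfdot L f χ₁ / χ₁ 1 * (χ 1 * χ x - χ 1 * χ y)) fun χ hχ => ?_,
        ← Finset.mul_sum, Finset.sum_sub_distrib, sum_Irr_deg_mul, sum_Irr_deg_mul, if_neg hx1,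
        if_neg hy1, sub_self, mul_zero]
      rw [cfdot_cfRes_left]
      by_cases e : Z ≤ cfker L χ
      · rw [cfker_apply (e hx), cfker_apply (e hy), sub_self, sub_self, mul_zero]
      · rw [key χ (mem_irrKD.mpr ⟨hχ, bot_le, e⟩)]; ring) hz hz1 (hTI z (hZK' hz) hz1)
      fun g hg e => by
        obtain ⟨k, hk, w, hw, rfl⟩ := hsd.isProd.symm.mul g hg
        rw [show k * w * z * (k * w)⁻¹ = k * (w * z * w⁻¹) * k⁻¹ by group,
          ← comm_of_cent (hZK.trans inf_le_right) hz hw, mul_inv_cancel_right] at e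
        exact hz1 (H2.eq_one_of_conj_eq_inv (L := Z ⊔ W) (by
          rw [(SD.mk_sup hWZ hsr.inf_eq_bot).card]; exact hZo.mul hW)
          (Subgroup.mem_sup_right hk) (Subgroup.mem_sup_left hz) e)
    have h3 : f 1 - f z = ♯K * m := by
      rw [hn1, irr_one_eq hf]; exact_mod_cast hm
    refine ⟨m, lt_of_le_of_ne ?_ fun e => ?_, h3⟩
    · have h4 := (irr_char hf).norm_le z
      rw [hn1, Complex.norm_intCast] at h4
      have h5 : n ≤ deg f := by exact_mod_cast (le_abs_self _).trans h4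
      have : (0 : ℤ) < ♯K := by exact_mod_cast Nat.card_pos
      nlinarith
    · rw [← e, Int.cast_zero, mul_zero, sub_eq_zero] at h3
      have hk : (cfker ⊤ f).Normal := nml_top_iff.mp (cfker_nml (irr_CF hf))
      rcases hk.eq_bot_or_eq_top with h4 | h4
      · exact hz1 (Subgroup.mem_bot.mp (h4 ▸ (irr_char hf).mem_cfker.mpr ⟨trivial, h3.symm⟩))
      · exact hψf (by rwa [(irr_eq_cfOne_iff hf).mpr h4.ge])
  obtain ⟨f, hf, hψf⟩ := exists_constt hψ.CF (fun e => by simp [e] at n2)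
  obtain ⟨k, hk⟩ := char_dot_nat hψ (irr_char hf)
  have h3 := norm_dot_irr_sq_le ψ (irr_norm hf)
  rw [hk, n2, Complex.norm_natCast] at h3
  obtain rfl : k = 1 := by
    have h4 : k ^ 2 ≤ 2 := by exact_mod_cast h3
    have : k ≠ 0 := by rintro rfl; exact hψf (by simpa using hk)
    have : k < 2 := by nlinarith
    omega
  have hf' : ψ - f ∈ Irr ⊤ := irr_of_norm_one (hψ.sub_irr hf hψf) (by
    rw [cfnorm_sub, n2, irr_norm hf, hk]; norm_num)
  obtain ⟨m, m0, hm⟩ := main f hf hψf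
  obtain ⟨m', m0', hm'⟩ := main _ hf' (by
    rw [cfdot_sub_right, cfdot_self, n2, hk]; norm_num)
  rw [Pi.sub_apply, Pi.sub_apply, hv z (hZK' hz) hz1, hv1] at hm'
  have h5 : ((m + m' : ℤ) : ℂ) = (1 : ℤ) :=
    mul_left_cancel₀ (cardC_ne_zero K) (by push_cast; linear_combination -hm - hm')
  have := Int.cast_injective h5
  omega

end H5.FS
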