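import Mathlib
import Cfsg.Agent.H5.BS

/-! Signed irreducible characters and the class function counting products of two classes. -/

set_option autoImplicit false
open Cfsg H4 Subgroup
open scoped ComplexConjugate

namespace H5

variable {G : Type*} [Group G] [Fintype G]

/-- `X` is an irreducible character up to sign. -/
def SIrr (X : G → ℂ) : Prop := IsGeneralizedCharacter G X ∧ classInner X X = 1

theorem SIrr.gen {X : G → ℂ} (h : SIrr X) : IsGeneralizedCharacter G X := h.1
theorem SIrr.norm {X : G → ℂ} (h : SIrr X) : classInner X X = 1 := h.2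
theorem SIrr.classFun {X : G → ℂ} (h : SIrr X) : IsClassFunction G X := h.1.classFun

theorem sirr_of_irr {X : G → ℂ} (h : IsIrrCharacter G X) : SIrr X := ⟨h.isGen, h.inner_self⟩

theorem SIrr.neg {X : G → ℂ} (h : SIrr X) : SIrr (-X) :=
  ⟨h.1.neg, by rw [classInner_neg_left, classInner_neg_right, neg_neg, h.2]⟩

theorem SIrr.irr_or {X : G → ℂ} (h : SIrr X) : IsIrrCharacter G X ∨ IsIrrCharacter G (-X) :=
  h.1.irr_or_neg_of_inner_self h.2

theorem sirr_one : SIrr (fun _ : G => (1 : ℂ)) := sirr_of_irr isIrrCharacter_one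

theorem SIrr.apply_one_ne_zero {X : G → ℂ} (h : SIrr X) : X 1 ≠ 0 := by
  rcases h.irr_or with h | h
  · exact h.apply_one_ne_zero
  · simpa using h.apply_one_ne_zero

theorem SIrr.exists_int {X : G → ℂ} (h : SIrr X) : ∃ n : ℤ, n ≠ 0 ∧ X 1 = n := by
  obtain ⟨n, hn⟩ := h.1.exists_int_apply_one
  exact ⟨n, fun h0 => h.apply_one_ne_zero (by rw [hn, h0, Int.cast_zero]), hn⟩

theorem SIrr.inner_comm {X Y : G → ℂ} (hX : SIrr X) (hY : IsGeneralizedCharacter G Y) :
    classInner X Y = classInner Y X := hX.1.inner_comm hY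

theorem SIrr.eq_of_inner_eq_one {X Y : G → ℂ} (hX : SIrr X) (hY : SIrr Y)
    (h : classInner X Y = 1) : X = Y := by
  rw [← sub_eq_zero, ← classInner_self_eq_zero, classInner_sub_left, classInner_sub_right,
    classInner_sub_right, hX.2, hY.2, h, hY.inner_comm hX.1, h]; ring

/-- Inner product of a generalized character of norm at most three with a signed irreducible. -/
theorem SIrr.inner_cases {X η : G → ℂ} (hX : SIrr X) (hη : IsGeneralizedCharacter G η) {n : ℕ}
    (hn : n ≤ 3) (h : classInner η η = n) :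
    classInner η X = 0 ∨ classInner η X = 1 ∨ classInner η X = -1 := by
  obtain ⟨m, hm⟩ := hη.inner_int hX.1
  have h1 : ‖classInner η X‖ ^ 2 ≤ n := by
    rcases hX.irr_or with h' | h'
    · simpa [h] using inner_irr_sq_le η h'
    · simpa [h, classInner_neg_right] using inner_irr_sq_le η h'
  rw [hm, Complex.norm_intCast, sq_abs] at h1
  have h2 : m ^ 2 ≤ n := by exact_mod_cast h1
  have h3 : m = 0 ∨ m = 1 ∨ m = -1 := by
    have : -2 < m := by nlinarith
    have : m < 2 := by nlinarith
    omega
  rcases h3 with rfl | rfl | rfl <;> simp [hm]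

theorem SIrr.eq_or_eq_neg {X Y : G → ℂ} (hX : SIrr X) (hY : SIrr Y) (h : classInner X Y ≠ 0) :
    X = Y ∨ X = -Y := by
  rcases hY.inner_cases hX.1 (n := 1) (by norm_num) (by simp [hX.2]) with h1 | h1 | h1
  · exact absurd h1 h
  · exact Or.inl (hX.eq_of_inner_eq_one hY h1)
  · exact Or.inr (hX.eq_of_inner_eq_one hY.neg (by rw [classInner_neg_right, h1, neg_neg]))

theorem SIrr.norm_sub {X η : G → ℂ} (hX : SIrr X) (hη : IsGeneralizedCharacter G η)
    (h : classInner η X = 1) : classInner (η - X) (η - X) = classInner η η - 1 := by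
  rw [classInner_sub_left, classInner_sub_right, classInner_sub_right, hX.2, h, hX.inner_comm hη, h]
  ring

theorem SIrr.inner_sub {X η : G → ℂ} (hX : SIrr X) (h : classInner η X = 1) :
    classInner (η - X) X = 0 := by
  rw [classInner_sub_left, h, hX.2, sub_self]

theorem exists_sirr_inner_eq_one {η : G → ℂ} (hη : IsGeneralizedCharacter G η) {n : ℕ} (hn : n ≤ 2)
    (h : classInner η η = (n + 1 : ℕ)) : ∃ X, SIrr X ∧ classInner η X = 1 := by
  obtain ⟨χ, ε, hχ, hε, h1, -⟩ := hη.exists_split hn h
  rcases hε with rfl | rfl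
  · exact ⟨χ, sirr_of_irr hχ, by simpa using h1⟩
  · exact ⟨-χ, (sirr_of_irr hχ).neg, by rw [classInner_neg_right, h1]; simp⟩

theorem sirr_sub_of_norm_two {X η : G → ℂ} (hX : SIrr X) (hη : IsGeneralizedCharacter G η)
    (h2 : classInner η η = 2) (h : classInner η X = 1) : SIrr (η - X) :=
  ⟨hη.sub hX.1, by rw [hX.norm_sub hη h, h2]; ring⟩

/-- If `X + Y` (orthogonal signed irreducibles) is orthogonal to `Z` then so are both. -/
theorem SIrr.inner_eq_zero_of_add {X Y Z : G → ℂ} (hX : SIrr X) (hY : SIrr Y) (hZ : SIrr Z)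
    (hXY : classInner X Y = 0) (h : classInner (X + Y) Z = 0) : classInner X Z = 0 := by
  by_contra h0
  rw [classInner_add_left] at h
  have h1 : classInner Y Z ≠ 0 := fun h2 => h0 (by simpa [h2] using h)
  rcases hX.eq_or_eq_neg hZ h0 with rfl | rfl <;> rcases hY.eq_or_eq_neg hZ h1 with rfl | rfl <;>
    simp [classInner_neg_left, classInner_neg_right, hZ.2] at hXY

theorem SIrr.sum_cl_cl {X : G → ℂ} (hX : SIrr X) (a b : G) :
    ∑ x ∈ cl a, ∑ y ∈ cl b, X (x * y) = (cl a).card * (cl b).card * (X a * X b / X 1) := by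
  rcases hX.irr_or with h | h
  · exact H5.sum_cl_cl h a b
  · have := H5.sum_cl_cl h a b
    simp only [Pi.neg_apply, Finset.sum_neg_distrib] at this
    rw [neg_eq_iff_eq_neg.1 this]
    have := hX.apply_one_ne_zero
    field_simp

open Classical in
/-- The number of ways of writing `x` as a product of a conjugate of `a` and a conjugate of `b`. -/
noncomputable def gam (a b : G) (x : G) : ℂ := ((cl a).filter fun u => IsConj b (u⁻¹ * x)).card

theorem sum_mul_gam (a b : G) (F : G → ℂ) :
    ∑ x, F x * gam a b x = ∑ u ∈ cl a, ∑ v ∈ cl b, F (u * v) := by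
  classical
  simp only [gam, Finset.card_filter, Nat.cast_sum, Finset.mul_sum]
  rw [Finset.sum_comm]
  refine Finset.sum_congr rfl fun u _ => ?_
  rw [← Equiv.sum_comp (Equiv.mulLeft u), cl, Finset.sum_filter]
  refine Finset.sum_congr rfl fun v _ => ?_
  simp only [Equiv.coe_mulLeft, inv_mul_cancel_left]
  split_ifs <;> simp

theorem conj_gam (a b x : G) : conj (gam a b x) = gam a b x := by simp [gam]

theorem gam_classFun (a b : G) : IsClassFunction G (gam a b) := by
  classical
  intro g h
  unfold gam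
  congr 1
  symm
  refine Finset.card_bij (fun u _ => h * u * h⁻¹) (fun u hu => ?_) (fun x _ y _ e => by simpa using e)
    (fun u hu => ⟨h⁻¹ * u * h, ?_, by group⟩)
  · rw [Finset.mem_filter, mem_cl] at hu ⊢
    exact ⟨hu.1.trans (isConj_iff.2 ⟨h, rfl⟩), hu.2.trans (isConj_iff.2 ⟨h, by group⟩)⟩
  · rw [Finset.mem_filter, mem_cl] at hu ⊢
    exact ⟨hu.1.trans (isConj_iff.2 ⟨h⁻¹, by group⟩), hu.2.trans (isConj_iff.2 ⟨h⁻¹, by group⟩)⟩

theorem card_mul_inner_gam (a b : G) (F : G → ℂ) :
    (Nat.card G : ℂ) * classInner F (gam a b) = ∑ u ∈ cl a, ∑ v ∈ cl b, F (u * v) := by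
  rw [card_mul_classInner, ← sum_mul_gam]; simp only [conj_gam]

theorem SIrr.inner_gam {X : G → ℂ} (hX : SIrr X) (a b : G) :
    classInner X (gam a b) = (cl a).card * (cl b).card / Nat.card G * (X a * X b / X 1) := by
  apply mul_left_cancel₀ (card_ne_zero G)
  rw [card_mul_inner_gam, hX.sum_cl_cl]
  have := card_ne_zero G
  field_simp

open Classical in
/-- Fourier expansion on an abelian subgroup, relative to the principal character. -/
theorem apply_eq_neg_sum_of_comm {K : Type*} [Group K] [Fintype K] (hK : ∀ a b : K, a * b = b * a)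
    (f : K → ℂ) (y : K) :
    f y = (if y = 1 then Nat.card K * classInner f (fun _ => 1) else 0) -
      ∑ ν : IrrCharacter K, classInner f ((fun _ => 1) - ν.1) * ν.1 y := by
  have h1 := sum_degree_mul y
  simp only [fun ν : IrrCharacter K => ν.2.apply_one_of_comm hK, one_mul] at h1
  simp only [classInner_sub_right, sub_mul, Finset.sum_sub_distrib, ← Finset.mul_sum, h1]
  rw [← (isClassFunction_of_comm hK f).apply_eq_sum]
  split_ifs <;> ring

open Classical in
theorem sum_irr_of_comm {K : Type*} [Group K] [Finite K] (hK : ∀ a b : K, a * b = b * a) (y : K) :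
    ∑ ν : IrrCharacter K, ν.1 y = if y = 1 then (Nat.card K : ℂ) else 0 := by
  have h1 := sum_degree_mul y
  simpa only [fun ν : IrrCharacter K => ν.2.apply_one_of_comm hK, one_mul] using h1

theorem card_irr_of_comm {K : Type*} [Group K] [Finite K] (hK : ∀ a b : K, a * b = b * a) :
    Fintype.card (IrrCharacter K) = Nat.card K := by
  have h1 := sum_irr_of_comm hK 1
  simp only [fun ν : IrrCharacter K => ν.2.apply_one_of_comm hK, if_true, Finset.sum_const,
    Finset.card_univ, nsmul_eq_mul, mul_one] at h1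
  exact_mod_cast h1

end H5
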