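import Mathlib
import Cfsg.Agent.H5.SIrr

/-! The Brauer–Suzuki–Wall theorem: the character theory. -/

set_option autoImplicit false
open Cfsg H4 Subgroup
open scoped ComplexConjugate

namespace H5

variable {G : Type*} [Group G]

/-- The hypothesis of the Brauer–Suzuki–Wall theorem: `C(t) = K⟨s⟩`, `K` an abelian TI-subgroup
inverted by `s` with unique involution `t`, and all involutions are conjugate. -/
structure BSWHyp (K : Subgroup G) (t s : G) : Prop where
  t_ord : orderOf t = 2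
  t_mem : t ∈ K
  comm : ∀ a ∈ K, ∀ b ∈ K, a * b = b * a
  uniq : ∀ a ∈ K, a * a = 1 → a = 1 ∨ a = t
  s_sq : s * s = 1
  s_nmem : s ∉ K
  inv : ∀ a ∈ K, s * a * s⁻¹ = a⁻¹
  ti : ∀ g, ∀ a ∈ K, a ≠ 1 → g * a * g⁻¹ ∈ K → g ∈ K ∨ s⁻¹ * g ∈ K
  allConj : ∀ u, orderOf u = 2 → IsConj t u

theorem bsw_arith {g k m : ℤ} (hg : Odd g) (hk : k ≠ 0)
    (h : 2 * k ^ 2 * (1 + m * k) * (1 + m * k + 1) = g * (1 + m * k - 1) ^ 2) :
    ∃ e : ℤ, (e = 1 ∨ e = -1) ∧ m = 2 * e ∧ g = (2 * k + e) * (k + e) := by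
  have h1 : g * m ^ 2 = 2 * (1 + m * k) * (2 + m * k) := by
    apply mul_left_cancel₀ (pow_ne_zero 2 hk); linear_combination -h
  have h2 : Even m := by
    have : Even (g * m ^ 2) := by rw [h1, mul_assoc]; exact even_two_mul _
    rcases Int.even_mul.1 this with h3 | h3
    · exact absurd h3 (Int.not_even_iff_odd.2 hg)
    · exact (Int.even_pow.1 h3).1
  obtain ⟨n, rfl⟩ := h2
  have h3 : g * n ^ 2 = (1 + 2 * n * k) * (1 + n * k) := by
    apply mul_left_cancel₀ (show (4 : ℤ) ≠ 0 by norm_num); linear_combination h1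
  have h4 : n ∣ 1 := ⟨g * n - 3 * k - 2 * n * k ^ 2, by linear_combination -h3⟩
  rcases Int.isUnit_iff.1 (isUnit_of_dvd_one h4) with rfl | rfl
  · exact ⟨1, Or.inl rfl, by ring, by linear_combination h3⟩
  · exact ⟨-1, Or.inr rfl, by ring, by linear_combination h3⟩

/-- If all involutions are conjugate, involution centralizers have odd index. -/
theorem odd_index_centralizer_of_conj [Finite G] {t : G} (ht : orderOf t = 2)
    (h : ∀ u, orderOf u = 2 → IsConj t u) : Odd (centralizer ({t} : Set G)).index := by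
  obtain ⟨P, hP⟩ := (H6.isPGroup_zpowers_of_orderOf_two ht).exists_le_sylow
  have hne : (P : Subgroup G) ≠ ⊥ := fun h0 =>
    H6.ne_one_of_orderOf_two ht (by simpa [h0] using hP (mem_zpowers t))
  obtain ⟨z, -, hz, hc⟩ := H6.exists_central_involution P.2 hne
  have h1 : (P : Subgroup G) ≤ centralizer {z} := fun p hp => H6.mem_centralizer_singleton.2 (hc p hp)
  have h2 : Odd (centralizer ({z} : Set G)).index :=
    Odd.of_dvd_nat (Nat.coprime_two_right.1 (H3.sylow_index_coprime P)) (index_dvd_of_le h1)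
  have h3 := card_centralizer_of_isConj (h z hz)
  have h4 := (centralizer ({t} : Set G)).card_mul_index
  rw [← (centralizer ({z} : Set G)).card_mul_index, h3] at h4
  rwa [Nat.eq_of_mul_eq_mul_left Nat.card_pos h4]

namespace BSWHyp

variable {K : Subgroup G} {t s : G} (h : BSWHyp K t s)
include h

theorem commK (a b : K) : a * b = b * a := Subtype.ext (h.comm a a.2 b b.2)
theorem t_ne : t ≠ 1 := H6.ne_one_of_orderOf_two h.t_ord
theorem t_sq : t * t = 1 := H6.mul_self_of_orderOf_two h.t_ord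
theorem s_inv : s⁻¹ = s := H6.inv_eq_of_mul_self h.s_sq

theorem conj_of_coset {u a : G} (hu : s⁻¹ * u ∈ K) (ha : a ∈ K) : u * a * u⁻¹ = a⁻¹ := by
  have h1 : u = s * (s⁻¹ * u) := by group
  generalize s⁻¹ * u = c at hu h1
  subst h1
  have : s * c * a * (s * c)⁻¹ = s * (c * a * c⁻¹) * s⁻¹ := by group
  rw [this, h.comm c hu a ha, mul_inv_cancel_right, h.inv a ha]

theorem nmem_of_coset {u : G} (hu : s⁻¹ * u ∈ K) : u ∉ K := fun hK =>
  h.s_nmem (inv_mem_iff.1 ((mul_mem_cancel_right hK).1 hu))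

theorem orderOf_of_coset {u : G} (hu : s⁻¹ * u ∈ K) : orderOf u = 2 := by
  refine H6.orderOf_eq_two_of ?_ fun h1 => h.nmem_of_coset hu (h1 ▸ one_mem K)
  have h1 : u = s * (s⁻¹ * u) := by group
  generalize s⁻¹ * u = c at hu h1
  subst h1
  have : s * c * (s * c) = (s * c * s⁻¹) * (s * s) * c := by group
  rw [this, h.inv c hu, h.s_sq]; group

theorem mem_cent_iff {g : G} : g ∈ centralizer ({t} : Set G) ↔ g ∈ K ∨ s⁻¹ * g ∈ K := by
  rw [H6.mem_centralizer_singleton]
  constructor
  · intro hg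
    exact h.ti g t h.t_mem h.t_ne (by rw [hg, mul_inv_cancel_right]; exact h.t_mem)
  · rintro (hg | hg)
    · exact h.comm g hg t h.t_mem
    · rw [← mul_inv_eq_iff_eq_mul, h.conj_of_coset hg h.t_mem, H6.inv_eq_of_mul_self h.t_sq]

theorem card_cent [Finite G] : Nat.card (centralizer ({t} : Set G)) = 2 * Nat.card K := by
  have hle : K ≤ centralizer {t} := fun g hg => h.mem_cent_iff.2 (Or.inl hg)
  have hs : s⁻¹ ∈ centralizer ({t} : Set G) := inv_mem (h.mem_cent_iff.2 (Or.inr (by simp)))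
  have : (K.subgroupOf (centralizer {t})).index = 2 := by
    rw [index_eq_two_iff']
    refine ⟨⟨s⁻¹, hs⟩, fun b => ?_⟩
    simp only [mem_subgroupOf, coe_mul]
    rcases h.mem_cent_iff.1 b.2 with h1 | h1
    · exact Or.inr ⟨h1, fun h2 => h.nmem_of_coset h2 h1⟩
    · exact Or.inl ⟨h1, h.nmem_of_coset h1⟩
  rw [← (K.subgroupOf (centralizer {t})).index_mul_card, this,
    Nat.card_congr (subgroupOfEquivOfLe hle).toEquiv]

/-- Uniqueness of the non-principal real linear character of `K`. -/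
theorem real_unique [Finite G] {μ μ' : K → ℂ} (hμ : IsIrrCharacter K μ) (hμ' : IsIrrCharacter K μ')
    (h1 : μ ≠ fun _ => 1) (h1' : μ' ≠ fun _ => 1) (hr : (fun y => conj (μ y)) = μ)
    (hr' : (fun y => conj (μ' y)) = μ') : μ = μ' := by
  let : CommGroup K := { (inferInstance : Group K) with mul_comm := h.commK }
  let R : Subgroup K := (powMonoidHom 2 : K →* K).range
  have hR : R.index = 2 := by
    suffices hk : (powMonoidHom 2 : K →* K).ker = zpowers ⟨t, h.t_mem⟩ by
      rw [index_range, hk, Nat.card_zpowers, Subgroup.orderOf_mk, h.t_ord]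
    apply le_antisymm
    · intro y hy
      have : (y : G) * y = 1 := by
        have := congrArg Subtype.val (MonoidHom.mem_ker.1 hy)
        simpa [sq] using this
      rcases h.uniq y y.2 this with h2 | h2
      · rw [show y = 1 from Subtype.ext h2]; exact one_mem _
      · rw [show y = ⟨t, h.t_mem⟩ from Subtype.ext h2]; exact mem_zpowers _
    · rw [zpowers_le, MonoidHom.mem_ker]
      exact Subtype.ext (by simpa [sq] using h.t_sq)
  have key : ∀ ν : K → ℂ, IsIrrCharacter K ν → (ν ≠ fun _ => 1) → (fun y => conj (ν y)) = ν →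
      ∀ y, (y ∈ R → ν y = 1) ∧ (y ∉ R → ν y = -1) := by
    intro ν hν hν1 hνr
    have hl := hν.apply_one_of_comm h.commK
    have hsq : ∀ y, ν y * ν y = 1 := fun y => by
      nth_rw 2 [← congrFun hνr y]; exact norm_eq_one_of_linear hν.isCharacter hl y
    have hin : ∀ y ∈ R, ν y = 1 := by
      rintro _ ⟨y, rfl⟩
      simp only [powMonoidHom_apply, sq]
      rw [hν.isCharacter.map_mul_of_apply_one hl, hsq]
    obtain ⟨y₀, hy₀⟩ := Function.ne_iff.1 hν1
    refine fun y => ⟨hin y, fun hy => ?_⟩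
    have h2 := hin _ ((mul_mem_iff_of_index_two hR).2 (iff_of_false (fun h3 => hy₀ (hin _ h3)) hy))
    rw [hν.isCharacter.map_mul_of_apply_one hl,
      (mul_self_eq_one_iff.1 (hsq y₀)).resolve_left hy₀] at h2
    linear_combination -h2
  funext y
  by_cases hy : y ∈ R
  · rw [(key μ hμ h1 hr y).1 hy, (key μ' hμ' h1' hr' y).1 hy]
  · rw [(key μ hμ h1 hr y).2 hy, (key μ' hμ' h1' hr' y).2 hy]

theorem exists_nonreal [Finite G] (hk : 2 < Nat.card K) :
    ∃ ν : K → ℂ, IsIrrCharacter K ν ∧ (fun y => conj (ν y)) ≠ ν := by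
  by_contra hcon
  push Not at hcon
  have : K ≤ zpowers t := by
    intro y hy
    have h1 : IsConj (⟨y, hy⟩ : K)⁻¹ ⟨y, hy⟩ := (isConj_iff_irr _ _).2 fun χ hχ => by
      rw [hχ.apply_inv]; exact congrFun (hcon χ hχ) _
    obtain ⟨c, hc⟩ := isConj_iff.1 h1
    rw [h.commK c, mul_inv_cancel_right] at hc
    have h2 : y * y = 1 := by
      have := congrArg Subtype.val hc
      simp only [InvMemClass.coe_inv] at this
      nth_rw 1 [← this]; simp
    rcases h.uniq y hy h2 with rfl | rfl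
    · exact one_mem _
    · exact mem_zpowers _
  have := card_le_of_le this
  rw [Nat.card_zpowers, h.t_ord] at this
  omega

theorem sq_t [Finite G] {ν : K → ℂ} (hν : IsIrrCharacter K ν) :
    ν ⟨t, h.t_mem⟩ * ν ⟨t, h.t_mem⟩ = 1 := by
  have hl := hν.apply_one_of_comm h.commK
  rw [← hν.isCharacter.map_mul_of_apply_one hl, ← hl]
  congr 1; exact Subtype.ext h.t_sq

/-- The values at `t` of the non-real characters are not constant if there are two
non-conjugate ones. -/
theorem not_const [Finite G] {lam ν : K → ℂ} (hl : IsIrrCharacter K lam) (hν : IsIrrCharacter K ν)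
    (hlr : (fun y => conj (lam y)) ≠ lam) (hνr : (fun y => conj (ν y)) ≠ ν) (h1 : ν ≠ lam)
    (h2 : ν ≠ fun y => conj (lam y))
    (hc : ∀ κ, IsIrrCharacter K κ → (fun y => conj (κ y)) ≠ κ → κ ⟨t, h.t_mem⟩ = lam ⟨t, h.t_mem⟩) :
    False := by
  have lin : ∀ {κ : K → ℂ}, IsIrrCharacter K κ → κ 1 = 1 := fun hκ => hκ.apply_one_of_comm h.commK
  have mul : ∀ {κ κ' : K → ℂ}, IsIrrCharacter K κ → IsIrrCharacter K κ' → IsIrrCharacter K (κ * κ') :=
    fun hκ hκ' => hκ.mul_linear hκ'.isCharacter (lin hκ')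
  have nrm : ∀ {κ : K → ℂ}, IsIrrCharacter K κ → ∀ y, κ y * conj (κ y) = 1 := fun hκ =>
    norm_eq_one_of_linear hκ.isCharacter (lin hκ)
  have nz : ∀ {κ : K → ℂ}, IsIrrCharacter K κ → ∀ y, κ y ≠ 0 := fun hκ =>
    linear_ne_zero hκ.isCharacter (lin hκ)
  rcases mul_self_eq_one_iff.1 (h.sq_t hl) with h3 | h3
  · have : ¬ ∀ χ, IsIrrCharacter K χ → χ ⟨t, h.t_mem⟩ = χ 1 := fun h4 =>
      h.t_ne (congrArg Subtype.val (eq_one_of_forall_irr h4))
    push Not at this
    obtain ⟨κ, hκ, hκt⟩ := this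
    rw [lin hκ] at hκt
    have r1 : (fun y => conj (κ y)) = κ := by
      by_contra h4; exact hκt ((hc κ hκ h4).trans h3)
    have r2 : (fun y => conj ((lam * κ) y)) = lam * κ := by
      by_contra h4
      have := hc _ (mul hl hκ) h4
      rw [Pi.mul_apply, h3, one_mul] at this
      exact hκt this
    apply hlr
    funext y
    have := congrFun r2 y
    simp only [Pi.mul_apply, map_mul, congrFun r1 y] at this
    exact mul_right_cancel₀ (nz hκ y) this
  · have hνt := (hc ν hν hνr).trans h3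
    have r : ∀ κ, IsIrrCharacter K κ → κ ⟨t, h.t_mem⟩ = -1 →
        (fun y => conj ((lam * κ) y)) = lam * κ := by
      intro κ hκ hκt
      by_contra h4
      have := hc _ (mul hl hκ) h4
      rw [Pi.mul_apply, h3, hκt] at this
      norm_num at this
    have := h.real_unique (mul hl hν) (mul hl hν.conj) (fun h4 => h2 (funext fun y =>
        mul_left_cancel₀ (nz hl y) ((congrFun h4 y).trans (nrm hl y).symm)))
      (fun h4 => h1 (funext fun y => mul_right_cancel₀ (nz hν.conj y)
        ((nrm hν y).trans (congrFun h4 y).symm))) (r ν hν hνt) (r _ hν.conj (by simp [hνt]))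
    exact hνr (funext fun y => (mul_left_cancel₀ (nz hl y) (congrFun this y)).symm)

variable [Fintype G]

theorem ind_apply (φ : K → ℂ) (y : K) (hy : y ≠ 1) : indFun K φ y = φ y + φ y⁻¹ := by
  have hy' : (y : G) ≠ 1 := fun h1 => hy (Subtype.ext h1)
  rw [indFun_apply_two_cosets K (isClassFunction_of_comm h.commK φ) h.s_nmem, ext0_coe]
  · have : s⁻¹ * y * s = (y⁻¹ : K) := by
      have := h.inv y y.2
      rw [h.s_inv] at this ⊢; exact this
    rw [this, ext0_coe]
  · intro g hg
    have h1 : g⁻¹ * y * g ∈ K := by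
      by_contra h0; exact hg (ext0_not_mem K φ h0)
    have h2 := h.mem_cent_iff.2 (h.ti g⁻¹ y y.2 hy' (by simpa using h1))
    exact h.mem_cent_iff.1 (inv_mem_iff.1 h2)

theorem inner_ind [Fintype K] {φ : K → ℂ} (ψ : K → ℂ) (h0 : φ 1 = 0) :
    classInner (indFun K φ) (indFun K ψ) = classInner φ ψ + classInner φ (fun y => ψ y⁻¹) := by
  rw [H5.classInner_indFun_left K φ (H5.indFun_isClassFunction K ψ), ← classInner_add_right]
  simp only [classInner_def]
  congr 1
  refine Finset.sum_congr rfl fun y _ => ?_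
  by_cases hy : y = 1
  · rw [hy, h0, zero_mul, zero_mul]
  · rw [h.ind_apply ψ y hy]; rfl

theorem gam_apply {y : G} (hy : y ∈ K) (h1 : y ≠ 1) : gam t t y = Nat.card K := by
  classical
  unfold gam
  congr 1
  rw [← Fintype.card_coe, ← Nat.card_eq_fintype_card]
  symm
  refine Nat.card_congr (Equiv.ofBijective (fun a : K => ⟨s * a, ?_⟩) ⟨fun a b hab => ?_, ?_⟩)
  · have ha : s⁻¹ * (s * a) ∈ K := by simp
    rw [Finset.mem_filter, mem_cl]
    refine ⟨h.allConj _ (h.orderOf_of_coset ha), h.allConj _ (h.orderOf_of_coset ?_)⟩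
    rw [H6.inv_eq_of_orderOf_two (h.orderOf_of_coset ha), ← mul_assoc]
    exact mul_mem ha hy
  · simpa using congrArg Subtype.val hab
  · rintro ⟨u, hu⟩
    rw [Finset.mem_filter, mem_cl] at hu
    have hu1 : orderOf u = 2 := (H6.orderOf_of_isConj hu.1).symm.trans h.t_ord
    have hu2 : orderOf (u⁻¹ * y) = 2 := (H6.orderOf_of_isConj hu.2).symm.trans h.t_ord
    have h3 : u * y * u⁻¹ = y⁻¹ := by
      have := H6.mul_self_of_orderOf_two hu2
      rw [H6.inv_eq_of_orderOf_two hu1] at this ⊢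
      rw [eq_inv_iff_mul_eq_one, ← this]; group
    rcases h.ti u y hy h1 (h3 ▸ inv_mem hy) with h4 | h4
    · exfalso
      have e1 := (h.uniq u h4 (H6.mul_self_of_orderOf_two hu1)).resolve_left
        (H6.ne_one_of_orderOf_two hu1)
      have e2 := (h.uniq _ (mul_mem (inv_mem h4) hy) (H6.mul_self_of_orderOf_two hu2)).resolve_left
        (H6.ne_one_of_orderOf_two hu2)
      rw [H6.inv_eq_of_orderOf_two hu1, e1] at e2
      exact h1 (by simpa using e2)
    · exact ⟨⟨_, h4⟩, Subtype.ext (by simp)⟩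

end BSWHyp

/-- The generalized characters `(1 - ν)^G - 1`. -/
noncomputable def eta [Fintype G] (K : Subgroup G) (ν : K → ℂ) : G → ℂ :=
  indFun K ((fun _ => 1) - ν) - fun _ => 1

namespace BSWHyp

variable [Fintype G] {K : Subgroup G} [Fintype K] {t s : G} (h : BSWHyp K t s)

omit [Fintype K] in
theorem eta_gen {ν : K → ℂ} (hν : IsIrrCharacter K ν) : IsGeneralizedCharacter G (eta K ν) := by
  unfold eta
  rw [H5.indFun_sub]
  exact ((isCharacter_indFun K isCharacter_one).isGen.sub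
    (isCharacter_indFun K hν.isCharacter).isGen).sub isGen_one

theorem inner_ind_one {ν : K → ℂ} (hν : IsIrrCharacter K ν) (h1 : ν ≠ fun _ => 1) :
    classInner (indFun K ((fun _ => 1) - ν)) (fun _ => 1) = 1 := by
  rw [H5.classInner_indFun_left K _ (isClassFunction_const 1), classInner_sub_left,
    hν.inner_of_ne isIrrCharacter_one h1, classInner_one_one, sub_zero]

theorem eta_one {ν : K → ℂ} (hν : IsIrrCharacter K ν) (h1 : ν ≠ fun _ => 1) :
    classInner (eta K ν) (fun _ => 1) = 0 := by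
  rw [eta, classInner_sub_left, inner_ind_one hν h1, classInner_one_one, sub_self]

theorem inner_res {X : G → ℂ} (hX : IsClassFunction G X) (h0 : classInner X (fun _ => 1) = 0)
    (ν : K → ℂ) : classInner (fun y : K => X y) ((fun _ => 1) - ν) = classInner X (eta K ν) := by
  rw [eta, classInner_sub_right X, h0, sub_zero, H5.classInner_indFun_right K _ hX]

include h

theorem eta_eta {ν ν' : K → ℂ} (hν : IsIrrCharacter K ν) (h1 : ν ≠ fun _ => 1)
    (hν' : IsIrrCharacter K ν') (h1' : ν' ≠ fun _ => 1) :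
    classInner (eta K ν) (eta K ν') = 1 + classInner ν ν' + classInner ν (fun y => conj (ν' y)) := by
  have h2 : (fun y => conj (ν' y)) ≠ fun _ => 1 := fun h3 => h1' (funext fun y => by
    simpa using congrArg conj (congrFun h3 y))
  nth_rw 2 [eta]
  rw [classInner_sub_right, eta_one hν h1, sub_zero, eta, classInner_sub_left,
    h.inner_ind _ (by simp [hν.apply_one_of_comm h.commK]), ← conj_classInner _ (fun _ => 1),
    inner_ind_one hν' h1']
  have : (fun y => ((fun _ => 1) - ν' : K → ℂ) y⁻¹) = (fun _ => 1) - fun y => conj (ν' y) := by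
    funext y; simp [hν'.apply_inv]
  rw [this]
  simp only [classInner_sub_left, classInner_sub_right, classInner_one_one,
    hν.inner_of_ne isIrrCharacter_one h1, isIrrCharacter_one.inner_of_ne hν' h1'.symm,
    isIrrCharacter_one.inner_of_ne hν'.conj h2.symm, map_one]
  ring

theorem eta_norm_two {ν : K → ℂ} (hν : IsIrrCharacter K ν) (hr : (fun y => conj (ν y)) ≠ ν) :
    classInner (eta K ν) (eta K ν) = 2 := by
  have h1 : ν ≠ fun _ => 1 := by rintro rfl; simp at hr
  rw [h.eta_eta hν h1 hν h1, hν.inner_self, hν.inner_of_ne hν.conj hr.symm]; ring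

theorem eta_norm_three {ν : K → ℂ} (hν : IsIrrCharacter K ν) (h1 : ν ≠ fun _ => 1)
    (hr : (fun y => conj (ν y)) = ν) : classInner (eta K ν) (eta K ν) = 3 := by
  rw [h.eta_eta hν h1 hν h1, hr, hν.inner_self]; ring

theorem eta_cases {ν : K → ℂ} (hν : IsIrrCharacter K ν) (h1 : ν ≠ fun _ => 1) {X : G → ℂ}
    (hX : SIrr X) : classInner (eta K ν) X = 0 ∨ classInner (eta K ν) X = 1 ∨
      classInner (eta K ν) X = -1 := by
  by_cases hr : (fun y => conj (ν y)) = ν
  · exact hX.inner_cases (eta_gen hν) (n := 3) le_rfl (by simpa using h.eta_norm_three hν h1 hr)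
  · exact hX.inner_cases (eta_gen hν) (n := 2) (by norm_num) (by simpa using h.eta_norm_two hν hr)

theorem eta_eta_of_ne {ν ν' : K → ℂ} (hν : IsIrrCharacter K ν) (h1 : ν ≠ fun _ => 1)
    (hν' : IsIrrCharacter K ν') (h1' : ν' ≠ fun _ => 1) (h2 : ν ≠ ν')
    (h3 : ν ≠ fun y => conj (ν' y)) : classInner (eta K ν) (eta K ν') = 1 := by
  rw [h.eta_eta hν h1 hν' h1', hν.inner_of_ne hν' h2, hν.inner_of_ne hν'.conj h3]; ring

omit [Fintype K] in
theorem eta_conj {ν : K → ℂ} (hν : IsIrrCharacter K ν) : eta K (fun y => conj (ν y)) = eta K ν := by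
  classical
  by_cases h1 : ν = fun _ => 1
  · subst h1; simp
  have h2 : (fun y => conj (ν y)) ≠ fun _ => 1 := fun h3 => h1 (funext fun y => by
    simpa using congrArg conj (congrFun h3 y))
  rw [← sub_eq_zero, ← classInner_self_eq_zero, classInner_sub_left, classInner_sub_right,
    classInner_sub_right, h.eta_eta hν h1 hν h1, h.eta_eta hν.conj h2 hν h1,
    h.eta_eta hν h1 hν.conj h2, h.eta_eta hν.conj h2 hν.conj h2]
  simp only [Complex.conj_conj]
  ring

omit [Fintype K] in
theorem eta_apply_one {ν : K → ℂ} (hν : IsIrrCharacter K ν) : eta K ν 1 = -1 := by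
  simp [eta, H5.indFun_one_eq, hν.apply_one_of_comm h.commK]

omit [Fintype K] in
theorem eta_apply_t (ν : K → ℂ) : eta K ν t = 1 - 2 * ν ⟨t, h.t_mem⟩ := by
  have := h.ind_apply ((fun _ => 1) - ν) ⟨t, h.t_mem⟩ fun h1 => h.t_ne (congrArg Subtype.val h1)
  have h2 : (⟨t, h.t_mem⟩ : K)⁻¹ = ⟨t, h.t_mem⟩ := Subtype.ext (H6.inv_eq_of_mul_self h.t_sq)
  rw [h2] at this
  simp only [eta, Pi.sub_apply] at this ⊢
  rw [this]; ring

theorem eta_gam {ν : K → ℂ} (hν : IsIrrCharacter K ν) (h1 : ν ≠ fun _ => 1) :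
    classInner (eta K ν) (gam t t) = Nat.card K - (cl t).card * (cl t).card / Nat.card G := by
  rw [eta, classInner_sub_left, sirr_one.inner_gam, H5.classInner_indFun_left K _ (gam_classFun t t)]
  have : classInner ((fun _ => 1) - ν) (fun y : K => gam t t y) =
      classInner ((fun _ => 1) - ν) ((Nat.card K : ℂ) • fun _ => 1) := by
    simp only [classInner_def]
    congr 1
    refine Finset.sum_congr rfl fun y _ => ?_
    by_cases hy : y = 1
    · simp [hy, hν.apply_one_of_comm h.commK]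
    · rw [h.gam_apply y.2 fun h2 => hy (Subtype.ext h2)]; simp
  rw [this, classInner_smul_right, classInner_sub_left, classInner_one_one,
    hν.inner_of_ne isIrrCharacter_one h1]
  simp

open Classical in
theorem apply_eq {X : G → ℂ} (hX : IsGeneralizedCharacter G X) (h0 : classInner X (fun _ => 1) = 0)
    (y : K) : X y = (if y = 1 then Nat.card K * classInner (fun y : K => X y) (fun _ => 1) else 0) -
      ∑ ν ∈ Finset.univ.erase (irrOne K), classInner (eta K ν.1) X * ν.1 y := by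
  have h1 := apply_eq_neg_sum_of_comm h.commK (fun y : K => X y) y
  have h2 : ((fun _ => 1) - (irrOne K).1 : K → ℂ) = 0 := by funext y; simp
  rw [← Finset.add_sum_erase _ _ (Finset.mem_univ (irrOne K)), h2, classInner_zero_right, zero_mul,
    zero_add] at h1
  rw [h1]
  congr 1
  · congr
  refine Finset.sum_congr rfl fun ν _ => ?_
  rw [inner_res hX.classFun h0, hX.inner_comm (eta_gen ν.2)]

open Classical in
theorem sum_erase (y : K) : ∑ ν ∈ Finset.univ.erase (irrOne K), ν.1 y =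
    (if y = 1 then (Nat.card K : ℂ) else 0) - 1 := by
  have h1 := sum_irr_of_comm h.commK y
  rw [← Finset.add_sum_erase _ _ (Finset.mem_univ (irrOne K))] at h1
  split_ifs at h1 ⊢ <;> rw [← h1] <;> simp

theorem aux_split {lam : K → ℂ} (hl : IsIrrCharacter K lam) (hlr : (fun y => conj (lam y)) ≠ lam)
    {A A' : G → ℂ} (hA : SIrr A) (hA' : SIrr A') (he : eta K lam = A + A') {ν : K → ℂ}
    (hν : IsIrrCharacter K ν) (h1 : ν ≠ fun _ => 1) (hne : classInner (eta K ν) A ≠ 1) :
    classInner (eta K ν) A = 0 ∧ classInner (eta K ν) A' = 1 ∧ ν ≠ lam ∧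
      ν ≠ fun y => conj (lam y) := by
  have hl1 : lam ≠ fun _ => 1 := by rintro rfl; simp at hlr
  have key : classInner (eta K ν) (eta K lam) ≠ 2 := by
    rw [he, classInner_add_right]
    rcases h.eta_cases hν h1 hA with h2 | h2 | h2 <;> rcases h.eta_cases hν h1 hA' with h3 | h3 | h3 <;>
      first | exact absurd h2 hne | (rw [h2, h3]; norm_num)
  have n1 : ν ≠ lam := by rintro rfl; exact key (h.eta_norm_two hν hlr)
  have n2 : ν ≠ fun y => conj (lam y) := by
    rintro rfl; rw [h.eta_conj hl] at key; exact key (h.eta_norm_two hl hlr)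
  have := h.eta_eta_of_ne hν h1 hl hl1 n1 n2
  rw [he, classInner_add_right] at this
  refine ⟨?_, ?_, n1, n2⟩ <;>
  rcases h.eta_cases hν h1 hA with h2 | h2 | h2 <;> rcases h.eta_cases hν h1 hA' with h3 | h3 | h3 <;>
    first | assumption | exact absurd h2 hne | (rw [h2, h3] at this; norm_num at this)

theorem aux_bad {lam : K → ℂ} (hl : IsIrrCharacter K lam) (hlr : (fun y => conj (lam y)) ≠ lam)
    {A A' : G → ℂ} (hA : SIrr A) (hA' : SIrr A') (hAA : classInner A A' = 0)
    (he : eta K lam = A + A') {μ ν : K → ℂ} (hμ : IsIrrCharacter K μ) (hμ1 : μ ≠ fun _ => 1)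
    (hν : IsIrrCharacter K ν) (hνr : (fun y => conj (ν y)) ≠ ν)
    (hμA : classInner (eta K μ) A ≠ 1) (hνA : classInner (eta K ν) A' ≠ 1) : False := by
  classical
  have nr1 : ∀ {κ : K → ℂ}, (fun y => conj (κ y)) ≠ κ → κ ≠ fun _ => 1 := by
    rintro _ hκ rfl; simp at hκ
  obtain ⟨a1, a2, a3, a4⟩ := h.aux_split hl hlr hA' hA (he.trans (add_comm _ _)) hν (nr1 hνr) hνA
  have hA0 : classInner A (fun _ => 1) = 0 :=
    hA.inner_eq_zero_of_add hA' sirr_one hAA (he ▸ eta_one hl (nr1 hlr))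
  have hB := sirr_sub_of_norm_two hA (eta_gen hν) (h.eta_norm_two hν hνr) a2
  -- all non-real characters have `A` as a constituent
  have hall : ∀ κ, IsIrrCharacter K κ → (fun y => conj (κ y)) ≠ κ → classInner (eta K κ) A = 1 := by
    intro κ hκ hκr
    by_contra hne
    obtain ⟨b1, b2, -, -⟩ := h.aux_split hl hlr hA hA' he hκ (nr1 hκr) hne
    have b3 := h.eta_eta_of_ne hκ (nr1 hκr) hν (nr1 hνr) (by rintro rfl; exact hne a2)
      (by rintro rfl; rw [h.eta_conj hν] at hne; exact hne a2)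
    have b4 := (sirr_sub_of_norm_two hA' (eta_gen hκ) (h.eta_norm_two hκ hκr) b2).eq_of_inner_eq_one
      hB (by rw [classInner_sub_left, classInner_sub_right, classInner_sub_right, b1, b3,
        hA'.inner_comm (eta_gen hν), a1, hA'.inner_comm hA.1, hAA]; ring)
    have c1 := congrFun b4 1
    have c2 := congrFun he 1
    simp only [Pi.sub_apply, Pi.add_apply, h.eta_apply_one hκ, h.eta_apply_one hν,
      h.eta_apply_one hl] at c1 c2
    obtain ⟨n, -, hn⟩ := hA.exists_int
    have : ((2 * n : ℤ) : ℂ) = ((-1 : ℤ) : ℂ) := by push_cast; linear_combination c1 - c2 - 2 * hn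
    have := Int.cast_injective this
    omega
  have hμr : (fun y => conj (μ y)) = μ := by
    by_contra h1; exact hμA (hall μ hμ h1)
  have hμ0 := (h.aux_split hl hlr hA hA' he hμ hμ1 hμA).1
  let t' : K := ⟨t, h.t_mem⟩
  have ht' : t' ≠ 1 := fun h1 => h.t_ne (congrArg Subtype.val h1)
  have hAt : A t = 1 + μ t' := by
    have h1 := h.apply_eq hA.1 hA0 t'
    have h2 := h.sum_erase t'
    rw [if_neg ht'] at h1 h2
    have hm : (⟨μ, hμ⟩ : IrrCharacter K) ∈ Finset.univ.erase (irrOne K) :=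
      Finset.mem_erase.2 ⟨fun h3 => hμ1 (congrArg Subtype.val h3), Finset.mem_univ _⟩
    rw [← Finset.add_sum_erase _ _ hm] at h1 h2
    rw [Finset.sum_congr rfl (g := fun κ => κ.1 t') fun κ hκ => by
      rw [hall κ.1 κ.2 fun h3 => (Finset.mem_erase.1 hκ).1 (Subtype.ext (h.real_unique κ.2 hμ
        (fun h4 => (Finset.mem_erase.1 (Finset.mem_erase.1 hκ).2).1 (Subtype.ext h4)) hμ1 h3 hμr)),
        one_mul]] at h1
    simp only [hμ0] at h1 h2
    linear_combination h1 - h2
  have hval : ∀ κ, IsIrrCharacter K κ → (fun y => conj (κ y)) ≠ κ →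
      (cl t).card * (cl t).card / Nat.card G * ((2 * κ t' + μ t') ^ 2 / (-1 - A 1)) =
        Nat.card K - (cl t).card * (cl t).card / Nat.card G - classInner A (gam t t) := by
    intro κ hκ hκr
    have h1 := (sirr_sub_of_norm_two hA (eta_gen hκ) (h.eta_norm_two hκ hκr) (hall κ hκ hκr)).inner_gam
      t t
    rw [classInner_sub_left, h.eta_gam hκ (nr1 hκr)] at h1
    rw [h1]
    simp only [Pi.sub_apply, h.eta_apply_one hκ, h.eta_apply_t, hAt]
    ring
  refine h.not_const hl hν hlr hνr a3 a4 fun κ hκ hκr => ?_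
  have h1 := (hval κ hκ hκr).trans (hval lam hl hlr).symm
  have hc : ((cl t).card : ℂ) ≠ 0 := by
    exact_mod_cast (Finset.card_pos.2 ⟨t, mem_cl.2 (IsConj.refl t)⟩).ne'
  have h2 : -1 - A 1 ≠ 0 := by simpa [h.eta_apply_one hν] using hB.apply_one_ne_zero
  have h3 := card_ne_zero G
  field_simp at h1
  have h4 : μ t' ≠ 0 := left_ne_zero_of_mul_eq_one (h.sq_t hμ)
  apply mul_right_cancel₀ h4
  linear_combination (1 / 4) * h1 - h.sq_t hκ + h.sq_t hl

theorem exists_common (hk : 2 < Nat.card K) : ∃ A, SIrr A ∧ classInner A (fun _ => 1) = 0 ∧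
    ∀ ν, IsIrrCharacter K ν → (ν ≠ fun _ => 1) → classInner (eta K ν) A = 1 := by
  obtain ⟨lam, hl, hlr⟩ := h.exists_nonreal hk
  have hl1 : lam ≠ fun _ => 1 := by rintro rfl; simp at hlr
  have h2 := h.eta_norm_two hl hlr
  obtain ⟨A, hA, hA1⟩ := exists_sirr_inner_eq_one (eta_gen hl) (n := 1) (by norm_num) (by simpa using h2)
  have hA' := sirr_sub_of_norm_two hA (eta_gen hl) h2 hA1
  have h0 := hA.inner_sub hA1
  have h0' := classInner_comm_of_eq_zero h0
  have he : eta K lam = A + (eta K lam - A) := by simp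
  generalize eta K lam - A = A' at hA' h0 h0' he
  have he' := he.trans (add_comm _ _)
  by_contra hcon
  push Not at hcon
  obtain ⟨μ, hμ, hμ1, hμA⟩ := hcon A hA (hA.inner_eq_zero_of_add hA' sirr_one h0' (he ▸ eta_one hl hl1))
  obtain ⟨ν, hν, hν1, hνA⟩ := hcon A' hA' (hA'.inner_eq_zero_of_add hA sirr_one h0 (he' ▸ eta_one hl hl1))
  by_cases hνr : (fun y => conj (ν y)) = ν
  · by_cases hμr : (fun y => conj (μ y)) = μ
    · obtain rfl := h.real_unique hμ hν hμ1 hν1 hμr hνr
      exact hνA (h.aux_split hl hlr hA hA' he hμ hμ1 hμA).2.1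
    · exact h.aux_bad hl hlr hA' hA h0 he' hν hν1 hμ hμr hνA hμA
  · exact h.aux_bad hl hlr hA hA' h0' he hμ hμ1 hν hνr hμA hνA

theorem main (hk : 2 < Nat.card K) : ∃ (A : G → ℂ) (e : ℤ), (e = 1 ∨ e = -1) ∧ SIrr A ∧
    classInner A (fun _ => 1) = 0 ∧ A 1 = 1 + 2 * e * Nat.card K ∧ (∀ y ∈ K, y ≠ 1 → A y = 1) ∧
    ((centralizer ({t} : Set G)).index : ℤ) = (2 * Nat.card K + e) * (Nat.card K + e) ∧
    ∀ x, (∀ g, g⁻¹ * x * g ∉ K) → 4 * Nat.card K * gam t t x =
      A 1 * (A 1 + 2 * Nat.card K - 1) + A x * (1 + A 1 * (2 * Nat.card K - 1)) := by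
  classical
  obtain ⟨A, hA, hA0, hAe⟩ := h.exists_common hk
  have nr1 : ∀ {κ : K → ℂ}, (fun y => conj (κ y)) ≠ κ → κ ≠ fun _ => 1 := by
    rintro _ hκ rfl; simp at hκ
  have ne1 : ∀ ν ∈ Finset.univ.erase (irrOne K), ν.1 ≠ fun _ => 1 := fun ν hν h1 =>
    (Finset.mem_erase.1 hν).1 (Subtype.ext h1)
  have hAv : ∀ y : K, A y = (if y = 1 then Nat.card K *
      (classInner (fun y : K => A y) (fun _ => 1) - 1) else 0) + 1 := by
    intro y
    rw [h.apply_eq hA.1 hA0 y, Finset.sum_congr rfl (g := fun ν => ν.1 y) fun ν hν => by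
      rw [hAe ν.1 ν.2 (ne1 ν hν), one_mul], h.sum_erase]
    split_ifs <;> ring
  have hAK : ∀ y ∈ K, y ≠ 1 → A y = 1 := fun y hy h1 => by
    have := hAv ⟨y, hy⟩
    rwa [if_neg fun h2 => h1 (congrArg Subtype.val h2), zero_add] at this
  have hAt := hAK t h.t_mem h.t_ne
  obtain ⟨m, hm⟩ := (hA.1.restrict K).inner_int isGen_one
  have hA1 : A 1 = 1 + (m - 1 : ℤ) * Nat.card K := by
    have := hAv 1
    rw [if_pos rfl, hm] at this
    rw [show A 1 = A (1 : K) from rfl, this]; push_cast; ring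
  let t' : K := ⟨t, h.t_mem⟩
  have ht' : t' ≠ 1 := fun h1 => h.t_ne (congrArg Subtype.val h1)
  -- notation for the constants
  obtain ⟨g, hg⟩ : ∃ g, g = (centralizer ({t} : Set G)).index := ⟨_, rfl⟩
  obtain ⟨k, hkk⟩ : ∃ k, k = Nat.card K := ⟨_, rfl⟩
  have hk0 : (k : ℂ) ≠ 0 := hkk ▸ card_ne_zero K
  have hg0 : (g : ℂ) ≠ 0 := by rw [hg]; exact_mod_cast index_ne_zero_of_finite
  have hc : ((cl t).card * (cl t).card / Nat.card G : ℂ) = g / (2 * k) := by
    rw [card_cl, ← (centralizer ({t} : Set G)).card_mul_index, h.card_cent, ← hg, ← hkk]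
    push_cast; field_simp
  have hga : ∀ X, SIrr X → classInner X (gam t t) = g / (2 * k) * (X t * X t / X 1) :=
    fun X hX => by rw [hX.inner_gam, hc]
  have hB : ∀ ν, IsIrrCharacter K ν → (fun y => conj (ν y)) ≠ ν → SIrr (eta K ν - A) :=
    fun ν hν hνr => sirr_sub_of_norm_two hA (eta_gen hν) (h.eta_norm_two hν hνr) (hAe ν hν (nr1 hνr))
  have hB1 : ∀ ν, IsIrrCharacter K ν → (eta K ν - A) 1 = -1 - A 1 := fun ν hν => by
    simp [h.eta_apply_one hν]
  have hBt : ∀ ν, (eta K ν - A) t = -2 * ν t' := fun ν => by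
    simp only [Pi.sub_apply, h.eta_apply_t, hAt]; ring
  obtain ⟨lam, hl, hlr⟩ := h.exists_nonreal hk
  have ha0 := hA.apply_one_ne_zero
  have ha1 : -1 - A 1 ≠ 0 := hB1 lam hl ▸ (hB lam hl hlr).apply_one_ne_zero
  have hBg : ∀ ν, IsIrrCharacter K ν → (ν ≠ fun _ => 1) →
      classInner (eta K ν - A) (gam t t) = k - g / (2 * k) - g / (2 * k) / A 1 := fun ν hν h1 => by
    rw [classInner_sub_left, h.eta_gam hν h1, hc, hga A hA, hAt, ← hkk]; ring
  have hform : k - g / (2 * k) - g / (2 * k) / A 1 = g / (2 * k) * (4 / (-1 - A 1)) := by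
    rw [← hBg lam hl (nr1 hlr), hga _ (hB lam hl hlr), hB1 lam hl, hBt]
    congr 2
    linear_combination 4 * h.sq_t hl
  obtain ⟨e, he, hme, hge⟩ := bsw_arith (g := g) (k := k) (m := m - 1)
    (by rw [hg]; exact_mod_cast odd_index_centralizer_of_conj h.t_ord h.allConj)
    (by exact_mod_cast hk0) (by
      apply Int.cast_injective (α := ℂ)
      push_cast
      have e1 : (1 + ((m : ℂ) - 1) * k) = A 1 := by rw [hA1, ← hkk]; push_cast; ring
      rw [e1]
      field_simp at hform
      linear_combination -hform)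
  have hA1' : A 1 = 1 + 2 * e * k := by rw [hA1, hme, ← hkk]; push_cast; ring
  have he2 : (e : ℂ) ^ 2 = 1 := by rcases he with rfl | rfl <;> simp
  have hg' : 2 * (g : ℂ) = A 1 * (1 + A 1) := by
    have : (g : ℂ) = (2 * k + e) * (k + e) := by exact_mod_cast congrArg (Int.cast (R := ℂ)) hge
    rw [this, hA1']; linear_combination (2 - 4 * k ^ 2) * he2
  refine ⟨A, e, he, hA, hA0, hkk ▸ hA1', hAK, by rw [← hg, ← hkk, hge], fun x hx => ?_⟩
  -- the expansion of `gam`
  let S : G → ℂ := ∑ ν ∈ Finset.univ.erase (irrOne K), (eta K ν.1 - A)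
  have hS : IsGeneralizedCharacter G S := isGen_sum _ _ fun ν _ => (eta_gen ν.2).sub hA.1
  have hSZ : ∀ Z, classInner S Z = ∑ ν ∈ Finset.univ.erase (irrOne K),
      classInner (eta K ν.1 - A) Z := fun Z => classInner_sum_left _ _ _
  have hBB : ∀ ν κ, IsIrrCharacter K ν → (ν ≠ fun _ => 1) → IsIrrCharacter K κ → (κ ≠ fun _ => 1) →
      classInner (eta K ν - A) (eta K κ - A) = classInner ν κ + classInner ν fun y => conj (κ y) := by
    intro ν κ hν hν1 hκ hκ1
    rw [classInner_sub_left, classInner_sub_right, classInner_sub_right, h.eta_eta hν hν1 hκ hκ1,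
      hAe ν hν hν1, hA.inner_comm (eta_gen hκ), hAe κ hκ hκ1, hA.2]; ring
  have hsum1 : ∀ κ, IsIrrCharacter K κ → (κ ≠ fun _ => 1) →
      ∑ ν ∈ Finset.univ.erase (irrOne K), classInner ν.1 κ = 1 := by
    intro κ hκ hκ1
    rw [Finset.sum_eq_single (⟨κ, hκ⟩ : IrrCharacter K), hκ.inner_self]
    · exact fun ν _ hne => ν.2.inner_of_ne hκ fun h1 => hne (Subtype.ext h1)
    · exact fun h1 => absurd (Finset.mem_erase.2 ⟨fun h2 => hκ1 (congrArg Subtype.val h2),
        Finset.mem_univ _⟩) h1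
  have hval : ∀ Z, SIrr Z → classInner Z (fun _ => 1) = 0 → classInner A Z = 0 →
      Z t = -∑ ν ∈ Finset.univ.erase (irrOne K), classInner (eta K ν.1 - A) Z * ν.1 t' := by
    intro Z hZ h0 h1
    have := h.apply_eq hZ.1 h0 t'
    rw [if_neg ht', zero_sub] at this
    simp only [classInner_sub_left, h1, sub_zero]
    exact this
  -- the constituents of `eta μ - A` for real `μ`
  have hreal : ∀ μ, IsIrrCharacter K μ → (μ ≠ fun _ => 1) → (fun y => conj (μ y)) = μ →
      ∀ X Y, SIrr X → SIrr Y → classInner X Y = 0 → eta K μ - A = X + Y →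
      classInner S X = 1 ∧ X t * X t = 1 := by
    intro μ hμ hμ1 hμr X Y hX hY hXY he
    have hm : (⟨μ, hμ⟩ : IrrCharacter K) ∈ Finset.univ.erase (irrOne K) :=
      Finset.mem_erase.2 ⟨fun h3 => hμ1 (congrArg Subtype.val h3), Finset.mem_univ _⟩
    have h1 : classInner (eta K μ - A) X = 1 := by
      rw [he, classInner_add_left, hX.2, classInner_comm_of_eq_zero hXY, add_zero]
    have h2 : ∀ ν ∈ Finset.univ.erase (irrOne K), ν ≠ ⟨μ, hμ⟩ → classInner (eta K ν.1 - A) X = 0 := by
      intro ν hν hne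
      have hνr : (fun y => conj (ν.1 y)) ≠ ν.1 := fun h3 =>
        hne (Subtype.ext (h.real_unique ν.2 hμ (ne1 ν hν) hμ1 h3 hμr))
      refine classInner_comm_of_eq_zero (hX.inner_eq_zero_of_add hY (hB ν.1 ν.2 hνr) hXY ?_)
      rw [← he, hBB μ ν.1 hμ hμ1 ν.2 (ne1 ν hν), hμ.inner_of_ne ν.2 (fun h3 => hne (Subtype.ext h3.symm)),
        hμ.inner_of_ne ν.2.conj, add_zero]
      rintro rfl
      exact hνr (by simpa using hμr.symm)
    have h3 : classInner X (fun _ => 1) = 0 := hX.inner_eq_zero_of_add hY sirr_one hXY (by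
      rw [← he, classInner_sub_left, eta_one hμ hμ1, hA0, sub_zero])
    have h4 : classInner X A = 0 := hX.inner_eq_zero_of_add hY hA hXY (by
      rw [← he, hA.inner_sub (hAe μ hμ hμ1)])
    refine ⟨by rw [hSZ, Finset.sum_eq_single_of_mem _ hm h2, h1], ?_⟩
    rw [hval X hX h3 (classInner_comm_of_eq_zero h4), Finset.sum_eq_single_of_mem _ hm
      fun ν hν hne => by rw [h2 ν hν hne, zero_mul], h1]
    simpa using h.sq_t hμ
  have hP : ∀ Z, SIrr Z → classInner Z (fun _ => 1) = 0 → classInner A Z = 0 →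
      Z t * Z t / Z 1 = 2 / (-1 - A 1) * classInner S Z := by
    intro Z hZ h0 h1
    suffices hs : (∃ ν : K → ℂ, IsIrrCharacter K ν ∧ (ν ≠ fun _ => 1) ∧
        classInner (eta K ν - A) Z ≠ 0) → ∃ W, (W = Z ∨ W = -Z) ∧
        W t * W t / W 1 = 2 / (-1 - A 1) * classInner S W by
      by_cases hex : ∃ ν : K → ℂ, IsIrrCharacter K ν ∧ (ν ≠ fun _ => 1) ∧
        classInner (eta K ν - A) Z ≠ 0
      · obtain ⟨W, rfl | rfl, hW⟩ := hs hex
        · exact hW
        · rw [classInner_neg_right] at hW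
          simp only [Pi.neg_apply] at hW
          linear_combination -hW
      · push Not at hex
        rw [hval Z hZ h0 h1, hSZ, Finset.sum_eq_zero fun ν hν => by rw [hex ν.1 ν.2 (ne1 ν hν), zero_mul],
          Finset.sum_eq_zero fun ν hν => hex ν.1 ν.2 (ne1 ν hν)]
        simp
    rintro ⟨ν, hν, hν1, hνZ⟩
    by_cases hνr : (fun y => conj (ν y)) = ν
    · have h2 : classInner (eta K ν - A) (eta K ν - A) = 2 := by
        rw [hBB ν ν hν hν1 hν hν1, hνr, hν.inner_self]; ring
      obtain ⟨X, hX, hX1⟩ := exists_sirr_inner_eq_one ((eta_gen hν).sub hA.1) (n := 1) (by norm_num)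
        (by simpa using h2)
      have hY := sirr_sub_of_norm_two hX ((eta_gen hν).sub hA.1) h2 hX1
      have hYX := hX.inner_sub hX1
      have he : eta K ν - A = X + (eta K ν - A - X) := by simp
      generalize eta K ν - A - X = Y at hY hYX he
      have hXY := classInner_comm_of_eq_zero hYX
      obtain ⟨x1, x2⟩ := hreal ν hν hν1 hνr X Y hX hY hXY he
      obtain ⟨y1, y2⟩ := hreal ν hν hν1 hνr Y X hY hX hYX (he.trans (add_comm _ _))
      have e1 := hBg ν hν hν1
      rw [hform, he, classInner_add_left, hga X hX, hga Y hY, x2, y2] at e1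
      have e2 := hB1 ν hν
      rw [he, Pi.add_apply] at e2
      have x0 := hX.apply_one_ne_zero
      have y0 := hY.apply_one_ne_zero
      have e3 : X 1 = Y 1 := by
        rw [← e2] at e1 ha1
        field_simp at e1
        have : (X 1 - Y 1) ^ 2 = 0 := by linear_combination e1
        exact sub_eq_zero.1 (pow_eq_zero_iff two_ne_zero |>.1 this)
      rw [he, classInner_add_left] at hνZ
      by_cases hXZ : classInner X Z = 0
      · refine ⟨Y, hY.eq_or_eq_neg hZ (by simpa [hXZ] using hνZ), ?_⟩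
        rw [y1, y2, ← e2, e3]; field_simp; ring
      · refine ⟨X, hX.eq_or_eq_neg hZ hXZ, ?_⟩
        rw [x1, x2, ← e2, ← e3]; field_simp; ring
    · refine ⟨_, (hB ν hν hνr).eq_or_eq_neg hZ hνZ, ?_⟩
      rw [hSZ, Finset.sum_congr rfl fun κ hκ => hBB κ.1 ν κ.2 (ne1 κ hκ) hν hν1,
        Finset.sum_add_distrib, hsum1 ν hν hν1, hsum1 _ hν.conj fun h3 => hν1 (funext fun y => by
          simpa using congrArg conj (congrFun h3 y)), hB1 ν hν, hBt]
      have := h.sq_t hν
      field_simp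
      linear_combination 2 * this
  have hS1 : classInner S (fun _ => 1) = 0 := by
    rw [hSZ]
    exact Finset.sum_eq_zero fun ν hν => by
      rw [classInner_sub_left, eta_one ν.2 (ne1 ν hν), hA0, sub_zero]
  have hSA : classInner S A = 0 := by
    rw [hSZ]
    exact Finset.sum_eq_zero fun ν hν => hA.inner_sub (hAe ν.1 ν.2 (ne1 ν hν))
  have hexp : gam t t = (g / (2 * k) : ℂ) •
      ((fun _ => 1) + (A 1)⁻¹ • A + (2 / (-1 - A 1)) • S : G → ℂ) := by
    have hgz : ∀ Z, SIrr Z → classInner (gam t t) Z = g / (2 * k) * (Z t * Z t / Z 1) := by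
      intro Z hZ
      obtain ⟨n, -, hn⟩ := hZ.exists_int
      have : conj (Z t) = Z t := by rw [← hZ.1.apply_inv, H6.inv_eq_of_mul_self h.t_sq]
      rw [← conj_classInner, hga Z hZ, hn]
      simp [this, map_ofNat]
    refine (gam_classFun t t).ext_inner (((isClassFunction_const 1).add (hA.classFun.smul _)).add
      (hS.classFun.smul _) |>.smul _) fun χ hχ => ?_
    have hZ := sirr_of_irr hχ
    rw [hgz χ hZ, classInner_smul_left, classInner_add_left, classInner_add_left,
      classInner_smul_left, classInner_smul_left]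
    congr 1
    by_cases h1 : χ = fun _ => 1
    · subst h1
      rw [hS1, hA0, classInner_one_one]; simp
    have h2 := hχ.inner_of_ne isIrrCharacter_one h1
    rw [classInner_comm_of_eq_zero h2]
    by_cases h3 : classInner A χ = 0
    · rw [h3, hP χ hZ h2 h3]; ring
    · rcases hA.eq_or_eq_neg hZ h3 with h4 | h4
      · rw [← h4, hSA, hA.2, hAt]; ring
      · have : χ = -A := by rw [h4, neg_neg]
        rw [this, classInner_neg_right, classInner_neg_right, hSA, hA.2]
        simp only [Pi.neg_apply, hAt]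
        ring
  have hSx : S x = (k - 1) * (-1 - A x) := by
    have : ∀ ν : K → ℂ, (eta K ν - A) x = -1 - A x := fun ν => by
      simp [eta, indFun_eq_zero_of_forall_not_mem K _ hx]
    simp only [S, Finset.sum_apply, this, Finset.sum_const, nsmul_eq_mul]
    rw [Finset.card_erase_of_mem (Finset.mem_univ _), Finset.card_univ, card_irr_of_comm h.commK,
      ← hkk, Nat.cast_sub (by omega)]
    simp
  rw [hexp, ← hkk]
  simp only [Pi.smul_apply, Pi.add_apply, smul_eq_mul, hSx]
  have : (g : ℂ) = A 1 * (-1 - A 1) / (-2) := by linear_combination hg' / 2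
  rw [this]
  field_simp
  ring

end BSWHyp

end H5
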