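import Mathlib
import Cfsg.Agent.H3.PNil
import Cfsg.Agent.H4.Misc
import Cfsg.Agent.H21.Feit4

/-! Subgroups which are the centralizer of each of their non-identity elements, and a recognition
theorem for `PSL₂(q)`. -/

set_option autoImplicit false
open Cfsg Subgroup MulAction

namespace H5

variable {G : Type*} [Group G]

/-- `T` is the centralizer of each of its non-identity elements. -/
def IsCC (T : Subgroup G) : Prop := ∀ y ∈ T, y ≠ 1 → centralizer ({y} : Set G) = T

namespace IsCC

variable {T : Subgroup G} (h : IsCC T)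
include h

theorem mem_iff {y g : G} (hy : y ∈ T) (h1 : y ≠ 1) : g ∈ T ↔ g * y = y * g := by
  rw [← h y hy h1, mem_centralizer_singleton_iff]

theorem comm {a b : G} (ha : a ∈ T) (hb : b ∈ T) : a * b = b * a := by
  by_cases h1 : b = 1
  · simp [h1]
  · exact (h.mem_iff hb h1).1 ha

theorem mem_normalizer {y g : G} (hy : y ∈ T) (h1 : y ≠ 1) (hg : g * y * g⁻¹ ∈ T) :
    g ∈ normalizer (T : Set G) := by
  rw [mem_normalizer_iff]
  intro a
  rw [h.mem_iff hy h1, h.mem_iff hg (by simpa using h1)]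
  constructor
  · intro e
    calc g * a * g⁻¹ * (g * y * g⁻¹) = g * (a * y) * g⁻¹ := by group
      _ = _ := by rw [e]; group
  · intro e
    calc a * y = g⁻¹ * (g * a * g⁻¹ * (g * y * g⁻¹)) * g := by group
      _ = _ := by rw [e]; group

theorem relIndex_dvd [Finite G] : T.relIndex (normalizer (T : Set G)) ∣ Nat.card T - 1 := by
  let X := {y : G // y ∈ T ∧ y ≠ 1}
  let : MulAction (normalizer (T : Set G)) X :=
    { smul := fun g y => ⟨g * y * (g : G)⁻¹, (mem_normalizer_iff.1 g.2 y).1 y.2.1,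
        by simpa using y.2.2⟩
      one_smul := fun y => Subtype.ext (by change ((1 : G) * y * (1 : G)⁻¹) = y; simp)
      mul_smul := fun a b y => Subtype.ext (by
        change ((a : G) * b * y * ((a : G) * b)⁻¹) = a * (b * y * (b : G)⁻¹) * (a : G)⁻¹; group) }
  have h1 : Nat.card X = Nat.card T - 1 := by
    rw [← H21.card_ne_one (1 : T)]
    exact Nat.card_congr ⟨fun y => ⟨⟨y.1, y.2.1⟩, fun e => y.2.2 (congrArg Subtype.val e)⟩,
      fun y => ⟨y.1.1, y.1.2, fun e => y.2 (Subtype.ext e)⟩, fun _ => rfl, fun _ => rfl⟩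
  rw [← h1]
  refine H4.dvd_card_of_forall_index_stabilizer (G := normalizer (T : Set G)) fun y => ?_
  have : stabilizer (normalizer (T : Set G)) y = T.subgroupOf _ := by
    ext g
    rw [mem_stabilizer_iff, mem_subgroupOf, h.mem_iff y.2.1 y.2.2, ← mul_inv_eq_iff_eq_mul,
      Subtype.ext_iff]
    rfl
  rw [this]; rfl

theorem coprime_relIndex [Finite G] : (T.relIndex (normalizer (T : Set G))).Coprime (Nat.card T) :=
  (Nat.coprime_of_dvd' fun k _ h1 h2 => by
    have := Nat.dvd_sub h2 (h1.trans h.relIndex_dvd)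
    rwa [Nat.sub_sub_self Nat.card_pos] at this)

theorem mem_normalizer_of_conj_mem [Finite G] {y g : G} (hy : y ∈ T) (h1 : y ≠ 1)
    (hg : g * y * g⁻¹ ∈ normalizer (T : Set G)) : g ∈ normalizer (T : Set G) := by
  have := normal_in_normalizer (H := T)
  have h2 : (g * y * g⁻¹) ^ T.relIndex (normalizer (T : Set G)) ∈ T :=
    (T.subgroupOf (normalizer (T : Set G))).pow_index_mem ⟨_, hg⟩
  refine h.mem_normalizer hy h1 (H3.mem_of_pow_mem_of_coprime h2 ?_)
  refine Nat.Coprime.coprime_dvd_left ?_ h.coprime_relIndex.symm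
  rw [orderOf_dvd_iff_pow_eq_one, conj_pow]
  have : y ^ Nat.card T = 1 := congrArg Subtype.val (pow_card_eq_one' (x := (⟨y, hy⟩ : T)))
  rw [this]; simp

theorem free [Finite G] {y : G} (hy : y ∈ T) {c : G ⧸ normalizer (T : Set G)} (hc : c ≠ (1 : G))
    (e : y • c = c) : y = 1 := by
  by_contra h1
  obtain ⟨g, rfl⟩ := QuotientGroup.mk_surjective c
  have h2 : g⁻¹ * (y * g) ∈ normalizer (T : Set G) := QuotientGroup.eq.1 e.symm
  have h3 := h.mem_normalizer_of_conj_mem (g := g⁻¹) hy h1 (by simpa [mul_assoc] using h2)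
  exact hc (QuotientGroup.eq.2 (by simpa using h3))

omit h in
theorem smul_ne {y : G} (hy : y ∈ normalizer (T : Set G)) {c : G ⧸ normalizer (T : Set G)}
    (hc : c ≠ (1 : G)) : y • c ≠ (1 : G) := fun e => hc (by
  have : y ∈ stabilizer G ((1 : G) : G ⧸ normalizer (T : Set G)) := by rwa [stabilizer_quotient]
  exact smul_left_cancel y (e.trans this.symm))

theorem card_dvd_index_sub_one [Finite G] : Nat.card T ∣ (normalizer (T : Set G)).index - 1 := by
  rw [index, ← H21.card_ne_one ((1 : G) : G ⧸ normalizer (T : Set G))]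
  exact H21.card_dvd_of_free T {c : G ⧸ normalizer (T : Set G) | c ≠ (1 : G)}
    (fun g hg c hc => smul_ne (le_normalizer hg) hc) fun g hg c hc e => h.free hg hc e

omit h in
theorem card_eq [Finite G] : Nat.card G =
    (normalizer (T : Set G)).index * (T.relIndex (normalizer (T : Set G)) * Nat.card T) := by
  rw [← mul_assoc, mul_comm (normalizer (T : Set G)).index, relIndex_mul_index le_normalizer,
    index_mul_card]

theorem coprime_index [Finite G] : T.index.Coprime (Nat.card T) := by
  rw [← relIndex_mul_index (le_normalizer (H := T))]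
  refine Nat.Coprime.mul_left h.coprime_relIndex (Nat.coprime_of_dvd' fun k _ h1 h2 => ?_)
  have := Nat.dvd_sub h1 (h2.trans h.card_dvd_index_sub_one)
  rwa [Nat.sub_sub_self (Nat.pos_of_ne_zero index_ne_zero_of_finite)] at this

/-- Recognition of `PSL₂(q)`. -/
theorem psl2 [Finite G] [IsSimpleGroup G] (h5 : 5 ≤ Nat.card T)
    (hG : 2 * Nat.card G = Nat.card T * ((Nat.card T - 1) * (Nat.card T + 1))) :
    ∃ (F : Type) (_ : Field F) (_ : Fintype F), Odd (Fintype.card F) ∧
      Nonempty (G ≃* Matrix.ProjectiveSpecialLinearGroup (Fin 2) F) := by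
  classical
  set N := normalizer (T : Set G) with hN
  have hT : T ≠ ⊥ := fun e => by rw [e, card_bot] at h5; omega
  obtain ⟨j, hj⟩ := h.relIndex_dvd
  obtain ⟨r, hr⟩ := h.card_dvd_index_sub_one
  have hc := card_eq (T := T)
  rw [← hN] at hj hr hc
  have hn0 : 0 < N.index := Nat.pos_of_ne_zero index_ne_zero_of_finite
  have hw0 : 0 < T.relIndex N := Nat.pos_of_ne_zero index_ne_zero_of_finite
  generalize hq : Nat.card T = q at *
  generalize hw : T.relIndex N = w at *
  have e1 : 2 * N.index = j * (q + 1) := by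
    apply Nat.eq_of_mul_eq_mul_left (Nat.mul_pos hw0 (show 0 < q by omega))
    calc w * q * (2 * N.index) = 2 * Nat.card G := by rw [hc]; ring
      _ = _ := by rw [hG, hj]; ring
  have hj1 : j ≤ q - 1 := Nat.le_of_dvd (by omega) ⟨w, by rw [hj, mul_comm]⟩
  have hj2 : j = 2 := by
    have e2 : 2 + q * (2 * r) = j + q * j := by
      have : N.index = 1 + q * r := by omega
      rw [this] at e1; linear_combination e1
    have := congrArg (· % q) e2
    simp only [Nat.add_mul_mod_self_left] at this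
    rw [Nat.mod_eq_of_lt (by omega), Nat.mod_eq_of_lt (by omega)] at this
    exact this.symm
  subst hj2
  have hn : Nat.card (G ⧸ N) = q + 1 := by change N.index = _; omega
  let x₀ : G ⧸ N := (1 : G)
  have hst : stabilizer G x₀ = N := stabilizer_quotient N
  have hreg : ∀ y z : G ⧸ N, y ≠ x₀ → z ≠ x₀ → ∃! u : T, (u : G) • y = z := by
    intro y z hy hz
    let f : T → {c : G ⧸ N // c ≠ x₀} := fun u => ⟨(u : G) • y, smul_ne (le_normalizer u.2) hy⟩
    have hf : Function.Injective f := fun u v e => by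
      have e' : (u : G) • y = (v : G) • y := congrArg Subtype.val e
      have := h.free (mul_mem (inv_mem v.2) u.2) hy (by rw [mul_smul, e', inv_smul_smul])
      exact Subtype.ext (inv_mul_eq_one.1 this).symm
    have hb : Function.Bijective f := hf.bijective_of_nat_card_le (by
      rw [H21.card_ne_one, hn, hq]; simp)
    obtain ⟨u, hu⟩ := hb.2 ⟨z, hz⟩
    exact ⟨u, congrArg Subtype.val hu, fun v hv => hf ((Subtype.ext hv : f v = ⟨z, hz⟩).trans hu.symm)⟩
  have hNtop : N ≠ ⊤ := fun e => by
    have : N.index = 1 := index_eq_one.2 e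
    omega
  obtain ⟨b, hb⟩ : ∃ b : G ⧸ N, b ≠ x₀ := by
    have : Nontrivial (G ⧸ N) := Finite.one_lt_card_iff_nontrivial.1 (by omega)
    exact exists_ne x₀
  have hZ : IsZassenhausGroup G (G ⧸ N) := by
    refine ⟨⟨fun {g g'} e => ?_⟩, ?_, ?_, ?_, ?_⟩
    · have h1 : N.normalCore = ⊥ := (N.normalCore_normal.eq_bot_or_eq_top).resolve_right fun e' =>
        hNtop (top_le_iff.1 (e' ▸ N.normalCore_le))
      rw [normalCore_eq_ker, MonoidHom.ker_eq_bot_iff] at h1
      exact h1 (Equiv.ext e)
    · rw [is_two_pretransitive_iff]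
      intro a b c d hab hcd
      obtain ⟨g, hg⟩ := exists_smul_eq G a x₀
      obtain ⟨g', hg'⟩ := exists_smul_eq G c x₀
      obtain ⟨u, hu, -⟩ := hreg (g • b) (g' • d) (fun e => hab (smul_left_cancel g (hg.trans e.symm)))
        (fun e => hcd (smul_left_cancel g' (hg'.trans e.symm)))
      have hu0 : (u : G) • x₀ = x₀ := by rw [← mem_stabilizer_iff, hst]; exact le_normalizer u.2
      exact ⟨g'⁻¹ * u * g, by rw [mul_smul, mul_smul, hg, hu0, ← hg', inv_smul_smul],
        by rw [mul_smul, mul_smul, hu, inv_smul_smul]⟩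
    · have key : ∀ g : G, ∀ b c : G ⧸ N, b ≠ x₀ → c ≠ x₀ → b ≠ c → g • x₀ = x₀ → g • b = b →
          g • c = c → g = 1 := by
        intro g b c hb hc hbc h0 h1 h2
        obtain ⟨u, hu, hu'⟩ := hreg b c hb hc
        have hg : g ∈ N := hst ▸ h0
        have h3 := hu' ⟨g * u * g⁻¹, (mem_normalizer_iff.1 hg u).1 u.2⟩ (by
          change (g * u * g⁻¹) • b = c
          rw [mul_smul, mul_smul, H21.inv_smul_eq_of_smul_eq h1, hu, h2])
        have hu1 : (u : G) ≠ 1 := fun e => hbc (by rw [← hu, e, one_smul])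
        exact h.free ((h.mem_iff u.2 hu1).2 (mul_inv_eq_iff_eq_mul.1 (congrArg Subtype.val h3))) hb h1
      intro g a b c hab hbc hac ha hb hc
      obtain ⟨k, hk⟩ := exists_smul_eq G a x₀
      have := key (k * g * k⁻¹) (k • b) (k • c) (fun e => hab (smul_left_cancel k (hk.trans e.symm)))
        (fun e => hac (smul_left_cancel k (hk.trans e.symm))) (fun e => hbc (smul_left_cancel k e))
        (by rw [← hk, H21.conj_smul_smul, ha]) (by rw [H21.conj_smul_smul, hb])
        (by rw [H21.conj_smul_smul, hc])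
      simpa using this
    · have : ¬ N ≤ T := fun e => by
        have := relIndex_eq_one.2 e
        omega
      obtain ⟨n, hn, hnT⟩ := SetLike.not_le_iff_exists.1 this
      obtain ⟨u, hu, -⟩ := hreg b (n • b) hb (smul_ne hn hb)
      refine ⟨(u : G)⁻¹ * n, fun e => hnT (inv_mul_eq_one.1 e ▸ u.2), x₀, b, hb.symm, ?_, ?_⟩
      · rw [← mem_stabilizer_iff, hst]; exact mul_mem (inv_mem (le_normalizer u.2)) hn
      · rw [mul_smul, ← hu, inv_smul_smul]
    · intro M hM htr
      rcases hM.eq_bot_or_eq_top with rfl | rfl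
      · obtain ⟨g, hg⟩ := htr.exists_smul_eq x₀ b
        rw [Subsingleton.elim g 1] at hg
        exact absurd ((one_smul _ x₀).symm.trans hg).symm hb
      · obtain ⟨y, hy⟩ := (Subgroup.ne_bot_iff_exists_ne_one).1 hT
        refine ⟨x₀, (Subgroup.ne_bot_iff_exists_ne_one).2 ⟨⟨⟨y, trivial⟩, ?_⟩, fun e => hy ?_⟩⟩
        · change (y : G) • x₀ = x₀
          rw [← mem_stabilizer_iff, hst]; exact le_normalizer y.2
        · exact Subtype.ext (congrArg (fun z => z.1.1) e)
  rcases H21.s0731 hZ x₀ T (by rw [hst]; exact le_normalizer)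
    (by rw [hst]; exact normal_in_normalizer)
    ⟨⟨fun a b => Subtype.ext (h.comm a.2 b.2)⟩⟩ hreg with ⟨h3, -⟩ | ⟨F, _, _, hF, e⟩
  · exfalso
    let := Fintype.ofFinite (G ⧸ N)
    have h4 : Nat.card (Fin 3 ↪ G ⧸ N) = (q + 1) * q * (q - 1) := by
      rw [Nat.card_eq_fintype_card, Fintype.card_embedding_eq, ← Nat.card_eq_fintype_card, hn]
      simp [Nat.descFactorial]; ring
    have : Nonempty (Fin 3 ↪ G ⧸ N) := (Nat.card_pos_iff.1 (by
      rw [h4]; exact Nat.mul_pos (by positivity) (by omega))).1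
    obtain ⟨t⟩ := this
    have h6 := Nat.le_of_dvd Nat.card_pos (stabilizer G t).index_dvd_card
    rw [index_stabilizer_of_transitive, h4] at h6
    have : 0 < (q + 1) * q * (q - 1) := Nat.mul_pos (by positivity) (by omega)
    nlinarith
  · exact ⟨F, inferInstance, inferInstance, Nat.odd_iff.2 (FiniteField.odd_card_of_char_ne_two hF), e⟩

end IsCC

end H5
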