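import Mathlib
import Cfsg.Agent.H5.BSW1
import Cfsg.Agent.H5.CC
import Cfsg.Agent.H2.Frobenius
import Cfsg.Agent.H4.Central
import Cfsg.Agent.H6.BrauerFowler
import Cfsg.Agent.H18.Basic

/-! The Brauer–Suzuki–Wall theorem: the group theory. -/

set_option autoImplicit false
open Cfsg H4 Subgroup
open scoped ComplexConjugate

namespace H5

variable {G : Type*} [Group G]

/-- A `p`-element is conjugate into any subgroup of index prime to `p`. -/
theorem exists_conj_mem_of_not_dvd_index [Finite G] {p : ℕ} (hp : p.Prime) {H : Subgroup G}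
    (hH : ¬ p ∣ H.index) {y : G} {n : ℕ} (hy : y ^ p ^ n = 1) : ∃ g : G, g⁻¹ * y * g ∈ H := by
  have := Fact.mk hp
  obtain ⟨m, -, hm⟩ := (Nat.dvd_prime_pow hp).1 (orderOf_dvd_of_pow_eq_one hy)
  have hQ : IsPGroup p (zpowers y) := IsPGroup.of_card (by rw [Nat.card_zpowers, hm])
  obtain ⟨c, hc⟩ := hQ.nonempty_fixed_point_of_prime_not_dvd_card (G ⧸ H) hH
  obtain ⟨g, rfl⟩ := QuotientGroup.mk_surjective c
  have h1 : y • (g : G ⧸ H) = g := hc ⟨y, mem_zpowers y⟩
  exact ⟨g, by simpa [mul_assoc] using QuotientGroup.eq.1 h1.symm⟩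

theorem exists_orderOf_eq_of_dvd_card [Finite G] {p : ℕ} (hp : p.Prime) {H : Subgroup G}
    (h : p ∣ Nat.card H) : ∃ y ∈ H, orderOf y = p := by
  have := Fact.mk hp
  obtain ⟨y, hy⟩ := exists_prime_orderOf_dvd_card' p h
  exact ⟨y, y.2, by rw [Subgroup.orderOf_coe, hy]⟩

theorem ne_one_of_orderOf_prime {p : ℕ} (hp : p.Prime) {y : G} (hy : orderOf y = p) : y ≠ 1 := by
  rintro rfl; rw [orderOf_one] at hy; exact hp.one_lt.ne hy

/-- If in every `p`-local subgroup the `p`-elements generate a `p`-group then the Sylow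
`p`-subgroups intersect trivially. -/
theorem sylow_eq_of_local [Finite G] {p : ℕ} [Fact p.Prime]
    (h : ∀ D A B : Subgroup G, D ≠ ⊥ → IsPGroup p D → IsPGroup p A → IsPGroup p B →
      A ≤ normalizer (D : Set G) → B ≤ normalizer (D : Set G) → IsPGroup p (A ⊔ B : Subgroup G))
    (P Q : Sylow p G) (hPQ : (P : Subgroup G) ⊓ Q ≠ ⊥) : P = Q := by
  induction hn : ((P : Subgroup G) ⊓ Q).index using Nat.strong_induction_on generalizing P Q with
  | _ n ih =>
  by_contra hne
  have h1 : (P : Subgroup G) ⊓ Q < P := lt_of_le_of_ne inf_le_left fun e =>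
    hne (H18.sylow_eq_of_le (e ▸ inf_le_right))
  have h2 : (P : Subgroup G) ⊓ Q < Q := lt_of_le_of_ne inf_le_right fun e =>
    hne (H18.sylow_eq_of_le (e ▸ inf_le_left)).symm
  have h3 := H18.lt_inf_normalizer_of_isPGroup P.2 h1
  have h4 := H18.lt_inf_normalizer_of_isPGroup Q.2 h2
  obtain ⟨R, hR⟩ := (h _ _ _ hPQ (P.2.to_le inf_le_left) (P.2.to_le inf_le_left)
    (Q.2.to_le inf_le_left) inf_le_right inf_le_right).exists_le_sylow
  have key : ∀ T : Sylow p G, (P : Subgroup G) ⊓ Q < (T : Subgroup G) ⊓ R → T = R := fun T hT =>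
    ih _ (hn ▸ index_strictAnti hT) T R (fun e => not_lt_bot (e ▸ hT)) rfl
  exact hne ((key P (h3.trans_le (le_inf inf_le_left (le_sup_left.trans hR)))).trans
    (key Q (h4.trans_le (le_inf inf_le_left (le_sup_right.trans hR)))).symm)

/-- `x` is conjugate to an element of `K`. -/
def InK (K : Subgroup G) (x : G) : Prop := ∃ g : G, g⁻¹ * x * g ∈ K

theorem InK.of_isConj {K : Subgroup G} {x y : G} (h : InK K x) (hxy : IsConj x y) : InK K y := by
  obtain ⟨g, hg⟩ := h
  obtain ⟨c, rfl⟩ := isConj_iff.1 hxy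
  exact ⟨c * g, by simpa [mul_assoc] using hg⟩

theorem inK_of_mem {K : Subgroup G} {x : G} (h : x ∈ K) : InK K x := ⟨1, by simpa using h⟩

theorem gam_eq_zero_or [Fintype G] {t x : G} (ht : orderOf t = 2) :
    gam t t x = 0 ∨ ∃ u, orderOf u = 2 ∧ u * x * u⁻¹ = x⁻¹ := by
  classical
  unfold gam
  rcases Finset.eq_empty_or_nonempty ((cl t).filter fun u => IsConj t (u⁻¹ * x)) with h | ⟨u, hu⟩
  · left; convert congrArg (fun s : Finset G => (s.card : ℂ)) h; simp
  · rw [Finset.mem_filter, mem_cl] at hu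
    have hu1 : orderOf u = 2 := (H6.orderOf_of_isConj hu.1).symm.trans ht
    have := H6.mul_self_of_orderOf_two ((H6.orderOf_of_isConj hu.2).symm.trans ht)
    rw [H6.inv_eq_of_orderOf_two hu1] at this
    refine Or.inr ⟨u, hu1, ?_⟩
    rw [H6.inv_eq_of_orderOf_two hu1, eq_inv_iff_mul_eq_one, ← this]; group

namespace BSWHyp

variable {K : Subgroup G} {t s : G} (h : BSWHyp K t s)
include h

theorem inK_of_two {u : G} (hu : orderOf u = 2) : InK K u :=
  (inK_of_mem h.t_mem).of_isConj (h.allConj u hu)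

theorem inK_of_comm {x y : G} (hy : InK K y) (h1 : y ≠ 1) (hc : x * y = y * x) : InK K x := by
  obtain ⟨g, hg⟩ := hy
  have : g⁻¹ * x * g * (g⁻¹ * y * g) * (g⁻¹ * x * g)⁻¹ = g⁻¹ * y * g := by
    calc _ = g⁻¹ * (x * y) * x⁻¹ * g := by group
      _ = _ := by rw [hc]; group
  rcases h.ti (g⁻¹ * x * g) _ hg (by simpa [H2.inv_conj_eq_one_iff] using h1) (this.symm ▸ hg)
    with h2 | h2
  · exact ⟨g, h2⟩
  · exact (h.inK_of_two (h.orderOf_of_coset h2)).of_isConj (isConj_iff.2 ⟨g, by group⟩)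

theorem even_card [Finite G] : 2 ∣ Nat.card K := h.t_ord ▸ orderOf_dvd_natCard _ h.t_mem

theorem card_G [Finite G] : Nat.card G = 2 * Nat.card K * (centralizer ({t} : Set G)).index := by
  rw [← h.card_cent, card_mul_index]

theorem index_K [Finite G] : K.index = 2 * (centralizer ({t} : Set G)).index := by
  apply Nat.eq_of_mul_eq_mul_left (Nat.card_pos (α := K))
  rw [card_mul_index, h.card_G]; ring

theorem coprime_cent [Finite G] (hg : (centralizer ({t} : Set G)).index.Coprime (Nat.card K))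
    {x : G} (hx : ¬ InK K x) : (Nat.card (centralizer ({x} : Set G))).Coprime (2 * Nat.card K) := by
  refine Nat.coprime_of_dvd fun r hr h1 h2 => hx ?_
  obtain ⟨y, hy, hyr⟩ := exists_orderOf_eq_of_dvd_card hr h1
  refine h.inK_of_comm (y := y) ?_ (ne_one_of_orderOf_prime hr hyr)
    (mem_centralizer_singleton_iff.1 hy).symm
  by_cases h3 : r = 2
  · exact h.inK_of_two (hyr.trans h3)
  · have h4 : ¬ r ∣ 2 := fun h5 => h3 ((Nat.prime_dvd_prime_iff_eq hr Nat.prime_two).1 h5)
    refine exists_conj_mem_of_not_dvd_index hr (n := 1) (fun h5 => ?_) (by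
      rw [pow_one, ← hyr, pow_orderOf_eq_one])
    rw [h.index_K] at h5
    exact hr.one_lt.ne' (Nat.eq_one_of_dvd_coprimes hg ((hr.dvd_mul.1 h5).resolve_left h4)
      ((hr.dvd_mul.1 h2).resolve_left h4))

theorem inverts_of_not_inK [Finite G] {D : Subgroup G} (hD : ∀ y ∈ D, y ≠ 1 → ¬ InK K y) {u : G}
    (hu : orderOf u = 2) (hn : u ∈ normalizer (D : Set G)) :
    (∀ y ∈ D, u * y * u⁻¹ = y⁻¹) ∧ IsMulCommutative D := by
  refine H2.inverts_of_fpf_involution hn (H6.mul_self_of_orderOf_two hu)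
    ((eq_bot_iff_forall _).2 fun y hy => ?_)
  by_contra h1
  exact hD y hy.1 h1 (h.inK_of_comm (h.inK_of_two hu) (H6.ne_one_of_orderOf_two hu)
    (mem_centralizer_singleton_iff.1 hy.2))

theorem inverts_cent [Finite G] {x u : G} (hx : ¬ InK K x) (hu : orderOf u = 2)
    (hux : u * x * u⁻¹ = x⁻¹) : (∀ y ∈ centralizer ({x} : Set G), u * y * u⁻¹ = y⁻¹) ∧
      IsMulCommutative (centralizer ({x} : Set G)) := by
  refine h.inverts_of_not_inK (fun y hy h1 hy' => hx (h.inK_of_comm hy' h1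
    (mem_centralizer_singleton_iff.1 hy).symm)) hu (mem_normalizer_fintype fun y hy => ?_)
  have h2 : Commute y x := mem_centralizer_singleton_iff.1 hy
  have h3 : x = u * x⁻¹ * u⁻¹ := by rw [← conj_inv, hux, inv_inv]
  rw [SetLike.mem_coe, mem_centralizer_singleton_iff]
  calc u * y * u⁻¹ * x = u * (y * x⁻¹) * u⁻¹ := by nth_rw 1 [h3]; group
    _ = x * (u * y * u⁻¹) := by rw [h2.inv_right.eq]; nth_rw 2 [h3]; group

theorem isCC_cent [Finite G] {x u : G} (hx : ¬ InK K x) (hu : orderOf u = 2)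
    (hux : u * x * u⁻¹ = x⁻¹) : IsCC (centralizer ({x} : Set G)) := by
  intro y hy h1
  obtain ⟨h2, h3⟩ := h.inverts_cent hx hu hux
  have hxy := mem_centralizer_singleton_iff.1 hy
  obtain ⟨-, h4⟩ := h.inverts_cent (x := y) (fun hy' => hx (h.inK_of_comm hy' h1 hxy.symm)) hu (h2 y hy)
  refine le_antisymm (fun z hz => mem_centralizer_singleton_iff.2 ?_)
    fun z hz => mem_centralizer_singleton_iff.2 ?_
  · exact congrArg Subtype.val (h4.is_comm.comm ⟨z, hz⟩ ⟨x, mem_centralizer_singleton_iff.2 hxy.symm⟩)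
  · exact congrArg Subtype.val (h3.is_comm.comm ⟨z, hz⟩ ⟨y, hy⟩)

theorem gam_eq_card [Fintype G] {x u : G} (hx : ¬ InK K x) (hu : orderOf u = 2)
    (hux : u * x * u⁻¹ = x⁻¹) : gam t t x = Nat.card (centralizer ({x} : Set G)) := by
  classical
  obtain ⟨h2, -⟩ := h.inverts_cent hx hu hux
  have key : ∀ f ∈ centralizer ({x} : Set G), orderOf (f * u) = 2 := by
    intro f hf
    refine H6.orderOf_eq_two_of ?_ fun e => hx (h.inK_of_comm (h.inK_of_two hu)
      (H6.ne_one_of_orderOf_two hu) ?_)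
    · have := h2 f hf
      rw [H6.inv_eq_of_orderOf_two hu] at this
      calc f * u * (f * u) = f * (u * f * u) := by group
        _ = 1 := by rw [this]; simp
    · rw [eq_inv_of_mul_eq_one_left e, H6.inv_eq_of_orderOf_two hu] at hf
      exact (mem_centralizer_singleton_iff.1 hf).symm
  unfold gam
  congr 1
  rw [← Fintype.card_coe, ← Nat.card_eq_fintype_card]
  symm
  refine Nat.card_congr (Equiv.ofBijective (fun a : centralizer ({x} : Set G) => ⟨a * u, ?_⟩)
    ⟨fun a b hab => ?_, ?_⟩)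
  · rw [Finset.mem_filter, mem_cl]
    refine ⟨h.allConj _ (key _ a.2), h.allConj _ ?_⟩
    have : (a * u)⁻¹ * x = a * x⁻¹ * u := by
      rw [H6.inv_eq_of_orderOf_two (key _ a.2), ← hux]; group
    rw [this]
    exact key _ (mul_mem a.2 (inv_mem (mem_centralizer_singleton_iff.2 rfl)))
  · simpa using congrArg Subtype.val hab
  · rintro ⟨v, hv⟩
    rw [Finset.mem_filter, mem_cl] at hv
    have hv1 : orderOf v = 2 := (H6.orderOf_of_isConj hv.1).symm.trans h.t_ord
    have := H6.mul_self_of_orderOf_two ((H6.orderOf_of_isConj hv.2).symm.trans h.t_ord)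
    have h3 : v * x⁻¹ * v⁻¹ = x := by
      rw [← inv_inj, conj_inv, inv_inv, eq_inv_iff_mul_eq_one, ← this, H6.inv_eq_of_orderOf_two hv1]
      group
    refine ⟨⟨v * u⁻¹, mem_centralizer_singleton_iff.2 ?_⟩, Subtype.ext (by simp)⟩
    have h4 : u⁻¹ * x * u = x⁻¹ := by
      rw [H6.inv_eq_of_orderOf_two hu] at hux ⊢; exact hux
    calc v * u⁻¹ * x = v * (u⁻¹ * x * u) * v⁻¹ * (v * u⁻¹) := by group
      _ = _ := by rw [h4, h3]

theorem psl2_of_pos [Fintype G] [IsSimpleGroup G] (hk : 2 < Nat.card K) {A : G → ℂ} (hA : SIrr A)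
    (hg : (centralizer ({t} : Set G)).index = (2 * Nat.card K + 1) * (Nat.card K + 1))
    (hγ : ∀ x, ¬ InK K x → gam t t x = 2 * Nat.card K + 1 + Nat.card K * A x) :
    ∃ (F : Type) (_ : Field F) (_ : Fintype F), Odd (Fintype.card F) ∧
      Nonempty (G ≃* Matrix.ProjectiveSpecialLinearGroup (Fin 2) F) := by
  have hG := h.card_G
  have hcop : (centralizer ({t} : Set G)).index.Coprime (Nat.card K) := by
    rw [hg]; exact Nat.Coprime.mul_left (by simp) (by simp)
  obtain ⟨p, hp, hpd⟩ := Nat.exists_prime_and_dvd (show 2 * Nat.card K + 1 ≠ 1 by omega)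
  have := Fact.mk hp
  obtain ⟨x, hx⟩ := exists_prime_orderOf_dvd_card' (G := G) p (by
    rw [hG, hg]; exact (hpd.mul_right _).mul_left _)
  have hxK : ¬ InK K x := by
    rintro ⟨g, hg⟩
    have h1 := orderOf_dvd_natCard _ hg
    rw [← H6.orderOf_of_isConj (isConj_iff.2 ⟨g⁻¹, by rw [inv_inv]⟩), hx] at h1
    exact hp.one_lt.ne' (Nat.eq_one_of_dvd_one ((Nat.dvd_add_right (h1.mul_left 2)).1 hpd))
  have hmod : ∀ n : ℕ, gam t t x = n → ∃ j, n = 1 + Nat.card K * j := by
    intro n hn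
    have h1 : (Nat.card K : ℤ) ∣ (n - (2 * Nat.card K + 1) : ℤ) := by
      refine int_dvd_of_isIntegral_div (by omega) ?_
      convert hA.1.isIntegral x
      have := card_ne_zero K
      push_cast; rw [← hn, hγ x hxK]; field_simp; ring
    have h2 : (Nat.card K : ℤ) ∣ (n - 1 : ℤ) := by
      have := dvd_add h1 (dvd_mul_left (Nat.card K : ℤ) 2)
      rwa [show (n - (2 * Nat.card K + 1) + 2 * Nat.card K : ℤ) = n - 1 by ring] at this
    have h3 : n ≠ 0 := by
      rintro rfl
      have := Int.le_of_dvd one_pos (by simpa using h2)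
      omega
    obtain ⟨j, hj⟩ : Nat.card K ∣ n - 1 := by
      rw [← Int.natCast_dvd_natCast, Nat.cast_sub (by omega)]; exact h2
    exact ⟨j, by omega⟩
  obtain ⟨u, hu, hux⟩ := (gam_eq_zero_or (x := x) h.t_ord).resolve_left fun h0 => by
    obtain ⟨j, hj⟩ := hmod 0 (by simpa using h0)
    omega
  have hF := h.isCC_cent hxK hu hux
  obtain ⟨j, hj⟩ := hmod _ (h.gam_eq_card hxK hu hux)
  have hc := h.coprime_cent hcop hxK
  have hpF : p ∣ Nat.card (centralizer ({x} : Set G)) :=
    hx ▸ orderOf_dvd_natCard _ (mem_centralizer_singleton_iff.2 rfl)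
  set F := centralizer ({x} : Set G)
  obtain ⟨c, hc'⟩ : Nat.card F ∣ (2 * Nat.card K + 1) * (Nat.card K + 1) :=
    hc.dvd_of_dvd_mul_left (by rw [← hg, ← hG]; exact card_subgroup_dvd_card F)
  generalize hkk : Nat.card K = k at *
  obtain ⟨l, hl⟩ : ∃ l, c = 1 + k * l := by
    have h1 : c ≡ 1 [MOD k] := by
      have e : c + k * (j * c) = 1 + k * (2 * k + 3) := by rw [hj] at hc'; linear_combination -hc'
      have := congrArg (· % k) e
      simpa only [Nat.add_mul_mod_self_left, Nat.ModEq] using this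
    have h2 : c ≠ 0 := by rintro rfl; simp at hc'
    obtain ⟨l, hl⟩ := (Nat.modEq_iff_dvd' (by omega)).1 h1.symm
    exact ⟨l, by omega⟩
  have e1 : j + l + k * (j * l) = 3 + k * 2 := by
    apply Nat.eq_of_mul_eq_mul_left (show 0 < k by omega)
    rw [hj, hl] at hc'; linear_combination -hc'
  have hq : Nat.card F = 2 * k + 1 := by
    rcases Nat.eq_zero_or_pos l with rfl | hl0
    · exfalso
      have e2 := IsCC.card_eq (T := F)
      have e3 := hF.card_dvd_index_sub_one
      have e4 : Nat.card F = (2 * k + 1) * (k + 1) := by rw [hc', hl]; simp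
      rw [hG, hg, ← e4, ← mul_assoc] at e2
      have e5 := Nat.eq_of_mul_eq_mul_right Nat.card_pos e2
      have e6 : (normalizer (F : Set G)).index ≤ 2 * k := Nat.le_of_dvd (by omega) ⟨_, e5⟩
      have e7 := Nat.eq_zero_of_dvd_of_lt e3 (by rw [e4]; nlinarith [Nat.sub_le (normalizer (F : Set G)).index 1])
      have e8 : (normalizer (F : Set G)).index = 1 := by
        have : (normalizer (F : Set G)).index ≠ 0 := index_ne_zero_of_finite
        omega
      rcases (normalizer_eq_top_iff.1 (index_eq_one.1 e8)).eq_bot_or_eq_top with e | e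
      · rw [e, card_bot] at e4; nlinarith
      · rw [e, card_top, hG, hg] at e4; nlinarith
    · have j0 : j ≠ 0 := by
        rintro rfl
        rw [hj] at hpF
        exact hp.one_lt.ne' (by simpa using hpF)
      have j1 : j * l ≤ 2 := by
        by_contra hlt
        have : 3 ≤ j * l := by omega
        have : 4 ≤ j + l := by
          by_contra h4
          have : j ≤ 2 := by omega
          have : l ≤ 2 := by omega
          interval_cases j <;> interval_cases l <;> omega
        nlinarith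
      have : j ≤ 2 := by nlinarith
      have : l ≤ 2 := by nlinarith [Nat.pos_of_ne_zero j0]
      interval_cases j <;> interval_cases l <;> try omega
      rw [hj] at hpF
      have := (Nat.dvd_add_right hpd).1 (show p ∣ 2 * k + 1 + 1 by
        have := hpF.mul_left 2
        rwa [show 2 * (1 + k * 1) = 2 * k + 1 + 1 by ring] at this)
      exact absurd (Nat.eq_one_of_dvd_one this) hp.one_lt.ne'
  exact hF.psl2 (by omega) (by rw [hq, hG, hg]; simp; ring)

theorem card_inK [Finite G] : {x : G | InK K x ∧ x ≠ 1}.ncard =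
    (centralizer ({t} : Set G)).index * (Nat.card K - 1) := by
  have h1 := H2.ncard_conjugatesOfSet_of_TI (centralizer ({t} : Set G)) ((K : Set G) \ {1})
    (fun n hn a ha => ⟨?_, by simpa using ha.2⟩)
    fun g a ha hg => h.mem_cent_iff.2 (h.ti g a ha.1 ha.2 hg.1)
  · rw [← H2.ncard_coe_diff_one K, Nat.add_sub_cancel, ← h1]
    congr 1
    ext x
    rw [H2.mem_conjugatesOfSet_iff']
    exact ⟨fun ⟨⟨g, hg⟩, h1⟩ => ⟨g, hg, by simpa [H2.inv_conj_eq_one_iff] using h1⟩,
      fun ⟨g, hg⟩ => ⟨⟨g, hg.1⟩, by simpa [H2.inv_conj_eq_one_iff] using hg.2⟩⟩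
  · rcases h.mem_cent_iff.1 hn with h2 | h2
    · exact mul_mem (mul_mem h2 ha.1) (inv_mem h2)
    · rw [h.conj_of_coset h2 ha.1]; exact inv_mem ha.1

open Classical in
theorem sum_split [Fintype G] {f : G → ℂ} (hf : IsClassFunction G f) (h1 : ∀ y ∈ K, y ≠ 1 → f y = 1) :
    ∑ x, f x = f 1 + (centralizer ({t} : Set G)).index * (Nat.card K - 1) +
      ∑ x with ¬ InK K x, f x := by
  rw [← Finset.sum_filter_add_sum_filter_not Finset.univ (InK K),
    ← Finset.add_sum_erase _ _ (a := 1) (by simpa using inK_of_mem (one_mem K)),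
    Finset.sum_congr rfl (g := fun _ => 1) fun x hx => by
      simp only [Finset.mem_erase, Finset.mem_filter, Finset.mem_univ, true_and] at hx
      obtain ⟨g, hg⟩ := hx.2
      rw [← hf.conj_inv x g, h1 _ hg (by simpa [H2.inv_conj_eq_one_iff] using hx.1)]]
  have : ((Finset.univ.filter (InK K)).erase 1).card =
      (centralizer ({t} : Set G)).index * (Nat.card K - 1) := by
    rw [← h.card_inK, ← Set.ncard_coe_finset]
    congr 1; ext x; simp
  rw [Finset.sum_const, this, nsmul_eq_mul, mul_one, Nat.cast_mul, Nat.cast_sub Nat.card_pos,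
    Nat.cast_one]

theorem psl2_of_neg [Fintype G] [IsSimpleGroup G] (hk : 2 < Nat.card K) {A : G → ℂ} (hA : SIrr A)
    (hA0 : classInner A (fun _ => 1) = 0) (hA1 : A 1 = 1 - 2 * Nat.card K)
    (hAK : ∀ y ∈ K, y ≠ 1 → A y = 1)
    (hg : (centralizer ({t} : Set G)).index = (2 * Nat.card K - 1) * (Nat.card K - 1))
    (hγ : ∀ x, ¬ InK K x → gam t t x = -(Nat.card K - 1) * A x) :
    ∃ (F : Type) (_ : Field F) (_ : Fintype F), Odd (Fintype.card F) ∧
      Nonempty (G ≃* Matrix.ProjectiveSpecialLinearGroup (Fin 2) F) := by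
  classical
  have hG := h.card_G
  obtain ⟨m, hm⟩ : ∃ m, Nat.card K = m + 1 := ⟨Nat.card K - 1, by omega⟩
  have hm3 : 3 ≤ m := by have := h.even_card; omega
  have hm0 : (m : ℂ) ≠ 0 := by exact_mod_cast (show m ≠ 0 by omega)
  rw [hm, show 2 * (m + 1) - 1 = 2 * m + 1 by omega, Nat.add_sub_cancel] at hg
  have hcop : (centralizer ({t} : Set G)).index.Coprime (Nat.card K) := by
    rw [hg, hm]
    refine Nat.Coprime.mul_left ?_ (by simp)
    rw [show 2 * m + 1 = m + (m + 1) by ring]; simp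
  rw [hg, hm] at hG
  -- the values of `A` off the conjugates of `K`
  have hJ : ∀ x, ∃ j : ℕ, ¬ InK K x → A x = -j ∧ gam t t x = m * j := by
    intro x
    by_cases hx : InK K x
    · exact ⟨0, fun h1 => absurd hx h1⟩
    obtain ⟨n, hn⟩ : ∃ n : ℕ, gam t t x = n := ⟨_, rfl⟩
    have h1 := hγ x hx
    rw [hn, hm] at h1
    push_cast at h1
    obtain ⟨j, rfl⟩ : m ∣ n := nat_dvd_of_isIntegral_div (by omega) (by
      convert (hA.1.isIntegral x).neg
      rw [h1]; field_simp; ring)
    refine ⟨j, fun _ => ⟨?_, by rw [hn]; simp⟩⟩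
    apply mul_left_cancel₀ hm0
    push_cast at h1
    linear_combination h1
  choose J hJ using hJ
  let V := Finset.univ.filter fun x => ¬ InK K x
  have hV : ∀ {x}, x ∈ V ↔ ¬ InK K x := by simp [V]
  have s0 := h.sum_split (isClassFunction_const 1) fun _ _ _ => rfl
  have s1 := h.sum_split hA.classFun hAK
  have s2 := h.sum_split (hA.classFun.mul hA.classFun.conj) fun y hy h1 => by simp [hAK y hy h1]
  have t1 := card_mul_classInner A (fun _ => 1)
  have t2 := card_mul_classInner A A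
  simp only [map_one, mul_one, hA0, mul_zero] at t1
  rw [hA.2, mul_one] at t2
  simp only [Pi.mul_apply] at s2
  rw [← t1, Finset.sum_congr rfl fun x hx => (hJ x (hV.1 hx)).1, hA1, hg, hm] at s1
  rw [← t2, Finset.sum_congr rfl (g := fun x => (J x : ℂ) ^ 2) fun x hx => by
    rw [(hJ x (hV.1 hx)).1]; simp [sq], hA1, hg, hm, hG] at s2
  simp only [Finset.sum_const, Finset.card_univ, nsmul_eq_mul, mul_one, ← Nat.card_eq_fintype_card,
    hG, hg, hm] at s0
  simp only [Finset.sum_neg_distrib, map_sub, map_mul, map_one, map_natCast, map_ofNat] at s1 s2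
  have u0 : (V.card : ℤ) = (2 * m + 1) * m * (m + 2) - 1 := by
    apply Int.cast_injective (α := ℂ); push_cast at s0 ⊢; linear_combination -s0
  have u1 : ∑ x ∈ V, (J x : ℤ) = (2 * m + 1) * (m ^ 2 - 1) := by
    apply Int.cast_injective (α := ℂ); push_cast at s1 ⊢; linear_combination s1
  have u2 : ∑ x ∈ V, (J x : ℤ) ^ 2 = (2 * m + 1) * (m ^ 2 - 1) := by
    apply Int.cast_injective (α := ℂ); push_cast at s2 ⊢; linear_combination -s2
  have hJ01 : ∀ x ∈ V, J x = 0 ∨ J x = 1 := by
    have : ∑ x ∈ V, ((J x : ℤ) ^ 2 - J x) = 0 := by rw [Finset.sum_sub_distrib, u1, u2, sub_self]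
    rw [Finset.sum_eq_zero_iff_of_nonneg fun x _ => by
      rcases Nat.eq_zero_or_pos (J x) with h0 | h0
      · simp [h0]
      · have : (1 : ℤ) ≤ J x := by exact_mod_cast h0
        nlinarith] at this
    intro x hx
    have h1 : (J x : ℤ) * (J x - 1) = 0 := by linear_combination this x hx
    rcases mul_eq_zero.1 h1 with h2 | h2 <;> omega
  let R := V.filter fun x => J x = 0
  have hR : ∀ {x}, x ∈ R ↔ ¬ InK K x ∧ gam t t x = 0 := by
    intro x
    rw [Finset.mem_filter, hV]
    refine and_congr_right fun hx => ?_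
    rw [(hJ x hx).2]; simp [hm0]
  have hRc : R.card = 4 * m * (m + 1) ∧ 0 < (V.filter fun x => ¬ J x = 0).card := by
    have e1 := Finset.card_filter_add_card_filter_not (s := V) fun x => J x = 0
    have e2 : ((V.filter fun x => ¬ J x = 0).card : ℤ) = ∑ x ∈ V, (J x : ℤ) := by
      rw [Finset.card_filter, Nat.cast_sum]
      refine Finset.sum_congr rfl fun x hx => ?_
      rcases hJ01 x hx with h0 | h0 <;> simp [h0]
    have e3 : (R.card : ℤ) + (V.filter fun x => ¬ J x = 0).card = V.card := by exact_mod_cast e1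
    rw [u1] at e2
    refine ⟨by zify; linear_combination e3 - e2 + u0, ?_⟩
    rw [← Nat.cast_pos (α := ℤ), e2]
    have : (3 : ℤ) ≤ m := by exact_mod_cast hm3
    exact mul_pos (by omega) (by nlinarith)
  have hSR : ∀ x, ¬ InK K x → gam t t x ≠ 0 → (∃ u, orderOf u = 2 ∧ u * x * u⁻¹ = x⁻¹) ∧
      IsCC (centralizer ({x} : Set G)) ∧ Nat.card (centralizer ({x} : Set G)) = m := by
    intro x hx h0
    obtain ⟨u, hu, hux⟩ := (gam_eq_zero_or h.t_ord).resolve_left h0
    refine ⟨⟨u, hu, hux⟩, h.isCC_cent hx hu hux, ?_⟩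
    have h1 := (hJ x hx).2
    rcases hJ01 x (hV.2 hx) with h2 | h2
    · exact absurd (by rw [h1, h2]; simp) h0
    · rw [h.gam_eq_card hx hu hux, h2] at h1
      rw [Nat.cast_one, mul_one] at h1
      exact_mod_cast h1
  have hne : ∀ {x u}, ¬ InK K x → orderOf u = 2 → u * x * u⁻¹ = x⁻¹ → gam t t x ≠ 0 :=
    fun hx hu hux => by rw [h.gam_eq_card hx hu hux]; exact card_ne_zero _
  have hRconj : ∀ {x y}, x ∈ R → IsConj x y → y ∈ R := fun hx hxy =>
    hR.2 ⟨fun hy => (hR.1 hx).1 (hy.of_isConj hxy.symm),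
      ((gam_classFun t t).apply_of_isConj hxy).symm.trans (hR.1 hx).2⟩
  have hRcomm : ∀ {x y}, x ∈ R → y ≠ 1 → y * x = x * y → y ∈ R := by
    intro x y hx h1 hc
    have hy : ¬ InK K y := fun hy => (hR.1 hx).1 (h.inK_of_comm hy h1 hc.symm)
    refine hR.2 ⟨hy, by_contra fun h0 => ?_⟩
    obtain ⟨⟨u, hu, huy⟩, -⟩ := hSR y hy h0
    exact hne (hR.1 hx).1 hu ((h.inverts_cent hy hu huy).1 x
      (mem_centralizer_singleton_iff.2 hc.symm)) (hR.1 hx).2
  have hR1 : ∀ {x}, x ∈ R → x ≠ 1 := by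
    rintro _ hx rfl; exact (hR.1 hx).1 (inK_of_mem (one_mem K))
  obtain ⟨x₀, hx₀⟩ := Finset.card_pos.1 hRc.2
  rw [Finset.mem_filter, hV] at hx₀
  obtain ⟨⟨u₀, hu₀, hux₀⟩, hF₀, hF₀c⟩ := hSR x₀ hx₀.1 (by rw [(hJ x₀ hx₀.1).2]; simp [hm0, hx₀.2])
  have hRdvd : ∀ {x}, x ∈ R → Nat.card (centralizer ({x} : Set G)) ∣ 2 * m + 1 := by
    intro x hx
    have c1 := h.coprime_cent hcop (hR.1 hx).1
    have c2 : (Nat.card (centralizer ({x} : Set G))).Coprime m := by
      refine Nat.coprime_of_dvd fun r hr h1 h2 => ?_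
      obtain ⟨y, hy, hyr⟩ := exists_orderOf_eq_of_dvd_card hr h1
      have hy1 := ne_one_of_orderOf_prime hr hyr
      obtain ⟨g, hg⟩ := exists_conj_mem_of_not_dvd_index hr (H := centralizer {x₀}) (n := 1) (y := y)
        (fun h5 => hr.one_lt.ne' (Nat.eq_one_of_dvd_coprimes hF₀.coprime_index h5 (hF₀c ▸ h2)))
        (by rw [pow_one, ← hyr, pow_orderOf_eq_one])
      have h3 := hRconj (hRcomm hx hy1 (mem_centralizer_singleton_iff.1 hy))
        (isConj_iff.2 ⟨g⁻¹, by rw [inv_inv]⟩)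
      exact hne (hR.1 h3).1 hu₀ ((h.inverts_cent hx₀.1 hu₀ hux₀).1 _ hg) (hR.1 h3).2
    rw [hm] at c1
    refine c2.dvd_of_dvd_mul_right (c1.dvd_of_dvd_mul_left ?_)
    rw [← hG]; exact card_subgroup_dvd_card _
  have hRall : ∀ {x}, x ∈ R → Nat.card (centralizer ({x} : Set G)) = 2 * m + 1 ∧
      ∀ y ∈ R, orderOf y = orderOf x := by
    intro x hx
    have hx' : x⁻¹ ∈ R := hRcomm hx (inv_ne_one.2 (hR1 hx)) (by simp)
    have hnc : ¬ IsConj x x⁻¹ := by
      intro hc
      have h1 : x ≠ x⁻¹ := fun e => (hR.1 hx).1 (h.inK_of_two (H6.orderOf_eq_two_of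
        (by nth_rw 1 [e]; simp) (hR1 hx)))
      obtain ⟨u, hu, hu2⟩ := exists_orderOf_eq_of_dvd_card Nat.prime_two
        (H := H6.extCent x) (by rw [H6.card_extCent hc h1]; exact dvd_mul_right _ _)
      rcases hu with h2 | h2
      · exact (hR.1 hx).1 (h.inK_of_comm (h.inK_of_two hu2) (H6.ne_one_of_orderOf_two hu2)
          (mul_inv_eq_iff_eq_mul.1 h2).symm)
      · exact hne (hR.1 hx).1 hu2 h2 (hR.1 hx).2
    have hsub : cl x ∪ cl x⁻¹ ⊆ R := Finset.union_subset (fun y hy => hRconj hx (mem_cl.1 hy))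
      fun y hy => hRconj hx' (mem_cl.1 hy)
    have hdis : Disjoint (cl x) (cl x⁻¹) := Finset.disjoint_left.2 fun y h1 h2 =>
      hnc ((mem_cl.1 h1).trans (mem_cl.1 h2).symm)
    have key : ∀ y ∈ R, ∃ d, 0 < d ∧ 2 * m + 1 = Nat.card (centralizer ({y} : Set G)) * d ∧
        (cl y).card = 2 * m * (m + 1) * d := by
      intro y hy
      obtain ⟨d, hd⟩ := hRdvd hy
      refine ⟨d, Nat.pos_of_ne_zero (by rintro rfl; simp at hd), hd, ?_⟩
      apply Nat.eq_of_mul_eq_mul_left (Nat.card_pos (α := centralizer ({y} : Set G)))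
      rw [card_cl, card_mul_index, hG]
      nth_rw 1 [hd]; ring
    obtain ⟨d, hd0, hd, hd'⟩ := key x hx
    obtain ⟨e, he0, -, he'⟩ := key x⁻¹ hx'
    have hle := Finset.card_le_card hsub
    rw [Finset.card_union_of_disjoint hdis, hd', he', hRc.1] at hle
    have hde : d + e ≤ 2 := by
      apply Nat.le_of_mul_le_mul_left (c := 2 * m * (m + 1)) _ (by positivity)
      linarith
    obtain rfl : d = 1 := by omega
    obtain rfl : e = 1 := by omega
    have heq := Finset.eq_of_subset_of_card_le hsub (by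
      rw [Finset.card_union_of_disjoint hdis, hd', he', hRc.1]; linarith)
    refine ⟨by omega, fun y hy => ?_⟩
    rw [← heq, Finset.mem_union, mem_cl, mem_cl] at hy
    rcases hy with hy | hy
    · exact (H6.orderOf_of_isConj hy).symm
    · rw [← H6.orderOf_of_isConj hy, orderOf_inv]
  obtain ⟨x, hx⟩ : R.Nonempty := Finset.card_pos.1 (by rw [hRc.1]; positivity)
  obtain ⟨p, hp, hpd⟩ := Nat.exists_prime_and_dvd (show 2 * m + 1 ≠ 1 by omega)
  have := Fact.mk hp
  have hRp : ∀ y ∈ R, orderOf y = p := by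
    obtain ⟨z, hz, hzp⟩ := exists_orderOf_eq_of_dvd_card hp ((hRall hx).1 ▸ hpd)
    exact hzp ▸ (hRall (hRcomm hx (ne_one_of_orderOf_prime hp hzp)
      (mem_centralizer_singleton_iff.1 hz))).2
  have hSyl : ∀ y ∈ R, ∃ P : Sylow p G, (P : Subgroup G) = centralizer {y} := by
    intro y hy
    have h1 : IsPGroup p (centralizer ({y} : Set G)) := fun z => ⟨1, by
      by_cases hz : (z : G) = 1
      · rw [show z = 1 from Subtype.ext hz, one_pow]
      · rw [pow_one, ← hRp z (hRcomm hy hz (mem_centralizer_singleton_iff.1 z.2)),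
          Subgroup.orderOf_coe, pow_orderOf_eq_one]⟩
    refine ⟨h1.toSylow fun h2 => ?_, rfl⟩
    have h3 : (centralizer ({y} : Set G)).index = 2 * (m + 1) * m := by
      apply Nat.eq_of_mul_eq_mul_left (Nat.card_pos (α := centralizer ({y} : Set G)))
      rw [card_mul_index, hG, (hRall hy).1]; ring
    have h4 : (2 * (m + 1) * m).Coprime (2 * m + 1) := by
      refine Nat.Coprime.mul_left (Nat.Coprime.mul_left (by simp) ?_) (by simp)
      rw [show 2 * m + 1 = m + (m + 1) by ring]; simp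
    exact hp.one_lt.ne' (Nat.eq_one_of_dvd_coprimes h4 (h3 ▸ h2) hpd)
  obtain ⟨Q, hQ⟩ := hSyl x hx
  have hpR : ∀ {D : Subgroup G}, IsPGroup p D → ∀ y ∈ D, y ≠ 1 → y ∈ R := by
    intro D hD y hy h1
    obtain ⟨g, hg⟩ := H6.exists_conj_le_sylow Q hD
    have h2 : g * y * g⁻¹ ∈ centralizer {x} := hQ ▸ hg y hy
    exact hRconj (hRcomm hx (by simpa using h1) (mem_centralizer_singleton_iff.1 h2))
      (isConj_iff.2 ⟨g, rfl⟩).symm
  -- elements outside `R` lie in abelian subgroups controlling odd normalizers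
  have hW : ∀ z, z ≠ 1 → z ∉ R → ∃ T : Subgroup G, z ∈ T ∧ (∀ a ∈ T, ∀ b ∈ T, a * b = b * a) ∧
      ∀ n : G, (orderOf n).Coprime 2 → n * z * n⁻¹ ∈ T → n ∈ T := by
    intro z h1 hz
    by_cases hzK : InK K z
    · obtain ⟨g, hg⟩ := hzK
      refine ⟨K.comap (MulAut.conj g⁻¹).toMonoidHom, by simpa using hg, fun a ha b hb => ?_,
        fun n hn hnz => ?_⟩
      · apply (MulAut.conj g⁻¹).injective
        rw [map_mul, map_mul]; exact h.comm _ ha _ hb
      · have h2 : g⁻¹ * (n * z * n⁻¹) * g ∈ K := by simpa using hnz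
        rcases h.ti (g⁻¹ * n * g) _ hg (by simpa [H2.inv_conj_eq_one_iff] using h1)
          (by convert h2 using 1; group) with h3 | h3
        · simpa using h3
        · rw [H6.orderOf_of_isConj (isConj_iff.2 ⟨g⁻¹, by rw [inv_inv]⟩), h.orderOf_of_coset h3] at hn
          simp at hn
    · obtain ⟨-, hF, hFc⟩ := hSR z hzK fun h0 => hz (hR.2 ⟨hzK, h0⟩)
      have hzF : z ∈ centralizer {z} := mem_centralizer_singleton_iff.2 rfl
      refine ⟨_, hzF, fun a ha b hb => hF.comm ha hb, fun n hn hnz => ?_⟩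
      set F := centralizer ({z} : Set G)
      have e1 := IsCC.card_eq (T := F)
      obtain ⟨r, hr⟩ := hF.card_dvd_index_sub_one
      have e2 := Nat.le_of_dvd (by omega) hF.relIndex_dvd
      have e3 : (normalizer (F : Set G)).index = 1 + m * r := by
        have : (normalizer (F : Set G)).index ≠ 0 := index_ne_zero_of_finite
        rw [hFc] at hr; omega
      have e4 : F.relIndex (normalizer (F : Set G)) = 2 := by
        rw [hG, e3, hFc] at e1
        rw [hFc] at e2
        generalize F.relIndex (normalizer (F : Set G)) = w at *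
        have e5 : 2 + m * (4 * m + 6) = w + m * (r * w) := by
          apply Nat.eq_of_mul_eq_mul_left (show 0 < m by omega); linear_combination e1
        have := congrArg (· % m) e5
        simp only [Nat.add_mul_mod_self_left] at this
        rw [Nat.mod_eq_of_lt (by omega), Nat.mod_eq_of_lt (by omega)] at this
        exact this.symm
      have := normal_in_normalizer (H := F)
      have h2 : n ^ F.relIndex (normalizer (F : Set G)) ∈ F :=
        (F.subgroupOf (normalizer (F : Set G))).pow_index_mem ⟨_, hF.mem_normalizer hzF h1 hnz⟩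
      exact H3.mem_of_pow_mem_of_coprime h2 (e4 ▸ hn)
  have hTI : ∀ P P' : Sylow p G, (P : Subgroup G) ⊓ P' ≠ ⊥ → P = P' := by
    refine sylow_eq_of_local fun D X Y hD1 hD hX hY hXD hYD => ?_
    set M := normalizer (D : Set G)
    have hodd : ∀ n ∈ M, (orderOf n).Coprime 2 := by
      intro n hn
      refine Nat.Coprime.symm ((Nat.Prime.coprime_iff_not_dvd Nat.prime_two).2 fun h2 => ?_)
      obtain ⟨u, hu, hu2⟩ := exists_orderOf_eq_of_dvd_card Nat.prime_two (H := M)
        (h2.trans (orderOf_dvd_natCard _ hn))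
      obtain ⟨⟨y, hy⟩, hy1⟩ := (Subgroup.ne_bot_iff_exists_ne_one).1 hD1
      have hy1' : y ≠ 1 := fun e => hy1 (Subtype.ext e)
      exact hne (hR.1 (hpR hD y hy hy1')).1 hu2 ((h.inverts_of_not_inK
        (fun y hy h1 => (hR.1 (hpR hD y hy h1)).1) hu2 hu).1 y hy) (hR.1 (hpR hD y hy hy1')).2
    have hnpc : ∀ r : ℕ, r.Prime → r ≠ p → ¬ r ∣ Nat.card (X ⊔ Y : Subgroup G) := by
      intro r hr hrp hrd
      have := Fact.mk hr
      obtain ⟨T⟩ : Nonempty (Sylow r M) := inferInstance
      have h1 : HasNormalPComplement r M := by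
        refine H3.hasNPC_of_normalizer_le_centralizer T fun n hn b hb => ?_
        by_cases hT : (T : Subgroup M) = ⊥
        · have hb' : b ∈ (T : Subgroup M) := hb
          rw [hT, mem_bot] at hb'
          simp [hb']
        have : Nontrivial (T : Subgroup M) := (Subgroup.nontrivial_iff_ne_bot _).2 hT
        have := T.2.center_nontrivial
        obtain ⟨⟨z, hz⟩, hz1⟩ := exists_ne (1 : center (T : Subgroup M))
        have hz1' : ((z : M) : G) ≠ 1 := fun e => hz1 (Subtype.ext (Subtype.ext (Subtype.ext e)))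
        have hzR : ((z : M) : G) ∉ R := fun hzR => by
          obtain ⟨k, hk⟩ := T.2 z
          have h3 := orderOf_dvd_of_pow_eq_one hk
          rw [← Subgroup.orderOf_coe, ← Subgroup.orderOf_coe, hRp _ hzR] at h3
          exact hrp ((Nat.prime_dvd_prime_iff_eq hp hr).1 (hp.dvd_of_dvd_pow h3)).symm
        obtain ⟨W, hzW, hWc, hWn⟩ := hW _ hz1' hzR
        have hTW : ∀ b ∈ T, (b : G) ∈ W := fun b hb => hWn b (hodd b b.2) (by
          have := congrArg (fun a : (T : Subgroup M) => ((a : M) : G)) (mem_center_iff.1 hz ⟨b, hb⟩)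
          simp only [coe_mul] at this
          rw [this, mul_inv_cancel_right]; exact hzW)
        exact Subtype.ext (hWc _ (hTW b hb) _ (hWn n (hodd n n.2)
          (hTW _ ((mem_normalizer_iff.1 hn z).1 z.2))))
      rw [H3.hasNPC_subgroup_iff] at h1
      have h2 : ∀ Z : Subgroup G, IsPGroup p Z → Z ≤ M → Z ≤ (pResidual r M).map M.subtype := by
        intro Z hZ hZM z hz
        refine H3.mem_map_subtype_pResidual (hZM hz) ?_
        obtain ⟨k, hk⟩ := hZ ⟨z, hz⟩
        have h3 := orderOf_dvd_of_pow_eq_one hk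
        rw [← Subgroup.orderOf_coe] at h3
        exact Nat.Coprime.coprime_dvd_left h3
          (Nat.Coprime.pow_left _ ((Nat.coprime_primes hp hr).2 hrp.symm))
      exact hr.one_lt.ne' (Nat.eq_one_of_dvd_coprimes h1
        (hrd.trans (card_dvd_of_le (sup_le (h2 X hX hXD) (h2 Y hY hYD)))) dvd_rfl)
    exact IsPGroup.of_card (Nat.eq_prime_pow_of_unique_prime_dvd Nat.card_pos.ne'
      fun hd hdv => by_contra fun hne => hnpc _ hd hne hdv)
  have hCC : IsCC (centralizer ({x} : Set G)) := by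
    intro y hy h1
    obtain ⟨P, hP⟩ := hSyl y (hRcomm hx h1 (mem_centralizer_singleton_iff.1 hy))
    rw [← hP, ← hQ, hTI P Q fun e => h1 ?_]
    rw [← mem_bot, ← e, hP, hQ]
    exact ⟨mem_centralizer_singleton_iff.2 rfl, hy⟩
  exact hCC.psl2 (by rw [(hRall hx).1]; omega) (by rw [(hRall hx).1, hG]; simp; ring)

/-- The order formula. -/
theorem index_eq [Finite G] (hk : 2 < Nat.card K) :
    (centralizer ({t} : Set G)).index = (2 * Nat.card K + 1) * (Nat.card K + 1) ∨
      (centralizer ({t} : Set G)).index = (2 * Nat.card K - 1) * (Nat.card K - 1) := by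
  let := Fintype.ofFinite G
  let := Fintype.ofFinite K
  obtain ⟨A, e, rfl | rfl, -, -, -, -, hg, -⟩ := h.main hk
  · left; exact_mod_cast hg
  · right; zify [show 1 ≤ 2 * Nat.card K by omega, show 1 ≤ Nat.card K by omega]; rw [hg]; ring

/-- **The Brauer–Suzuki–Wall theorem** (for `|K| > 2`). -/
theorem psl2 [Finite G] [IsSimpleGroup G] (hk : 2 < Nat.card K) :
    ∃ (F : Type) (_ : Field F) (_ : Fintype F), Odd (Fintype.card F) ∧
      Nonempty (G ≃* Matrix.ProjectiveSpecialLinearGroup (Fin 2) F) := by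
  let := Fintype.ofFinite G
  let := Fintype.ofFinite K
  have hk0 := card_ne_zero K
  obtain ⟨A, e, rfl | rfl, hA, hA0, hA1, hAK, hg, hγ⟩ := h.main hk
  · refine h.psl2_of_pos hk hA (by exact_mod_cast hg) fun x hx => ?_
    have := hγ x fun g hg => hx ⟨g, hg⟩
    rw [hA1] at this
    apply mul_left_cancel₀ (mul_ne_zero (show (4 : ℂ) ≠ 0 by norm_num) hk0)
    push_cast at this
    linear_combination this
  · refine h.psl2_of_neg hk hA hA0 (by rw [hA1]; push_cast; ring) hAK (by
      zify [show 1 ≤ 2 * Nat.card K by omega, show 1 ≤ Nat.card K by omega]; rw [hg]; ring)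
      fun x hx => ?_
    have := hγ x fun g hg => hx ⟨g, hg⟩
    rw [hA1] at this
    apply mul_left_cancel₀ (mul_ne_zero (show (4 : ℂ) ≠ 0 by norm_num) hk0)
    push_cast at this
    linear_combination this

end BSWHyp

end H5
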