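import Mathlib
import Cfsg.Agent.H5.BSW2
import Cfsg.Agent.H2.Cores
import Cfsg.Agent.H22.Dihedral
import Cfsg.Agent.S1230
import Cfsg.Agent.S0252
import Cfsg.Agent.S0253

/-! The Brauer–Suzuki–Wall theorem. -/

set_option autoImplicit false
open Cfsg H4 Subgroup

namespace H5

variable {G : Type*} [Group G]

theorem relIndex_mul_card_of_le {H K : Subgroup G} (h : H ≤ K) :
    H.relIndex K * Nat.card H = Nat.card K := by
  rw [← (H.subgroupOf K).index_mul_card, Nat.card_congr (subgroupOfEquivOfLe h).toEquiv]; rfl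

/-- Presentation data of a dihedral subgroup of order `2 n`. -/
structure DData (S : Subgroup G) (n : ℕ) (a x : G) : Prop where
  ord : orderOf a = n
  inv : x * a * x⁻¹ = a⁻¹
  sq : x * x = 1
  nmem : x ∉ zpowers a
  mem : ∀ g, g ∈ S ↔ g ∈ zpowers a ∨ x⁻¹ * g ∈ zpowers a

theorem exists_ddata {S : Subgroup G} {n : ℕ} (e : S ≃* DihedralGroup n) :
    ∃ a x : G, DData S n a x := by
  let f : DihedralGroup n →* G := S.subtype.comp e.symm.toMonoidHom
  have hf : Function.Injective f := S.subtype_injective.comp e.symm.injective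
  have hr : ∀ g, g ∈ S ↔ ∃ q, f q = g := fun g =>
    ⟨fun h => ⟨e ⟨g, h⟩, by simp [f]⟩, fun ⟨q, h⟩ => h ▸ (e.symm q).2⟩
  have ha : ∀ i : ZMod n, f (.r i) ∈ zpowers (f (.r 1)) := fun i => by
    obtain ⟨k, rfl⟩ := ZMod.intCast_surjective i
    exact ⟨k, by simp only; rw [← map_zpow, DihedralGroup.r_one_zpow]⟩
  have ha' : ∀ g ∈ zpowers (f (.r 1)), ∃ i, g = f (.r i) := by
    rintro _ ⟨k, rfl⟩
    exact ⟨k, by simp only; rw [← map_zpow, DihedralGroup.r_one_zpow]⟩
  refine ⟨f (.r 1), f (.sr 0), ?_, ?_, ?_, ?_, fun g => ?_⟩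
  · rw [orderOf_injective f hf, DihedralGroup.orderOf_r_one]
  · rw [mul_inv_eq_iff_eq_mul, eq_inv_mul_iff_mul_eq, ← map_mul, ← map_mul]; simp
  · rw [← map_mul, DihedralGroup.sr_mul_self, map_one]
  · intro h
    obtain ⟨i, hi⟩ := ha' _ h
    cases hf hi
  · rw [hr]
    constructor
    · rintro ⟨q, rfl⟩
      cases q with
      | r i => exact Or.inl (ha i)
      | sr i =>
        refine Or.inr ?_
        have : (f (.sr 0))⁻¹ * f (.sr i) = f (.r i) := by
          rw [inv_mul_eq_iff_eq_mul, ← map_mul]; simp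
        rw [this]; exact ha i
    · rintro (h | h)
      · obtain ⟨i, hi⟩ := ha' _ h; exact ⟨_, hi.symm⟩
      · obtain ⟨i, hi⟩ := ha' _ h
        exact ⟨.sr 0 * .r i, by rw [map_mul, ← hi]; simp⟩

namespace DData

variable {S : Subgroup G} {n : ℕ} {a x : G} (h : DData S n a x)
include h

theorem a_mem : a ∈ S := (h.mem a).2 (Or.inl (mem_zpowers a))
theorem x_mem : x ∈ S := (h.mem x).2 (Or.inr (by simp))
theorem zp_le : zpowers a ≤ S := zpowers_le.2 h.a_mem

theorem conj_zp {b : G} (hb : b ∈ zpowers a) : x * b * x⁻¹ = b⁻¹ := by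
  obtain ⟨k, rfl⟩ := hb
  simp only
  rw [← conj_zpow, h.inv, inv_zpow]

theorem conj_of_nmem {g : G} (hg : g ∈ S) (hga : g ∉ zpowers a) {b : G} (hb : b ∈ zpowers a) :
    g * b * g⁻¹ = b⁻¹ := by
  have h1 := ((h.mem g).1 hg).resolve_left hga
  have h2 : g = x * (x⁻¹ * g) := by group
  generalize x⁻¹ * g = c at h1 h2
  subst h2
  have : x * c * b * (x * c)⁻¹ = x * (c * b * c⁻¹) * x⁻¹ := by group
  rw [this, QData.zp_comm h1 hb, mul_inv_cancel_right, h.conj_zp hb]

theorem sq_of_nmem {g : G} (hg : g ∈ S) (hga : g ∉ zpowers a) : g * g = 1 := by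
  have h1 := ((h.mem g).1 hg).resolve_left hga
  have h2 : g = x * (x⁻¹ * g) := by group
  generalize x⁻¹ * g = c at h1 h2
  subst h2
  have : x * c * (x * c) = (x * c * x⁻¹) * (x * x) * c := by group
  rw [this, h.conj_zp h1, h.sq]; group

theorem relIndex : (zpowers a).relIndex S = 2 := by
  rw [Subgroup.relIndex, index_eq_two_iff']
  refine ⟨⟨x⁻¹, inv_mem h.x_mem⟩, fun b => ?_⟩
  simp only [mem_subgroupOf, coe_mul]
  rcases (h.mem b).1 b.2 with h1 | h1
  · exact Or.inr ⟨h1, fun h2 => h.nmem (inv_mem_iff.1 ((mul_mem_cancel_right h1).1 h2))⟩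
  · exact Or.inl ⟨h1, fun h2 => h.nmem (inv_mem_iff.1 ((mul_mem_cancel_right h2).1 h1))⟩

theorem card : Nat.card S = 2 * n := by
  rw [← relIndex_mul_card_of_le h.zp_le, h.relIndex, Nat.card_zpowers, h.ord]

theorem sq_eq_one_of_two (hn : n = 2) {g : G} (hg : g ∈ S) : g * g = 1 := by
  by_cases hga : g ∈ zpowers a
  · rw [← pow_two, ← hn, ← h.ord, ← Nat.card_zpowers]
    exact congrArg Subtype.val (pow_card_eq_one' (x := (⟨g, hga⟩ : zpowers a)))
  · exact h.sq_of_nmem hg hga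

/-- Elements outside a cyclic subgroup of index two invert it. -/
theorem of_cyclic_index_two [Finite G] {T : Subgroup G} (hT : T ≤ S) (hc : IsCyclic T)
    (hi : T.relIndex S = 2) {s : G} (hs : s ∈ S) (hsT : s ∉ T) :
    s * s = 1 ∧ ∀ b ∈ T, s * b * s⁻¹ = b⁻¹ := by
  have hcard : Nat.card T = n := by
    have := relIndex_mul_card_of_le hT
    rw [hi, h.card] at this
    omega
  obtain ⟨b, rfl⟩ := (Subgroup.isCyclic_iff_exists_zpowers_eq_top T).1 hc
  by_cases hb : b ∈ zpowers a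
  · have : zpowers b = zpowers a := eq_of_le_of_card_ge (zpowers_le.2 hb)
      (by rw [hcard, Nat.card_zpowers, h.ord])
    rw [this] at hsT ⊢
    exact ⟨h.sq_of_nmem hs hsT, fun c hc => h.conj_of_nmem hs hsT hc⟩
  · have hn : n = 2 := by
      rw [← hcard, Nat.card_zpowers]
      exact H6.orderOf_eq_two_of (h.sq_of_nmem (hT (mem_zpowers b)) hb)
        fun e => hb (e ▸ one_mem _)
    refine ⟨h.sq_eq_one_of_two hn hs, fun c hc => ?_⟩
    have h1 := h.sq_eq_one_of_two hn (mul_mem hs (hT hc))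
    rw [H6.inv_eq_of_mul_self (h.sq_eq_one_of_two hn hs), eq_inv_iff_mul_eq_one, ← h1]; group

theorem exists_cyclic_index_two [Finite G] (hn : 2 ≤ n) {t : G} (ht : orderOf t = 2) (htS : t ∈ S)
    (htZ : ∀ s ∈ S, s * t = t * s) : ∃ T ≤ S, IsCyclic T ∧ T.relIndex S = 2 ∧ t ∈ T := by
  by_cases hta : t ∈ zpowers a
  · exact ⟨_, h.zp_le, inferInstance, h.relIndex, hta⟩
  · refine ⟨zpowers t, zpowers_le.2 htS, inferInstance, ?_, mem_zpowers t⟩
    have h1 := h.conj_of_nmem htS hta (mem_zpowers a)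
    rw [← htZ a h.a_mem, mul_inv_cancel_right] at h1
    have h2 := Nat.le_of_dvd two_pos (orderOf_dvd_of_pow_eq_one (x := a) (n := 2)
      (by rw [pow_two]; nth_rw 1 [h1]; simp))
    have h3 := relIndex_mul_card_of_le (zpowers_le.2 htS)
    rw [h.card, Nat.card_zpowers, ht] at h3
    rw [h.ord] at h2
    omega

end DData

theorem isConj_of_dihedral [Finite G] (S : Sylow 2 G) {n : ℕ} (hn : 2 ≤ n)
    (e : (S : Subgroup G) ≃* DihedralGroup n) (h2 : ∀ H : Subgroup G, H.index ≠ 2) {a b : G}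
    (ha : orderOf a = 2) (hb : orderOf b = 2) : IsConj a b := by
  obtain ⟨m, hm, ⟨E⟩⟩ := H22.exists_MC_of_dihedral' S hn e
  exact H22.Dih.isConj_of_no_index_two E hm h2 ha hb

theorem odd_oddPart_centralizer [Finite G] (S : Sylow 2 G) {n : ℕ} (hn : 2 ≤ n)
    (e : (S : Subgroup G) ≃* DihedralGroup n) {t : G} (ht : orderOf t = 2) :
    Odd (Nat.card (oddPart (centralizer ({t} : Set G)))) := by
  obtain ⟨m, hm, ⟨E⟩⟩ := H22.exists_MC_of_dihedral' S hn e
  have := H22.Dih.centralizer_hasNPC E hm ht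
  rw [H3.hasNPC_subgroup_iff, ← oddPart_eq] at this
  exact Nat.coprime_two_right.1 this

theorem oddPart_eq_oddCore [Finite G] {C : Subgroup G} (h : Odd (Nat.card (oddPart C))) :
    oddPart C = (oddCore C).map C.subtype := by
  rw [oddPart_eq] at h ⊢
  congr 1
  refine le_antisymm (H2.le_pPrimeCore inferInstance ?_)
    (H3.le_pResidual_of_coprime (H2.pPrimeCore_coprime 2 C))
  rw [card_map_of_injective C.subtype_injective] at h
  exact Nat.coprime_two_right.2 h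

theorem exists_bswHyp [Finite G] (S : Sylow 2 G) {n : ℕ} (hn : 2 ≤ n)
    (e : (S : Subgroup G) ≃* DihedralGroup n) (h2 : ∀ H : Subgroup G, H.index ≠ 2) {t : G}
    (ht : orderOf t = 2) (htS : t ∈ (S : Subgroup G)) (htZ : ∀ s ∈ (S : Subgroup G), s * t = t * s)
    {O : Subgroup G} (hO : O = oddPart (centralizer {t}))
    (ha : O ≠ ⊥ → IsCyclic ((S : Subgroup G) ⊓ centralizer (O : Set G) : Subgroup G) ∧
      ((S : Subgroup G) ⊓ centralizer (O : Set G)).relIndex (S : Subgroup G) = 2)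
    (hb : ∀ s ∈ (S : Subgroup G), s ∉ centralizer (O : Set G) → ∀ y ∈ O, s * y * s⁻¹ = y⁻¹)
    (hc : ∀ y ∈ O, y ≠ 1 → centralizer ({y} : Set G) ≤ centralizer ({t} : Set G)) :
    ∃ (K : Subgroup G) (s : G), BSWHyp K t s := by
  obtain ⟨a, x, hD⟩ := exists_ddata e
  have hOodd : Odd (Nat.card O) := hO ▸ odd_oddPart_centralizer S hn e ht
  have hSC : (S : Subgroup G) ≤ centralizer {t} := fun s hs =>
    mem_centralizer_singleton_iff.2 (htZ s hs)
  have hOC : O ≤ centralizer {t} := hO ▸ oddPart_le _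
  have hCO : centralizer ({t} : Set G) ≤ normalizer (O : Set G) :=
    hO ▸ le_normalizer.trans (normalizer_le_normalizer_oddPart _)
  obtain ⟨T, hTS, hTc, hTi, htT, hTO, hinv⟩ : ∃ T ≤ (S : Subgroup G), IsCyclic T ∧
      T.relIndex S = 2 ∧ t ∈ T ∧ T ≤ centralizer (O : Set G) ∧
      ∀ s ∈ (S : Subgroup G), s ∉ T → ∀ y ∈ O, s * y * s⁻¹ = y⁻¹ := by
    by_cases h0 : O = ⊥
    · obtain ⟨T, h1, h2, h3, h4⟩ := hD.exists_cyclic_index_two hn ht htS htZ
      exact ⟨T, h1, h2, h3, h4, by simp [h0], fun s _ _ y hy => by simp [mem_bot.1 (h0 ▸ hy)]⟩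
    · exact ⟨_, inf_le_left, (ha h0).1, (ha h0).2, ⟨htS, fun y hy =>
        mem_centralizer_singleton_iff.1 (hOC hy)⟩, inf_le_right,
        fun s hs hsT => hb s hs fun h1 => hsT ⟨hs, h1⟩⟩
  obtain ⟨s, hs, hsT⟩ : ∃ s ∈ (S : Subgroup G), s ∉ T := by
    by_contra hcon
    push Not at hcon
    rw [relIndex_eq_one.2 hcon] at hTi
    omega
  obtain ⟨hs2, hsinv⟩ := hD.of_cyclic_index_two hTS hTc hTi hs hsT
  have hmem : ∀ g, g ∈ O ⊔ T ↔ ∃ o ∈ O, ∃ b ∈ T, o * b = g := fun g => by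
    rw [← SetLike.mem_coe, coe_mul_of_right_le_normalizer_left _ _ (hTS.trans (hSC.trans hCO))]
    rfl
  have hOT : ∀ o ∈ O, ∀ b ∈ T, Commute o b := fun o ho b hb => hTO hb o ho
  have hOO : ∀ o ∈ O, ∀ o' ∈ O, Commute o o' := fun o ho o' ho' => by
    have h1 := hinv s hs hsT _ (mul_mem ho ho')
    rw [← conj_mul, hinv s hs hsT o ho, hinv s hs hsT o' ho', mul_inv_rev] at h1
    exact Commute.inv_inv_iff.1 h1
  have hTT : ∀ b ∈ T, ∀ b' ∈ T, Commute b b' := fun b hb b' hb' =>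
    congrArg Subtype.val (hTc.commGroup.mul_comm ⟨b, hb⟩ ⟨b', hb'⟩)
  have hOS : ∀ o ∈ O, o ∈ (S : Subgroup G) → o = 1 := fun o ho hoS =>
    H3.eq_one_of_mem_of_coprime S.2 hoS (H3.orderOf_coprime_of_mem (Nat.coprime_two_right.2 hOodd) ho)
  have huniq : ∀ a ∈ O ⊔ T, a * a = 1 → a = 1 ∨ a = t := by
    intro g hg hg2
    obtain ⟨o, ho, b, hb, rfl⟩ := (hmem g).1 hg
    rw [← pow_two, (hOT o ho b hb).mul_pow, mul_eq_one_iff_eq_inv] at hg2
    have h1 : o ^ 2 = 1 := hOS _ (pow_mem ho 2) (hg2 ▸ inv_mem (pow_mem (hTS hb) 2))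
    have h3 : o = 1 := H3.eq_one_of_pow_eq_one_of_coprime (pow_orderOf_eq_one o) h1
      (H3.orderOf_coprime_of_mem (Nat.coprime_two_right.2 hOodd) ho)
    subst h3
    rw [one_mul]
    by_cases hb1 : b = 1
    · exact Or.inl hb1
    · rw [one_pow, eq_comm, inv_eq_one, pow_two] at hg2
      exact Or.inr (H6.eq_of_isCyclic_of_orderOf_two hTc hb htT (H6.orderOf_eq_two_of hg2 hb1) ht)
  have hsK : ∀ a ∈ O ⊔ T, s * a * s⁻¹ = a⁻¹ := by
    intro g hg
    obtain ⟨o, ho, b, hb, rfl⟩ := (hmem g).1 hg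
    rw [← conj_mul, hinv s hs hsT o ho, hsinv b hb, ← mul_inv_rev, (hOT o ho b hb).eq]
  have hcomm : ∀ a ∈ O ⊔ T, ∀ b ∈ O ⊔ T, a * b = b * a := by
    intro g hg g' hg'
    obtain ⟨o, ho, b, hb, rfl⟩ := (hmem g).1 hg
    obtain ⟨o', ho', b', hb', rfl⟩ := (hmem g').1 hg'
    exact (((hOO o ho o' ho').mul_right (hOT o ho b' hb')).mul_left
      ((hOT o' ho' b hb).symm.mul_right (hTT b hb b' hb'))).eq
  have hC : ∀ g ∈ centralizer ({t} : Set G), g ∈ O ⊔ T ∨ s⁻¹ * g ∈ O ⊔ T := by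
    intro g hg
    rw [← oddPart_sup_sylow S hSC, ← hO, ← SetLike.mem_coe,
      coe_mul_of_right_le_normalizer_left _ _ (hSC.trans hCO)] at hg
    obtain ⟨o, ho, b, hb, rfl⟩ := hg
    by_cases hbT : b ∈ T
    · exact Or.inl (mul_mem_sup ho hbT)
    · have h1 : s⁻¹ * b ∈ T := (mul_mem_iff_of_index_two (H := T.subgroupOf S) hTi
        (a := ⟨s⁻¹, inv_mem hs⟩) (b := ⟨b, hb⟩)).2 (iff_of_false (fun h => hsT (inv_mem_iff.1 h)) hbT)
      have h3 : s⁻¹ * (o * b) = s⁻¹ * o * s * (s⁻¹ * b) := by group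
      exact Or.inr (h3 ▸ mul_mem_sup ((mem_normalizer_iff''.1 (hCO (hSC hs)) o).1 ho) h1)
  have hsn : s ∉ O ⊔ T := fun h1 => by
    rcases huniq s h1 hs2 with rfl | rfl
    · exact hsT (one_mem T)
    · exact hsT htT
  refine ⟨O ⊔ T, s, ht, mem_sup_right htT, hcomm, huniq, hs2, hsn, hsK, fun g b hb hb1 hg => hC g ?_,
    fun u hu => isConj_of_dihedral S hn e h2 ht hu⟩
  obtain ⟨r, hr, hrd⟩ := Nat.exists_prime_and_dvd (orderOf_eq_one_iff.not.2 hb1)
  have hy := orderOf_pow_orderOf_div (orderOf_pos b).ne' hrd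
  have hyK := pow_mem hb (orderOf b / r)
  have hgy := pow_mem hg (orderOf b / r)
  rw [conj_pow] at hgy
  generalize b ^ (orderOf b / r) = y at hy hyK hgy
  have hy1 := ne_one_of_orderOf_prime hr hy
  rw [mem_centralizer_singleton_iff]
  by_cases h3 : r = 2
  · subst h3
    have e1 := (huniq y hyK (H6.mul_self_of_orderOf_two hy)).resolve_left hy1
    have e2 := (huniq _ hgy (H6.mul_self_of_orderOf_two (by rw [H6.orderOf_conj, hy]))).resolve_left
      (by simpa using hy1)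
    rwa [e1, mul_inv_eq_iff_eq_mul] at e2
  · have hr2 : r.Coprime 2 := (Nat.coprime_primes hr Nat.prime_two).2 h3
    have hyO : y ∈ O := hO ▸ mem_oddPart ((sup_le hOC (hTS.trans hSC)) hyK) (hy ▸ hr2)
    have e1 : g⁻¹ * t * g * y = y * (g⁻¹ * t * g) := by
      calc g⁻¹ * t * g * y = g⁻¹ * (t * (g * y * g⁻¹)) * g := by group
        _ = _ := by rw [hcomm t (mem_sup_right htT) _ hgy]; group
    have e2 : orderOf (g⁻¹ * t * g) = 2 := by
      rw [← ht]; simpa using H6.orderOf_conj g⁻¹ t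
    rcases hC _ (hc y hyO hy1 (mem_centralizer_singleton_iff.2 e1)) with h4 | h4
    · have := (huniq _ h4 (H6.mul_self_of_orderOf_two e2)).resolve_left (H6.ne_one_of_orderOf_two e2)
      calc g * t = g * (g⁻¹ * t * g) := by rw [this]
        _ = t * g := by group
    · exfalso
      have e3 : s * (s⁻¹ * (g⁻¹ * t * g) * y) * s⁻¹ = y * (s * (s⁻¹ * (g⁻¹ * t * g)) * s⁻¹) := by
        calc _ = g⁻¹ * t * g * y * s⁻¹ := by group
          _ = _ := by rw [e1]; group
      rw [hsK _ (mul_mem h4 hyK), hsK _ h4, mul_inv_rev, mul_left_inj] at e3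
      exact hy1 (H3.eq_one_of_pow_eq_one_of_coprime (pow_orderOf_eq_one y)
        (show y ^ 2 = 1 by rw [pow_two]; nth_rw 1 [← e3]; simp) (hy ▸ hr2))

/-- **The Brauer–Suzuki–Wall theorem.** -/
theorem BSWHyp.psl2' [Finite G] [IsSimpleGroup G] {K : Subgroup G} {t s : G} (h : BSWHyp K t s) :
    ∃ (F : Type) (_ : Field F) (_ : Fintype F), Odd (Fintype.card F) ∧
      Nonempty (G ≃* Matrix.ProjectiveSpecialLinearGroup (Fin 2) F) := by
  rcases lt_or_ge 2 (Nat.card K) with hk | hk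
  · exact h.psl2 hk
  have hK : zpowers t = K := eq_of_le_of_card_ge (zpowers_le.2 h.t_mem)
    (by rwa [Nat.card_zpowers, h.t_ord])
  have hsq : ∀ c ∈ centralizer ({t} : Set G), c * c = 1 := fun c hc => by
    rcases h.mem_cent_iff.1 hc with h1 | h1
    · rw [← pow_two, ← h.t_ord, ← Nat.card_zpowers, hK]
      exact congrArg Subtype.val (pow_card_eq_one' (x := (⟨c, h1⟩ : K)))
    · exact H6.mul_self_of_orderOf_two (h.orderOf_of_coset h1)
  have hC4 : Nat.card (centralizer ({t} : Set G)) = 2 ^ 2 := by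
    rw [h.card_cent, ← hK, Nat.card_zpowers, h.t_ord]; rfl
  let T := (IsPGroup.of_card hC4).toSylow
    (Nat.two_dvd_ne_zero.2 (Nat.odd_iff.1 (odd_index_centralizer_of_conj h.t_ord h.allConj)))
  have hsC : s ∈ centralizer ({t} : Set G) := h.mem_cent_iff.2 (Or.inr (by simp))
  obtain ⟨F, _, _, hF, ⟨e⟩⟩ := Cfsg.Agent.S1230.result T (fun hc => h.s_nmem (by
      rw [H6.eq_of_isCyclic_of_orderOf_two hc hsC (mem_centralizer_singleton_iff.2 rfl)
        (h.orderOf_of_coset (by simp)) h.t_ord]; exact h.t_mem))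
    (fun hn => by
      rcases hn.eq_bot_or_eq_top with e | e
      · exact h.s_nmem (mem_bot.1 (e ▸ hsC : s ∈ (⊥ : Subgroup G)) ▸ one_mem K)
      · have h1 : t ∈ center G := mem_center_iff.2 fun g =>
          mem_centralizer_singleton_iff.1 (show g ∈ (T : Subgroup G) from e ▸ mem_top g)
        rcases (H6.normal_zpowers_of_mem_center h1).eq_bot_or_eq_top with e' | e'
        · exact h.t_ne (zpowers_eq_bot.1 e')
        · exact h.s_nmem (hK ▸ e' ▸ mem_top s))
    (fun u hu => by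
      obtain ⟨g, rfl⟩ := isConj_iff.1 (h.allConj u hu)
      have key : ∀ c ∈ centralizer ({g * t * g⁻¹} : Set G), c * c = 1 := fun c hc => by
        have h1 := hsq (g⁻¹ * c * g) (mem_centralizer_singleton_iff.2 (by
          calc g⁻¹ * c * g * t = g⁻¹ * (c * (g * t * g⁻¹)) * g := by group
            _ = _ := by rw [mem_centralizer_singleton_iff.1 hc]; group))
        calc c * c = g * (g⁻¹ * c * g * (g⁻¹ * c * g)) * g⁻¹ := by group
          _ = 1 := by rw [h1]; simp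
      refine ⟨⟨⟨fun a b => Subtype.ext ?_⟩⟩, fun c hc => (pow_two c).trans (key c hc)⟩
      have h1 := key _ (mul_mem a.2 b.2)
      rw [coe_mul, coe_mul, ← H6.inv_eq_of_mul_self h1, mul_inv_rev,
        H6.inv_eq_of_mul_self (key _ a.2), H6.inv_eq_of_mul_self (key _ b.2)])
  have := Fact.mk (show Nat.Prime 5 by norm_num)
  obtain ⟨e1⟩ := Cfsg.Agent.S0252.result (F := F) (hF.trans hC4)
  obtain ⟨e2⟩ := Cfsg.Agent.S0253.result (F := ZMod 5) (by simp)
  exact ⟨ZMod 5, inferInstance, inferInstance, by simp; decide, ⟨e.trans (e1.trans e2.symm)⟩⟩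

end H5
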