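import Mathlib
import Cfsg.Agent.H5.BSW1

/-! Abstract exceptional character theory for an abelian subgroup with a unique involution. -/

set_option autoImplicit false
set_option linter.unusedSectionVars false
open Cfsg H4 Subgroup
open scoped ComplexConjugate

namespace H5

variable {G : Type*} [Group G]

/-- `K` is abelian with unique involution `t`. -/
structure UHyp (K : Subgroup G) (t : G) : Prop where
  t_ord : orderOf t = 2
  t_mem : t ∈ K
  comm : ∀ a ∈ K, ∀ b ∈ K, a * b = b * a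
  uniq : ∀ a ∈ K, a * a = 1 → a = 1 ∨ a = t

namespace UHyp

variable {K : Subgroup G} {t : G} (h : UHyp K t)
include h

theorem commK (a b : K) : a * b = b * a := Subtype.ext (h.comm a a.2 b b.2)
theorem t_ne : t ≠ 1 := H6.ne_one_of_orderOf_two h.t_ord
theorem t_sq : t * t = 1 := H6.mul_self_of_orderOf_two h.t_ord

/-- Uniqueness of the non-principal real linear character of `K`. -/
theorem real_unique [Finite G] {μ μ' : K → ℂ} (hμ : IsIrrCharacter K μ) (hμ' : IsIrrCharacter K μ')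
    (h1 : μ ≠ fun _ => 1) (h1' : μ' ≠ fun _ => 1) (hr : (fun y => conj (μ y)) = μ)
    (hr' : (fun y => conj (μ' y)) = μ') : μ = μ' := by
  let : CommGroup K := { (inferInstance : Group K) with mul_comm := h.commK }
  let R : Subgroup K := (powMonoidHom 2 : K →* K).range
  have hR : R.index = 2 := by
    suffices hk : (powMonoidHom 2 : K →* K).ker = zpowers ⟨t, h.t_mem⟩ by
      rw [index_range, hk, Nat.card_zpowers, Subgroup.orderOf_mk, h.t_ord]
    apply le_antisymm
    · intro y hy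
      have : (y : G) * y = 1 := by
        have := congrArg Subtype.val (MonoidHom.mem_ker.1 hy)
        simpa [sq] using this
      rcases h.uniq y y.2 this with h2 | h2
      · rw [show y = 1 from Subtype.ext h2]; exact one_mem _
      · rw [show y = ⟨t, h.t_mem⟩ from Subtype.ext h2]; exact mem_zpowers _
    · rw [zpowers_le, MonoidHom.mem_ker]
      exact Subtype.ext (by simpa [sq] using h.t_sq)
  have key : ∀ ν : K → ℂ, IsIrrCharacter K ν → (ν ≠ fun _ => 1) → (fun y => conj (ν y)) = ν →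
      ∀ y, (y ∈ R → ν y = 1) ∧ (y ∉ R → ν y = -1) := by
    intro ν hν hν1 hνr
    have hl := hν.apply_one_of_comm h.commK
    have hsq : ∀ y, ν y * ν y = 1 := fun y => by
      nth_rw 2 [← congrFun hνr y]; exact norm_eq_one_of_linear hν.isCharacter hl y
    have hin : ∀ y ∈ R, ν y = 1 := by
      rintro _ ⟨y, rfl⟩
      simp only [powMonoidHom_apply, sq]
      rw [hν.isCharacter.map_mul_of_apply_one hl, hsq]
    obtain ⟨y₀, hy₀⟩ := Function.ne_iff.1 hν1
    refine fun y => ⟨hin y, fun hy => ?_⟩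
    have h2 := hin _ ((mul_mem_iff_of_index_two hR).2 (iff_of_false (fun h3 => hy₀ (hin _ h3)) hy))
    rw [hν.isCharacter.map_mul_of_apply_one hl,
      (mul_self_eq_one_iff.1 (hsq y₀)).resolve_left hy₀] at h2
    linear_combination -h2
  funext y
  by_cases hy : y ∈ R
  · rw [(key μ hμ h1 hr y).1 hy, (key μ' hμ' h1' hr' y).1 hy]
  · rw [(key μ hμ h1 hr y).2 hy, (key μ' hμ' h1' hr' y).2 hy]

theorem exists_nonreal [Finite G] (hk : 2 < Nat.card K) :
    ∃ ν : K → ℂ, IsIrrCharacter K ν ∧ (fun y => conj (ν y)) ≠ ν := by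
  by_contra hcon
  push Not at hcon
  have : K ≤ zpowers t := by
    intro y hy
    have h1 : IsConj (⟨y, hy⟩ : K)⁻¹ ⟨y, hy⟩ := (isConj_iff_irr _ _).2 fun χ hχ => by
      rw [hχ.apply_inv]; exact congrFun (hcon χ hχ) _
    obtain ⟨c, hc⟩ := isConj_iff.1 h1
    rw [h.commK c, mul_inv_cancel_right] at hc
    have h2 : y * y = 1 := by
      have := congrArg Subtype.val hc
      simp only [InvMemClass.coe_inv] at this
      nth_rw 1 [← this]; simp
    rcases h.uniq y hy h2 with rfl | rfl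
    · exact one_mem _
    · exact mem_zpowers _
  have := card_le_of_le this
  rw [Nat.card_zpowers, h.t_ord] at this
  omega

theorem sq_t [Finite G] {ν : K → ℂ} (hν : IsIrrCharacter K ν) :
    ν ⟨t, h.t_mem⟩ * ν ⟨t, h.t_mem⟩ = 1 := by
  have hl := hν.apply_one_of_comm h.commK
  rw [← hν.isCharacter.map_mul_of_apply_one hl, ← hl]
  congr 1; exact Subtype.ext h.t_sq

/-- The values at `t` of the non-real characters are not constant if there are two
non-conjugate ones. -/
theorem not_const [Finite G] {lam ν : K → ℂ} (hl : IsIrrCharacter K lam) (hν : IsIrrCharacter K ν)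
    (hlr : (fun y => conj (lam y)) ≠ lam) (hνr : (fun y => conj (ν y)) ≠ ν) (h1 : ν ≠ lam)
    (h2 : ν ≠ fun y => conj (lam y))
    (hc : ∀ κ, IsIrrCharacter K κ → (fun y => conj (κ y)) ≠ κ → κ ⟨t, h.t_mem⟩ = lam ⟨t, h.t_mem⟩) :
    False := by
  have lin : ∀ {κ : K → ℂ}, IsIrrCharacter K κ → κ 1 = 1 := fun hκ => hκ.apply_one_of_comm h.commK
  have mul : ∀ {κ κ' : K → ℂ}, IsIrrCharacter K κ → IsIrrCharacter K κ' → IsIrrCharacter K (κ * κ') :=
    fun hκ hκ' => hκ.mul_linear hκ'.isCharacter (lin hκ')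
  have nrm : ∀ {κ : K → ℂ}, IsIrrCharacter K κ → ∀ y, κ y * conj (κ y) = 1 := fun hκ =>
    norm_eq_one_of_linear hκ.isCharacter (lin hκ)
  have nz : ∀ {κ : K → ℂ}, IsIrrCharacter K κ → ∀ y, κ y ≠ 0 := fun hκ =>
    linear_ne_zero hκ.isCharacter (lin hκ)
  rcases mul_self_eq_one_iff.1 (h.sq_t hl) with h3 | h3
  · have : ¬ ∀ χ, IsIrrCharacter K χ → χ ⟨t, h.t_mem⟩ = χ 1 := fun h4 =>
      h.t_ne (congrArg Subtype.val (eq_one_of_forall_irr h4))
    push Not at this
    obtain ⟨κ, hκ, hκt⟩ := this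
    rw [lin hκ] at hκt
    have r1 : (fun y => conj (κ y)) = κ := by
      by_contra h4; exact hκt ((hc κ hκ h4).trans h3)
    have r2 : (fun y => conj ((lam * κ) y)) = lam * κ := by
      by_contra h4
      have := hc _ (mul hl hκ) h4
      rw [Pi.mul_apply, h3, one_mul] at this
      exact hκt this
    apply hlr
    funext y
    have := congrFun r2 y
    simp only [Pi.mul_apply, map_mul, congrFun r1 y] at this
    exact mul_right_cancel₀ (nz hκ y) this
  · have hνt := (hc ν hν hνr).trans h3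
    have r : ∀ κ, IsIrrCharacter K κ → κ ⟨t, h.t_mem⟩ = -1 →
        (fun y => conj ((lam * κ) y)) = lam * κ := by
      intro κ hκ hκt
      by_contra h4
      have := hc _ (mul hl hκ) h4
      rw [Pi.mul_apply, h3, hκt] at this
      norm_num at this
    have := h.real_unique (mul hl hν) (mul hl hν.conj) (fun h4 => h2 (funext fun y =>
        mul_left_cancel₀ (nz hl y) ((congrFun h4 y).trans (nrm hl y).symm)))
      (fun h4 => h1 (funext fun y => mul_right_cancel₀ (nz hν.conj y)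
        ((nrm hν y).trans (congrFun h4 y).symm))) (r ν hν hνt) (r _ hν.conj (by simp [hνt]))
    exact hνr (funext fun y => (mul_left_cancel₀ (nz hl y) (congrFun this y)).symm)

open Classical in
theorem sum_erase [Fintype K] (y : K) : ∑ ν ∈ Finset.univ.erase (irrOne K), ν.1 y =
    (if y = 1 then (Nat.card K : ℂ) else 0) - 1 := by
  have h1 := sum_irr_of_comm h.commK y
  rw [← Finset.add_sum_erase _ _ (Finset.mem_univ (irrOne K))] at h1
  split_ifs at h1 ⊢ <;> rw [← h1] <;> simp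

end UHyp

/-- A family of generalized characters behaving like `(1 - ν)^G - 1`. -/
structure EtaHyp [Fintype G] (K : Subgroup G) [Fintype K] (t : G) (η : (K → ℂ) → G → ℂ) : Prop
    extends UHyp K t where
  gen : ∀ {ν}, IsIrrCharacter K ν → IsGeneralizedCharacter G (η ν)
  one : ∀ {ν}, IsIrrCharacter K ν → (ν ≠ fun _ => 1) → classInner (η ν) (fun _ => 1) = 0
  eta_eta : ∀ {ν ν'}, IsIrrCharacter K ν → (ν ≠ fun _ => 1) → IsIrrCharacter K ν' →
    (ν' ≠ fun _ => 1) →
    classInner (η ν) (η ν') = 1 + classInner ν ν' + classInner ν (fun y => conj (ν' y))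
  eta_apply_one : ∀ {ν}, IsIrrCharacter K ν → η ν 1 = -1
  eta_apply_t : ∀ {ν}, IsIrrCharacter K ν → η ν t = 1 - 2 * ν ⟨t, t_mem⟩
  eta_gam : ∃ c, ∀ {ν}, IsIrrCharacter K ν → (fun y => conj (ν y)) ≠ ν →
    classInner (η ν) (gam t t) = c
  res : ∀ {X}, SIrr X → classInner X (fun _ => 1) = 0 →
    (∃ ν, IsIrrCharacter K ν ∧ (ν ≠ fun _ => 1) ∧ classInner (η ν) X ≠ 0) →
    ∀ {ν}, IsIrrCharacter K ν →
      classInner (fun y : K => X y) ((fun _ => 1) - ν) = classInner (η ν) X

namespace EtaHyp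

variable [Fintype G] {K : Subgroup G} [Fintype K] {t : G} {η : (K → ℂ) → G → ℂ}
  (h : EtaHyp K t η)
include h

theorem eta_norm_two {ν : K → ℂ} (hν : IsIrrCharacter K ν) (hr : (fun y => conj (ν y)) ≠ ν) :
    classInner (η ν) (η ν) = 2 := by
  have h1 : ν ≠ fun _ => 1 := by rintro rfl; simp at hr
  rw [h.eta_eta hν h1 hν h1, hν.inner_self, hν.inner_of_ne hν.conj hr.symm]; ring

theorem eta_norm_three {ν : K → ℂ} (hν : IsIrrCharacter K ν) (h1 : ν ≠ fun _ => 1)
    (hr : (fun y => conj (ν y)) = ν) : classInner (η ν) (η ν) = 3 := by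
  rw [h.eta_eta hν h1 hν h1, hr, hν.inner_self]; ring

theorem eta_cases {ν : K → ℂ} (hν : IsIrrCharacter K ν) (h1 : ν ≠ fun _ => 1) {X : G → ℂ}
    (hX : SIrr X) : classInner (η ν) X = 0 ∨ classInner (η ν) X = 1 ∨
      classInner (η ν) X = -1 := by
  by_cases hr : (fun y => conj (ν y)) = ν
  · exact hX.inner_cases (h.gen hν) (n := 3) le_rfl (by simpa using h.eta_norm_three hν h1 hr)
  · exact hX.inner_cases (h.gen hν) (n := 2) (by norm_num) (by simpa using h.eta_norm_two hν hr)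

theorem eta_eta_of_ne {ν ν' : K → ℂ} (hν : IsIrrCharacter K ν) (h1 : ν ≠ fun _ => 1)
    (hν' : IsIrrCharacter K ν') (h1' : ν' ≠ fun _ => 1) (h2 : ν ≠ ν')
    (h3 : ν ≠ fun y => conj (ν' y)) : classInner (η ν) (η ν') = 1 := by
  rw [h.eta_eta hν h1 hν' h1', hν.inner_of_ne hν' h2, hν.inner_of_ne hν'.conj h3]; ring

theorem eta_conj {ν : K → ℂ} (hν : IsIrrCharacter K ν) : η (fun y => conj (ν y)) = η ν := by
  by_cases h1 : ν = fun _ => 1
  · subst h1; simp
  have h2 : (fun y => conj (ν y)) ≠ fun _ => 1 := fun h3 => h1 (funext fun y => by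
    simpa using congrArg conj (congrFun h3 y))
  rw [← sub_eq_zero, ← classInner_self_eq_zero, classInner_sub_left, classInner_sub_right,
    classInner_sub_right, h.eta_eta hν h1 hν h1, h.eta_eta hν.conj h2 hν h1,
    h.eta_eta hν h1 hν.conj h2, h.eta_eta hν.conj h2 hν.conj h2]
  simp only [Complex.conj_conj]
  ring

open Classical in
theorem apply_eq {X : G → ℂ} (hX : SIrr X) (h0 : classInner X (fun _ => 1) = 0)
    (hex : ∃ ν, IsIrrCharacter K ν ∧ (ν ≠ fun _ => 1) ∧ classInner (η ν) X ≠ 0)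
    (y : K) : X y = (if y = 1 then Nat.card K * classInner (fun y : K => X y) (fun _ => 1) else 0) -
      ∑ ν ∈ Finset.univ.erase (irrOne K), classInner (η ν.1) X * ν.1 y := by
  have h1 := apply_eq_neg_sum_of_comm h.toUHyp.commK (fun y : K => X y) y
  have h2 : ((fun _ => 1) - (irrOne K).1 : K → ℂ) = 0 := by funext y; simp
  rw [← Finset.add_sum_erase _ _ (Finset.mem_univ (irrOne K)), h2, classInner_zero_right, zero_mul,
    zero_add] at h1
  rw [h1]
  congr 1
  · congr
  refine Finset.sum_congr rfl fun ν _ => ?_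
  rw [h.res hX h0 hex ν.2]

theorem aux_split {lam : K → ℂ} (hl : IsIrrCharacter K lam) (hlr : (fun y => conj (lam y)) ≠ lam)
    {A A' : G → ℂ} (hA : SIrr A) (hA' : SIrr A') (he : η lam = A + A') {ν : K → ℂ}
    (hν : IsIrrCharacter K ν) (h1 : ν ≠ fun _ => 1) (hne : classInner (η ν) A ≠ 1) :
    classInner (η ν) A = 0 ∧ classInner (η ν) A' = 1 ∧ ν ≠ lam ∧
      ν ≠ fun y => conj (lam y) := by
  have hl1 : lam ≠ fun _ => 1 := by rintro rfl; simp at hlr
  have key : classInner (η ν) (η lam) ≠ 2 := by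
    rw [he, classInner_add_right]
    rcases h.eta_cases hν h1 hA with h2 | h2 | h2 <;> rcases h.eta_cases hν h1 hA' with h3 | h3 | h3 <;>
      first | exact absurd h2 hne | (rw [h2, h3]; norm_num)
  have n1 : ν ≠ lam := by rintro rfl; exact key (h.eta_norm_two hν hlr)
  have n2 : ν ≠ fun y => conj (lam y) := by
    rintro rfl; rw [h.eta_conj hl] at key; exact key (h.eta_norm_two hl hlr)
  have := h.eta_eta_of_ne hν h1 hl hl1 n1 n2
  rw [he, classInner_add_right] at this
  refine ⟨?_, ?_, n1, n2⟩ <;>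
  rcases h.eta_cases hν h1 hA with h2 | h2 | h2 <;> rcases h.eta_cases hν h1 hA' with h3 | h3 | h3 <;>
    first | assumption | exact absurd h2 hne | (rw [h2, h3] at this; norm_num at this)

theorem aux_bad {lam : K → ℂ} (hl : IsIrrCharacter K lam) (hlr : (fun y => conj (lam y)) ≠ lam)
    {A A' : G → ℂ} (hA : SIrr A) (hA' : SIrr A') (hAA : classInner A A' = 0)
    (he : η lam = A + A') {μ ν : K → ℂ} (hμ : IsIrrCharacter K μ) (hμ1 : μ ≠ fun _ => 1)
    (hν : IsIrrCharacter K ν) (hνr : (fun y => conj (ν y)) ≠ ν)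
    (hμA : classInner (η μ) A ≠ 1) (hνA : classInner (η ν) A' ≠ 1) : False := by
  classical
  have nr1 : ∀ {κ : K → ℂ}, (fun y => conj (κ y)) ≠ κ → κ ≠ fun _ => 1 := by
    rintro _ hκ rfl; simp at hκ
  obtain ⟨a1, a2, a3, a4⟩ := h.aux_split hl hlr hA' hA (he.trans (add_comm _ _)) hν (nr1 hνr) hνA
  have hA0 : classInner A (fun _ => 1) = 0 :=
    hA.inner_eq_zero_of_add hA' sirr_one hAA (he ▸ h.one hl (nr1 hlr))
  have hB := sirr_sub_of_norm_two hA (h.gen hν) (h.eta_norm_two hν hνr) a2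
  -- all non-real characters have `A` as a constituent
  have hall : ∀ κ, IsIrrCharacter K κ → (fun y => conj (κ y)) ≠ κ → classInner (η κ) A = 1 := by
    intro κ hκ hκr
    by_contra hne
    obtain ⟨b1, b2, -, -⟩ := h.aux_split hl hlr hA hA' he hκ (nr1 hκr) hne
    have b3 := h.eta_eta_of_ne hκ (nr1 hκr) hν (nr1 hνr) (by rintro rfl; exact hne a2)
      (by rintro rfl; rw [h.eta_conj hν] at hne; exact hne a2)
    have b4 := (sirr_sub_of_norm_two hA' (h.gen hκ) (h.eta_norm_two hκ hκr) b2).eq_of_inner_eq_one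
      hB (by rw [classInner_sub_left, classInner_sub_right, classInner_sub_right, b1, b3,
        hA'.inner_comm (h.gen hν), a1, hA'.inner_comm hA.1, hAA]; ring)
    have c1 := congrFun b4 1
    have c2 := congrFun he 1
    simp only [Pi.sub_apply, Pi.add_apply, h.eta_apply_one hκ, h.eta_apply_one hν,
      h.eta_apply_one hl] at c1 c2
    obtain ⟨n, -, hn⟩ := hA.exists_int
    have : ((2 * n : ℤ) : ℂ) = ((-1 : ℤ) : ℂ) := by push_cast; linear_combination c1 - c2 - 2 * hn
    have := Int.cast_injective this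
    omega
  have hμr : (fun y => conj (μ y)) = μ := by
    by_contra h1; exact hμA (hall μ hμ h1)
  have hμ0 := (h.aux_split hl hlr hA hA' he hμ hμ1 hμA).1
  let t' : K := ⟨t, h.t_mem⟩
  have ht' : t' ≠ 1 := fun h1 => h.toUHyp.t_ne (congrArg Subtype.val h1)
  have hAt : A t = 1 + μ t' := by
    have h1 := h.apply_eq hA hA0 ⟨ν, hν, nr1 hνr, by rw [a2]; exact one_ne_zero⟩ t'
    have h2 := h.toUHyp.sum_erase t'
    rw [if_neg ht'] at h1 h2
    have hm : (⟨μ, hμ⟩ : IrrCharacter K) ∈ Finset.univ.erase (irrOne K) :=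
      Finset.mem_erase.2 ⟨fun h3 => hμ1 (congrArg Subtype.val h3), Finset.mem_univ _⟩
    rw [← Finset.add_sum_erase _ _ hm] at h1 h2
    rw [Finset.sum_congr rfl (g := fun κ => κ.1 t') fun κ hκ => by
      rw [hall κ.1 κ.2 fun h3 => (Finset.mem_erase.1 hκ).1 (Subtype.ext (h.toUHyp.real_unique κ.2 hμ
        (fun h4 => (Finset.mem_erase.1 (Finset.mem_erase.1 hκ).2).1 (Subtype.ext h4)) hμ1 h3 hμr)),
        one_mul]] at h1
    simp only [hμ0] at h1 h2
    linear_combination h1 - h2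
  obtain ⟨c, hc'⟩ := h.eta_gam
  have hval : ∀ κ, IsIrrCharacter K κ → (fun y => conj (κ y)) ≠ κ →
      (cl t).card * (cl t).card / Nat.card G * ((2 * κ t' + μ t') ^ 2 / (-1 - A 1)) =
        c - classInner A (gam t t) := by
    intro κ hκ hκr
    have h1 := (sirr_sub_of_norm_two hA (h.gen hκ) (h.eta_norm_two hκ hκr) (hall κ hκ hκr)).inner_gam
      t t
    rw [classInner_sub_left, hc' hκ hκr] at h1
    rw [h1]
    simp only [Pi.sub_apply, h.eta_apply_one hκ, h.eta_apply_t hκ, hAt]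
    ring
  refine h.toUHyp.not_const hl hν hlr hνr a3 a4 fun κ hκ hκr => ?_
  have h1 := (hval κ hκ hκr).trans (hval lam hl hlr).symm
  have hc : ((cl t).card : ℂ) ≠ 0 := by
    exact_mod_cast (Finset.card_pos.2 ⟨t, mem_cl.2 (IsConj.refl t)⟩).ne'
  have h2 : -1 - A 1 ≠ 0 := by simpa [h.eta_apply_one hν] using hB.apply_one_ne_zero
  have h3 := card_ne_zero G
  field_simp at h1
  have h4 : μ t' ≠ 0 := left_ne_zero_of_mul_eq_one (h.toUHyp.sq_t hμ)
  apply mul_right_cancel₀ h4
  linear_combination (1 / 4) * h1 - h.toUHyp.sq_t hκ + h.toUHyp.sq_t hl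

theorem exists_common (hk : 2 < Nat.card K) : ∃ A, SIrr A ∧ classInner A (fun _ => 1) = 0 ∧
    ∀ ν, IsIrrCharacter K ν → (ν ≠ fun _ => 1) → classInner (η ν) A = 1 := by
  obtain ⟨lam, hl, hlr⟩ := h.toUHyp.exists_nonreal hk
  have hl1 : lam ≠ fun _ => 1 := by rintro rfl; simp at hlr
  have h2 := h.eta_norm_two hl hlr
  obtain ⟨A, hA, hA1⟩ := exists_sirr_inner_eq_one (h.gen hl) (n := 1) (by norm_num) (by simpa using h2)
  have hA' := sirr_sub_of_norm_two hA (h.gen hl) h2 hA1
  have h0 := hA.inner_sub hA1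
  have h0' := classInner_comm_of_eq_zero h0
  have he : η lam = A + (η lam - A) := by simp
  generalize η lam - A = A' at hA' h0 h0' he
  have he' := he.trans (add_comm _ _)
  by_contra hcon
  push Not at hcon
  obtain ⟨μ, hμ, hμ1, hμA⟩ := hcon A hA (hA.inner_eq_zero_of_add hA' sirr_one h0' (he ▸ h.one hl hl1))
  obtain ⟨ν, hν, hν1, hνA⟩ := hcon A' hA' (hA'.inner_eq_zero_of_add hA sirr_one h0 (he' ▸ h.one hl hl1))
  by_cases hνr : (fun y => conj (ν y)) = ν
  · by_cases hμr : (fun y => conj (μ y)) = μ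
    · obtain rfl := h.toUHyp.real_unique hμ hν hμ1 hν1 hμr hνr
      exact hνA (h.aux_split hl hlr hA hA' he hμ hμ1 hμA).2.1
    · exact h.aux_bad hl hlr hA' hA h0 he' hν hν1 hμ hμr hνA hμA
  · exact h.aux_bad hl hlr hA hA' h0' he hμ hμ1 hν hνr hμA hνA

/-- The common constituent takes the value `1` on `K#`. -/
theorem common_apply {A : G → ℂ} (hA : SIrr A) (hA0 : classInner A (fun _ => 1) = 0)
    (hAe : ∀ ν, IsIrrCharacter K ν → (ν ≠ fun _ => 1) → classInner (η ν) A = 1) {y : G}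
    (hy : y ∈ K) (h1 : y ≠ 1) : A y = 1 := by
  classical
  have : ¬ ∀ χ, IsIrrCharacter K χ → χ ⟨t, h.t_mem⟩ = χ 1 := fun h4 =>
    h.toUHyp.t_ne (congrArg Subtype.val (eq_one_of_forall_irr h4))
  push Not at this
  obtain ⟨κ, hκ, hκt⟩ := this
  have hκ1 : κ ≠ fun _ => 1 := by rintro rfl; exact hκt rfl
  have h2 := h.apply_eq hA hA0 ⟨κ, hκ, hκ1, by rw [hAe κ hκ hκ1]; exact one_ne_zero⟩ ⟨y, hy⟩
  have hy1 : (⟨y, hy⟩ : K) ≠ 1 := fun h2 => h1 (congrArg Subtype.val h2)
  rw [Finset.sum_congr rfl (g := fun ν => ν.1 ⟨y, hy⟩) fun ν hν => by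
    rw [hAe ν.1 ν.2 fun h1 => (Finset.mem_erase.1 hν).1 (Subtype.ext h1), one_mul],
    h.toUHyp.sum_erase, if_neg hy1, if_neg hy1] at h2
  rw [h2]; ring

/-- A constituent of `η μ` orthogonal to the other `η ν` equals `-μ` on `K#`. -/
theorem single_apply {X : G → ℂ} (hX : SIrr X) (hX0 : classInner X (fun _ => 1) = 0) {μ : K → ℂ}
    (hμ : IsIrrCharacter K μ) (hμ1 : μ ≠ fun _ => 1) (h1 : classInner (η μ) X = 1)
    (h2 : ∀ ν, IsIrrCharacter K ν → (ν ≠ fun _ => 1) → ν ≠ μ → classInner (η ν) X = 0) (y : K)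
    (hy : y ≠ 1) : X y = -μ y := by
  classical
  have hm : (⟨μ, hμ⟩ : IrrCharacter K) ∈ Finset.univ.erase (irrOne K) :=
    Finset.mem_erase.2 ⟨fun h3 => hμ1 (congrArg Subtype.val h3), Finset.mem_univ _⟩
  rw [h.apply_eq hX hX0 ⟨μ, hμ, hμ1, by rw [h1]; exact one_ne_zero⟩ y, if_neg hy,
    Finset.sum_eq_single_of_mem _ hm fun ν hν hne => by
      rw [h2 ν.1 ν.2 (fun h1 => (Finset.mem_erase.1 hν).1 (Subtype.ext h1))
        fun h1 => hne (Subtype.ext h1), zero_mul], h1]
  simp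

/-- Decomposition of `η μ` for the real character `μ`. -/
theorem real_decomp {A : G → ℂ} (hA : SIrr A) (hA0 : classInner A (fun _ => 1) = 0)
    (hAe : ∀ ν, IsIrrCharacter K ν → (ν ≠ fun _ => 1) → classInner (η ν) A = 1) {μ : K → ℂ}
    (hμ : IsIrrCharacter K μ) (hμ1 : μ ≠ fun _ => 1) (hμr : (fun y => conj (μ y)) = μ) :
    ∃ X Y, SIrr X ∧ SIrr Y ∧ classInner X (fun _ => 1) = 0 ∧ classInner Y (fun _ => 1) = 0 ∧
      classInner X A = 0 ∧ classInner Y A = 0 ∧ classInner X Y = 0 ∧ η μ = A + X + Y ∧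
      ∀ y : K, y ≠ 1 → X y = -μ y ∧ Y y = -μ y := by
  have h2 : classInner (η μ - A) (η μ - A) = 2 := by
    rw [hA.norm_sub (h.gen hμ) (hAe μ hμ hμ1), h.eta_norm_three hμ hμ1 hμr]; ring
  obtain ⟨X, hX, hX1⟩ := exists_sirr_inner_eq_one ((h.gen hμ).sub hA.1) (n := 1) (by norm_num)
    (by simpa using h2)
  have hY := sirr_sub_of_norm_two hX ((h.gen hμ).sub hA.1) h2 hX1
  have hYX := hX.inner_sub hX1
  have he : η μ - A = X + (η μ - A - X) := by simp
  generalize η μ - A - X = Y at hY hYX he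
  have hXY := classInner_comm_of_eq_zero hYX
  have key : ∀ X Y, SIrr X → SIrr Y → classInner X Y = 0 → η μ - A = X + Y →
      classInner X (fun _ => 1) = 0 ∧ classInner X A = 0 ∧ ∀ y : K, y ≠ 1 → X y = -μ y := by
    intro X Y hX hY hXY he
    have h3 : classInner X (fun _ => 1) = 0 := hX.inner_eq_zero_of_add hY sirr_one hXY (by
      rw [← he, classInner_sub_left, h.one hμ hμ1, hA0, sub_zero])
    have h4 : classInner X A = 0 := hX.inner_eq_zero_of_add hY hA hXY (by
      rw [← he, hA.inner_sub (hAe μ hμ hμ1)])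
    have h5 := classInner_comm_of_eq_zero h4
    refine ⟨h3, h4, h.single_apply hX h3 hμ hμ1 ?_ fun ν hν hν1 hne => ?_⟩
    · rw [sub_eq_iff_eq_add.1 he, classInner_add_left, classInner_add_left, hX.2,
        classInner_comm_of_eq_zero hXY, h5]; ring
    · have hνr : (fun y => conj (ν y)) ≠ ν := fun h6 =>
        hne (h.toUHyp.real_unique hν hμ hν1 hμ1 h6 hμr)
      have hB := sirr_sub_of_norm_two hA (h.gen hν) (h.eta_norm_two hν hνr) (hAe ν hν hν1)
      have := classInner_comm_of_eq_zero (hX.inner_eq_zero_of_add hY hB hXY (by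
        rw [← he, classInner_sub_left, classInner_sub_right, classInner_sub_right,
          h.eta_eta_of_ne hμ hμ1 hν hν1 hne.symm (by
            rintro rfl; exact hνr (by simpa using hμr.symm)), hAe μ hμ hμ1,
          hA.inner_comm (h.gen hν), hAe ν hν hν1, hA.2]; ring))
      rwa [classInner_sub_left, h5, sub_zero] at this
  obtain ⟨x1, x2, x3⟩ := key X Y hX hY hXY he
  obtain ⟨y1, y2, y3⟩ := key Y X hY hX hYX (he.trans (add_comm _ _))
  exact ⟨X, Y, hX, hY, x1, y1, x2, y2, hXY, by rw [add_assoc, ← he]; simp,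
    fun y hy => ⟨x3 y hy, y3 y hy⟩⟩

/-- A common constituent exists also when `|K| = 2`. -/
theorem exists_common' : ∃ A, SIrr A ∧ classInner A (fun _ => 1) = 0 ∧
    ∀ ν, IsIrrCharacter K ν → (ν ≠ fun _ => 1) → classInner (η ν) A = 1 := by
  rcases lt_or_ge 2 (Nat.card K) with hk | hk
  · exact h.exists_common hk
  have hreal : ∀ ν, IsIrrCharacter K ν → (fun y => conj (ν y)) = ν := fun ν hν => funext fun y => by
    have hK : zpowers t = K := eq_of_le_of_card_ge (zpowers_le.2 h.t_mem)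
      (by rwa [Nat.card_zpowers, h.t_ord])
    have : y * y = 1 := by
      rw [← pow_two, ← h.t_ord, ← Nat.card_zpowers, hK]; exact pow_card_eq_one'
    rw [← hν.apply_inv, H6.inv_eq_of_mul_self this]
  by_cases hex : ∃ μ, IsIrrCharacter K μ ∧ μ ≠ fun _ => 1
  · obtain ⟨μ, hμ, hμ1⟩ := hex
    have h3 := h.eta_norm_three hμ hμ1 (hreal μ hμ)
    obtain ⟨A, hA, hA1⟩ := exists_sirr_inner_eq_one (h.gen hμ) (n := 2) le_rfl (by simpa using h3)
    refine ⟨A, hA, ?_, fun ν hν hν1 => ?_⟩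
    · by_contra h0
      rcases hA.eq_or_eq_neg sirr_one h0 with rfl | rfl
      · rw [h.one hμ hμ1] at hA1; exact zero_ne_one hA1
      · rw [classInner_neg_right, h.one hμ hμ1] at hA1; simp at hA1
    · rwa [h.toUHyp.real_unique hν hμ hν1 hμ1 (hreal ν hν) (hreal μ hμ)]
  · exfalso
    push Not at hex
    exact h.toUHyp.t_ne (congrArg Subtype.val (eq_one_of_forall_irr (g := (⟨t, h.t_mem⟩ : K))
      fun χ hχ => by rw [hex χ hχ]))

end EtaHyp

end H5
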