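import Mathlib
import Cfsg.Agent.H5.Eta
import Cfsg.Agent.H5.BSW
import Cfsg.Agent.H17.Klein

/-! Principal `2`-block order formulas for groups with dihedral Sylow `2`-subgroups. -/

set_option autoImplicit false
set_option linter.unusedSectionVars false
open Cfsg H4 Subgroup
open scoped ComplexConjugate

namespace H5

variable {G : Type*} [Group G]

/-- A class function which only depends on the `p`-part and vanishes at `1` lies in the principal
block, provided the centralizers of `p`-elements have normal `p`-complements. -/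
theorem inner_eq_zero_of_not_principal [Fintype G] {p : ℕ} [Fact p.Prime] {M : Ideal AlgInt}
    [H17.PM p M]
    (hC : ∀ u : G, H17.PElt p u → u ≠ 1 → HasNormalPComplement p (centralizer ({u} : Set G)))
    {θ : G → ℂ} (hθ : IsClassFunction G θ) (h1 : θ 1 = 0) (hp : ∀ g, θ g = θ (H17.pp p g))
    {χ : IrrCharacter G} (hχ : χ ∉ principalBlock M G) : classInner θ χ.1 = 0 := by
  classical
  let f : G → G → ℂ := fun u g => if IsConj u (H17.pp p g) then 1 else 0
  have hf : ∀ u, θ u ≠ 0 → classInner (f u) χ.1 = 0 := by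
    intro u hu
    by_cases hP : H17.PElt p u
    · set c : ℂ := ((p ^ (Nat.card (centralizer ({u} : Set G))).factorization p : ℕ) : ℂ)
      have hc : c ≠ 0 := Nat.cast_ne_zero.2 (pow_ne_zero _ (Fact.out : p.Prime).ne_zero)
      have h2 : c • f u = ∑ ψ : IrrCharacter G,
          (H17.ind (principalBlock M G) ψ * conj (ψ.1 u)) • ψ.1 := by
        funext g
        have := H17.npc_sum (M := M) hP (hC u hP fun e => hu (e ▸ h1)) g
        rw [isConj_comm] at this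
        simp only [f, Pi.smul_apply, smul_eq_mul, mul_ite, mul_one, mul_zero, Finset.sum_apply]
        refine Eq.trans ?_ (this.symm.trans (Finset.sum_congr (by congr) fun ψ _ => by ring))
        split_ifs <;> rfl
      have h3 := congrArg (fun F => classInner F χ.1) h2
      simp only [classInner_smul_left, classInner_sum_left] at h3
      rw [Finset.sum_eq_zero fun ψ _ => ?_] at h3
      · exact (mul_eq_zero.1 h3).resolve_left hc
      · by_cases e : ψ = χ
        · rw [e, H17.ind_of_notMem hχ, zero_mul, zero_mul]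
        · rw [ψ.2.inner_of_ne χ.2 fun e' => e (Subtype.ext e'), mul_zero]
    · have : f u = 0 := funext fun g => if_neg fun e => hP ((H17.pElt_pp g).of_isConj e.symm)
      rw [this, classInner_zero_left]
  have h2 : θ = ∑ u, (θ u / (cl u).card) • f u := by
    funext g
    have hc : ((cl (H17.pp p g)).card : ℂ) ≠ 0 := by
      exact_mod_cast (Finset.card_pos.2 ⟨_, mem_cl.2 (IsConj.refl _)⟩).ne'
    simp only [f, Finset.sum_apply, Pi.smul_apply, smul_eq_mul, mul_ite, mul_one, mul_zero]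
    rw [← Finset.sum_filter, Finset.sum_congr (s₂ := cl (H17.pp p g))
      (g := fun _ => θ g / (cl (H17.pp p g)).card) (by ext u; rw [Finset.mem_filter, mem_cl, isConj_comm]; simp)
      fun u hu => by
        rw [hp g, hθ.apply_of_isConj (mem_cl.1 hu), card_cl, card_cl,
          H17.index_centralizer_of_isConj (mem_cl.1 hu)]]
    rw [Finset.sum_const, nsmul_eq_mul, mul_div_cancel₀ _ hc]
  rw [h2, classInner_sum_left]
  refine Finset.sum_eq_zero fun u _ => ?_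
  rw [classInner_smul_left]
  by_cases hu : θ u = 0
  · rw [hu, zero_div, zero_mul]
  · rw [hf u hu, mul_zero]

theorem SIrr.apply_pp [Fintype G] {p : ℕ} [Fact p.Prime]
    (hC : ∀ u : G, H17.PElt p u → u ≠ 1 → HasNormalPComplement p (centralizer ({u} : Set G)))
    {θ : G → ℂ} (hθ : IsClassFunction G θ) (h1 : θ 1 = 0) (hp : ∀ g, θ g = θ (H17.pp p g))
    {X : G → ℂ} (hX : SIrr X) (h : classInner θ X ≠ 0) {g : G} (hg : p ∣ orderOf g) :
    X g = X (H17.pp p g) := by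
  obtain ⟨M, hM⟩ := H17.exists_PM p
  have key : ∀ χ, IsIrrCharacter G χ → classInner θ χ ≠ 0 → χ g = χ (H17.pp p g) := by
    intro χ hχ h
    have : (⟨χ, hχ⟩ : IrrCharacter G) ∈ principalBlock M G := by
      by_contra h2; exact h (inner_eq_zero_of_not_principal hC hθ h1 hp h2)
    exact H17.SB.npc_apply (χ := ⟨χ, hχ⟩) (hC _ (H17.pElt_pp g) fun e =>
      H17.pp_eq_one_iff.1 e hg) this (IsConj.refl _)
  rcases hX.irr_or with h2 | h2
  · exact key X h2 h
  · exact neg_injective (key _ h2 (by rwa [classInner_neg_right, neg_ne_zero]))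

theorem DData.sum_eq {S : Subgroup G} {n : ℕ} {a x : G} (h : DData S n a x) [Fintype S]
    [Fintype (zpowers a)] (f : G → ℂ) :
    ∑ s : S, f s = ∑ b : zpowers a, f b + ∑ b : zpowers a, f (x * b) := by
  refine Eq.trans (Eq.symm ?_) (Fintype.sum_sum_type
    (f := Sum.elim (fun b : zpowers a => f b) fun b : zpowers a => f (x * b)))
  refine Fintype.sum_bijective (Sum.elim (fun b : zpowers a => (⟨b, h.zp_le b.2⟩ : S))
    fun b : zpowers a => ⟨x * b, mul_mem h.x_mem (h.zp_le b.2)⟩) ⟨?_, fun s => ?_⟩ _ _ ?_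
  · rintro (b | b) (c | c) e <;> have e := congrArg Subtype.val e <;>
      simp only [Sum.elim_inl, Sum.elim_inr] at e
    · rw [Subtype.ext e]
    · exact absurd ((mul_mem_cancel_right c.2).1 (e ▸ b.2)) h.nmem
    · exact absurd ((mul_mem_cancel_right b.2).1 (e ▸ c.2)) h.nmem
    · rw [Subtype.ext (mul_left_cancel e)]
  · rcases (h.mem s).1 s.2 with h1 | h1
    · exact ⟨.inl ⟨_, h1⟩, rfl⟩
    · exact ⟨.inr ⟨_, h1⟩, Subtype.ext (by simp)⟩
  · rintro (b | b) <;> rfl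

open Classical in
theorem card_filter_conj [Fintype G] {H : Subgroup G} {z : G} (hz : z ∈ H) :
    (Finset.univ.filter fun u => ∃ c ∈ H, c * z * c⁻¹ = u).card =
      (centralizer ({z} : Set G)).relIndex H := by
  have h1 : (centralizer ({z} : Set G)).subgroupOf H = centralizer {⟨z, hz⟩} := by
    ext c; simp [mem_subgroupOf, mem_centralizer_singleton_iff, Subtype.ext_iff]
  rw [Subgroup.relIndex, h1, ← card_cl, ← Finset.card_map (Function.Embedding.subtype _)]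
  congr 1
  ext u
  simp only [Finset.mem_filter, Finset.mem_univ, true_and, Finset.mem_map, mem_cl, isConj_iff]
  exact ⟨fun ⟨c, hc, e⟩ => ⟨_, ⟨⟨c, hc⟩, rfl⟩, e⟩, fun ⟨_, ⟨c, rfl⟩, e⟩ => ⟨c, c.2, e⟩⟩

/-- The set-up: `S` dihedral Sylow subgroup, `t ∈ ⟨a⟩` an involution, `π : C(t) → S` the projection
along the normal complement. -/
structure DHyp (S : Sylow 2 G) (n : ℕ) (a x t : G) (π : G → G) : Prop
    extends DData (S : Subgroup G) n a x where
  t_ord : orderOf t = 2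
  t_mem : t ∈ zpowers a
  mul : ∀ g ∈ centralizer ({t} : Set G), ∀ g' ∈ centralizer ({t} : Set G), π (g * g') = π g * π g'
  mem' : ∀ g ∈ centralizer ({t} : Set G), π g ∈ (S : Subgroup G)
  fix : ∀ s ∈ (S : Subgroup G), π s = s
  odd : ∀ g ∈ centralizer ({t} : Set G), π g = 1 → ¬ 2 ∣ orderOf g

theorem DData.le_centralizer {S : Subgroup G} {n : ℕ} {a x t : G} (h : DData S n a x)
    (ht : orderOf t = 2) (hta : t ∈ zpowers a) : S ≤ centralizer {t} := fun s hs => by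
  rw [H6.mem_centralizer_singleton]
  by_cases h1 : s ∈ zpowers a
  · exact QData.zp_comm h1 hta
  · rw [← mul_inv_eq_iff_eq_mul, h.conj_of_nmem hs h1 hta, H6.inv_eq_of_orderOf_two ht]

theorem exists_dHyp [Finite G] (S : Sylow 2 G) {n : ℕ} {a x t : G}
    (hD : DData (S : Subgroup G) n a x) (ht : orderOf t = 2) (hta : t ∈ zpowers a)
    (hO : Odd (Nat.card (oddPart (centralizer ({t} : Set G))))) : ∃ π, DHyp S n a x t π := by
  have hSC := hD.le_centralizer ht hta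
  set U := oddPart (centralizer ({t} : Set G))
  have hCO : centralizer ({t} : Set G) ≤ normalizer (U : Set G) :=
    le_normalizer.trans (normalizer_le_normalizer_oddPart _)
  have hodd : ∀ u ∈ U, (orderOf u).Coprime 2 := fun u hu =>
    H3.orderOf_coprime_of_mem (Nat.coprime_two_right.2 hO) hu
  have hex : ∀ g, ∃ s, g ∈ centralizer ({t} : Set G) → s ∈ (S : Subgroup G) ∧ g * s⁻¹ ∈ U := by
    intro g
    by_cases hg : g ∈ centralizer ({t} : Set G)
    · rw [← oddPart_sup_sylow S hSC, ← SetLike.mem_coe,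
        coe_mul_of_right_le_normalizer_left _ _ (hSC.trans hCO)] at hg
      obtain ⟨o, ho, b, hb, rfl⟩ := hg
      exact ⟨b, fun _ => ⟨hb, by simpa using ho⟩⟩
    · exact ⟨1, fun h => absurd h hg⟩
  choose π hπ using hex
  have huniq : ∀ g ∈ centralizer ({t} : Set G), ∀ s ∈ (S : Subgroup G), g * s⁻¹ ∈ U → π g = s := by
    intro g hg s hs h
    have h1 := mul_mem (inv_mem (hπ g hg).2) h
    rw [show (g * (π g)⁻¹)⁻¹ * (g * s⁻¹) = π g * s⁻¹ by group] at h1
    exact mul_inv_eq_one.1 (H3.eq_one_of_mem_of_coprime S.2 (mul_mem (hπ g hg).1 (inv_mem hs))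
      (hodd _ h1))
  refine ⟨π, hD, ht, hta, fun g hg g' hg' => huniq _ (mul_mem hg hg') _
    (mul_mem (hπ g hg).1 (hπ g' hg').1) ?_, fun g hg => (hπ g hg).1,
    fun s hs => huniq s (hSC hs) s hs (by simp), fun g hg h => ?_⟩
  · rw [show g * g' * (π g * π g')⁻¹ = g * (g' * (π g')⁻¹) * g⁻¹ * (g * (π g)⁻¹) by group]
    exact mul_mem ((mem_normalizer_iff.1 (hCO hg) _).1 (hπ g' hg').2) (hπ g hg).2
  · have := (hπ g hg).2
    rw [h, inv_one, mul_one] at this
    exact (Nat.Prime.coprime_iff_not_dvd Nat.prime_two).1 (hodd g this).symm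

namespace DHyp

variable {S : Sylow 2 G} {n : ℕ} {a x t : G} {π : G → G} (h : DHyp S n a x t π)
include h

theorem t_ne : t ≠ 1 := H6.ne_one_of_orderOf_two h.t_ord
theorem t_sq : t * t = 1 := H6.mul_self_of_orderOf_two h.t_ord
theorem le_C : (S : Subgroup G) ≤ centralizer {t} := h.toDData.le_centralizer h.t_ord h.t_mem
theorem x_C : x ∈ centralizer ({t} : Set G) := h.le_C h.toDData.x_mem
theorem pi_one : π 1 = 1 := h.fix 1 (one_mem _)
theorem pi_x : π x = x := h.fix x h.toDData.x_mem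

/-- The projection as a homomorphism. -/
def hom : centralizer ({t} : Set G) →* G :=
  MonoidHom.mk' (fun g => π g) fun g g' => h.mul g g.2 g' g'.2

theorem pi_inv {g : G} (hg : g ∈ centralizer ({t} : Set G)) : π g⁻¹ = (π g)⁻¹ :=
  h.hom.map_inv ⟨g, hg⟩

theorem pi_conj {g y : G} (hg : g ∈ centralizer ({t} : Set G))
    (hy : y ∈ centralizer ({t} : Set G)) : π (g * y * g⁻¹) = π g * π y * (π g)⁻¹ := by
  rw [h.mul _ (mul_mem hg hy) _ (inv_mem hg), h.mul _ hg _ hy, h.pi_inv hg]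

theorem pi_eq_one [Finite G] {g : G} (hg : g ∈ centralizer ({t} : Set G)) (ho : ¬ 2 ∣ orderOf g) :
    π g = 1 :=
  H17.eq_one_of_PElt_of_reg (H17.PElt.of_mem S.2 (h.mem' g hg))
    (H17.reg_map (y := (⟨g, hg⟩ : centralizer ({t} : Set G))) (by rwa [orderOf_mk]) h.hom)

theorem pi_pp [Finite G] {g : G} (hg : g ∈ centralizer ({t} : Set G)) : π (H17.pp 2 g) = π g := by
  conv_rhs => rw [← H17.pp_mul_pr (p := 2) g, h.mul _ (H17.pp_mem hg) _ (H17.pr_mem hg),
    h.pi_eq_one (H17.pr_mem hg) (H17.reg_pr g), mul_one]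

theorem isConj_pp [Finite G] {g : G} (hg : g ∈ centralizer ({t} : Set G)) :
    ∃ c ∈ centralizer ({t} : Set G), c * H17.pp 2 g * c⁻¹ = π g := by
  obtain ⟨c, hc, h1⟩ := exists_conj_le_sylow_in S h.le_C (H17.pElt_pp (p := 2) g).isPGroup_zpowers
    (zpowers_le.2 (H17.pp_mem hg))
  have h2 := h.fix _ (h1 _ (mem_zpowers _))
  rw [h.pi_conj hc (H17.pp_mem hg), h.pi_pp hg] at h2
  exact ⟨(π c)⁻¹ * c, mul_mem (inv_mem (h.le_C (h.mem' c hc))) hc, by
    rw [show (π c)⁻¹ * c * H17.pp 2 g * ((π c)⁻¹ * c)⁻¹ = (π c)⁻¹ * (c * H17.pp 2 g * c⁻¹) * π c by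
      group, ← h2]; group⟩

/-- The subgroup `H₀ = U⟨a⟩`. -/
def H0 : Subgroup G := ((zpowers a).comap h.hom).map (centralizer ({t} : Set G)).subtype

theorem mem_H0 {g : G} : g ∈ h.H0 ↔ g ∈ centralizer ({t} : Set G) ∧ π g ∈ zpowers a :=
  ⟨by rintro ⟨g, hg, rfl⟩; exact ⟨g.2, hg⟩, fun hg => ⟨⟨g, hg.1⟩, hg.2, rfl⟩⟩

theorem H0_le : h.H0 ≤ centralizer {t} := fun _ hg => (h.mem_H0.1 hg).1

theorem zp_le_H0 : zpowers a ≤ h.H0 := fun b hb => h.mem_H0.2 ⟨h.le_C (h.toDData.zp_le hb), by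
  rwa [h.fix b (h.toDData.zp_le hb)]⟩

theorem x_nmem : x ∉ h.H0 := fun hx => h.nmem (h.pi_x ▸ (h.mem_H0.1 hx).2)

theorem mem_C_iff {g : G} : g ∈ centralizer ({t} : Set G) ↔ g ∈ h.H0 ∨ x⁻¹ * g ∈ h.H0 := by
  refine ⟨fun hg => ?_, fun hg => hg.elim (fun h1 => h.H0_le h1)
    fun h1 => (mul_mem_cancel_left (inv_mem h.x_C)).1 (h.H0_le h1)⟩
  simp only [h.mem_H0, hg, mul_mem (inv_mem h.x_C) hg, true_and]
  rw [h.mul _ (inv_mem h.x_C) _ hg, h.pi_inv h.x_C, h.pi_x]
  exact (h.mem _).1 (h.mem' g hg)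

theorem mul_mem_H0 {g g' : G} (hg : g ∈ centralizer ({t} : Set G)) (h1 : g ∉ h.H0)
    (hg' : g' ∈ centralizer ({t} : Set G)) (h1' : g' ∉ h.H0) : g * g' ∈ h.H0 := by
  have h2 := (h.mem_C_iff.1 (inv_mem hg)).resolve_left (by rwa [inv_mem_iff])
  have := mul_mem (inv_mem h2) ((h.mem_C_iff.1 hg').resolve_left h1')
  simpa [mul_assoc] using this

/-- The projection `H₀ → ⟨a⟩`. -/
def rho : h.H0 →* zpowers a :=
  MonoidHom.mk' (fun g => ⟨π g, (h.mem_H0.1 g.2).2⟩)
    fun g g' => Subtype.ext (h.mul g (h.H0_le g.2) g' (h.H0_le g'.2))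

theorem coe_rho (g : h.H0) : (h.rho g : G) = π g := rfl

theorem rho_zp (b : zpowers a) : h.rho ⟨b, h.zp_le_H0 b.2⟩ = b :=
  Subtype.ext (h.fix b (h.toDData.zp_le b.2))

theorem rho_surj : Function.Surjective h.rho := fun b => ⟨_, h.rho_zp b⟩

theorem conj_mem {g y : G} (hg : g ∈ centralizer ({t} : Set G)) (hy : y ∈ h.H0) :
    g * y * g⁻¹ ∈ h.H0 := by
  by_cases h1 : g ∈ h.H0
  · exact mul_mem (mul_mem h1 hy) (inv_mem h1)
  · exact h.mul_mem_H0 (mul_mem hg (h.H0_le hy)) (by rwa [mul_mem_cancel_right hy]) (inv_mem hg)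
      (by rwa [inv_mem_iff])

theorem rho_conj {g : G} (hg : g ∈ centralizer ({t} : Set G)) (h1 : g ∉ h.H0) (y : h.H0) :
    h.rho ⟨g * y * g⁻¹, h.conj_mem hg y.2⟩ = (h.rho y)⁻¹ := Subtype.ext <| by
  rw [coe_rho, h.pi_conj hg (h.H0_le y.2)]
  exact h.toDData.conj_of_nmem (h.mem' g hg) (fun h2 => h1 (h.mem_H0.2 ⟨hg, h2⟩)) (h.rho y).2

variable [Finite G]

theorem uHyp : UHyp (zpowers a) t where
  t_ord := h.t_ord
  t_mem := h.t_mem
  comm := fun _ hb _ hc => QData.zp_comm hb hc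
  uniq := fun b hb h2 => by
    by_cases h1 : b = 1
    · exact Or.inl h1
    · exact Or.inr (H6.eq_of_isCyclic_of_orderOf_two inferInstance hb h.t_mem
        (H6.orderOf_eq_two_of h2 h1) h.t_ord)

theorem uniq {z : G} (hz : z ∈ h.H0) (h2 : orderOf z = 2) : z = t := by
  have hC := h.H0_le hz
  have ht := h.toDData.zp_le h.t_mem
  have h1 : π z * π z = 1 := by rw [← h.mul z hC z hC, H6.mul_self_of_orderOf_two h2, h.pi_one]
  rcases h.uHyp.uniq _ (h.mem_H0.1 hz).2 h1 with h3 | h3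
  · exact absurd (h2 ▸ dvd_rfl) (h.odd z hC h3)
  · by_contra h4
    refine h.odd (z * t) (mul_mem hC (h.le_C ht)) (by
      rw [h.mul z hC t (h.le_C ht), h3, h.fix t ht, h.t_sq]) (dvd_of_eq (H6.orderOf_eq_two_of ?_ ?_).symm)
    · rw [mul_assoc, ← mul_assoc t, ← H6.mem_centralizer_singleton.1 hC, mul_assoc z, h.t_sq, mul_one,
        H6.mul_self_of_orderOf_two h2]
    · rwa [Ne, mul_eq_one_iff_eq_inv, H6.inv_eq_of_orderOf_two h.t_ord]

theorem t_mem_zpowers {y : G} (hy : y ∈ h.H0) (h1 : π y ≠ 1) : t ∈ zpowers y := by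
  have h2 : 2 ∣ orderOf y := by
    by_contra h2; exact h1 (h.pi_eq_one (h.H0_le hy) h2)
  rw [← h.uniq (pow_mem hy _) (orderOf_pow_orderOf_div (orderOf_pos y).ne' h2)]
  exact npow_mem_zpowers _ _

theorem ti {y g : G} (hy : y ∈ h.H0) (h1 : π y ≠ 1) (hg : g * y * g⁻¹ ∈ h.H0) :
    g ∈ centralizer ({t} : Set G) := by
  obtain ⟨k, hk⟩ := h.t_mem_zpowers hy h1
  have h2 := zpow_mem hg k
  simp only at hk
  rw [conj_zpow, hk] at h2
  rw [H6.mem_centralizer_singleton, ← mul_inv_eq_iff_eq_mul]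
  exact h.uniq h2 (by rw [H17.orderOf_conj, h.t_ord])

theorem card_C : Nat.card (centralizer ({t} : Set G)) = 2 * Nat.card h.H0 := by
  rw [← relIndex_mul_card_of_le h.H0_le]
  congr 1
  rw [Subgroup.relIndex, index_eq_two_iff']
  refine ⟨⟨x⁻¹, inv_mem h.x_C⟩, fun b => ?_⟩
  simp only [mem_subgroupOf, coe_mul]
  rcases h.mem_C_iff.1 b.2 with h1 | h1
  · exact Or.inr ⟨h1, fun h2 => h.x_nmem (inv_mem_iff.1 ((mul_mem_cancel_right h1).1 h2))⟩
  · exact Or.inl ⟨h1, fun h2 => h.x_nmem (inv_mem_iff.1 ((mul_mem_cancel_right h2).1 h1))⟩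

end DHyp

namespace DHyp

variable [Fintype G] {S : Sylow 2 G} {n : ℕ} {a x t : G} {π : G → G} (h : DHyp S n a x t π)
include h

/-- Induction of inflated functions. -/
noncomputable def alpha (φ : zpowers a → ℂ) : G → ℂ := indFun h.H0 fun y => φ (h.rho y)

theorem classFun_rho (φ : zpowers a → ℂ) : IsClassFunction h.H0 fun y => φ (h.rho y) :=
  (isClassFunction_of_comm h.uHyp.commK φ).comp h.rho

theorem alpha_classFun (φ : zpowers a → ℂ) : IsClassFunction G (h.alpha φ) :=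
  H5.indFun_isClassFunction _ _

theorem alpha_apply {φ : zpowers a → ℂ} (h0 : φ 1 = 0) (y : h.H0) :
    h.alpha φ y = φ (h.rho y) + φ (h.rho y)⁻¹ := by
  have hx := ext0_mem _ (fun y => φ (h.rho y)) (h.conj_mem (inv_mem h.x_C) y.2)
  rw [h.rho_conj (inv_mem h.x_C) (by rw [inv_mem_iff]; exact h.x_nmem) y, inv_inv] at hx
  rw [alpha, indFun_apply_two_cosets _ (h.classFun_rho φ) h.x_nmem, ext0_coe, hx]
  intro g hg
  have h1 : g⁻¹ * y * g ∈ h.H0 := by
    by_contra h1; exact hg (ext0_not_mem _ _ h1)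
  rw [ext0_mem _ _ h1] at hg
  exact h.mem_C_iff.1 (h.ti h1 (fun h2 => hg (by rw [← h0]; exact congrArg φ (Subtype.ext h2)))
    (by simp [mul_assoc]))

theorem alpha_pp {φ : zpowers a → ℂ} (h0 : φ 1 = 0) (g : G) :
    h.alpha φ g = h.alpha φ (H17.pp 2 g) := by
  have key : ∀ y ∈ h.H0, h.alpha φ y = h.alpha φ (H17.pp 2 y) := fun y hy => by
    rw [h.alpha_apply h0 ⟨y, hy⟩, h.alpha_apply h0 ⟨_, H17.pp_mem hy⟩,
      show h.rho ⟨_, H17.pp_mem hy⟩ = h.rho ⟨y, hy⟩ from Subtype.ext (h.pi_pp (h.H0_le hy))]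
  by_cases hg : ∃ c, c * g * c⁻¹ ∈ h.H0
  · obtain ⟨c, hc⟩ := hg
    rw [← h.alpha_classFun φ g c, key _ hc, H17.pp_conj, h.alpha_classFun φ]
  · have h1 : h.alpha φ g = 0 :=
      H4.indFun_eq_zero _ _ fun y hy => absurd ((isConj_iff.1 hy).imp fun c hc => hc ▸ y.2) hg
    rw [h1, eq_comm]
    refine H4.indFun_eq_zero _ _ fun ⟨y, h3⟩ hy => ?_
    obtain ⟨c, hc⟩ := isConj_iff.1 hy
    obtain rfl : H17.pp 2 (c * g * c⁻¹) = y := by rw [H17.pp_conj, hc]
    by_contra h2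
    have h4 : c * g * c⁻¹ ∈ centralizer ({t} : Set G) :=
      h.ti h3 (fun h4 => h2 (by rw [← h0]; exact congrArg φ (Subtype.ext h4))) (by
        rwa [(H17.commute_pp (Commute.refl _)).eq, mul_inv_cancel_right])
    exact hg ⟨c, h.mem_H0.2 ⟨h4, h.pi_pp h4 ▸ (h.mem_H0.1 h3).2⟩⟩

variable [Fintype (zpowers a)]

theorem inner_alpha {φ : zpowers a → ℂ} (h0 : φ 1 = 0) {X : G → ℂ} (hX : IsClassFunction G X)
    {ψ : zpowers a → ℂ} (hψ : ∀ y : h.H0, h.rho y ≠ 1 → X y = ψ (h.rho y)) :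
    classInner (h.alpha φ) X = classInner φ ψ := by
  classical
  rw [alpha, H5.classInner_indFun_left _ _ hX, ← classInner_comp_surjective h.rho h.rho_surj]
  simp only [classInner_def]
  congr 1
  refine Finset.sum_congr rfl fun y _ => ?_
  by_cases hy : h.rho y = 1
  · rw [hy, h0, zero_mul, zero_mul]
  · rw [hψ y hy]

/-- The generalized characters `(1 - ν)^G - 1`. -/
noncomputable def eta (ν : zpowers a → ℂ) : G → ℂ := h.alpha ((fun _ => 1) - ν) - fun _ => 1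

theorem sub_one {ν : zpowers a → ℂ} (hν : IsIrrCharacter _ ν) :
    ((fun _ => 1) - ν : zpowers a → ℂ) 1 = 0 := by
  simp [hν.apply_one_of_comm h.uHyp.commK]

theorem inner_alpha_one {ν : zpowers a → ℂ} (hν : IsIrrCharacter _ ν) (h1 : ν ≠ fun _ => 1) :
    classInner (h.alpha ((fun _ => 1) - ν)) (fun _ => 1) = 1 := by
  rw [h.inner_alpha (h.sub_one hν) (isClassFunction_const 1) (ψ := fun _ => 1) fun _ _ => rfl,
    classInner_sub_left, hν.inner_of_ne isIrrCharacter_one h1, classInner_one_one, sub_zero]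

open Classical in
/-- The involutions of `C(t) ∖ H₀`. -/
noncomputable def invs : Finset G :=
  Finset.univ.filter fun u => orderOf u = 2 ∧ u ∈ centralizer ({t} : Set G) ∧ u ∉ h.H0

theorem mem_invs {u : G} :
    u ∈ h.invs ↔ orderOf u = 2 ∧ u ∈ centralizer ({t} : Set G) ∧ u ∉ h.H0 := by simp [invs]

theorem inner_gam (hc : ∀ u, orderOf u = 2 → IsConj t u) {φ : zpowers a → ℂ} (h0 : φ 1 = 0) :
    Nat.card h.H0 * classInner (h.alpha φ) (gam t t) =
      ∑ u ∈ h.invs, ∑ v ∈ h.invs, extendByZero h.H0 (fun y => φ (h.rho y)) (u * v) := by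
  classical
  rw [alpha, H5.classInner_indFun_left _ _ (gam_classFun t t), classInner_def,
    mul_inv_cancel_left₀ (card_ne_zero _)]
  simp only [conj_gam]
  rw [← sum_ext0_mul, sum_mul_gam, ← Finset.sum_product', ← Finset.sum_product']
  symm
  refine Finset.sum_subset (Finset.product_subset_product (fun u hu => mem_cl.2 (hc u
    (h.mem_invs.1 hu).1)) fun u hu => mem_cl.2 (hc u (h.mem_invs.1 hu).1)) ?_
  rintro ⟨u, v⟩ h1 h2
  by_contra h3
  apply h2
  simp only [Finset.mem_product, mem_cl, h.mem_invs] at h1 h3 ⊢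
  have hu : orderOf u = 2 := (H6.orderOf_of_isConj h1.1).symm.trans h.t_ord
  have hv : orderOf v = 2 := (H6.orderOf_of_isConj h1.2).symm.trans h.t_ord
  have h4 : u * v ∈ h.H0 := by
    by_contra h4; exact h3 (ext0_not_mem _ _ h4)
  rw [ext0_mem _ _ h4] at h3
  have h5 : π (u * v) ≠ 1 := fun h5 => h3 (by rw [← h0]; exact congrArg φ (Subtype.ext h5))
  have huC : u ∈ centralizer ({t} : Set G) := h.ti h4 h5 (by
    have := inv_mem h4
    rwa [mul_inv_rev, H6.inv_eq_of_orderOf_two hv, ← one_mul v, ← H6.mul_self_of_orderOf_two hu,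
      mul_assoc u u] at this)
  have h6 : u ∉ h.H0 := fun h6 => h5 (by
    rw [h.uniq h6 hu, h.uniq ((mul_mem_cancel_left h6).1 h4) hv, h.t_sq, h.pi_one])
  exact ⟨⟨hu, huC, h6⟩, hv, (mul_mem_cancel_left huC).1 (h.H0_le h4),
    fun h7 => h6 ((mul_mem_cancel_right h7).1 h4)⟩

/-- A linear character of `⟨a⟩`, inflated to `H₀`. -/
noncomputable def infl (ν : zpowers a → ℂ) : G → ℂ := extendByZero h.H0 fun y => ν (h.rho y)

theorem infl_mul {ν : zpowers a → ℂ} (hν : IsIrrCharacter _ ν) {y z : G} (hy : y ∈ h.H0)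
    (hz : z ∈ h.H0) : h.infl ν (y * z) = h.infl ν y * h.infl ν z := by
  rw [infl, ext0_mem _ _ hy, ext0_mem _ _ hz, ext0_mem _ _ (mul_mem hy hz),
    ← hν.isCharacter.map_mul_of_apply_one (hν.apply_one_of_comm h.uHyp.commK), ← map_mul]
  rfl

theorem infl_inv {ν : zpowers a → ℂ} (hν : IsIrrCharacter _ ν) {y : G} (hy : y ∈ h.H0) :
    h.infl ν y⁻¹ = conj (h.infl ν y) := by
  rw [infl, ext0_mem _ _ hy, ext0_mem _ _ (inv_mem hy), ← hν.apply_inv, ← map_inv]
  rfl

theorem infl_zp (ν : zpowers a → ℂ) (b : zpowers a) : h.infl ν b = ν b := by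
  rw [infl, ext0_mem _ _ (h.zp_le_H0 b.2), h.rho_zp]

theorem infl_conj {ν : zpowers a → ℂ} (hν : IsIrrCharacter _ ν) {y z : G} (hy : y ∈ h.H0)
    (hz : x * z ∈ h.H0) : h.infl ν (x * (y * z * y⁻¹)) = h.infl ν y⁻¹ ^ 2 * h.infl ν (x * z) := by
  have h1 : h.infl ν (x * y * x⁻¹) = h.infl ν y⁻¹ := by
    rw [infl, ext0_mem _ _ (h.conj_mem h.x_C hy), h.rho_conj h.x_C h.x_nmem ⟨y, hy⟩,
      ext0_mem _ _ (inv_mem hy), ← map_inv]
    rfl
  rw [show x * (y * z * y⁻¹) = x * y * x⁻¹ * (x * z) * y⁻¹ by group,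
    h.infl_mul hν (mul_mem (h.conj_mem h.x_C hy) hz) (inv_mem hy),
    h.infl_mul hν (h.conj_mem h.x_C hy) hz, h1]
  ring

theorem x_mul_mem {u : G} (hu : u ∈ h.invs) : x * u ∈ h.H0 :=
  h.mul_mem_H0 h.x_C h.x_nmem (h.mem_invs.1 hu).2.1 (h.mem_invs.1 hu).2.2

theorem inner_gam' (hc : ∀ u, orderOf u = 2 → IsConj t u) {ν : zpowers a → ℂ}
    (hν : IsIrrCharacter _ ν) :
    Nat.card h.H0 * classInner (h.alpha ((fun _ => 1) - ν)) (gam t t) = (h.invs.card : ℂ) ^ 2 -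
      conj (∑ u ∈ h.invs, h.infl ν (x * u)) * ∑ u ∈ h.invs, h.infl ν (x * u) := by
  rw [h.inner_gam hc (h.sub_one hν), map_sum, Finset.sum_mul_sum, sq, Finset.card_eq_sum_ones,
    Nat.cast_sum, Finset.sum_mul_sum, ← Finset.sum_sub_distrib]
  refine Finset.sum_congr rfl fun u hu => ?_
  rw [← Finset.sum_sub_distrib]
  refine Finset.sum_congr rfl fun v hv => ?_
  have h1 : u * v = (x * u)⁻¹ * (x * v) := by
    rw [mul_inv_rev, H6.inv_eq_of_orderOf_two (h.mem_invs.1 hu).1]; group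
  rw [← h.infl_inv hν (h.x_mul_mem hu), ← h.infl_mul hν (inv_mem (h.x_mul_mem hu)) (h.x_mul_mem hv),
    ← h1, infl]
  have h2 : u * v ∈ h.H0 := h1 ▸ mul_mem (inv_mem (h.x_mul_mem hu)) (h.x_mul_mem hv)
  rw [ext0_mem _ _ h2, ext0_mem _ _ h2]
  simp

theorem conj_mem_invs {g u : G} (hg : g ∈ centralizer ({t} : Set G)) (hu : u ∈ h.invs) :
    g * u * g⁻¹ ∈ h.invs := by
  rw [h.mem_invs] at hu ⊢
  exact ⟨by rw [H17.orderOf_conj, hu.1], mul_mem (mul_mem hg hu.2.1) (inv_mem hg), fun h1 =>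
    hu.2.2 (by simpa [mul_assoc] using h.conj_mem (inv_mem hg) h1)⟩

theorem apply_pow {ν : zpowers a → ℂ} (hν : IsIrrCharacter _ ν) (y : zpowers a) :
    ∃ k : ℕ, y = ⟨a, mem_zpowers a⟩ ^ k ∧ ν y = ν ⟨a, mem_zpowers a⟩ ^ k := by
  obtain ⟨k, hk⟩ := mem_powers_iff_mem_zpowers.2 y.2
  obtain ⟨lam, rfl⟩ := hν.isCharacter.exists_linear (hν.apply_one_of_comm h.uHyp.commK)
  obtain rfl : y = ⟨a, mem_zpowers a⟩ ^ k := Subtype.ext hk.symm
  exact ⟨k, rfl, by simp only [map_pow, Units.val_pow_eq_pow_val]⟩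

theorem sum_infl_eq_zero {ν : zpowers a → ℂ} (hν : IsIrrCharacter _ ν)
    (hr : (fun y => conj (ν y)) ≠ ν) : ∑ u ∈ h.invs, h.infl ν (x * u) = 0 := by
  have ha := h.zp_le_H0 (mem_zpowers a)
  have h1 : ∑ u ∈ h.invs, h.infl ν (x * u) = ∑ u ∈ h.invs, h.infl ν (x * (a⁻¹ * u * a⁻¹⁻¹)) :=
    Finset.sum_nbij' (fun u => a * u * a⁻¹) (fun u => a⁻¹ * u * a⁻¹⁻¹)
      (fun u hu => h.conj_mem_invs (h.H0_le ha) hu)
      (fun u hu => h.conj_mem_invs (inv_mem (h.H0_le ha)) hu) (fun _ _ => by group)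
      (fun _ _ => by group) fun _ _ => by group
  rw [Finset.sum_congr rfl fun u hu => h.infl_conj hν (inv_mem ha) (h.x_mul_mem hu), inv_inv,
    ← Finset.mul_sum, h.infl_zp ν ⟨a, mem_zpowers a⟩] at h1
  by_contra h2
  have h3 : ν ⟨a, mem_zpowers a⟩ ^ 2 = 1 := mul_right_cancel₀ h2 (by rw [← h1, one_mul])
  refine hr (funext fun y => ?_)
  obtain ⟨k, -, hk⟩ := h.apply_pow hν y
  rcases mul_self_eq_one_iff.1 ((sq _).symm.trans h3) with h4 | h4 <;> simp [hk, h4]

theorem exists_sigma : ∃ σ : zpowers a → ℂ, IsIrrCharacter _ σ ∧ σ ⟨a, mem_zpowers a⟩ = -1 := by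
  have : ¬ ∀ χ, IsIrrCharacter (zpowers a) χ → χ ⟨t, h.t_mem⟩ = χ 1 := fun h4 =>
    h.t_ne (congrArg Subtype.val (eq_one_of_forall_irr h4))
  push Not at this
  obtain ⟨κ, hκ, hκt⟩ := this
  have h1 := hκ.apply_one_of_comm h.uHyp.commK
  obtain ⟨k, -, hk⟩ := h.apply_pow hκ ⟨t, h.t_mem⟩
  refine ⟨κ ^ k, (hκ.isCharacter.pow k).isIrr_of_apply_one (by simp [h1]), ?_⟩
  rw [Pi.pow_apply, ← hk]
  exact (mul_self_eq_one_iff.1 (h.uHyp.sq_t hκ)).resolve_left (h1 ▸ hκt)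

theorem card_invs {σ : zpowers a → ℂ} (hσ : IsIrrCharacter _ σ) (hσa : σ ⟨a, mem_zpowers a⟩ = -1) :
    h.invs.card = (centralizer ({x} : Set G)).relIndex (centralizer {t}) +
      (centralizer ({x * a} : Set G)).relIndex (centralizer {t}) ∧
    ∑ u ∈ h.invs, h.infl σ (x * u) = (centralizer ({x} : Set G)).relIndex (centralizer {t}) -
      (centralizer ({x * a} : Set G)).relIndex (centralizer {t}) := by
  classical
  have ha := h.zp_le_H0 (mem_zpowers a)
  have hx : x ∈ h.invs := h.mem_invs.2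
    ⟨H6.orderOf_eq_two_of h.sq fun e => h.nmem (e ▸ one_mem _), h.x_C, h.x_nmem⟩
  have hxa' : x * a ∉ zpowers a := by rw [mul_mem_cancel_right (mem_zpowers a)]; exact h.nmem
  have hxa : x * a ∈ h.invs := h.mem_invs.2 ⟨H6.orderOf_eq_two_of (h.toDData.sq_of_nmem
    (mul_mem h.toDData.x_mem h.toDData.a_mem) hxa') fun e => hxa' (e ▸ one_mem _),
    mul_mem h.x_C (h.H0_le ha), by rw [mul_mem_cancel_right ha]; exact h.x_nmem⟩
  have hsq : ∀ y ∈ h.H0, h.infl σ y ^ 2 = 1 := fun y hy => by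
    obtain ⟨k, -, hk⟩ := h.apply_pow hσ (h.rho ⟨y, hy⟩)
    rw [infl, ext0_mem _ _ hy, hk, hσa, ← pow_mul, mul_comm, pow_mul]; simp
  have hval : ∀ z ∈ h.invs, ∀ u, (∃ c ∈ centralizer ({t} : Set G), c * z * c⁻¹ = u) →
      h.infl σ (x * u) = h.infl σ (x * z) := by
    rintro z hz _ ⟨c, hc, rfl⟩
    obtain ⟨y, hy, e⟩ : ∃ y ∈ h.H0, c * z * c⁻¹ = y * z * y⁻¹ := by
      by_cases h1 : c ∈ h.H0
      · exact ⟨c, h1, rfl⟩
      · exact ⟨c * z, h.mul_mem_H0 hc h1 (h.mem_invs.1 hz).2.1 (h.mem_invs.1 hz).2.2, by group⟩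
    rw [e, h.infl_conj hσ hy (h.x_mul_mem hz), hsq _ (inv_mem hy), one_mul]
  have v1 : h.infl σ (x * x) = 1 := by
    rw [h.sq]; exact (h.infl_zp σ 1).trans (hσ.apply_one_of_comm h.uHyp.commK)
  have v2 : h.infl σ (x * (x * a)) = -1 := by
    rw [← mul_assoc, h.sq, one_mul, h.infl_zp σ ⟨a, mem_zpowers a⟩, hσa]
  rw [← card_filter_conj h.x_C, ← card_filter_conj (h.mem_invs.1 hxa).2.1]
  have hd : Disjoint (Finset.univ.filter fun u => ∃ c ∈ centralizer ({t} : Set G), c * x * c⁻¹ = u)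
      (Finset.univ.filter fun u => ∃ c ∈ centralizer ({t} : Set G), c * (x * a) * c⁻¹ = u) := by
    refine Finset.disjoint_filter.2 fun u _ h1 h2 => ?_
    have := (hval x hx u h1).symm.trans (hval _ hxa u h2)
    rw [v1, v2] at this
    norm_num at this
  have he : h.invs = (Finset.univ.filter fun u => ∃ c ∈ centralizer ({t} : Set G), c * x * c⁻¹ = u) ∪
      (Finset.univ.filter fun u => ∃ c ∈ centralizer ({t} : Set G), c * (x * a) * c⁻¹ = u) := by
    ext u
    simp only [Finset.mem_union, Finset.mem_filter, Finset.mem_univ, true_and]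
    refine ⟨fun hu => ?_, ?_⟩
    · obtain ⟨h1, h2, h3⟩ := h.mem_invs.1 hu
      obtain ⟨c, hc, e⟩ := h.isConj_pp h2
      rw [H17.pp_of_pElt (H17.PElt.of_two h1)] at e
      obtain ⟨k, hk⟩ := ((h.mem _).1 (h.mem' u h2)).resolve_left fun h4 => h3 (h.mem_H0.2 ⟨h2, h4⟩)
      simp only [← e, eq_inv_mul_iff_mul_eq] at hk
      have key : ∀ j : ℤ, c⁻¹ * a ^ (-j) ∈ centralizer ({t} : Set G) ∧
          a ^ (-j) * x = x * a ^ j := fun j => ⟨mul_mem (inv_mem hc) (zpow_mem (h.H0_le ha) _), by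
        rw [zpow_neg, ← h.toDData.conj_zp (zpow_mem (mem_zpowers a) j), inv_mul_cancel_right]⟩
      have hu : u = c⁻¹ * (x * a ^ k) * c := by rw [hk]; group
      rcases Int.even_or_odd' k with ⟨j, rfl | rfl⟩
      · exact Or.inl ⟨_, (key j).1, by rw [mul_assoc c⁻¹, (key j).2, hu]; group⟩
      · exact Or.inr ⟨_, (key j).1, by rw [← mul_assoc, mul_assoc c⁻¹, (key j).2, hu]; group⟩
    · rintro (⟨c, hc, rfl⟩ | ⟨c, hc, rfl⟩)
      · exact h.conj_mem_invs hc hx
      · exact h.conj_mem_invs hc hxa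
  rw [he, Finset.card_union_of_disjoint hd, Finset.sum_union hd,
    Finset.sum_congr rfl fun u hu => (hval x hx u (Finset.mem_filter.1 hu).2).trans v1,
    Finset.sum_congr rfl fun u hu => (hval _ hxa u (Finset.mem_filter.1 hu).2).trans v2]
  simp [sub_eq_add_neg]

variable (hC : ∀ u : G, H17.PElt 2 u → u ≠ 1 → HasNormalPComplement 2 (centralizer ({u} : Set G)))
include hC

theorem apply_pp {X : G → ℂ} (hX : SIrr X) (h0 : classInner X (fun _ => 1) = 0) {ν : zpowers a → ℂ}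
    (hν : IsIrrCharacter _ ν) (h1 : classInner (h.eta ν) X ≠ 0) {g : G} (hg : 2 ∣ orderOf g) :
    X g = X (H17.pp 2 g) := by
  rw [eta, classInner_sub_left, classInner_comm_of_eq_zero h0, sub_zero] at h1
  exact hX.apply_pp hC (h.alpha_classFun _) (by rw [alpha, H5.indFun_one_eq, map_one, h.sub_one hν,
    mul_zero]) (h.alpha_pp (h.sub_one hν)) h1 hg

theorem etaHyp (hc : ∀ u, orderOf u = 2 → IsConj t u) : EtaHyp (zpowers a) t h.eta where
  toUHyp := h.uHyp
  gen := fun hν => ((isGen_one.sub hν.isGen).comp h.rho).indFun.sub isGen_one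
  one := fun hν h1 => by
    rw [eta, classInner_sub_left, h.inner_alpha_one hν h1, classInner_one_one, sub_self]
  eta_eta := fun {ν ν'} hν h1 hν' h1' => by
    have h2 : (fun y => conj (ν' y)) ≠ fun _ => 1 := fun h3 => h1' (funext fun y => by
      simpa using congrArg conj (congrFun h3 y))
    rw [eta, eta, classInner_sub_left, classInner_sub_right, classInner_sub_right,
      h.inner_alpha_one hν h1, ← conj_classInner _ (fun _ => 1), h.inner_alpha_one hν' h1',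
      h.inner_alpha (h.sub_one hν) (h.alpha_classFun _)
        (ψ := ((fun _ => 1) - ν') + ((fun _ => 1) - fun y => conj (ν' y))) fun y _ => by
          rw [h.alpha_apply (h.sub_one hν')]; simp [hν'.apply_inv]]
    simp only [classInner_add_right, classInner_sub_left, classInner_sub_right, classInner_one_one,
      hν.inner_of_ne isIrrCharacter_one h1, isIrrCharacter_one.inner_of_ne hν' h1'.symm,
      isIrrCharacter_one.inner_of_ne hν'.conj h2.symm, map_one]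
    ring
  eta_apply_one := fun hν => by
    rw [eta, Pi.sub_apply, alpha, H5.indFun_one_eq, map_one, h.sub_one hν]; simp
  eta_apply_t := fun {ν} hν => by
    have := h.alpha_apply (h.sub_one hν) ⟨t, h.zp_le_H0 h.t_mem⟩
    rw [h.rho_zp ⟨t, h.t_mem⟩, show (⟨t, h.t_mem⟩ : zpowers a)⁻¹ = ⟨t, h.t_mem⟩ from
      Subtype.ext (H6.inv_eq_of_orderOf_two h.t_ord)] at this
    simp only [eta, Pi.sub_apply] at this ⊢
    rw [this]; ring
  eta_gam := ⟨(h.invs.card : ℂ) ^ 2 / Nat.card h.H0 - classInner (fun _ => 1) (gam t t), fun hν hr => by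
    have := h.inner_gam' hc hν
    rw [h.sum_infl_eq_zero hν hr, mul_zero, sub_zero] at this
    rw [eta, classInner_sub_left, ← this, mul_div_cancel_left₀ _ (card_ne_zero _)]⟩
  res := fun {X} hX h0 ⟨μ, hμ, _, h1⟩ ν hν => by
    rw [eta, classInner_sub_left, classInner_comm_of_eq_zero h0, sub_zero,
      h.inner_alpha (h.sub_one hν) hX.classFun (ψ := fun y => X y) fun y hy => ?_,
      (hX.gen.restrict _).inner_comm (isGen_one.sub hν.isGen)]
    obtain ⟨c, -, hc⟩ := h.isConj_pp (h.H0_le y.2)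
    rw [h.apply_pp hC hX h0 hμ h1, coe_rho, ← hc, hX.classFun]
    by_contra h2
    exact hy (Subtype.ext (h.pi_eq_one (h.H0_le y.2) h2))

theorem inner_gam_eq (hc : ∀ u, orderOf u = 2 → IsConj t u) {ν : zpowers a → ℂ}
    (hν : IsIrrCharacter _ ν) {X Y Z : G → ℂ} (he : h.eta ν = X + Y + Z) :
    2 * ((h.invs.card : ℂ) ^ 2 -
      conj (∑ u ∈ h.invs, h.infl ν (x * u)) * ∑ u ∈ h.invs, h.infl ν (x * u)) =
      (centralizer ({t} : Set G)).index + Nat.card (centralizer ({t} : Set G)) *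
        (classInner X (gam t t) + classInner Y (gam t t) + classInner Z (gam t t)) := by
  have h1 := h.inner_gam' hc hν
  rw [sub_eq_iff_eq_add.1 he, classInner_add_left, classInner_add_left, classInner_add_left,
    sirr_one.inner_gam, card_cl, ← (centralizer ({t} : Set G)).card_mul_index] at h1
  rw [← h1, h.card_C]
  have := card_ne_zero h.H0
  have : ((centralizer ({t} : Set G)).index : ℂ) ≠ 0 := Nat.cast_ne_zero.2 index_ne_zero_of_finite
  push_cast
  field_simp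
  ring

end DHyp

theorem SIrr.card_mul_inner_gam [Fintype G] {X : G → ℂ} (hX : SIrr X) (t : G) :
    Nat.card (centralizer ({t} : Set G)) * classInner X (gam t t) =
      (centralizer ({t} : Set G)).index * (X t * X t / X 1) := by
  rw [hX.inner_gam, card_cl, ← (centralizer ({t} : Set G)).card_mul_index]
  have := card_ne_zero (centralizer ({t} : Set G))
  have : ((centralizer ({t} : Set G)).index : ℂ) ≠ 0 := Nat.cast_ne_zero.2 index_ne_zero_of_finite
  push_cast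
  field_simp

theorem SIrr.exists_linear [Fintype G] {X : G → ℂ} (hX : SIrr X)
    (h0 : classInner X (fun _ => 1) = 0) (h1 : X 1 = 1) :
    ∃ lam : G →* ℂˣ, lam ≠ 1 ∧ X = fun g => (lam g : ℂ) := by
  rcases hX.irr_or with h | h
  · obtain ⟨lam, rfl⟩ := h.isCharacter.exists_linear h1
    exact ⟨lam, by rintro rfl; simp [classInner_one_one] at h0, rfl⟩
  · obtain ⟨k, -, hk⟩ := h.exists_nat_apply_one
    rw [Pi.neg_apply, h1] at hk
    have : ((k + 1 : ℕ) : ℂ) = 0 := by push_cast; linear_combination -hk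
    exact absurd (Nat.cast_eq_zero.1 this) (by omega)

/-- **Order formulas from the principal `2`-block** for a group with dihedral Sylow `2`-subgroups
and one class of involutions. -/
theorem dch [Fintype G] (S : Sylow 2 G) {n : ℕ} (hn : 2 ≤ n)
    (e : (S : Subgroup G) ≃* DihedralGroup n) {a x t : G} (hD : DData (S : Subgroup G) n a x)
    (ht : orderOf t = 2) (hta : t ∈ zpowers a) (hc : ∀ u, orderOf u = 2 → IsConj t u)
    {i k₁ k₂ : ℤ} (hi : i = (centralizer ({t} : Set G)).index)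
    (hk₁ : k₁ = (centralizer ({x} : Set G)).relIndex (centralizer {t}))
    (hk₂ : k₂ = (centralizer ({x * a} : Set G)).relIndex (centralizer {t})) :
    ∃ (X₁ X₂ X₃ : G → ℂ) (a₁ a₂ a₃ : ℤ), SIrr X₁ ∧ SIrr X₂ ∧ SIrr X₃ ∧
      classInner X₁ (fun _ => 1) = 0 ∧ classInner X₂ (fun _ => 1) = 0 ∧
      classInner X₃ (fun _ => 1) = 0 ∧
      classInner X₂ X₁ = 0 ∧ classInner X₃ X₁ = 0 ∧ classInner X₂ X₃ = 0 ∧
      X₁ 1 = a₁ ∧ X₂ 1 = a₂ ∧ X₃ 1 = a₃ ∧
      (∀ g, 2 ∣ orderOf g → X₁ g = 1 ∧ X₂ g = X₂ (H17.pp 2 g) ∧ X₃ g = X₂ g) ∧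
      (∀ k : ℕ, a ^ k ≠ 1 → X₂ (a ^ k) = -(-1) ^ k) ∧
      (∀ g, ¬ 2 ∣ orderOf g → 1 + X₁ g + X₂ g + X₃ g = 0) ∧
      1 + a₁ + a₂ + a₃ = 0 ∧ i * ((1 + a₁) * (1 + a₂) * (1 + a₃)) = 8 * k₁ * k₂ * (a₁ * a₂ * a₃) ∧
      a₁ ≡ 1 [ZMOD 2 * n] ∧ (n = 2 → a₂ ≡ 1 [ZMOD 4] ∧ a₃ ≡ 1 [ZMOD 4]) ∧
      (2 < n → a₂ ≡ n - 1 [ZMOD 2 * n] ∧ a₃ ≡ n - 1 [ZMOD 2 * n] ∧
        i * (a₁ - 1) ^ 2 = 2 * (k₁ + k₂) ^ 2 * (a₁ * (a₁ + 1))) := by
  classical
  obtain ⟨π, h⟩ := exists_dHyp S hD ht hta (odd_oddPart_centralizer S hn e ht)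
  have hC : ∀ u : G, H17.PElt 2 u → u ≠ 1 →
      HasNormalPComplement 2 (centralizer ({u} : Set G)) := fun u hu h1 => by
    obtain ⟨m, hm, ⟨E⟩⟩ := H22.exists_MC_of_dihedral' S hn e
    refine H3.HasNPC.of_le (H22.Dih.centralizer_hasNPC E hm
      (orderOf_pow_orderOf_div (orderOf_pos u).ne' (hu.dvd_orderOf h1))) fun g hg => ?_
    exact H17.mem_centralizer_singleton.2 ((H17.mem_centralizer_singleton.1 hg).pow_right _)
  have hE := h.etaHyp hC hc
  obtain ⟨A, hA, hA0, hAe⟩ := hE.exists_common'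
  obtain ⟨σ, hσ, hσa⟩ := h.exists_sigma
  have hσ1 : σ ≠ fun _ => 1 := by rintro rfl; norm_num at hσa
  have hσk : ∀ k : ℕ, σ (⟨a, mem_zpowers a⟩ ^ k) = (-1) ^ k := fun k => by
    obtain ⟨lam, rfl⟩ := hσ.isCharacter.exists_linear (hσ.apply_one_of_comm h.uHyp.commK)
    simp only [map_pow, Units.val_pow_eq_pow_val] at hσa ⊢
    rw [hσa]
  have hσr : (fun y => conj (σ y)) = σ := funext fun y => by
    obtain ⟨k, rfl, -⟩ := h.apply_pow hσ y
    rw [hσk]; simp
  obtain ⟨X, Y, hX, hY, hX0, hY0, hXA, hYA, hXY, he, hv⟩ := hE.real_decomp hA hA0 hAe hσ hσ1 hσr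
  obtain ⟨a₁, n₁, e₁⟩ := hA.exists_int
  obtain ⟨a₂, n₂, e₂⟩ := hX.exists_int
  obtain ⟨a₃, n₃, e₃⟩ := hY.exists_int
  -- every non-trivial `2`-element is conjugate into `⟨a⟩`
  have hK : ∀ g : G, 2 ∣ orderOf g → ∃ b : zpowers a, b ≠ 1 ∧ IsConj (H17.pp 2 g) b := fun g hg => by
    obtain ⟨u, hu, h1⟩ := H17.exists_conj_mem S (H17.pElt_pp (p := 2) g)
    have h2 : u ≠ 1 := by
      rintro rfl; exact H17.pp_eq_one_iff.1 (isConj_one_left.1 h1) hg
    by_cases h3 : u ∈ zpowers a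
    · exact ⟨⟨u, h3⟩, fun h4 => h2 (congrArg Subtype.val h4), h1⟩
    · exact ⟨⟨t, hta⟩, fun h4 => h.t_ne (congrArg Subtype.val h4),
        h1.trans (hc u (H6.orderOf_eq_two_of (hD.sq_of_nmem hu h3) h2)).symm⟩
  have hpp : ∀ {Z : G → ℂ}, SIrr Z → classInner Z (fun _ => 1) = 0 → classInner (h.eta σ) Z = 1 →
      ∀ g, 2 ∣ orderOf g → Z g = Z (H17.pp 2 g) := fun hZ h0 h1 g hg =>
    h.apply_pp hC hZ h0 hσ (by rw [h1]; exact one_ne_zero) hg
  have pA := hpp hA hA0 (hAe σ hσ hσ1)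
  have pX := hpp hX hX0 (by
    rw [he, classInner_add_left, classInner_add_left, classInner_comm_of_eq_zero hXA,
      classInner_comm_of_eq_zero hXY, hX.norm]; ring)
  have pY := hpp hY hY0 (by
    rw [he, classInner_add_left, classInner_add_left, classInner_comm_of_eq_zero hYA, hXY, hY.norm]
    ring)
  have vA : ∀ g, 2 ∣ orderOf g → A g = 1 := fun g hg => by
    obtain ⟨b, hb, h1⟩ := hK g hg
    rw [pA g hg, hA.classFun.apply_of_isConj h1,
      hE.common_apply hA hA0 hAe b.2 fun h2 => hb (Subtype.ext h2)]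
  have hsum : 1 + a₁ + a₂ + a₃ = 0 := by
    have := congrFun he 1
    simp only [hE.eta_apply_one hσ, Pi.add_apply, e₁, e₂, e₃] at this
    exact_mod_cast (by push_cast; linear_combination -this : ((1 + a₁ + a₂ + a₃ : ℤ) : ℂ) = 0)
  have t1 : (⟨t, hta⟩ : zpowers a) ≠ 1 := fun h4 => h.t_ne (congrArg Subtype.val h4)
  have vAt := vA t (ht ▸ dvd_rfl)
  have σt := h.uHyp.sq_t hσ
  have hcong : ∀ {Z : G → ℂ} {c : ℤ} (φ : zpowers a → ℂ), SIrr Z → Z 1 = c →
      (∀ b : zpowers a, b ≠ 1 → Z b = φ b) →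
      ∃ m : ℤ, 2 * n * m = c - φ 1 + ∑ b, φ b + n * φ ⟨t, hta⟩ := by
    intro Z c φ hZ h1 h2
    obtain ⟨m, hm⟩ := (hZ.gen.restrict S).inner_int isGen_one
    refine ⟨m, ?_⟩
    rw [classInner_def, hD.card, inv_mul_eq_iff_eq_mul₀ (by
      exact_mod_cast (by omega : 2 * n ≠ 0))] at hm
    simp only [map_one, mul_one] at hm
    rw [hD.sum_eq, Finset.sum_congr rfl (f := fun b : zpowers a => Z (x * b))
      (g := fun _ => φ ⟨t, hta⟩) fun b _ => by
      have h3 : x * b ∉ zpowers a := by rw [mul_mem_cancel_right b.2]; exact hD.nmem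
      rw [← hZ.classFun.apply_of_isConj (hc _ (H6.orderOf_eq_two_of (hD.sq_of_nmem
        (mul_mem hD.x_mem (hD.zp_le b.2)) h3) fun e => h3 (e ▸ one_mem _))), h2 ⟨t, hta⟩ t1],
      ← Finset.add_sum_erase _ _ (Finset.mem_univ 1),
      Finset.sum_congr rfl fun b hb => h2 b (Finset.mem_erase.1 hb).1, Finset.sum_const,
      Finset.card_univ, ← Nat.card_eq_fintype_card, Nat.card_zpowers, hD.ord] at hm
    rw [← Finset.add_sum_erase _ _ (Finset.mem_univ 1), ← h1]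
    simp only [OneMemClass.coe_one, nsmul_eq_mul] at hm
    push_cast at hm
    linear_combination -hm
  have hσ0 : ∑ b, σ b = 0 := by
    have := hσ.inner_of_ne isIrrCharacter_one hσ1
    rw [classInner_def, mul_eq_zero, inv_eq_zero] at this
    simpa using this.resolve_left (card_ne_zero _)
  have cX : ∀ {Z : G → ℂ} {c : ℤ}, SIrr Z → Z 1 = c → (∀ b : zpowers a, b ≠ 1 → Z b = -σ b) →
      (n = 2 → c ≡ 1 [ZMOD 4]) ∧ (2 < n → c ≡ n - 1 [ZMOD 2 * n]) := by
    intro Z c hZ h1 h2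
    obtain ⟨m, hm⟩ := hcong (fun b => -σ b) hZ h1 h2
    simp only [Finset.sum_neg_distrib, hσ0, hσ.apply_one_of_comm h.uHyp.commK] at hm
    constructor
    · rintro rfl
      have : (⟨t, hta⟩ : zpowers a) = ⟨a, mem_zpowers a⟩ :=
        Subtype.ext (h.uniq (h.zp_le_H0 (mem_zpowers a)) hD.ord).symm
      rw [this, hσa] at hm
      have : ((4 * m : ℤ) : ℂ) = (c + 3 : ℤ) := by push_cast at hm ⊢; linear_combination hm
      have := Int.cast_injective this
      exact (Int.modEq_iff_dvd.2 ⟨1 - m, by omega⟩)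
    · intro h3
      obtain ⟨k, hk, -⟩ := h.apply_pow hσ ⟨t, hta⟩
      have hk' : Even k := by
        by_contra h4
        have h5 : orderOf (a ^ k) = orderOf a := Nat.Coprime.orderOf_pow (by
          obtain ⟨j, hj⟩ := H17.PElt.of_mem S.2 hD.a_mem
          rw [hj]
          exact Nat.Coprime.pow_left _ (Nat.coprime_two_left.2 (Nat.not_even_iff_odd.1 h4)))
        rw [show a ^ k = t from (congrArg Subtype.val hk).symm, ht, hD.ord] at h5
        omega
      rw [hk, hσk, hk'.neg_one_pow] at hm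
      have : ((2 * n * m : ℤ) : ℂ) = (c + 1 - n : ℤ) := by push_cast at hm ⊢; linear_combination hm
      have := Int.cast_injective this
      exact (Int.modEq_iff_dvd.2 ⟨-m, by linear_combination this⟩)
  obtain ⟨c1, c2⟩ := h.card_invs hσ hσa
  have m₁ : (a₁ : ℂ) ≠ 0 := Int.cast_ne_zero.2 n₁
  refine ⟨A, X, Y, a₁, a₂, a₃, hA, hX, hY, hA0, hX0, hY0, hXA, hYA, hXY, e₁, e₂, e₃,
    fun g hg => ⟨vA g hg, pX g hg, ?_⟩, fun k hk => ?_, fun g hg => ?_, hsum, ?_, ?_,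
    fun h2 => ⟨(cX hX e₂ fun b hb => (hv b hb).1).1 h2, (cX hY e₃ fun b hb => (hv b hb).2).1 h2⟩,
    fun h2 => ⟨(cX hX e₂ fun b hb => (hv b hb).1).2 h2, (cX hY e₃ fun b hb => (hv b hb).2).2 h2, ?_⟩⟩
  · obtain ⟨b, hb, h1⟩ := hK g hg
    rw [pX g hg, pY g hg, hX.classFun.apply_of_isConj h1, hY.classFun.apply_of_isConj h1,
      (hv b hb).1, (hv b hb).2]
  · rw [← hσk]
    exact (hv (⟨a, mem_zpowers a⟩ ^ k) fun h1 => hk (congrArg Subtype.val h1)).1
  · have h1 := congrFun he g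
    rw [DHyp.eta, Pi.sub_apply, h.alpha_pp (h.sub_one hσ), H17.pp_of_reg hg, DHyp.alpha,
      H5.indFun_one_eq, map_one, h.sub_one hσ] at h1
    simp only [Pi.add_apply] at h1
    linear_combination -h1
  · have h1 := h.inner_gam_eq hC hc hσ he
    rw [mul_add, mul_add, hA.card_mul_inner_gam, hX.card_mul_inner_gam, hY.card_mul_inner_gam, c1, c2,
      vAt, (hv ⟨t, hta⟩ t1).1, (hv ⟨t, hta⟩ t1).2, e₁, e₂, e₃, neg_mul_neg, σt] at h1
    have m₂ : (a₂ : ℂ) ≠ 0 := Int.cast_ne_zero.2 n₂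
    have m₃ : (a₃ : ℂ) ≠ 0 := Int.cast_ne_zero.2 n₃
    have h2 : ((1 + a₁ + a₂ + a₃ : ℤ) : ℂ) = 0 := by rw [hsum, Int.cast_zero]
    simp only [map_sub, map_natCast] at h1
    field_simp at h1
    apply Int.cast_injective (α := ℂ)
    subst hi hk₁ hk₂
    push_cast at h1 h2 ⊢
    linear_combination -h1 + ((centralizer ({t} : Set G)).index : ℂ) * h2
  · obtain ⟨m, hm⟩ := hcong (fun _ => 1) hA e₁ fun b hb =>
      hE.common_apply hA hA0 hAe b.2 fun h2 => hb (Subtype.ext h2)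
    rw [Finset.sum_const, Finset.card_univ, ← Nat.card_eq_fintype_card, Nat.card_zpowers,
      hD.ord] at hm
    have : ((2 * n * m : ℤ) : ℂ) = (a₁ - 1 + 2 * n : ℤ) := by
      simp only [nsmul_eq_mul] at hm; push_cast; linear_combination hm
    have := Int.cast_injective this
    exact (Int.modEq_iff_dvd.2 ⟨1 - m, by linear_combination this⟩)
  · obtain ⟨lam, hl, hlr⟩ := h.uHyp.exists_nonreal (by rwa [Nat.card_zpowers, hD.ord])
    have hl1 : lam ≠ fun _ => 1 := by rintro rfl; simp at hlr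
    have hB := sirr_sub_of_norm_two hA (hE.gen hl) (hE.eta_norm_two hl hlr) (hAe lam hl hl1)
    have h1 := h.inner_gam_eq hC hc hl (X := A) (Y := h.eta lam - A) (Z := 0) (by simp)
    have h3 := hB.apply_one_ne_zero
    rw [classInner_zero_left, add_zero, mul_add, hA.card_mul_inner_gam, hB.card_mul_inner_gam,
      h.sum_infl_eq_zero hl hlr, c1] at h1
    simp only [Pi.sub_apply, hE.eta_apply_one hl, hE.eta_apply_t hl, vAt, e₁] at h1 h3
    field_simp at h1
    apply Int.cast_injective (α := ℂ)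
    subst hi hk₁ hk₂
    push_cast at h1 ⊢
    linear_combination h1 + 4 * ((centralizer ({t} : Set G)).index : ℂ) * a₁ * h.uHyp.sq_t hl

end H5
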