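import Mathlib
import Cfsg.Agent.H24.Pin
import Cfsg.Agent.H24.AltMult
import Cfsg.Agent.H6.DoubleCover
import Cfsg.Prelude.Def_SporadicB

/-!
# The pin cover of the symmetric group and uniqueness of the double cover of `Aₙ`
-/

set_option autoImplicit false

namespace H5.Ly

open H24.Pin CliffordAlgebra Equiv Equiv.Perm Subgroup
open scoped commutatorElement

/-- The pin group as a type. -/
abbrev PP (N : ℕ) : Type := ↥(P N)

variable {N : ℕ}

/-- The projection to the symmetric group. -/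
noncomputable def pr : PP N →* Perm (Fin N) := (MonoidHom.snd _ _).comp (P N).subtype

/-- The central involution. -/
noncomputable def zz : PP N := ⟨(-1, 1), neg_one_mem⟩

/-- The lift of a transposition. -/
noncomputable def vv {i j : Fin N} (h : i ≠ j) : PP N := ⟨(v h, swap i j), v_mem h⟩

@[simp] theorem pr_zz : pr (zz : PP N) = 1 := rfl

@[simp] theorem pr_vv {i j : Fin N} (h : i ≠ j) : pr (vv h) = swap i j := rfl

theorem pp_ext {x y : PP N} (h1 : (x.1.1 : CliffordAlgebra (Q N)) = y.1.1) (h2 : pr x = pr y) :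
    x = y := Subtype.ext (Prod.ext (Units.ext h1) h2)

theorem zz_mul_zz : (zz : PP N) * zz = 1 := pp_ext (by simp [zz]) (by simp)

theorem zz_ne : (zz : PP N) ≠ 1 := fun h => neg_one_ne (n := N) (congrArg (fun x : PP N => x.1.1) h)

theorem zz_comm (x : PP N) : zz * x = x * zz := pp_ext (by simp [zz]) (by simp)

theorem pr_eq_one {x : PP N} (h : pr x = 1) : x = 1 ∨ x = zz := by
  obtain ⟨⟨u, σ⟩, hx⟩ := x
  obtain rfl : σ = 1 := h
  rcases ker_cases hx with rfl | rfl
  · exact Or.inl rfl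
  · exact Or.inr rfl

theorem pr_eq {x y : PP N} (h : pr x = pr y) : x = y ∨ x = zz * y := by
  rcases pr_eq_one (x := x * y⁻¹) (by simp [h]) with h1 | h1
  · exact Or.inl (mul_inv_eq_one.1 h1)
  · exact Or.inr (by rw [← h1]; simp)

theorem pr_surj (σ : Perm (Fin N)) : ∃ x : PP N, pr x = σ := by
  obtain ⟨u, hu⟩ := exists_lift σ
  exact ⟨⟨_, hu⟩, rfl⟩

theorem vv_mul_vv {i j : Fin N} (h : i ≠ j) : vv h * vv h = 1 := pp_ext (v_sq h) (by simp)

theorem vv_symm {i j : Fin N} (h : i ≠ j) : vv h.symm = zz * vv h :=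
  pp_ext (by simp [zz, vv, v]) (by simp [swap_comm])

instance : Finite (PP N) := by
  classical
  choose l hl using (pr_surj : ∀ σ : Perm (Fin N), _)
  refine Finite.of_surjective (fun p : Bool × Perm (Fin N) => if p.1 then l p.2 else zz * l p.2) ?_
  intro x
  rcases pr_eq (hl (pr x)).symm with h | h
  · exact ⟨(true, pr x), h.symm⟩
  · exact ⟨(false, pr x), h.symm⟩

theorem involute_eq (x : PP N) :
    involute (x.1.1 : CliffordAlgebra (Q N)) = ((sign (pr x) : ℤ) : CliffordAlgebra (Q N)) * x.1.1 := by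
  generalize hσ : pr x = σ
  induction σ using swap_induction_on generalizing x with
  | one => rcases pr_eq_one hσ with rfl | rfl <;> simp [zz]
  | swap_mul f a b h ih =>
    have h1 := ih (vv h * x) (by rw [map_mul, hσ, pr_vv, ← mul_assoc]; simp)
    have h2 : x = vv h * (vv h * x) := by rw [← mul_assoc, vv_mul_vv, one_mul]
    generalize vv h * x = y at h1 h2
    subst h2
    change involute ((e a - e b) * (y.1.1 : CliffordAlgebra (Q N))) = _ * ((e a - e b) * y.1.1)
    rw [map_mul, h1, map_sub, involute_e, involute_e, Perm.sign_mul, sign_swap h]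
    rcases Int.units_eq_one_or (sign f) with h3 | h3 <;> simp [h3] <;> noncomm_ring

theorem even_vv {x : PP N} (hx : sign (pr x) = 1) {i j : Fin N} (h : i ≠ j) :
    x * vv h = vv ((pr x).injective.ne h) * x := by
  refine pp_ext ?_ (by simp [mul_swap_eq_swap_mul])
  have h1 := x.2.1
  rw [involute_eq, hx] at h1
  change (x.1.1 : CliffordAlgebra (Q N)) * (e i - e j) = (e (x.1.2 i) - e (x.1.2 j)) * x.1.1
  simp only [Units.val_one, Int.cast_one, one_mul] at h1
  rw [mul_sub, sub_mul, h1, h1]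

theorem odd_vv {x : PP N} (hx : sign (pr x) = -1) {i j : Fin N} (h : i ≠ j) :
    x * vv h = zz * (vv ((pr x).injective.ne h) * x) := by
  refine pp_ext ?_ (by simp [mul_swap_eq_swap_mul])
  have h1 := x.2.1
  rw [involute_eq, hx] at h1
  change (x.1.1 : CliffordAlgebra (Q N)) * (e i - e j) =
    -1 * ((e (x.1.2 i) - e (x.1.2 j)) * x.1.1)
  simp only [Units.val_neg, Units.val_one, Int.cast_neg, Int.cast_one, neg_mul, one_mul] at h1
  rw [mul_sub, sub_mul, ← h1, ← h1]
  noncomm_ring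

theorem vv_congr {i j i' j' : Fin N} (h : i ≠ j) (h' : i' ≠ j') (h1 : i = i') (h2 : j = j') :
    vv h = vv h' := by subst h1 h2; rfl

theorem supp_induction {α : Type*} [Fintype α] [DecidableEq α] (S : Set α) {p : Perm α → Prop}
    (h1 : p 1) (hs : ∀ σ a b, a ∈ S → b ∈ S → a ≠ b → p σ → p (swap a b * σ)) (σ : Perm α)
    (hσ : ∀ x, σ x ≠ x → x ∈ S) : p σ := by
  induction h : σ.support.card using Nat.strong_induction_on generalizing σ with
  | _ m ih =>
    by_cases h0 : σ = 1
    · exact h0 ▸ h1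
    obtain ⟨x, hx⟩ : ∃ x, σ x ≠ x := by
      by_contra h2
      exact h0 (Equiv.ext fun x => by simpa using fun h3 => h2 ⟨x, h3⟩)
    have h2 : σ (σ x) ≠ σ x := fun h3 => hx (σ.injective h3)
    have h3 := ih _ (h ▸ card_support_swap_mul hx) (swap x (σ x) * σ) (fun y hy => ?_) rfl
    · have := hs _ x (σ x) (hσ x hx) (hσ _ h2) hx.symm h3
      rwa [← mul_assoc, swap_mul_self, one_mul] at this
    · by_contra h4
      have h5 : σ y = y := by by_contra h5; exact h4 (hσ y h5)
      apply hy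
      rw [mul_apply, h5, swap_apply_of_ne_of_ne]
      · rintro rfl; exact hx h5
      · rintro rfl; exact h2 h5

/-- An even element commutes with every element of disjoint support. -/
theorem comm_of_disjoint {x y : PP N} (hx : sign (pr x) = 1)
    (h : ∀ i, pr y i ≠ i → pr x i = i) : x * y = y * x := by
  refine supp_induction {i | pr x i = i} (p := fun σ => ∀ y : PP N, pr y = σ → x * y = y * x)
    (fun y hy => ?_) (fun σ a b ha hb hab ih y hy => ?_) (pr y) h y rfl
  · rcases pr_eq_one hy with rfl | rfl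
    · simp
    · exact (zz_comm x).symm
  · have h1 := ih (vv hab * y) (by rw [map_mul, hy, pr_vv, ← mul_assoc]; simp)
    have h2 : y = vv hab * (vv hab * y) := by rw [← mul_assoc, vv_mul_vv, one_mul]
    rw [h2, ← mul_assoc, even_vv hx hab, vv_congr _ hab ha hb, mul_assoc, h1]
    simp only [mul_assoc]

/-- The lift of a double transposition squares to the central involution. -/
theorem sq_double {x : PP N} {a b c d : Fin N} (hab : a ≠ b) (hcd : c ≠ d) (hac : a ≠ c)
    (had : a ≠ d) (hbc : b ≠ c) (hbd : b ≠ d) (h : pr x = swap a b * swap c d) : x * x = zz := by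
  have h1 : vv hcd * vv hab = zz * (vv hab * vv hcd) := by
    rw [odd_vv (by simp [hcd]) hab, vv_congr ((pr (vv hcd)).injective.ne hab) hab
      (swap_apply_of_ne_of_ne hac had) (swap_apply_of_ne_of_ne hbc hbd)]
  have h2 : vv hab * vv hcd * (vv hab * vv hcd) = zz := by
    rw [mul_assoc, ← mul_assoc (vv hcd), h1, mul_assoc, mul_assoc, vv_mul_vv, mul_one, zz_comm,
      ← mul_assoc, vv_mul_vv, one_mul]
  rcases pr_eq (x := x) (y := vv hab * vv hcd) (by simp [h]) with h3 | h3
  · rw [h3, h2]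
  · rw [h3]
    generalize vv hab * vv hcd = u at h2
    rw [mul_assoc, ← mul_assoc u, ← zz_comm, mul_assoc, h2, zz_mul_zz, mul_one]

theorem sq_sq_of_pr {x : PP N} (h : pr x * pr x = 1) : x * x * (x * x) = 1 := by
  rcases pr_eq_one (x := x * x) (by simp [h]) with h1 | h1 <;> simp [h1, zz_mul_zz]

/-- An element of order dividing three commutes with whatever its image commutes with. -/
theorem comm_of_cube {x y : PP N} (hx : x ^ 3 = 1) (h : pr x * pr y = pr y * pr x) :
    x * y = y * x := by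
  rcases pr_eq (x := y * x * y⁻¹) (y := x) (by simp [← h]) with h1 | h1
  · rw [← h1]; simp [h1]
    calc x * y = (y * x * y⁻¹) * y := by rw [h1]
      _ = _ := by group
  · have h2 : (y * x * y⁻¹) ^ 3 = 1 := by rw [conj_pow, hx]; simp
    have h3 : Commute zz x := zz_comm x
    rw [h1, h3.mul_pow, hx, pow_succ, pow_two, zz_mul_zz] at h2
    exact absurd (by simpa using h2) zz_ne

theorem exists_cube {σ : Perm (Fin N)} (h : σ ^ 3 = 1) : ∃ x : PP N, pr x = σ ∧ x ^ 3 = 1 := by
  obtain ⟨x, rfl⟩ := pr_surj σ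
  rcases pr_eq_one (x := x ^ 3) (by simp [h]) with h1 | h1
  · exact ⟨x, rfl, h1⟩
  · have h3 : Commute zz x := zz_comm x
    exact ⟨zz * x, by simp, by rw [h3.mul_pow, h1, pow_succ, pow_two, zz_mul_zz, one_mul, zz_mul_zz]⟩

/-- The preimage of the alternating group on the first `n` points. -/
noncomputable def Mn (N n : ℕ) : Subgroup (PP N) where
  carrier := {x | sign (pr x) = 1 ∧ ∀ i : Fin N, n ≤ i.1 → pr x i = i}
  one_mem' := by simp
  mul_mem' := fun {a b} ha hb => ⟨by simp [ha.1, hb.1], fun i hi => by simp [hb.2 i hi, ha.2 i hi]⟩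
  inv_mem' := fun {a} ha => ⟨by simp [ha.1], fun i hi => by
    rw [map_inv, Perm.inv_eq_iff_eq, ha.2 i hi]⟩

theorem zz_mem (n : ℕ) : (zz : PP N) ∈ Mn N n := ⟨by simp, by simp⟩

theorem Mn_mono {n m : ℕ} (h : n ≤ m) : Mn N n ≤ Mn N m :=
  fun _ hx => ⟨hx.1, fun i hi => hx.2 i (h.trans hi)⟩

section unique

variable {A Γ M : Type*} [Group A] [Group Γ] [Group M]

theorem perfect_of_ker (hA : commutator A = ⊤) (π : Γ →* A) (hπ : Function.Surjective π)
    (hk : π.ker ≤ commutator Γ) : commutator Γ = ⊤ := by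
  have h1 : (commutator Γ).map π = ⊤ := by
    rw [map_commutator_eq, MonoidHom.range_eq_top.2 hπ]; exact hA
  rw [← comap_map_eq_self hk, h1, comap_top]

theorem dc_unique [Finite Γ] [Finite M] {n : ℕ} (hn : 8 ≤ n) (π : Γ →* alternatingGroup (Fin n))
    (π' : M →* alternatingGroup (Fin n)) (hπ : Function.Surjective π)
    (hπ' : Function.Surjective π') (hc : π.ker ≤ center Γ) (hc' : π'.ker ≤ center M)
    (hd : π.ker ≤ commutator Γ) (hd' : π'.ker ≤ commutator M) (hk : Nat.card π.ker = 2)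
    (hk' : Nat.card π'.ker = 2) : ∃ θ : M ≃* Γ, ∀ x, π (θ x) = π' x := by
  have hA := commutator_alternatingGroup_eq_top (α := Fin n) (by simp; omega)
  let F : Subgroup (M × Γ) := (π'.comp (MonoidHom.fst _ _)).eqLocus (π.comp (MonoidHom.snd _ _))
  let D : Subgroup (M × Γ) := ⁅F, F⁆
  have hDF : D ≤ F := commutator_le_self F
  have m1 : F.map (MonoidHom.fst _ _) = ⊤ := by
    rw [eq_top_iff]; intro x _
    obtain ⟨g, hg⟩ := hπ (π' x)
    exact ⟨(x, g), hg.symm, rfl⟩
  have m2 : F.map (MonoidHom.snd _ _) = ⊤ := by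
    rw [eq_top_iff]; intro x _
    obtain ⟨g, hg⟩ := hπ' (π x)
    exact ⟨(g, x), hg, rfl⟩
  have d1 : D.map (MonoidHom.fst _ _) = ⊤ := by
    rw [map_commutator, m1]; exact perfect_of_ker hA π' hπ' hd'
  have d2 : D.map (MonoidHom.snd _ _) = ⊤ := by
    rw [map_commutator, m2]; exact perfect_of_ker hA π hπ hd
  let f1 : D →* M := (MonoidHom.fst _ _).comp D.subtype
  let f2 : D →* Γ := (MonoidHom.snd _ _).comp D.subtype
  have s1 : Function.Surjective f1 := fun x => by
    obtain ⟨y, hy, h⟩ := (d1 ▸ mem_top x : x ∈ D.map (MonoidHom.fst _ _))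
    exact ⟨⟨y, hy⟩, h⟩
  have s2 : Function.Surjective f2 := fun x => by
    obtain ⟨y, hy, h⟩ := (d2 ▸ mem_top x : x ∈ D.map (MonoidHom.snd _ _))
    exact ⟨⟨y, hy⟩, h⟩
  have hf : ∀ x : D, π (f2 x) = π' (f1 x) := fun x => (hDF x.2).symm
  let q : D →* alternatingGroup (Fin n) := π'.comp f1
  have hq : Function.Surjective q := hπ'.comp s1
  have cen : ∀ x ∈ F, π' x.1 = 1 → ∀ y, y * x = x * y := fun x hx h y => Prod.ext
    (mem_center_iff.1 (hc' h) y.1)
    (mem_center_iff.1 (hc (show π x.2 = 1 from (show π' x.1 = π x.2 from hx).symm.trans h)) y.2)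
  have hqc : q.ker ≤ center D := fun x hx => mem_center_iff.2 fun y =>
    Subtype.ext (cen x.1 (hDF x.2) hx y.1)
  have dec : ∀ x ∈ F, ∃ d ∈ D, ∃ w, (∀ y, y * w = w * y) ∧ x = d * w := fun x hx => by
    obtain ⟨d, hd⟩ := hq (π' x.1)
    refine ⟨d, d.2, (d : M × Γ)⁻¹ * x, cen _ (mul_mem (inv_mem (hDF d.2)) hx) ?_, by simp⟩
    rw [Prod.fst_mul, map_mul, ← hd, Prod.fst_inv, map_inv]
    exact inv_mul_cancel _
  have hDD : D ≤ ⁅D, D⁆ := commutator_le.2 fun x hx y hy => by
    obtain ⟨d, hd, w, hw, rfl⟩ := dec x hx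
    obtain ⟨d', hd', w', hw', rfl⟩ := dec y hy
    have : ⁅d * w, d' * w'⁆ = ⁅d, d'⁆ := by
      simp only [commutatorElement_def, mul_inv_rev]
      calc d * w * (d' * w') * (w⁻¹ * d⁻¹) * (w'⁻¹ * d'⁻¹)
          = d * (w * (d' * w') * w⁻¹) * d⁻¹ * (w'⁻¹ * d'⁻¹) := by group
        _ = d * d' * (w' * d⁻¹ * w'⁻¹) * d'⁻¹ := by rw [← hw]; group
        _ = _ := by rw [← hw']; group
    rw [this]
    exact commutator_mem_commutator hd hd'
  have hDp : commutator D = ⊤ := by
    apply map_injective D.subtype_injective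
    rw [map_commutator_eq, range_subtype, ← MonoidHom.range_eq_map, range_subtype]
    exact le_antisymm (commutator_le_self D) hDD
  have hZ := H24.AltMult.card_le_two n (by omega) (by omega) (by omega) q.ker hqc
    (hDp ▸ le_top) (QuotientGroup.quotientKerEquivOfSurjective q hq)
  have card : ∀ {B : Type _} [Group B] (p : B →* alternatingGroup (Fin n)), Function.Surjective p →
      Nat.card B = Nat.card p.ker * Nat.card (alternatingGroup (Fin n)) := fun p hp => by
    rw [← p.ker.card_mul_index, index_ker, MonoidHom.range_eq_top.2 hp, card_top]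
  have card' : Nat.card Γ = Nat.card π.ker * Nat.card (alternatingGroup (Fin n)) := by
    rw [← π.ker.card_mul_index, index_ker, MonoidHom.range_eq_top.2 hπ, card_top]
  have card'' : Nat.card M = Nat.card π'.ker * Nat.card (alternatingGroup (Fin n)) := by
    rw [← π'.ker.card_mul_index, index_ker, MonoidHom.range_eq_top.2 hπ', card_top]
  have c0 := card q hq
  have b1 : Function.Bijective f1 := s1.bijective_of_nat_card_le (by
    rw [c0, card'', hk']; exact Nat.mul_le_mul_right _ hZ)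
  have b2 : Function.Bijective f2 := s2.bijective_of_nat_card_le (by
    rw [c0, card', hk]; exact Nat.mul_le_mul_right _ hZ)
  refine ⟨(MulEquiv.ofBijective f1 b1).symm.trans (MulEquiv.ofBijective f2 b2), fun x => ?_⟩
  obtain ⟨d, rfl⟩ := s1 x
  rw [← hf]
  congr 1
  change f2 ((MulEquiv.ofBijective f1 b1).symm (MulEquiv.ofBijective f1 b1 d)) = _
  rw [MulEquiv.symm_apply_apply]

end unique

/-- The first `n` points. -/
def fstEquiv {n : ℕ} (h : n ≤ N) : Fin n ≃ {i : Fin N // i.1 < n} where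
  toFun i := ⟨⟨i.1, by omega⟩, i.2⟩
  invFun i := ⟨i.1.1, i.2⟩
  left_inv _ := rfl
  right_inv _ := rfl

theorem exists_ext {n : ℕ} (h : n ≤ N) {σ : Perm (Fin N)} (hσ : ∀ i : Fin N, n ≤ i.1 → σ i = i) :
    ∃ τ : Perm (Fin n), τ.extendDomain (fstEquiv h) = σ := by
  have h1 : ∀ i : Fin N, (σ i).1 < n ↔ i.1 < n := fun i => by
    constructor
    · intro h2; by_contra h3; rw [hσ i (by omega)] at h2; exact h3 h2
    · intro h2; by_contra h3
      have := σ.injective (hσ (σ i) (by omega)); rw [this] at h3; exact h3 h2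
  refine ⟨(fstEquiv h).symm.permCongr (σ.subtypePerm h1), Equiv.ext fun i => ?_⟩
  by_cases hi : i.1 < n
  · rw [extendDomain_apply_subtype _ (fstEquiv h) hi]; rfl
  · rw [extendDomain_apply_not_subtype _ (fstEquiv h) hi, hσ i (by omega)]

theorem exists_proj {n : ℕ} (h : n ≤ N) : ∃ π : Mn N n →* alternatingGroup (Fin n),
    Function.Surjective π ∧ ∀ x, (π x).1.extendDomain (fstEquiv h) = pr x.1 := by
  choose f hf using fun x : Mn N n => exists_ext h x.2.2
  have inj := extendDomainHom_injective (fstEquiv h)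
  refine ⟨MonoidHom.mk' (fun x => ⟨f x, ?_⟩) fun x y => Subtype.ext (inj ?_), fun σ => ?_, hf⟩
  · rw [mem_alternatingGroup, ← sign_extendDomain _ (fstEquiv h), hf]; exact x.2.1
  · change (f (x * y)).extendDomain _ = (f x * f y).extendDomain _
    rw [← extendDomain_mul, hf, hf, hf]; rfl
  · obtain ⟨x, hx⟩ := pr_surj (σ.1.extendDomain (fstEquiv h))
    refine ⟨⟨x, by rw [hx, sign_extendDomain]; exact σ.2, fun i hi => ?_⟩, Subtype.ext (inj ?_)⟩
    · rw [hx, extendDomain_apply_not_subtype]; simpa using hi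
    · exact (hf _).trans hx

theorem zz_mem_comm {n : ℕ} (h4 : 4 ≤ n) (h : n ≤ N) :
    (⟨zz, zz_mem n⟩ : Mn N n) ∈ commutator (Mn N n) := by
  obtain ⟨a, b, c, d, hab, hac, had, hbc, hbd, hcd, ha, hb, hc, hd⟩ :
      ∃ a b c d : Fin N, a ≠ b ∧ a ≠ c ∧ a ≠ d ∧ b ≠ c ∧ b ≠ d ∧ c ≠ d ∧
        a.1 < n ∧ b.1 < n ∧ c.1 < n ∧ d.1 < n :=
    ⟨⟨0, by omega⟩, ⟨1, by omega⟩, ⟨2, by omega⟩, ⟨3, by omega⟩, by simp, by simp, by simp,
      by simp, by simp, by simp, by simp; omega, by simp; omega, by simp; omega, by simp; omega⟩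
  have hm : ∀ {i j k l : Fin N} (h1 : i ≠ j) (h2 : k ≠ l), i.1 < n → j.1 < n → k.1 < n → l.1 < n →
      vv h1 * vv h2 ∈ Mn N n := fun h1 h2 _ _ _ _ => ⟨by simp [h1, h2], fun m hm => by
        simp only [map_mul, pr_vv, mul_apply, swap_apply_def]; grind⟩
  let x : Mn N n := ⟨_, hm hab hcd ha hb hc hd⟩
  let y : Mn N n := ⟨_, hm hac hbd ha hc hb hd⟩
  have h1 : x.1 * x.1 = zz := sq_double hab hcd hac had hbc hbd rfl
  have h2 : y.1 * y.1 = zz := sq_double hac hbd hab had hbc.symm hcd rfl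
  have h3 : (x.1 * y.1) * (x.1 * y.1) = zz := sq_double had hbc hab hac hbd.symm hcd.symm (by
    ext k
    simp only [x, y, map_mul, pr_vv, mul_apply, swap_apply_def]; grind)
  have : (⟨zz, zz_mem n⟩ : Mn N n) = ⁅x, y⁆ := by
    apply Subtype.ext
    change zz = x.1 * y.1 * x.1⁻¹ * y.1⁻¹
    have hi : ∀ {u : PP N}, u * u = zz → u⁻¹ = zz * u := fun {u} hu => by
      rw [inv_eq_iff_mul_eq_one, ← mul_assoc, ← zz_comm, mul_assoc, hu, zz_mul_zz]
    rw [hi h1, hi h2]
    calc zz = x.1 * y.1 * (zz * zz) * x.1 * y.1 := by rw [zz_mul_zz, ← h3]; group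
      _ = _ := by rw [mul_assoc (x.1 * y.1) (zz * x.1), mul_assoc zz x.1, ← mul_assoc x.1 zz,
        ← zz_comm x.1]; group
  rw [this]
  exact commutator_mem_commutator (mem_top _) (mem_top _)

/-- A non-split double cover of `Aₙ` is the pin cover. -/
theorem exists_theta {Γ : Type*} [Group Γ] [Finite Γ] {n : ℕ} (hn : 8 ≤ n) (h : n ≤ N)
    (hΓ : Cfsg.IsNonsplitDoubleCover Γ (alternatingGroup (Fin n))) {z : Γ} (hz : z ≠ 1)
    (hzc : z ∈ center Γ) : ∃ θ : Mn N n ≃* Γ, θ ⟨zz, zz_mem n⟩ = z := by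
  classical
  obtain ⟨h2, ⟨e⟩, h3⟩ := hΓ
  let π : Γ →* alternatingGroup (Fin n) := e.toMonoidHom.comp (QuotientGroup.mk' _)
  have hπ : Function.Surjective π := e.surjective.comp (QuotientGroup.mk'_surjective _)
  have hk : π.ker = center Γ := by
    ext x; simp [π]
  obtain ⟨z', hz1, hz2⟩ := H6.exists_eq_zpowers_of_card_two h2
  have two : ∀ x ∈ center Γ, x = 1 ∨ x = z' := fun x hx => by
    rw [hz2] at hx
    obtain ⟨k, hk, rfl⟩ := (mem_zpowers_iff_mem_range_orderOf.1 hx |> Finset.mem_image.1)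
    rw [hz1, Finset.mem_range] at hk
    interval_cases k <;> simp
  have hA := commutator_alternatingGroup_eq_top (α := Fin n) (by simp; omega)
  have hd : π.ker ≤ commutator Γ := by
    rw [hk, hz2, zpowers_le]
    by_contra h4
    have h1 : (commutator Γ).map π = ⊤ := by
      rw [map_commutator_eq, MonoidHom.range_eq_top.2 hπ]; exact hA
    refine h3 (commutator Γ) (isComplement'_of_disjoint_and_mul_eq_univ ?_ ?_)
    · rw [disjoint_iff_inf_le]
      intro x hx
      rcases two x hx.1 with rfl | rfl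
      · exact one_mem _
      · exact absurd hx.2 h4
    · rw [Set.eq_univ_iff_forall]
      intro x
      obtain ⟨y, hy, h5⟩ := (h1 ▸ mem_top (π x) : π x ∈ (commutator Γ).map π)
      exact ⟨x * y⁻¹, by rw [SetLike.mem_coe, ← hk]; simp [MonoidHom.mem_ker, h5], y, hy, by simp⟩
  obtain ⟨π', s', h'⟩ := exists_proj h
  have k' : ∀ x : Mn N n, π' x = 1 ↔ x = 1 ∨ x = ⟨zz, zz_mem n⟩ := fun x => by
    constructor
    · intro h1
      have := h' x
      rw [h1] at this
      rcases pr_eq_one (this.symm.trans (extendDomain_one _)) with h2 | h2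
      · exact Or.inl (Subtype.ext h2)
      · exact Or.inr (Subtype.ext h2)
    · rintro (rfl | rfl)
      · simp
      · exact Subtype.ext (extendDomainHom_injective (fstEquiv h) ((h' _).trans (by simp)))
  obtain ⟨θ, hθ⟩ := dc_unique hn π π' hπ s' hk.le (fun x hx => by
      rcases (k' x).1 hx with rfl | rfl
      · exact one_mem _
      · exact mem_center_iff.2 fun y => Subtype.ext (zz_comm y.1).symm) hd
    (fun x hx => by
      rcases (k' x).1 hx with rfl | rfl
      · exact one_mem _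
      · exact zz_mem_comm (by omega) h) (by rw [hk, h2]) (by
      rw [Nat.card_eq_two_iff]
      refine ⟨⟨1, one_mem _⟩, ⟨⟨zz, zz_mem n⟩, (k' _).2 (Or.inr rfl)⟩, fun h1 => zz_ne (N := N) ?_, ?_⟩
      · exact (congrArg (fun x : π'.ker => x.1.1) h1).symm
      · rw [Set.eq_univ_iff_forall]
        rintro ⟨x, hx⟩
        rcases (k' x).1 hx with rfl | rfl <;> simp)
  refine ⟨θ, ?_⟩
  have h5 : θ ⟨zz, zz_mem n⟩ ∈ center Γ := by
    rw [← hk, MonoidHom.mem_ker, hθ]; exact (k' _).2 (Or.inr rfl)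
  rcases two _ h5 with h6 | h6
  · exact absurd (congrArg Subtype.val (θ.map_eq_one_iff.1 h6)) zz_ne
  · rw [h6, (two z hzc).resolve_left hz]

end H5.Ly
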