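import Mathlib
import Cfsg.Agent.H5.LyPin

/-!
# Fusion of the central involution of `2Aₙ`: the degree lies between 8 and 11
-/

set_option autoImplicit false

namespace H5.Ly

open Equiv Equiv.Perm Subgroup

section gen

variable {α : Type*} [DecidableEq α]

theorem sw2_fix {a b c d x : α} (h1 : x ≠ a) (h2 : x ≠ b) (h3 : x ≠ c) (h4 : x ≠ d) :
    (swap a b * swap c d) x = x := by
  rw [mul_apply, swap_apply_of_ne_of_ne h3 h4, swap_apply_of_ne_of_ne h1 h2]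

theorem c3_cube {a b c : α} (hab : a ≠ b) (hac : a ≠ c) (hbc : b ≠ c) :
    (swap a b * swap b c) ^ 3 = 1 := by
  refine Equiv.ext fun x => ?_
  simp only [pow_succ, pow_zero, one_mul, mul_apply, one_apply, swap_apply_def]
  grind

theorem a4_comm {a b c d : α} (hab : a ≠ b) (hac : a ≠ c) (had : a ≠ d) (hbc : b ≠ c)
    (hbd : b ≠ d) (hcd : c ≠ d) : swap a b * swap c d * (swap a b * swap b c) *
      (swap c d * swap a b) * (swap b c * swap a b) = swap a c * swap b d := by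
  refine Equiv.ext fun x => ?_
  by_cases h1 : x = a
  · subst h1; simp [swap_apply_def, *, hab.symm, hac.symm, had.symm, hbc.symm, hbd.symm, hcd.symm]
  by_cases h2 : x = b
  · subst h2; simp [swap_apply_def, *, hab.symm, hac.symm, had.symm, hbc.symm, hbd.symm, hcd.symm]
  by_cases h3 : x = c
  · subst h3; simp [swap_apply_def, *, hab.symm, hac.symm, had.symm, hbc.symm, hbd.symm, hcd.symm]
  by_cases h4 : x = d
  · subst h4; simp [swap_apply_def, *, hab.symm, hac.symm, had.symm, hbc.symm, hbd.symm, hcd.symm]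
  simp [swap_apply_def, *]

theorem sw_cancel {a b c d e f : α} (h1 : c ≠ e) (h2 : c ≠ f) (h3 : d ≠ e) (h4 : d ≠ f) :
    swap a b * swap c d * (swap e f * swap c d) = swap a b * swap e f := by
  rw [mul_assoc, ← mul_assoc (swap c d), mul_swap_eq_swap_mul (swap c d) e f, swap_apply_of_ne_of_ne h1.symm h3.symm,
    swap_apply_of_ne_of_ne h2.symm h4.symm, mul_assoc, swap_mul_self, mul_one]

theorem sub_sq {σ κ : Perm α} (hq : ∀ x, σ (σ x) = x) (h : ∀ x, κ x = x ∨ κ x = σ x) :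
    κ * κ = 1 := by
  refine Equiv.ext fun x => ?_
  have h3 := h x
  have h4 := h (σ x)
  have h5 := hq x
  have h6 := κ.injective.eq_iff (a := x) (b := σ x)
  rw [mul_apply, one_apply]
  grind

theorem sub_sw {σ : Perm α} (hq : ∀ x, σ (σ x) = x) {a c : α} (h1 : c ≠ a) (h2 : c ≠ σ a) (x : α) :
    (swap a (σ a) * swap c (σ c)) x = x ∨ (swap a (σ a) * swap c (σ c)) x = σ x := by
  have := hq x
  have := hq a
  have := hq c
  simp only [mul_apply, swap_apply_def]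
  grind

theorem eq_sw2 {σ : Perm α} (hq : ∀ x, σ (σ x) = x) {a c : α} (h1 : c ≠ a) (h2 : c ≠ σ a)
    (h : ∀ x, σ x ≠ x → x = a ∨ x = σ a ∨ x = c ∨ x = σ c) : σ = swap a (σ a) * swap c (σ c) := by
  refine Equiv.ext fun x => ?_
  have := h x
  have := hq x
  have := hq a
  have := hq c
  simp only [mul_apply, swap_apply_def]
  grind

theorem exists_rho [Fintype α] {τ η : Perm α} (hq : ∀ x, τ (τ x) = x) (hη : ∀ x, η (η x) = τ x)
    {x1 x2 x3 : α} (m1 : τ x1 ≠ x1) (m2 : τ x2 ≠ x2) (m3 : τ x3 ≠ x3)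
    (n2 : x2 ≠ x1 ∧ x2 ≠ η x1 ∧ x2 ≠ τ x1 ∧ x2 ≠ η (τ x1))
    (n3 : (x3 ≠ x1 ∧ x3 ≠ η x1 ∧ x3 ≠ τ x1 ∧ x3 ≠ η (τ x1)) ∧
      x3 ≠ x2 ∧ x3 ≠ η x2 ∧ x3 ≠ τ x2 ∧ x3 ≠ η (τ x2)) :
    ∃ ρ : Perm α, sign ρ = 1 ∧ ρ ^ 3 = 1 ∧ (∀ x, τ x = x → ρ x = x) ∧ ρ * τ = τ * ρ ∧
      (η * ρ * η⁻¹ * ρ⁻¹) ^ 4 ≠ 1 := by
  have q1 := hq x1
  have q2 := hq x2
  have q3 := hq x3
  have d1 : x1 ≠ x2 ∧ x1 ≠ x3 ∧ x2 ≠ x3 ∧ x1 ≠ τ x2 ∧ x1 ≠ τ x3 ∧ x2 ≠ τ x1 ∧
      x2 ≠ τ x3 ∧ x3 ≠ τ x1 ∧ x3 ≠ τ x2 ∧ τ x1 ≠ τ x2 ∧ τ x1 ≠ τ x3 ∧ τ x2 ≠ τ x3 := by grind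
  let ρ : Perm α := swap x1 x2 * swap x2 x3 * (swap (τ x1) (τ x2) * swap (τ x2) (τ x3))
  have r1 : ρ x1 = x2 ∧ ρ x2 = x3 ∧ ρ x3 = x1 ∧ ρ (τ x1) = τ x2 ∧ ρ (τ x2) = τ x3 ∧
      ρ (τ x3) = τ x1 := by
    simp only [ρ, mul_apply, swap_apply_def]; grind
  have r2 : ∀ x, x ≠ x1 → x ≠ x2 → x ≠ x3 → x ≠ τ x1 → x ≠ τ x2 → x ≠ τ x3 → ρ x = x := by
    intro x
    simp only [ρ, mul_apply, swap_apply_def]; grind
  have r3 : sign ρ = 1 := by simp [ρ, d1]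
  generalize ρ = ρ at r1 r2 r3
  refine ⟨ρ, r3, Equiv.ext fun x => ?_, fun x hx => by apply r2 <;> grind,
    Equiv.ext fun x => ?_, fun h4 => ?_⟩
  · simp only [pow_succ, pow_zero, one_mul, mul_apply, one_apply]
    by_cases h : x = x1 ∨ x = x2 ∨ x = x3 ∨ x = τ x1 ∨ x = τ x2 ∨ x = τ x3
    · rcases h with rfl | rfl | rfl | rfl | rfl | rfl <;> simp only [r1]
    · simp only [not_or] at h
      have := r2 x h.1 h.2.1 h.2.2.1 h.2.2.2.1 h.2.2.2.2.1 h.2.2.2.2.2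
      rw [this, this, this]
  · simp only [mul_apply]
    by_cases h : x = x1 ∨ x = x2 ∨ x = x3 ∨ x = τ x1 ∨ x = τ x2 ∨ x = τ x3
    · rcases h with rfl | rfl | rfl | rfl | rfl | rfl <;> simp only [r1, hq]
    · simp only [not_or] at h
      have ne : ∀ u, x ≠ τ u → τ x ≠ u := fun u h1 h2 => h1 (by rw [← h2, hq])
      rw [r2 x h.1 h.2.1 h.2.2.1 h.2.2.2.1 h.2.2.2.2.1 h.2.2.2.2.2,
        r2 _ (ne _ h.2.2.2.1) (ne _ h.2.2.2.2.1) (ne _ h.2.2.2.2.2) (τ.injective.ne h.1)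
          (τ.injective.ne h.2.1) (τ.injective.ne h.2.2.1)]
  have hη' : ∀ x, τ (η x) = η (τ x) := fun x => by rw [← hη, hη x]
  have key : ∀ u v, η (τ u) ≠ u → v ≠ η u → v ≠ η (τ u) →
      η (τ u) ≠ v ∧ η (τ u) ≠ τ v ∧ η (τ v) ≠ u ∧ η (τ v) ≠ τ u := fun u v _ h2 h3 =>
    ⟨h3.symm, fun h => h2 (by rw [← hq v, ← h, hη', hq]),
      fun h => h2 (by rw [← h, hη, hq]), fun h => h3 (by rw [← h, hη, hq])⟩
  have self : ∀ u, τ u ≠ u → η (τ u) ≠ u ∧ η (τ u) ≠ τ u := fun u hu =>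
    ⟨fun h => hu (by
        have h1 : η u = u := by rw [← h, hη, hq, h]
        rw [← hη, h1, h1]), fun h => hu (by
        have h1 : τ (τ u) = τ u := by rw [← hη, h, h]
        exact τ.injective h1)⟩
  have s1 := self x1 m1
  have s2 := self x2 m2
  have s3 := self x3 m3
  have k12 := key x1 x2 s1.1 n2.2.1 n2.2.2.2
  have k13 := key x1 x3 s1.1 n3.1.2.1 n3.1.2.2.2
  have k23 := key x2 x3 s2.1 n3.2.2.1 n3.2.2.2.2
  have fx : ∀ x, ρ (η (τ x)) = η (τ x) → (η * ρ * η⁻¹) x = x := fun x hx => by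
    have h5 : η⁻¹ x = η (τ x) := by rw [Perm.inv_eq_iff_eq, hη, hq]
    rw [mul_apply, mul_apply, h5, hx, hη, hq]
  have f1 := fx x1 (r2 _ s1.1 k12.1 k13.1 s1.2 k12.2.1 k13.2.1)
  have f2 := fx x2 (r2 _ k12.2.2.1 s2.1 k23.1 k12.2.2.2 s2.2 k23.2.1)
  have f3 := fx x3 (r2 _ k13.2.2.1 k23.2.2.1 s3.1 k13.2.2.2 k23.2.2.2 s3.2)
  have k1 : (η * ρ * η⁻¹ * ρ⁻¹) x1 = x3 := by
    rw [mul_apply, show ρ⁻¹ x1 = x3 from Perm.inv_eq_iff_eq.2 r1.2.2.1.symm, f3]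
  have k2 : (η * ρ * η⁻¹ * ρ⁻¹) x2 = x1 := by
    rw [mul_apply, show ρ⁻¹ x2 = x1 from Perm.inv_eq_iff_eq.2 r1.1.symm, f1]
  have k3 : (η * ρ * η⁻¹ * ρ⁻¹) x3 = x2 := by
    rw [mul_apply, show ρ⁻¹ x3 = x2 from Perm.inv_eq_iff_eq.2 r1.2.1.symm, f2]
  generalize η * ρ * η⁻¹ * ρ⁻¹ = κ at *
  have h6 := congrArg (fun f : Perm α => f x1) h4
  simp only [pow_succ, pow_zero, one_mul, mul_apply, one_apply] at h6
  rw [k1, k3, k2, k1] at h6
  exact d1.2.1 h6.symm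

theorem blocks3 {τ y : Perm α} (hq : ∀ x, τ (τ x) = x) (hc : ∀ x, y (τ x) = τ (y x))
    (h3 : ∀ x, y (y (y x)) = x) {a : α} (ha : τ a ≠ a) (ha' : y a ≠ a) :
    τ (y a) ≠ y a ∧ τ (y (y a)) ≠ y (y a) ∧ a ≠ y (y a) ∧ a ≠ τ (y (y a)) ∧
      τ a ≠ y (y a) ∧ y a ≠ y (y a) ∧ y a ≠ τ (y (y a)) ∧ τ (y a) ≠ y (y a) ∧
      τ a ≠ τ (y (y a)) ∧ τ (y a) ≠ τ (y (y a)) := by
  have inj : ∀ a b, y a = y b → a = b := fun a b => y.injective.eq_iff.1
  have e1 := hq a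
  have e2 := hq (y a)
  have e3 := hq (y (y a))
  have e4 := hc a
  have e5 := hc (y a)
  have e6 := hc (y (y a))
  have e7 := h3 a
  have e8 := hc (τ a)
  have i1 := inj a (τ a)
  have i2 := inj (y a) (τ (y a))
  clear hq hc h3 inj
  grind

theorem exists_second [Fintype α] {σ : Perm α} (hs : sign σ = 1) (h2 : ∀ x, σ (σ x) = x) {a : α}
    (ha : σ a ≠ a) : ∃ c, σ c ≠ c ∧ c ≠ a ∧ c ≠ σ a := by
  by_contra h
  have : σ = swap a (σ a) := by
    refine Equiv.ext fun x => ?_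
    have := h2 a
    have : ¬(σ x ≠ x ∧ x ≠ a ∧ x ≠ σ a) := fun h1 => h ⟨x, h1⟩
    rw [swap_apply_def]
    grind
  rw [this, sign_swap ha.symm] at hs
  exact absurd hs (by decide)

end gen

variable {N n : ℕ}

theorem lt_of_moved {s : PP N} (hs : s ∈ Mn N n) {a : Fin N} (h : pr s a ≠ a) : a.1 < n := by
  by_contra h1; exact h (hs.2 a (by omega))

theorem vv_mem {i j k l : Fin N} (h1 : i ≠ j) (h2 : k ≠ l) (hi : i.1 < n) (hj : j.1 < n)
    (hk : k.1 < n) (hl : l.1 < n) : vv h1 * vv h2 ∈ Mn N n := ⟨by simp [h1, h2], fun m hm =>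
  sw2_fix (by rintro rfl; omega) (by rintro rfl; omega) (by rintro rfl; omega) (by rintro rfl; omega)⟩

theorem pr_sq {s : PP N} (h : s * s = 1) (x : Fin N) : pr s (pr s x) = x := by
  rw [← mul_apply, ← map_mul, h]; simp

theorem two_comm {s : PP N} (hs : sign (pr s) = 1) (h2 : s * s = 1) {a c : Fin N}
    (ha : a ≠ pr s a) (hc : c ≠ pr s c) : vv ha * vv hc * s = s * (vv ha * vv hc) := by
  have key : ∀ {a : Fin N} (ha : a ≠ pr s a), s * vv ha = zz * vv ha * s := fun {a} ha => by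
    rw [even_vv hs ha, ← vv_symm ha, vv_congr ((pr s).injective.ne ha) ha.symm rfl (pr_sq h2 a)]
  rw [← mul_assoc, key, mul_assoc _ s, key, ← mul_assoc, mul_assoc zz, ← mul_assoc (vv ha),
    ← zz_comm, ← mul_assoc, ← mul_assoc, zz_mul_zz, one_mul]

theorem p1z {s : PP N} (hs : s ∈ Mn N n) (h2 : s * s = 1) (h1 : pr s ≠ 1) :
    ∃ h ∈ Mn N n, h * s = s * h ∧ h * h = zz ∧
      ∀ r, r * s = s * r → (h * r * h⁻¹ * r⁻¹) ^ 4 = 1 := by
  obtain ⟨a, ha⟩ : ∃ a, pr s a ≠ a := by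
    by_contra h; exact h1 (Equiv.ext fun x => by simpa using fun h3 => h ⟨x, h3⟩)
  have hq := pr_sq h2
  obtain ⟨c, hc, hca, hca'⟩ := exists_second hs.1 hq ha
  have e1 := hq a
  have e2 := hq c
  refine ⟨vv ha.symm * vv hc.symm, vv_mem _ _ (lt_of_moved hs ha)
    (lt_of_moved hs (by rw [e1]; exact ha.symm)) (lt_of_moved hs hc)
    (lt_of_moved hs (by rw [e2]; exact hc.symm)), two_comm hs.1 h2 _ _,
    sq_double ha.symm hc.symm hca.symm (fun h => hca' (by rw [h, e2])) hca'.symm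
      ((pr s).injective.ne hca.symm) rfl, fun r hr => ?_⟩
  have hr' : ∀ x, pr r (pr s x) = pr s (pr r x) := fun x => by
    rw [← mul_apply, ← map_mul, hr, map_mul, mul_apply]
  generalize hh : vv ha.symm * vv hc.symm = h
  have s1 : ∀ x, pr h x = x ∨ pr h x = pr s x := fun x => by
    subst hh
    exact sub_sw hq hca hca' x
  have s2 : ∀ x, pr h⁻¹ x = x ∨ pr h⁻¹ x = pr s x := fun x => by
    have h3 : pr h (pr h⁻¹ x) = x := by simp
    rcases s1 (pr h⁻¹ x) with h4 | h4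
    · exact Or.inl (h4.symm.trans h3)
    · right; rw [← hq (pr h⁻¹ x), ← h4, h3]
  have s3 : ∀ x, pr (h * r * h⁻¹ * r⁻¹) x = x ∨ pr (h * r * h⁻¹ * r⁻¹) x = pr s x := fun x => by
    have h3 : pr r (pr r⁻¹ x) = x := by simp
    simp only [map_mul, mul_apply]
    rcases s2 (pr r⁻¹ x) with h4 | h4 <;> rw [h4]
    · rw [h3]; exact s1 x
    · rw [hr', h3]
      rcases s1 (pr s x) with h5 | h5
      · exact Or.inr h5
      · exact Or.inl (h5.trans (hq x))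
  generalize h * r * h⁻¹ * r⁻¹ = k at s3
  have : pr k * pr k = 1 := sub_sq hq s3
  rw [show (4 : ℕ) = 2 + 2 from rfl, pow_add, pow_two, sq_sq_of_pr this]

theorem p1t {t h : PP N} (ht : t ∈ Mn N n) (h2 : t * t = 1) (hh : h * h = t)
    (H : ∀ r ∈ Mn N n, r * t = t * r → (h * r * h⁻¹ * r⁻¹) ^ 4 = 1) :
    (pr t).support.card ≤ 8 := by
  by_contra hlt
  have hq := pr_sq h2
  have hη : ∀ x, pr h (pr h x) = pr t x := fun x => by rw [← mul_apply, ← map_mul, hh]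
  let O : Fin N → Finset (Fin N) := fun x => {x, pr h x, pr t x, pr h (pr t x)}
  have hO : ∀ x, (O x).card ≤ 4 := fun x => Finset.card_le_four
  obtain ⟨x1, m1, -⟩ := Finset.exists_mem_notMem_of_card_lt_card (s := ∅) (t := (pr t).support)
    (by simp only [Finset.card_empty]; omega)
  obtain ⟨x2, m2, n2⟩ := Finset.exists_mem_notMem_of_card_lt_card (s := O x1) (t := (pr t).support)
    (by have := hO x1; omega)
  obtain ⟨x3, m3, n3⟩ := Finset.exists_mem_notMem_of_card_lt_card (s := O x1 ∪ O x2)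
    (t := (pr t).support)
    (by have := hO x1; have := hO x2; have := Finset.card_union_le (O x1) (O x2); omega)
  simp only [O, Finset.mem_union, Finset.mem_insert, Finset.mem_singleton, not_or] at n2 n3
  rw [mem_support] at m1 m2 m3
  obtain ⟨ρ, r1, r2, r3, r4, r5⟩ := exists_rho hq hη m1 m2 m3 n2 n3
  obtain ⟨r, rfl, hr3⟩ := exists_cube r2
  have h4 := congrArg pr (H r ⟨r1, fun i hi => r3 i (ht.2 i hi)⟩ (comm_of_cube hr3 r4))
  exact r5 (by simpa using h4)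

theorem comm_sq_ne {s y h : PP N} (h1 : pr s ≠ 1) (hy : ∀ x, pr s x ≠ x → pr y x = x)
    (hh : h * s = s * h) : (h * y * h⁻¹ * y⁻¹) * (h * y * h⁻¹ * y⁻¹) ≠ s := by
  obtain ⟨a, ha⟩ : ∃ a, pr s a ≠ a := by
    by_contra h; exact h1 (Equiv.ext fun x => by simpa using fun h3 => h ⟨x, h3⟩)
  have h2 : pr (h * y * h⁻¹ * y⁻¹) a = a := by
    have h3 : pr y⁻¹ a = a := by rw [map_inv, Perm.inv_eq_iff_eq, hy a ha]
    have h4 : pr s (pr h⁻¹ a) ≠ pr h⁻¹ a := fun h5 => ha (by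
      have h6 := congrArg (pr h) h5
      rw [← mul_apply, ← map_mul, hh, map_mul, mul_apply] at h6
      simpa using h6)
    simp only [map_mul, mul_apply]
    rw [h3, hy _ h4]; simp
  intro h3
  apply ha
  rw [← h3, map_mul, mul_apply, h2, h2]

theorem p2s {s : PP N} (hs : s ∈ Mn N n) (h1 : pr s ≠ 1) (hN : n ≤ N)
    (hn : (pr s).support.card + 4 ≤ n) :
    ∃ y ∈ Mn N n, y * s = s * y ∧ y ^ 3 = 1 ∧
      (∃ h ∈ Mn N n, h * s = s * h ∧ (h * y * h⁻¹ * y⁻¹) * (h * y * h⁻¹ * y⁻¹) = zz) ∧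
      ∀ h, h * s = s * h → (h * y * h⁻¹ * y⁻¹) * (h * y * h⁻¹ * y⁻¹) ≠ s := by
  let T : Finset (Fin N) := (Finset.univ.filter fun i : Fin N => i.1 < n) \ (pr s).support
  have hT : 3 < T.card := by
    have h2 := Finset.le_card_sdiff (pr s).support (Finset.univ.filter fun i : Fin N => i.1 < n)
    rw [Fin.card_filter_val_lt, min_eq_right hN] at h2
    exact lt_of_lt_of_le (by omega) h2
  obtain ⟨a, b, c, d, ha, hb, hc, hd, hab, hac, had, hbc, hbd, hcd⟩ := Finset.three_lt_card_iff.1 hT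
  simp only [T, Finset.mem_sdiff, Finset.mem_filter, Finset.mem_univ, true_and, mem_support,
    not_not] at ha hb hc hd
  obtain ⟨y, hy, hy3⟩ := exists_cube (c3_cube hab hac hbc)
  have ne : ∀ {x u : Fin N}, pr s x ≠ x → pr s u = u → x ≠ u := fun h1 h2 h3 => h1 (h3 ▸ h2)
  have fx : ∀ x, pr s x ≠ x → pr y x = x := fun x hx => by
    rw [hy]; exact sw2_fix (ne hx ha.2) (ne hx hb.2) (ne hx hb.2) (ne hx hc.2)
  refine ⟨y, ⟨by simp [hy, hab, hbc], fun i hi => by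
    rw [hy]
    exact sw2_fix (by rintro rfl; omega) (by rintro rfl; omega) (by rintro rfl; omega)
      (by rintro rfl; omega)⟩,
    (comm_of_disjoint (by simp [hy, hab, hbc]) fx), hy3,
    ⟨vv hab * vv hcd, vv_mem _ _ ha.1 hb.1 hc.1 hd.1, comm_of_disjoint (by simp [hab, hcd])
      fun x hx => sw2_fix (ne hx ha.2) (ne hx hb.2) (ne hx hc.2) (ne hx hd.2), ?_⟩,
    fun h hh => comm_sq_ne h1 fx hh⟩
  refine sq_double hac hbd hab had hbc.symm hcd ?_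
  simp only [map_mul, map_inv, hy, pr_vv, mul_inv_rev, swap_inv]
  exact a4_comm hab hac had hbc hbd hcd

theorem p2t {t y h : PP N} (ht : t ∈ Mn N n) (h2 : t * t = 1) (h1 : pr t ≠ 1) (hy : y * t = t * y)
    (hy3 : y ^ 3 = 1) (hh : h * t = t * h) (hs : (h * y * h⁻¹ * y⁻¹) * (h * y * h⁻¹ * y⁻¹) = t) :
    ∃ h ∈ Mn N n, h * t = t * h ∧ (h * y * h⁻¹ * y⁻¹) * (h * y * h⁻¹ * y⁻¹) = zz := by
  obtain ⟨a, ha, ha'⟩ : ∃ a, pr t a ≠ a ∧ pr y a ≠ a := by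
    by_contra h3
    exact comm_sq_ne h1 (fun x hx => by by_contra h4; exact h3 ⟨x, hx, h4⟩) hh hs
  have hq := pr_sq h2
  have hc : ∀ x, pr y (pr t x) = pr t (pr y x) := fun x => by
    rw [← mul_apply, ← map_mul, hy, map_mul, mul_apply]
  have h3 : ∀ x, pr y (pr y (pr y x)) = x := fun x => by
    have := congrArg (fun f => pr f x) hy3
    simpa [pow_succ] using this
  obtain ⟨hb, hb', d1, d2, d3, d4, d5, d6, d7, d8⟩ := blocks3 hq hc h3 ha ha'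
  refine ⟨vv ha.symm * vv hb.symm, vv_mem _ _ (lt_of_moved ht ha)
    (lt_of_moved ht (by rw [hq]; exact ha.symm)) (lt_of_moved ht hb)
    (lt_of_moved ht (by rw [hq]; exact hb.symm)), two_comm ht.1 h2 _ _, ?_⟩
  refine sq_double ha.symm hb'.symm d1 d2 d3 d7 ?_
  rw [← sw_cancel (c := pr y a) (d := pr t (pr y a)) d4 d5 d6 d8, ← hc (pr y a),
    swap_apply_apply (pr y) (pr y a)]
  conv_rhs => rw [mul_assoc _ _ (_ * swap (pr y a) _)]; arg 2; arg 2; arg 2; rw [← hc a, swap_apply_apply (pr y) a]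
  simp only [map_mul, map_inv, pr_vv, mul_inv_rev, swap_inv]
  group

theorem card_supp_eq {t : PP N} (ht : sign (pr t) = 1) (h2 : t * t = 1) (h1 : pr t ≠ 1)
    (h8 : (pr t).support.card ≤ 8) : (pr t).support.card = 8 := by
  have hq := pr_sq h2
  have : Fact (Nat.Prime 2) := ⟨Nat.prime_two⟩
  have ho : orderOf (pr t) = 2 := orderOf_eq_prime (by rw [pow_two, ← map_mul, h2, map_one]) h1
  obtain ⟨k, hk⟩ := cycleType_prime_order (σ := pr t) (ho ▸ Nat.prime_two)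
  have hc := sum_cycleType (pr t)
  have hs := sign_of_cycleType' (pr t)
  rw [hk, ho] at hc hs
  simp only [Multiset.sum_replicate, smul_eq_mul] at hc
  rw [ht, Multiset.map_replicate, Multiset.prod_replicate] at hs
  have hk3 : k ≤ 3 := by omega
  interval_cases k
  · exact absurd hs (by decide)
  · exfalso
    obtain ⟨a, ha⟩ : ∃ a, pr t a ≠ a := by
      by_contra h; exact h1 (Equiv.ext fun x => by simpa using fun h3 => h ⟨x, h3⟩)
    obtain ⟨c, hc', hca, hca'⟩ := exists_second ht hq ha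
    have e1 := hq a
    have e2 := hq c
    have d1 : a ≠ pr t c := fun h => hca' (by rw [h, e2])
    have d2 : pr t a ≠ pr t c := (pr t).injective.ne hca.symm
    have h4 : ({a, pr t a, c, pr t c} : Finset (Fin N)) = (pr t).support := by
      apply Finset.eq_of_subset_of_card_le
      · intro x hx
        simp only [Finset.mem_insert, Finset.mem_singleton] at hx
        rw [mem_support]
        rcases hx with rfl | rfl | rfl | rfl
        exacts [ha, by rw [e1]; exact ha.symm, hc', by rw [e2]; exact hc'.symm]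
      · rw [← hc, Finset.card_insert_of_notMem (by simp [ha.symm, hca.symm, d1]),
          Finset.card_insert_of_notMem (by simp [hca'.symm, d2]), Finset.card_pair hc'.symm]
    refine zz_ne ((sq_double ha.symm hc'.symm hca.symm d1 hca'.symm d2
      (eq_sw2 hq hca hca' fun x hx => ?_)).symm.trans h2)
    rw [← mem_support, ← h4] at hx
    simpa using hx
  · exact absurd hs (by decide)
  · omega

/-- A group with an involution whose centraliser is the double cover of `Aₙ`. -/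
structure Cfg (X : Type*) [Group X] (N n : ℕ) where
  /-- the embedding -/
  ψ : Mn N n →* X
  inj : Function.Injective ψ
  rng : ∀ g, g * ψ ⟨zz, zz_mem n⟩ = ψ ⟨zz, zz_mem n⟩ * g → ∃ x, ψ x = g

namespace Cfg

variable {X : Type*} [Group X] (c : Cfg X N n)

/-- The central involution. -/
noncomputable def z : X := c.ψ ⟨zz, zz_mem n⟩

theorem comm_z (x : Mn N n) : c.ψ x * c.z = c.z * c.ψ x := by
  rw [z, ← map_mul, ← map_mul]; congr 1; exact Subtype.ext (zz_comm _).symm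

theorem transport {g : X} {s t : Mn N n} (h1 : g * c.ψ s * g⁻¹ = c.z) (h2 : g * c.z * g⁻¹ = c.ψ t)
    {h : Mn N n} (hh : h * s = s * h) : ∃ h' : Mn N n, h' * t = t * h' ∧
      c.ψ h' = g * c.ψ h * g⁻¹ := by
  obtain ⟨h', e⟩ := c.rng (g * c.ψ h * g⁻¹) (by
    change _ * c.z = c.z * _
    rw [← h1]
    calc _ = g * c.ψ (h * s) * g⁻¹ := by rw [map_mul]; group
      _ = _ := by rw [hh, map_mul]; group)
  refine ⟨h', c.inj ?_, e⟩
  rw [map_mul, map_mul, e, ← h2]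
  calc _ = g * (c.ψ h * c.z) * g⁻¹ := by group
    _ = _ := by rw [comm_z]; group

theorem z_mul_z : c.z * c.z = 1 := by
  rw [z, ← map_mul, ← map_one c.ψ]; congr 1; exact Subtype.ext zz_mul_zz

theorem z_ne : c.z ≠ 1 := fun h => zz_ne (congrArg Subtype.val (c.inj (h.trans (map_one _).symm)))

theorem conj_facts {g : X} {t : Mn N n} (h2 : g * c.z * g⁻¹ = c.ψ t) (ht : c.ψ t ≠ c.z) :
    t.1 * t.1 = 1 ∧ pr t.1 ≠ 1 := by
  refine ⟨congrArg Subtype.val (c.inj (show c.ψ (t * t) = c.ψ 1 by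
    rw [map_mul, map_one, ← h2]
    calc _ = g * (c.z * c.z) * g⁻¹ := by group
      _ = _ := by rw [z_mul_z]; group)), fun h => ?_⟩
  rcases pr_eq_one h with h3 | h3
  · rw [show t = 1 from Subtype.ext h3, map_one] at h2
    exact c.z_ne (by simpa using h2)
  · exact ht (congrArg c.ψ (Subtype.ext h3))

theorem exists_other {g : X} {t : Mn N n} (h2 : g * c.z * g⁻¹ = c.ψ t) (ht : c.ψ t ≠ c.z) :
    ∃ s, g * c.ψ s * g⁻¹ = c.z ∧ g⁻¹ * c.z * g⁻¹⁻¹ = c.ψ s ∧ c.ψ s ≠ c.z := by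
  obtain ⟨s, hs⟩ := c.rng (g⁻¹ * c.z * g) (by
    change _ * c.z = c.z * _
    calc _ = g⁻¹ * (c.z * (g * c.z * g⁻¹)) * g := by group
      _ = _ := by rw [h2, ← comm_z, ← h2]; group)
  refine ⟨s, by rw [hs]; group, by rw [hs]; group, fun h => ht ?_⟩
  rw [← h2]
  conv_lhs => rw [← h, hs]
  group

theorem supp_eight {g : X} {t : Mn N n} (h2 : g * c.z * g⁻¹ = c.ψ t) (ht : c.ψ t ≠ c.z) :
    (pr t.1).support.card = 8 := by
  obtain ⟨s, h1, h3, hs⟩ := c.exists_other h2 ht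
  obtain ⟨t2, t1⟩ := c.conj_facts h2 ht
  obtain ⟨s2, s1⟩ := c.conj_facts h3 hs
  obtain ⟨h, hm, e1, e2, e3⟩ := p1z s.2 s2 s1
  obtain ⟨h', -, e5⟩ := c.transport h1 h2 (h := ⟨h, hm⟩) (Subtype.ext e1)
  refine card_supp_eq t.2.1 t2 t1 (p1t t.2 t2 (h := h'.1) (congrArg Subtype.val (c.inj
    (show c.ψ (h' * h') = _ by
      rw [map_mul, e5, ← h2, z, show (⟨zz, zz_mem n⟩ : Mn N n) = ⟨h, hm⟩ * ⟨h, hm⟩ from
        Subtype.ext e2.symm, map_mul]; group))) fun r hr e6 => ?_)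
  obtain ⟨r', e7, e8⟩ := c.transport (g := g⁻¹) (s := t) (t := s) (by rw [← h2]; group) h3
    (h := ⟨r, hr⟩) (Subtype.ext e6)
  have e9 := congrArg c.ψ (show ((⟨h, hm⟩ : Mn N n) * r' * (⟨h, hm⟩ : Mn N n)⁻¹ * r'⁻¹) ^ 4 = 1 from
    Subtype.ext (e3 r'.1 (congrArg Subtype.val e7)))
  refine congrArg Subtype.val (c.inj (show c.ψ ((h' * ⟨r, hr⟩ * h'⁻¹ * (⟨r, hr⟩ : Mn N n)⁻¹) ^ 4) =
    c.ψ 1 from ?_))
  simp only [map_pow, map_mul, map_inv, map_one, e5, e8] at e9 ⊢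
  rw [← conj_eq_one_iff (a := g), ← conj_pow] at e9
  rw [← e9]; congr 1; group

theorem deg_le (hN : n ≤ N) {g : X} {t : Mn N n} (h2 : g * c.z * g⁻¹ = c.ψ t) (ht : c.ψ t ≠ c.z) :
    n ≤ 11 := by
  obtain ⟨s, h1, h3, hs⟩ := c.exists_other h2 ht
  obtain ⟨t2, t1⟩ := c.conj_facts h2 ht
  obtain ⟨s2, s1⟩ := c.conj_facts h3 hs
  have h8 := c.supp_eight h3 hs
  by_contra hn
  obtain ⟨y, hy, e1, e2, ⟨h, hh, e3, e4⟩, e5⟩ := p2s s.2 s1 hN (by omega)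
  obtain ⟨y', e6, e7⟩ := c.transport h1 h2 (h := ⟨y, hy⟩) (Subtype.ext e1)
  obtain ⟨h', e8, e9⟩ := c.transport h1 h2 (h := ⟨h, hh⟩) (Subtype.ext e3)
  obtain ⟨k, hk, f1, f2⟩ := p2t (y := y'.1) (h := h'.1) t.2 t2 t1 (congrArg Subtype.val e6)
    (congrArg Subtype.val (c.inj (show c.ψ (y' ^ 3) = c.ψ 1 by
      rw [map_pow, e7, conj_pow, ← map_pow, show (⟨y, hy⟩ : Mn N n) ^ 3 = 1 from Subtype.ext e2]
      simp))) (congrArg Subtype.val e8) (congrArg Subtype.val (c.inj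
    (show c.ψ ((h' * y' * h'⁻¹ * y'⁻¹) * (h' * y' * h'⁻¹ * y'⁻¹)) = _ by
      rw [← h2, z, show (⟨zz, zz_mem n⟩ : Mn N n) = (⟨h, hh⟩ * ⟨y, hy⟩ * (⟨h, hh⟩ : Mn N n)⁻¹ *
        (⟨y, hy⟩ : Mn N n)⁻¹) * (⟨h, hh⟩ * ⟨y, hy⟩ * (⟨h, hh⟩ : Mn N n)⁻¹ *
        (⟨y, hy⟩ : Mn N n)⁻¹) from Subtype.ext e4.symm]
      simp only [map_mul, map_inv, e7, e9]; group)))
  obtain ⟨k', f3, f4⟩ := c.transport (g := g⁻¹) (s := t) (t := s) (by rw [← h2]; group) h3
    (h := ⟨k, hk⟩) (Subtype.ext f1)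
  refine e5 k'.1 (congrArg Subtype.val f3) (congrArg Subtype.val (c.inj
    (show c.ψ ((k' * ⟨y, hy⟩ * k'⁻¹ * (⟨y, hy⟩ : Mn N n)⁻¹) *
      (k' * ⟨y, hy⟩ * k'⁻¹ * (⟨y, hy⟩ : Mn N n)⁻¹)) = _ from ?_)))
  rw [← h3, z, show (⟨zz, zz_mem n⟩ : Mn N n) = (⟨k, hk⟩ * y' * (⟨k, hk⟩ : Mn N n)⁻¹ * y'⁻¹) *
    (⟨k, hk⟩ * y' * (⟨k, hk⟩ : Mn N n)⁻¹ * y'⁻¹) from Subtype.ext f2.symm]
  simp only [map_mul, map_inv, e7, f4]; group

end Cfg

theorem exists_cfg {X : Type*} [Group X] [Finite X] {z : X} (hz : z ≠ 1) (hn : 8 ≤ n) (hN : n ≤ N)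
    (h : Cfsg.IsNonsplitDoubleCover (centralizer ({z} : Set X)) (alternatingGroup (Fin n))) :
    ∃ c : Cfg X N n, c.z = z := by
  have hzm : z ∈ centralizer ({z} : Set X) := mem_centralizer_singleton_iff.2 rfl
  obtain ⟨θ, hθ⟩ := exists_theta hn hN h (z := ⟨z, hzm⟩) (fun h1 => hz (congrArg Subtype.val h1))
    (mem_center_iff.2 fun y => Subtype.ext (mem_centralizer_singleton_iff.1 y.2))
  have e : ((centralizer ({z} : Set X)).subtype.comp θ.toMonoidHom) ⟨zz, zz_mem n⟩ = z :=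
    congrArg Subtype.val hθ
  refine ⟨⟨(centralizer ({z} : Set X)).subtype.comp θ.toMonoidHom,
    Subtype.val_injective.comp θ.injective, fun g hg => ?_⟩, e⟩
  rw [e] at hg
  exact ⟨θ.symm ⟨g, mem_centralizer_singleton_iff.2 hg⟩, by simp⟩

end H5.Ly
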