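import Mathlib
import Cfsg.Agent.H5.LyA
import Cfsg.Agent.H29.Ext

/-!
# Computing in the double cover of `S₁₁`
-/

set_option autoImplicit false

namespace H5.Ly

open Equiv Equiv.Perm H29

/-- The lift of the transposition of two numbered points. -/
noncomputable def V (a b : ℕ) : PP 11 :=
  if h : a < 11 ∧ b < 11 ∧ a ≠ b then
    vv (i := ⟨a, h.1⟩) (j := ⟨b, h.2.1⟩) (fun e => h.2.2 (congrArg Fin.val e)) else 1

/-- If-then-else on booleans. -/
noncomputable def cnd (b : Bool) (x y : ℕ) : ℕ := Bool.rec (motive := fun _ => ℕ) y x b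

theorem cnd_beq (a b x y : ℕ) : cnd (Nat.beq a b) x y = if a = b then x else y := by
  by_cases h : a = b
  · rw [if_pos h, H29.beq_true.2 h]; rfl
  · rw [if_neg h, Bool.eq_false_iff.2 fun h1 => h (H29.beq_true.1 h1)]; rfl

/-- The transposition on numbers. -/
noncomputable def sw (a b j : ℕ) : ℕ := cnd (Nat.beq j a) b (cnd (Nat.beq j b) a j)

theorem sw_eq (a b j : ℕ) : sw a b j = if j = a then b else if j = b then a else j := by
  simp only [sw, cnd_beq]

theorem V_self (a : ℕ) : V a a = 1 := dif_neg (by simp)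

theorem V_mul_V (a b : ℕ) : V a b * V a b = 1 := by
  unfold V; split_ifs
  · exact vv_mul_vv _
  · simp

theorem V_symm {a b : ℕ} (ha : a < 11) (hb : b < 11) (h : a ≠ b) : V b a = zz * V a b := by
  rw [V, V, dif_pos ⟨hb, ha, h.symm⟩, dif_pos ⟨ha, hb, h⟩, ← vv_symm]

theorem pr_V {a b : ℕ} (ha : a < 11) (hb : b < 11) : pr (V a b) = swap ⟨a, ha⟩ ⟨b, hb⟩ := by
  by_cases h : a = b
  · subst h; simp [V_self]; rfl
  · rw [V, dif_pos ⟨ha, hb, h⟩, pr_vv]

theorem pr_V_val {a b : ℕ} (ha : a < 11) (hb : b < 11) (i : Fin 11) :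
    (pr (V a b) i).1 = sw a b i.1 := by
  rw [pr_V ha hb, swap_apply_def, sw_eq]
  simp only [Fin.ext_iff]
  split_ifs <;> rfl

theorem V_V {a b c d : ℕ} (ha : a < 11) (hb : b < 11) (h : a ≠ b) (hc : c < 11) (hd : d < 11)
    (h' : c ≠ d) : V a b * V c d = zz * (V (sw a b c) (sw a b d) * V a b) := by
  have e1 := pr_V_val ha hb ⟨c, hc⟩
  have e2 := pr_V_val ha hb ⟨d, hd⟩
  have h1 : (⟨c, hc⟩ : Fin 11) ≠ ⟨d, hd⟩ := fun e => h' (congrArg Fin.val e)
  have h2 := odd_vv (x := V a b) (by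
    rw [pr_V ha hb, sign_swap fun e => h (congrArg Fin.val e)]) h1
  have h3 : V (sw a b c) (sw a b d) = vv ((pr (V a b)).injective.ne h1) := by
    rw [V, dif_pos ⟨e1 ▸ Fin.isLt _, e2 ▸ Fin.isLt _,
      fun e => (pr (V a b)).injective.ne h1 (Fin.ext (e1.trans (e.trans e2.symm)))⟩]
    exact vv_congr _ _ (Fin.ext e1.symm) (Fin.ext e2.symm)
  rw [h3, ← h2, V, V, dif_pos (⟨hc, hd, h'⟩ : c < 11 ∧ d < 11 ∧ c ≠ d)]

/-- The element with a given code. -/
noncomputable def evA : ℕ → ℕ → PP 11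
  | 0, c => zz ^ c
  | k + 1, c => evA k (c / 16) * V (c % 16) (k + 1)

/-- Valid codes. -/
def Val : ℕ → ℕ → Prop
  | 0, c => c < 2
  | k + 1, c => c % 16 ≤ k + 1 ∧ Val k (c / 16)

/-- Change the sign. -/
def flp (k c s : ℕ) : ℕ := Nat.xor c (Nat.shiftLeft s (Nat.mul 4 k))

theorem zz_pow_two : (zz : PP 11) ^ 2 = 1 := by rw [pow_two, zz_mul_zz]

theorem zz_pow_comm (s : ℕ) (x : PP 11) : x * zz ^ s = zz ^ s * x :=
  ((show Commute zz x from zz_comm x).pow_left s).eq.symm

theorem flp_succ (k c s : ℕ) : flp (k + 1) c s % 16 = c % 16 ∧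
    flp (k + 1) c s / 16 = flp k (c / 16) s := by
  have e : Nat.shiftLeft s (Nat.mul 4 (k + 1)) = 2 ^ 4 * Nat.shiftLeft s (Nat.mul 4 k) := by
    simp only [shl_eq, Nat.shiftLeft_eq, Nat.mul_eq]; ring
  simp only [flp, e, xor_eq]
  rw [show (16 : ℕ) = 2 ^ 4 from rfl, Nat.xor_mod_two_pow, Nat.xor_div_two_pow]
  simp

theorem flp_spec : ∀ (k c s : ℕ), s < 2 → Val k c →
    Val k (flp k c s) ∧ evA k (flp k c s) = zz ^ s * evA k c
  | 0, c, s, hs, hc => by
    change c < 2 at hc
    interval_cases s <;> interval_cases c <;> simp [Val, evA, flp, zz_mul_zz]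
  | k + 1, c, s, hs, hc => by
    obtain ⟨h1, h2⟩ := flp_spec k (c / 16) s hs hc.2
    rw [Val, evA, evA, (flp_succ k c s).1, (flp_succ k c s).2, h2, mul_assoc]
    exact ⟨⟨hc.1, h1⟩, rfl⟩

/-- Push a digit. -/
def psh (j r : ℕ) : ℕ := Nat.add j (Nat.mul 16 r)

theorem psh_spec {k j r : ℕ} (hk : k < 10) (hj : j ≤ k + 1) (hr : Val k r) :
    Val (k + 1) (psh j r) ∧ evA (k + 1) (psh j r) = evA k r * V j (k + 1) := by
  have h1 : psh j r % 16 = j := by simp only [psh, Nat.add_eq, Nat.mul_eq]; omega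
  have h2 : psh j r / 16 = r := by simp only [psh, Nat.add_eq, Nat.mul_eq]; omega
  rw [Val, evA, h1, h2]
  exact ⟨⟨hj, hr⟩, rfl⟩

/-- The step in which the transposition moves the top point. -/
noncomputable def topS (k : ℕ) (ih : ℕ → ℕ → ℕ → ℕ → ℕ) (j c a s : ℕ) : ℕ :=
  cnd (Nat.beq j (Nat.succ k)) (psh a (flp k c s))
    (cnd (Nat.beq j a) (psh (Nat.succ k) (flp k c s)) (psh j (ih a j c (Nat.sub 1 s))))

/-- Multiply a code by the lift of a transposition. -/
noncomputable def mulV (k : ℕ) : ℕ → ℕ → ℕ → ℕ → ℕ :=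
  Nat.rec (motive := fun _ => ℕ → ℕ → ℕ → ℕ → ℕ) (fun _ _ c _ => c) (fun k ih a b c s =>
    lit (Nat.mod c 16) fun j => lit (Nat.div c 16) fun c' => lit s fun s =>
      cnd (Nat.beq b (Nat.succ k)) (topS k ih j c' a s)
        (cnd (Nat.beq a (Nat.succ k)) (topS k ih j c' b (Nat.sub 1 s))
          (cnd (Nat.beq j (Nat.succ k)) (psh j (ih a b c' s))
            (psh (sw a b j) (ih a b c' (Nat.sub 1 s)))))) k

theorem zz_sub {s : ℕ} (hs : s < 2) : (zz : PP 11) ^ (1 - s) = zz ^ s * zz := by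
  interval_cases s <;> simp [zz_mul_zz]

theorem mulV_spec : ∀ (k a b c s : ℕ), k ≤ 10 → a ≠ b → a ≤ k → b ≤ k → s < 2 → Val k c →
    Val k (mulV k a b c s) ∧ evA k (mulV k a b c s) = zz ^ s * evA k c * V a b
  | 0, a, b, _, _, _, h, ha, hb, _, _ => by omega
  | k + 1, a, b, c, s, hk, h, ha, hb, hs, hc => by
    obtain ⟨hj, hc'⟩ := hc
    have top : ∀ a s, a ≤ k → s < 2 → Val (k + 1) (topS k (mulV k) (c % 16) (c / 16) a s) ∧
        evA (k + 1) (topS k (mulV k) (c % 16) (c / 16) a s) =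
          zz ^ s * evA (k + 1) c * V a (k + 1) := fun a s ha hs => by
      obtain ⟨f1, f2⟩ := flp_spec k _ s hs hc'
      rw [topS, cnd_beq, cnd_beq, evA.eq_2 c]
      split_ifs with h1 h2
      · rw [(psh_spec (by omega) (by omega) f1).2, f2, h1, V_self, mul_one]
        exact ⟨(psh_spec (by omega) (by omega) f1).1, rfl⟩
      · rw [(psh_spec (by omega) (by omega) f1).2, f2, h2, V_self, mul_one, mul_assoc, mul_assoc,
          V_mul_V, mul_one]
        exact ⟨(psh_spec (by omega) (by omega) f1).1, rfl⟩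
      · obtain ⟨g1, g2⟩ := mulV_spec k a (c % 16) (c / 16) (1 - s) (by omega) (Ne.symm h2) ha
          (by omega) (by omega) hc'
        refine ⟨(psh_spec (by omega) hj g1).1, ?_⟩
        rw [Nat.sub_eq, (psh_spec (by omega) hj g1).2, g2, zz_sub hs, mul_assoc (zz ^ s) (_ * _),
          mul_assoc (evA _ _) _ (V a _), V_V (a := c % 16) (b := k + 1) (c := a) (d := k + 1)
            (by omega) (by omega) h1 (by omega) (by omega) (by omega), sw_eq, sw_eq, if_neg (Ne.symm h2), if_neg (by omega), if_neg (Ne.symm h1),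
          if_pos rfl]
        simp only [mul_assoc]
        rw [← mul_assoc (evA _ _) zz, ← zz_comm, mul_assoc]
    change Val (k + 1) (cnd _ _ _) ∧ evA (k + 1) (cnd _ _ _) = _
    rw [cnd_beq, cnd_beq, cnd_beq]
    split_ifs with h1 h2 h3
    · rw [h1]; exact top a s (by omega) hs
    · obtain ⟨g1, g2⟩ := top b (1 - s) (by omega) (by omega)
      refine ⟨g1, g2.trans ?_⟩
      rw [h2, V_symm (a := b) (b := k + 1) (by omega) (by omega) h1, zz_sub hs]
      simp only [mul_assoc]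
      rw [← mul_assoc (evA _ _) zz, ← zz_comm, mul_assoc]
    · obtain ⟨g1, g2⟩ := mulV_spec k a b (c / 16) s (by omega) h (by omega) (by omega) hs hc'
      refine ⟨(psh_spec (by omega) hj g1).1, (psh_spec (by omega) hj g1).2.trans ?_⟩
      rw [g2, evA.eq_2 c, show c % 16 = k + 1 from h3, V_self, mul_one, mul_one]
    · obtain ⟨g1, g2⟩ := mulV_spec k a b (c / 16) (1 - s) (by omega) h (by omega) (by omega)
        (by omega) hc'
      have h3' : c % 16 ≠ k + 1 := h3
      have h4 : sw a b (c % 16) ≤ k + 1 := by rw [sw_eq]; split_ifs <;> omega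
      refine ⟨(psh_spec (by omega) h4 g1).1, (psh_spec (by omega) h4 g1).2.trans ?_⟩
      have h5 := V_V (a := a) (b := b) (c := c % 16) (d := k + 1) (by omega) (by omega) h
        (by omega) (by omega) h3'
      rw [sw_eq a b (k + 1), if_neg (Ne.symm h2), if_neg (Ne.symm h1)] at h5
      have h6 : V a b * V (sw a b (c % 16)) (k + 1) = zz * (V (c % 16) (k + 1) * V a b) := by
        calc _ = V a b * (zz * (zz * (V (sw a b (c % 16)) (k + 1) * V a b))) * V a b := by
              rw [← mul_assoc zz, zz_mul_zz, one_mul, mul_assoc, mul_assoc, V_mul_V, mul_one]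
          _ = _ := by
              rw [← h5, ← mul_assoc (V a b), ← zz_comm, mul_assoc zz, ← mul_assoc (V a b), V_mul_V,
                one_mul, mul_assoc]
      rw [g2, evA.eq_2 c, zz_sub hs, mul_assoc _ (V a b), h6]
      simp only [mul_assoc]
      rw [← mul_assoc (evA _ _) zz, ← zz_comm, ← mul_assoc zz, ← mul_assoc zz, zz_mul_zz, one_mul]

/-- Multiply a code by the code `d` of level `k`. -/
noncomputable def mulA (c : ℕ) (k : ℕ) : ℕ → ℕ :=
  Nat.rec (motive := fun _ => ℕ → ℕ) (fun d => flp 10 c d) (fun k ih d =>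
    lit (Nat.mod d 16) fun j => lit (Nat.div d 16) fun d' => lit (ih d') fun r =>
      cnd (Nat.beq j (Nat.succ k)) r (mulV 10 j (Nat.succ k) r 0)) k

theorem mulA_spec {c : ℕ} (hc : Val 10 c) : ∀ (k d : ℕ), k ≤ 10 → Val k d →
    Val 10 (mulA c k d) ∧ evA 10 (mulA c k d) = evA 10 c * evA k d
  | 0, d, _, hd => by
    obtain ⟨h1, h2⟩ := flp_spec 10 c d hd hc
    exact ⟨h1, h2.trans (zz_pow_comm _ _).symm⟩
  | k + 1, d, hk, hd => by
    obtain ⟨g1, g2⟩ := mulA_spec hc k (d / 16) (by omega) hd.2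
    change Val 10 (cnd _ _ _) ∧ evA 10 (cnd _ _ _) = _
    rw [cnd_beq, evA.eq_2 d]
    split_ifs with h1
    · rw [show d % 16 = k + 1 from h1, V_self, mul_one]; exact ⟨g1, g2⟩
    · obtain ⟨f1, f2⟩ := mulV_spec 10 (d % 16) (k + 1) _ 0 le_rfl h1 (hd.1.trans hk) hk two_pos g1
      refine ⟨f1, f2.trans ?_⟩
      rw [pow_zero, one_mul, g2, mul_assoc]

/-- The element of a code. -/
noncomputable def ec (c : ℕ) : PP 11 := evA 10 c

/-- The product of two codes. -/
noncomputable def mul (c d : ℕ) : ℕ := lit c fun c => mulA c 10 d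

theorem mul_val {c d : ℕ} (hc : Val 10 c) (hd : Val 10 d) : Val 10 (mul c d) := by
  rw [mul, lit_eq]; exact (mulA_spec hc 10 d le_rfl hd).1

theorem ec_mul {c d : ℕ} (hc : Val 10 c) (hd : Val 10 d) : ec (mul c d) = ec c * ec d := by
  rw [mul, lit_eq, ec, ec, ec]; exact (mulA_spec hc 10 d le_rfl hd).2

/-- The validity test. -/
noncomputable def valA (k : ℕ) : ℕ → Bool :=
  Nat.rec (motive := fun _ => ℕ → Bool) (fun c => Nat.ble c 1) (fun k ih c =>
    and2 (Nat.ble (Nat.mod c 16) (Nat.succ k)) (lit (Nat.div c 16) ih)) k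

theorem val_of : ∀ (k c : ℕ), valA k c = true → Val k c
  | 0, c, h => Nat.lt_succ_of_le (ble_true.1 h)
  | k + 1, c, h => ⟨ble_true.1 (and2_true.1 h).1, val_of k _ (and2_true.1 h).2⟩

/-- The code of the identity. -/
def c1 : ℕ := 0x123456789a

/-- The code of the central involution. -/
def cz : ℕ := 0x1123456789a

theorem val_c1 : Val 10 c1 := val_of _ _ (by decide +kernel)
theorem val_cz : Val 10 cz := val_of _ _ (by decide +kernel)
theorem ec_c1 : ec c1 = 1 := by simp [ec, evA, c1, V_self]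
theorem ec_cz : ec cz = zz := by simp [ec, evA, cz, V_self]

theorem evA_fix : ∀ (k c : ℕ), k ≤ 10 → Val k c → ∀ i : Fin 11, k < i.1 → pr (evA k c) i = i
  | 0, c, _, _, i, _ => by simp [evA]
  | k + 1, c, hk, hc, i, hi => by
    have h1 := hc.1
    rw [evA, map_mul, mul_apply, show pr (V (c % 16) (k + 1)) i = i from Fin.ext (by
      rw [pr_V_val (by omega) (by omega), sw_eq, if_neg (by omega), if_neg (by omega)]),
      evA_fix k _ (by omega) hc.2 i (by omega)]

theorem evA_inj : ∀ (k c d : ℕ), k ≤ 10 → Val k c → Val k d → evA k c = evA k d → c = d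
  | 0, c, d, _, hc, hd, h => by
    change c < 2 at hc
    change d < 2 at hd
    interval_cases c <;> interval_cases d <;> simp [evA, zz_ne, zz_ne.symm] at h ⊢
  | k + 1, c, d, hk, hc, hd, h => by
    have h1 := hc.1
    have h2 := hd.1
    have key : ∀ c (hc : Val (k + 1) c), pr (evA (k + 1) c) ⟨c % 16, by have := hc.1; omega⟩ =
        ⟨k + 1, by omega⟩ := fun c hc => by
      have := hc.1
      rw [evA, map_mul, mul_apply, pr_V (by omega) (by omega), swap_apply_left,
        evA_fix k _ (by omega) hc.2 _ (by simp)]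
    have h3 : c % 16 = d % 16 := congrArg Fin.val ((pr (evA (k + 1) c)).injective
      ((key c hc).trans (h ▸ key d hd).symm))
    rw [evA, evA, h3, mul_left_inj] at h
    have := evA_inj k _ _ (by omega) hc.2 hd.2 h
    omega

theorem ec_inj {c d : ℕ} (hc : Val 10 c) (hd : Val 10 d) (h : ec c = ec d) : c = d :=
  evA_inj 10 c d le_rfl hc hd h

/-- The image of a point. -/
noncomputable def appA (k : ℕ) : ℕ → ℕ → ℕ :=
  Nat.rec (motive := fun _ => ℕ → ℕ → ℕ) (fun _ i => i) (fun k ih c i =>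
    lit (Nat.div c 16) fun c' => lit (sw (Nat.mod c 16) (Nat.succ k) i) fun i' => ih c' i') k

theorem appA_spec : ∀ (k c : ℕ), k ≤ 10 → Val k c → ∀ i : Fin 11,
    (pr (evA k c) i).1 = appA k c i.1
  | 0, c, _, _, i => by simp [evA]; rfl
  | k + 1, c, hk, hc, i => by
    have h1 := hc.1
    rw [evA, map_mul, mul_apply, appA_spec k _ (by omega) hc.2, pr_V_val (by omega) (by omega)]
    rfl

/-- The parity. -/
noncomputable def parA (k : ℕ) : ℕ → ℕ :=
  Nat.rec (motive := fun _ => ℕ → ℕ) (fun _ => 0) (fun k ih c =>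
    Nat.add (lit (Nat.div c 16) ih) (cnd (Nat.beq (Nat.mod c 16) (Nat.succ k)) 0 1)) k

theorem parA_spec : ∀ (k c : ℕ), k ≤ 10 → Val k c → sign (pr (evA k c)) = (-1) ^ parA k c
  | 0, c, _, _ => by simp [evA]; rfl
  | k + 1, c, hk, hc => by
    have h1 := hc.1
    rw [evA, map_mul, Perm.sign_mul, parA_spec k _ (by omega) hc.2, pr_V (by omega) (by omega)]
    change _ = (-1) ^ (parA k (c / 16) + cnd _ _ _)
    rw [cnd_beq, pow_add]
    split_ifs with h
    · rw [show (⟨c % 16, _⟩ : Fin 11) = ⟨k + 1, by omega⟩ from Fin.ext h]; simp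
    · rw [sign_swap fun e => h (congrArg Fin.val e)]; simp

/-- A valid code of an element of the double cover of `Aₙ`. -/
noncomputable def inM (n c : ℕ) : Bool :=
  and2 (valA 10 c) (and2 (Nat.beq (Nat.mod (parA 10 c) 2) 0)
    (allN 11 fun i => Bool.rec (Nat.beq (appA 10 c i) i) true (Nat.ble (Nat.succ i) n)))

theorem inM_val {n c : ℕ} (h : inM n c = true) : Val 10 c := val_of _ _ (and2_true.1 h).1

theorem inM_mem {n c : ℕ} (h : inM n c = true) : ec c ∈ Mn 11 n := by
  have hv := inM_val h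
  simp only [inM, and2_true, allN_true, H29.beq_true] at h
  refine ⟨?_, fun i hi => Fin.ext ?_⟩
  · rw [ec, parA_spec 10 c le_rfl hv]
    exact Even.neg_one_pow (Nat.even_iff.2 h.2.1)
  · have h1 := h.2.2 i.1 i.2
    rw [show Nat.ble (Nat.succ i.1) n = false from
      Bool.eq_false_iff.2 fun h2 => by have := ble_true.1 h2; omega] at h1
    rw [ec, appA_spec 10 c le_rfl hv i]
    exact H29.beq_true.1 h1

/-- The code of a word in coded letters. -/
noncomputable def evC (lc : List ℕ) (w : List ℕ) : ℕ → ℕ :=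
  List.rec (motive := fun _ => ℕ → ℕ) (fun c => c)
    (fun y _ ih c => lit (mul c (nth c1 lc y)) ih) w

/-- The letters of a list of codes. -/
noncomputable def lE (lc : List ℕ) (y : ℕ) : PP 11 := ec (nth c1 lc y)

theorem val_nth {lc : List ℕ} (h : allL lc (valA 10) = true) (y : ℕ) : Val 10 (nth c1 lc y) :=
  nth_forall val_c1 (fun a ha => val_of _ _ (allL_true.1 h a ha)) y

theorem evC_spec {lc : List ℕ} (h : allL lc (valA 10) = true) : ∀ (w : List ℕ) (c : ℕ), Val 10 c →
    Val 10 (evC lc w c) ∧ ec (evC lc w c) = ec c * ev (lE lc) w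
  | [], c, hc => by
    rw [show evC lc [] c = c from rfl, ev_nil, mul_one]; exact ⟨hc, rfl⟩
  | y :: w, c, hc => by
    obtain ⟨h1, h2⟩ := evC_spec h w _ (mul_val hc (val_nth h y))
    rw [show evC lc (y :: w) c = lit (mul c (nth c1 lc y)) (evC lc w) from rfl, lit_eq]
    refine ⟨h1, h2.trans ?_⟩
    rw [ec_mul hc (val_nth h y), ev_cons, mul_assoc, lE]

theorem ev_lE {lc : List ℕ} (h : allL lc (valA 10) = true) (w : List ℕ) :
    ev (lE lc) w = ec (evC lc w c1) := by
  rw [(evC_spec h w _ val_c1).2, ec_c1, one_mul]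

theorem rels_lE {lc : List ℕ} (h : allL lc (valA 10) = true) {R : List (List ℕ)}
    (hc : (allL R fun w => Nat.beq (evC lc w c1) c1) = true) : ∀ r ∈ R, ev (lE lc) r = 1 :=
  fun r hr => by rw [ev_lE h, H29.beq_true.1 (allL_true.1 hc r hr), ec_c1]

end H5.Ly
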