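import Mathlib
import Cfsg.Agent.H5.LyCode

/-!
# The centraliser of a non-central involution in `2A₁₁`
-/

set_option autoImplicit false
set_option maxRecDepth 100000

namespace H5.Ly

open Equiv Equiv.Perm H29

/-- Some member of a list passes a test. -/
noncomputable def exL {α : Type} (l : List α) (f : α → Bool) : Bool :=
  List.rec (motive := fun _ => Bool) false (fun a _ ih => Bool.rec ih true (f a)) l

theorem exL_true {α : Type} {f : α → Bool} : ∀ {l : List α}, exL l f = true → ∃ a ∈ l, f a = true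
  | [], h => absurd h (by simp [exL])
  | a :: l, h => by
    rw [show exL (a :: l) f = Bool.rec (exL l f) true (f a) from rfl] at h
    cases h1 : f a with
    | true => exact ⟨a, by simp, h1⟩
    | false =>
      rw [h1] at h
      obtain ⟨b, hb, h2⟩ := exL_true (l := l) h
      exact ⟨b, by simp [hb], h2⟩

/-- Implication of booleans. -/
noncomputable def imp (a b : Bool) : Bool := Bool.rec true b a

theorem imp_true {a b : Bool} (h : imp a b = true) (ha : a = true) : b = true := by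
  subst ha; exact h

/-- Disjunction of booleans. -/
noncomputable def or2 (a b : Bool) : Bool := Bool.rec b true a

theorem or2_true {a b : Bool} : or2 a b = true ↔ a = true ∨ b = true := by
  cases a <;> cases b <;> simp [or2]

/-- The codes of the letters `a A c C j k p q z t`. -/
def lc : List ℕ := [0x1101454589a, 0x1123012389a, 0x1110454589a, 0x1123102389a, 0x1022455489a,
  0x23443289a, 0x1123123089a, 0x1123310289a, 0x1123456789a, 0x22446689a]

/-- The code of `t`. -/
def ct : ℕ := 0x22446689a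

/-- The code of `y`. -/
def cy : ℕ := 0x1234567889

theorem lc_val : allL lc (valA 10) = true := by decide +kernel

/-- The letters. -/
noncomputable def l0 : ℕ → PP 11 := lE lc

/-- The element of order three moving the last three points. -/
noncomputable def yy : PP 11 := ec cy

theorem val_ct : Val 10 ct := val_of _ _ (by decide +kernel)
theorem val_cy : Val 10 cy := val_of _ _ (by decide +kernel)

theorem l0_mem (k : ℕ) : l0 k ∈ Mn 11 8 :=
  nth_forall (p := fun c => ec c ∈ Mn 11 8) (ec_c1 ▸ one_mem _)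
    (fun c hc => inM_mem (allL_true.1 (show allL lc (inM 8) = true by decide +kernel) c hc)) k

theorem ev_l0 (w : List ℕ) : ev l0 w = ec (evC lc w c1) := ev_lE lc_val w

theorem val_evC (w : List ℕ) {c : ℕ} (hc : Val 10 c) : Val 10 (evC lc w c) :=
  (evC_spec lc_val w c hc).1

theorem ec_evC (w : List ℕ) {c : ℕ} (hc : Val 10 c) : ec (evC lc w c) = ec c * ev l0 w :=
  (evC_spec lc_val w c hc).2

theorem l0_iv : IvOK l0 (ivOf []) := fun k => by
  have h : ∀ r ∈ (List.range 10).map fun k => [k, k], ev l0 r = 1 :=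
    rels_lE lc_val (by decide +kernel)
  change l0 k = (l0 k)⁻¹
  by_cases hk : k < 10
  · have := h _ (List.mem_map.2 ⟨k, List.mem_range.2 hk, rfl⟩)
    rw [ev_cons, ev_cons, ev_nil, mul_one] at this
    exact eq_inv_of_mul_eq_one_left this
  · rw [l0, lE, nth_default _ (by simp [lc]; omega), ec_c1, inv_one]

theorem beq_of_ec {c d : ℕ} (hc : Val 10 c) (hd : Val 10 d) (h : ec c = ec d) :
    Nat.beq c d = true := H29.beq_true.2 (ec_inj hc hd h)

/-- Even elements commuting with `t` modulo the centre and fixing the points of a list. -/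
def X0 (S : List ℕ) (x : PP 11) : Prop :=
  sign (pr x) = 1 ∧ pr x * pr (ec ct) = pr (ec ct) * pr x ∧ ∀ i : Fin 11, i.1 ∈ S → pr x i = i

/-- One level of the sift. -/
noncomputable def chkLev (S : List ℕ) (p : ℕ) (T : List ℕ) : Bool :=
  and2 (allL T fun w => and2 (inM 11 w) (and2 (allL S fun i => Nat.beq (appA 10 w i) i)
      (allN 11 fun i => Nat.beq (appA 10 w (appA 10 ct i)) (appA 10 ct (appA 10 w i)))))
    (allN 11 fun j => or2 (memL j S) (or2 (exL T fun w => Nat.beq (appA 10 w j) p)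
      (Bool.xor (Nat.beq (appA 10 ct j) j) (Nat.beq (appA 10 ct p) p))))

theorem app_ec {c : ℕ} (hc : Val 10 c) (i : Fin 11) : (pr (ec c) i).1 = appA 10 c i.1 :=
  appA_spec 10 c le_rfl hc i

theorem sift {S T : List ℕ} {p : ℕ} (hp : p < 11) (hS : p ∉ S) (h : chkLev S p T = true) {x : PP 11}
    (hx : X0 S x) : ∃ w ∈ T, Val 10 w ∧ X0 (p :: appA 10 ct p :: S) (x * (ec w)⁻¹) := by
  simp only [chkLev, and2_true, allL_true, allN_true, H29.beq_true, or2_true, memL_true] at h
  obtain ⟨j, hj⟩ := (pr x).surjective ⟨p, hp⟩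
  have hc : ∀ i, pr x (pr (ec ct) i) = pr (ec ct) (pr x i) := fun i => by
    rw [← mul_apply, hx.2.1, mul_apply]
  rcases h.2 j.1 j.2 with h1 | h1 | h1
  · rw [hx.2.2 j h1] at hj
    exact absurd (by rw [hj] at h1; exact h1) hS
  · obtain ⟨w, hw, h2⟩ := exL_true h1
    obtain ⟨h3, h4, h5⟩ := h.1 w hw
    have hv := inM_val h3
    have h6 : pr (ec w) * pr (ec ct) = pr (ec ct) * pr (ec w) := Equiv.ext fun i => Fin.ext (by
      rw [mul_apply, mul_apply, app_ec hv, app_ec val_ct, app_ec val_ct, app_ec hv, h5 i.1 i.2])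
    have h7 : pr (x * (ec w)⁻¹) * pr (ec ct) = pr (ec ct) * pr (x * (ec w)⁻¹) := by
      rw [map_mul, map_inv, mul_assoc, ((show Commute _ _ from h6).inv_left).eq, ← mul_assoc,
        hx.2.1, mul_assoc]
    have h8 : pr (x * (ec w)⁻¹) ⟨p, hp⟩ = ⟨p, hp⟩ := by
      rw [map_mul, map_inv, mul_apply, show (pr (ec w))⁻¹ ⟨p, hp⟩ = j from
        Perm.inv_eq_iff_eq.2 (Fin.ext ((app_ec hv j).trans (H29.beq_true.1 h2)).symm), hj]
    refine ⟨w, hw, hv, by simp [hx.1, (inM_mem h3).1], h7, fun i hi => ?_⟩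
    simp only [List.mem_cons] at hi
    rcases hi with hi | hi | hi
    · rw [show i = ⟨p, hp⟩ from Fin.ext hi, h8]
    · rw [show i = pr (ec ct) ⟨p, hp⟩ from Fin.ext (hi.trans (app_ec val_ct ⟨p, hp⟩).symm),
        ← mul_apply, h7, mul_apply, h8]
    · rw [map_mul, map_inv, mul_apply, show (pr (ec w))⁻¹ i = i from
        Perm.inv_eq_iff_eq.2 (Fin.ext ((app_ec hv i).trans (h4 _ hi)).symm), hx.2.2 i hi]
  · exfalso
    have h2 := hc j
    rw [hj] at h2
    have h3 : pr (ec ct) j = j ↔ pr (ec ct) ⟨p, hp⟩ = ⟨p, hp⟩ := by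
      rw [← h2, ← hj, (pr x).injective.eq_iff]
    rw [Fin.ext_iff, Fin.ext_iff, app_ec val_ct, app_ec val_ct, ← H29.beq_true,
      ← H29.beq_true] at h3
    revert h1 h3
    generalize Nat.beq _ _ = u
    generalize Nat.beq _ _ = v
    cases u <;> cases v <;> simp

/-- Transversals. -/
def TA : List ℕ := [0x1123231089a, 0x1123230189a, 0x1123013289a, 0x1123012389a, 0x1101455489a,
  0x1101454589a, 0x1123446689a, 0x123456789a]
/-- Transversals. -/
def TB : List ℕ := [0x1110106789a, 0x1101016789a, 0x122326788a, 0x23236788a, 0x1023446789a,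
  0x123456789a]
/-- Transversals. -/
def TC : List ℕ := [0x10456788a, 0x1456788a, 0x1022456789a, 0x123456789a]
/-- The bottom of the chain. -/
def L6 : List ℕ := [0x123456789a, 0x1234567889, 0x11234567888, 0x1123456789a, 0x11234567889,
  0x1234567888]

/-- Run through the centraliser of `t`. -/
noncomputable def allK (f : ℕ → Bool) : Bool :=
  allL L6 fun s => allL TC fun u => lit (mul s u) fun s => allL TB fun u => lit (mul s u) fun s =>
    allL TA fun u => lit (mul s u) f

theorem comm_of_chk {c d : ℕ} (hc : Val 10 c) (hd : Val 10 d)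
    (h : Nat.beq (mul c d) (mul d c) = true) : ec c * ec d = ec d * ec c := by
  rw [← ec_mul hc hd, ← ec_mul hd hc, H29.beq_true.1 h]

theorem bottom {x : PP 11} (hx : X0 [3, 2, 5, 4, 7, 6] x) (ht : x * ec ct = ec ct * x) :
    ∃ c ∈ L6, Val 10 c ∧ x = ec c := by
  obtain ⟨u, hu, vu, h1⟩ := sift (p := 1) (T := [0x123456789a, 0x23456788a]) (by decide) (by decide)
    (by decide +kernel) hx
  obtain ⟨w, hw, vw, h2⟩ := sift (p := 10) (T := [0x123456789a, 0x1234567889, 0x11234567888])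
    (by decide) (by decide +kernel) (by decide +kernel) h1
  have h3 : pr (x * (ec u)⁻¹ * (ec w)⁻¹) = 1 := by
    generalize x * (ec u)⁻¹ * (ec w)⁻¹ = v at h2
    by_contra h3
    have h4 : ∀ i : Fin 11, pr v i ≠ i → i = 8 ∨ i = 9 := fun i hi => by
      by_contra h5
      refine hi (h2.2.2 i ?_)
      clear hi
      revert i
      decide +kernel
    have h5 : (pr v).support.card ≤ 2 :=
      (Finset.card_le_card (t := {8, 9}) fun i hi => by simpa using h4 i (mem_support.1 hi)).trans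
        Finset.card_le_two
    have := h2.1
    rw [(card_support_eq_two.1 (le_antisymm h5 (two_le_card_support_of_ne_one h3))).sign_eq] at this
    exact absurd this (by decide)
  have h4 : ∃ s ∈ [c1, cz], Val 10 s ∧ x = ec (mul (mul s w) u) := by
    rcases pr_eq_one h3 with h4 | h4
    · exact ⟨c1, by simp, val_c1, by
        rw [ec_mul (mul_val val_c1 vw) vu, ec_mul val_c1 vw, ec_c1, ← h4]; group⟩
    · exact ⟨cz, by simp, val_cz, by
        rw [ec_mul (mul_val val_cz vw) vu, ec_mul val_cz vw, ec_cz, ← h4]; group⟩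
  obtain ⟨s, hs, vs, rfl⟩ := h4
  have hv := mul_val (mul_val vs vw) vu
  have key : (allL [c1, cz] fun s => allL [0x123456789a, 0x1234567889, 0x11234567888] fun w =>
      allL [0x123456789a, 0x23456788a] fun u => lit (mul (mul s w) u) fun c =>
        imp (Nat.beq (mul c ct) (mul ct c)) (memL c L6)) = true := by decide +kernel
  have h5 := allL_true.1 (allL_true.1 (allL_true.1 key s hs) w hw) u hu
  rw [lit_eq] at h5
  exact ⟨_, memL_true.1 (imp_true h5 (beq_of_ec (mul_val hv val_ct) (mul_val val_ct hv)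
    (by rw [ec_mul hv val_ct, ec_mul val_ct hv, ht]))), hv, rfl⟩

theorem allK_spec {f : ℕ → Bool} (h : allK f = true) {x : PP 11} (hx : sign (pr x) = 1)
    (ht : x * ec ct = ec ct * x) : ∃ c, Val 10 c ∧ x = ec c ∧ f c = true := by
  have key : (allL (TA ++ TB ++ TC) fun w => Nat.beq (mul w ct) (mul ct w)) = true := by
    decide +kernel
  have step : ∀ {x : PP 11} {w : ℕ}, w ∈ TA ++ TB ++ TC → Val 10 w → x * ec ct = ec ct * x →
      x * (ec w)⁻¹ * ec ct = ec ct * (x * (ec w)⁻¹) := fun {x w} hw vw hx => by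
    rw [mul_assoc, ((show Commute _ _ from comm_of_chk vw val_ct
      (allL_true.1 key w hw)).inv_left).eq, ← mul_assoc, hx, mul_assoc]
  obtain ⟨u, hu, vu, h1⟩ := sift (S := []) (p := 7) (T := TA) (by decide) (by decide)
    (by decide +kernel) ⟨hx, by rw [← map_mul, ht, map_mul], by simp⟩
  obtain ⟨v, hv, vv, h2⟩ := sift (p := 5) (T := TB) (by decide) (by decide +kernel)
    (by decide +kernel) h1
  obtain ⟨w, hw, vw, h3⟩ := sift (p := 3) (T := TC) (by decide) (by decide +kernel)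
    (by decide +kernel) h2
  obtain ⟨s, hs, vs, h4⟩ := bottom ⟨h3.1, h3.2.1, fun i hi => h3.2.2 i (by
      revert i; decide +kernel)⟩
    (step (by simp [hw]) vw (step (by simp [hv]) vv (step (by simp [hu]) vu ht)))
  have h5 := allL_true.1 (allL_true.1 h s hs) w hw
  rw [lit_eq] at h5
  have h6 := allL_true.1 h5 v hv
  rw [lit_eq] at h6
  have h7 := allL_true.1 h6 u hu
  rw [lit_eq] at h7
  refine ⟨_, mul_val (mul_val (mul_val vs vw) vv) vu, ?_, h7⟩
  rw [ec_mul (mul_val (mul_val vs vw) vv) vu, ec_mul (mul_val vs vw) vv, ec_mul vs vw, ← h4]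
  group

/-- The code of a word times a power of `y`. -/
noncomputable def cw (w : List ℕ) (e : ℕ) : ℕ :=
  evC lc w (nth c1 [c1, cy, 0x11234567888] e)

theorem yy_comm (k : ℕ) : yy * l0 k = l0 k * yy :=
  (comm_of_disjoint (l0_mem k).1 fun i hi => (l0_mem k).2 i (by
    by_contra h
    refine hi (Fin.ext ((app_ec val_cy i).trans ?_))
    revert i
    decide +kernel)).symm

theorem cw_spec (w : List ℕ) {e : ℕ} (he : e < 3) :
    Val 10 (cw w e) ∧ ec (cw w e) = yy ^ e * ev l0 w := by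
  have h : Val 10 (nth c1 [c1, cy, 0x11234567888] e) ∧
      ec (nth c1 [c1, cy, 0x11234567888] e) = yy ^ e := by
    interval_cases e
    · exact ⟨val_c1, by rw [pow_zero]; exact ec_c1⟩
    · exact ⟨val_cy, by rw [pow_one]; rfl⟩
    · refine ⟨val_of _ _ (by decide +kernel), ?_⟩
      rw [pow_two, yy, ← ec_mul val_cy val_cy]
      exact congrArg ec (by decide +kernel)
  exact ⟨val_evC w h.1, by rw [cw, ec_evC w h.1, h.2]⟩

/-- Membership in a list of words times powers of `y`. -/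
noncomputable def memW (W : List (List ℕ)) (c : ℕ) : Bool :=
  exL W fun w => exL [0, 1, 2] fun e => Nat.beq c (cw w e)

theorem memW_spec {W : List (List ℕ)} {c : ℕ} (h : memW W c = true) :
    ∃ w ∈ W, ∃ e < 3, ec c = yy ^ e * ev l0 w := by
  obtain ⟨w, hw, h1⟩ := exL_true h
  obtain ⟨e, he, h2⟩ := exL_true h1
  have : e < 3 := by simp at he; omega
  exact ⟨w, hw, e, this, by rw [H29.beq_true.1 h2, (cw_spec w this).2]⟩

/-- The powers of `ρ`. -/
def WD : List (List ℕ) := [[], [4, 5], [4, 5, 4, 5]]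
/-- The two four-groups. -/
def WF : List (List ℕ) := [[0], [1], [0, 1], [2], [3], [2, 3]]
/-- The four-group `V`. -/
def WV : List (List ℕ) := [[], [8], [9], [8, 9]]
/-- Representatives of `R / V`. -/
def WR : List (List ℕ) := [[], [0], [1], [0, 1], [2], [0, 2], [1, 2], [0, 1, 2], [3], [0, 3], [1, 3],
  [0, 1, 3], [2, 3], [0, 2, 3], [1, 2, 3], [0, 1, 2, 3]]
/-- The elementary abelian group generated by two letters and `V`. -/
def WE (a b : ℕ) : List (List ℕ) := [[], [a], [b], [a, b], [8], [a, 8], [b, 8], [a, b, 8], [9],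
  [a, 9], [b, 9], [a, b, 9], [8, 9], [a, 8, 9], [b, 8, 9], [a, b, 8, 9]]

theorem l0_nine : l0 9 = ec ct := rfl

theorem cube_chk {c : ℕ} (hc : Val 10 c) (h : ec c ^ 3 = 1) :
    Nat.beq (mul (mul c c) c) c1 = true :=
  beq_of_ec (mul_val (mul_val hc hc) hc) val_c1 (by
    rw [ec_mul (mul_val hc hc) hc, ec_mul hc hc, ec_c1, ← h, pow_succ, pow_two])

theorem comm_chk {c : ℕ} (hc : Val 10 c) {w : List ℕ} (h : ec c * ev l0 w = ev l0 w * ec c) :
    Nat.beq (evC lc w c) (mul (evC lc w c1) c) = true :=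
  beq_of_ec (val_evC w hc) (mul_val (val_evC w val_c1) hc) (by
    rw [ec_evC w hc, ec_mul (val_evC w val_c1) hc, ← ev_l0, h])

theorem K1 {x : PP 11} (hx : sign (pr x) = 1) (ht : x * l0 9 = l0 9 * x) (h3 : x ^ 3 = 1) :
    ∃ w ∈ WR, ∃ u ∈ WD, ∃ e < 3, ev l0 w * x * (ev l0 w)⁻¹ = yy ^ e * ev l0 u := by
  obtain ⟨c, hc, rfl, h⟩ := allK_spec (f := fun c => imp (Nat.beq (mul (mul c c) c) c1)
    (exL WR fun w => lit (evC lc (invW (ivOf []) w) (mul (evC lc w c1) c)) (memW WD)))
    (by decide +kernel) hx ht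
  obtain ⟨w, hw, h1⟩ := exL_true (imp_true h (cube_chk hc h3))
  rw [lit_eq] at h1
  obtain ⟨u, hu, e, he, h2⟩ := memW_spec h1
  refine ⟨w, hw, u, hu, e, he, ?_⟩
  rw [← h2, ec_evC _ (mul_val (val_evC w val_c1) hc), ec_mul (val_evC w val_c1) hc, ← ev_l0,
    ev_invW l0_iv]

theorem K2 {x : PP 11} (hx : sign (pr x) = 1) (ht : x * l0 9 = l0 9 * x) (h2 : x * x = 1)
    (h1 : x ≠ 1) {u : List ℕ} (hu : u ∈ WD) {e : ℕ} (he : e < 3)
    (h3 : (x * (yy ^ e * ev l0 u)) ^ 3 = 1) : u ≠ [] ∧ ∃ w ∈ WF, x = ev l0 w := by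
  obtain ⟨c, hc, rfl, h⟩ := allK_spec (f := fun c => imp (Nat.beq (mul c c) c1)
    (or2 (Nat.beq c c1) (allL WD fun u => allN 3 fun e => lit (mul c (cw u e)) fun d =>
      imp (Nat.beq (mul (mul d d) d) c1) (and2 (Nat.ble 1 u.length)
        (exL WF fun w => Nat.beq c (evC lc w c1)))))) (by decide +kernel) hx ht
  rcases or2_true.1 (imp_true h (beq_of_ec (mul_val hc hc) val_c1
    (by rw [ec_mul hc hc, h2, ec_c1]))) with h4 | h4
  · exact absurd (by rw [H29.beq_true.1 h4, ec_c1]) h1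
  · have h5 := allN_true.1 (allL_true.1 h4 u hu) e he
    rw [lit_eq] at h5
    obtain ⟨h6, h7⟩ := and2_true.1 (imp_true h5 (cube_chk (mul_val hc (cw_spec u he).1)
      (by rw [ec_mul hc (cw_spec u he).1, (cw_spec u he).2, h3])))
    obtain ⟨w, hw, h8⟩ := exL_true h7
    exact ⟨by rintro rfl; exact absurd h6 (by decide), w, hw, by rw [ev_l0, ← H29.beq_true.1 h8]⟩

theorem K3 {x : PP 11} (hx : sign (pr x) = 1) (ht : x * l0 9 = l0 9 * x) (h3 : x ^ 3 = 1)
    {w : List ℕ} (hw : w ∈ WF) (h : x * ev l0 w = ev l0 w * x) : ∃ e < 3, x = yy ^ e := by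
  obtain ⟨c, hc, rfl, h1⟩ := allK_spec (f := fun c => imp (Nat.beq (mul (mul c c) c) c1)
    (allL WF fun w => imp (Nat.beq (evC lc w c) (mul (evC lc w c1) c)) (memW [[]] c)))
    (by decide +kernel) hx ht
  obtain ⟨u, hu, e, he, h2⟩ := memW_spec (imp_true (allL_true.1 (imp_true h1 (cube_chk hc h3)) w hw)
    (comm_chk hc h))
  rw [List.mem_singleton.1 hu, ev_nil, mul_one] at h2
  exact ⟨e, he, h2⟩

theorem K4 {x : PP 11} (hx : sign (pr x) = 1) (ht : x * l0 9 = l0 9 * x) :
    (x * l0 0 = l0 0 * x → x * l0 1 = l0 1 * x → (∃ w ∈ WE 0 1, ∃ e < 3, x = yy ^ e * ev l0 w) ∧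
      (x * l0 2 = l0 2 * x → x * l0 3 = l0 3 * x → ∃ w ∈ WV, ∃ e < 3, x = yy ^ e * ev l0 w)) ∧
    (x * l0 2 = l0 2 * x → x * l0 3 = l0 3 * x → ∃ w ∈ WE 2 3, ∃ e < 3, x = yy ^ e * ev l0 w) := by
  obtain ⟨c, hc, rfl, h1⟩ := allK_spec (f := fun c =>
    and2 (imp (Nat.beq (evC lc [0] c) (mul (evC lc [0] c1) c))
      (imp (Nat.beq (evC lc [1] c) (mul (evC lc [1] c1) c)) (and2 (memW (WE 0 1) c)
        (imp (Nat.beq (evC lc [2] c) (mul (evC lc [2] c1) c))
          (imp (Nat.beq (evC lc [3] c) (mul (evC lc [3] c1) c)) (memW WV c))))))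
      (imp (Nat.beq (evC lc [2] c) (mul (evC lc [2] c1) c))
        (imp (Nat.beq (evC lc [3] c) (mul (evC lc [3] c1) c)) (memW (WE 2 3) c))))
    (by decide +kernel) hx ht
  have k : ∀ {j : ℕ}, ec c * l0 j = l0 j * ec c →
      Nat.beq (evC lc [j] c) (mul (evC lc [j] c1) c) = true := fun h => comm_chk hc (by simpa using h)
  obtain ⟨h2, h3⟩ := and2_true.1 h1
  refine ⟨fun a b => ?_, fun a b => memW_spec (imp_true (imp_true h3 (k a)) (k b))⟩
  obtain ⟨h4, h5⟩ := and2_true.1 (imp_true (imp_true h2 (k a)) (k b))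
  exact ⟨memW_spec h4, fun a b => memW_spec (imp_true (imp_true h5 (k a)) (k b))⟩

theorem conj_t {n : ℕ} (h8 : 8 ≤ n) (hn : n ≤ 11) {s : PP 11} (hs : s ∈ Mn 11 n) (h2 : s * s = 1)
    (hc : (pr s).support.card = 8) : ∃ x ∈ Mn 11 n, x * s * x⁻¹ = l0 9 := by
  have : Fact (Nat.Prime 2) := ⟨Nat.prime_two⟩
  have ct : ∀ s : PP 11, s * s = 1 → (pr s).support.card = 8 →
      (pr s).cycleType = Multiset.replicate 4 2 := fun s h2 hc => by
    have ho : orderOf (pr s) = 2 := orderOf_eq_prime (by rw [pow_two, ← map_mul, h2, map_one])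
      (fun h => by simp [h] at hc)
    obtain ⟨k, hk⟩ := cycleType_prime_order (σ := pr s) (ho ▸ Nat.prime_two)
    have h3 := sum_cycleType (pr s)
    rw [hk, ho, hc] at h3
    simp only [Multiset.sum_replicate, smul_eq_mul] at h3
    rw [hk, ho, show k + 1 = 4 by omega]
  have t2 : l0 9 * l0 9 = 1 := by
    have := l0_iv 9
    nth_rw 1 [show l0 9 = (l0 9)⁻¹ from this]; simp
  have t8 : (pr (l0 9)).support.card = 8 := by
    rw [show (pr (l0 9)).support = {0, 1, 2, 3, 4, 5, 6, 7} from Finset.ext fun i => by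
      rw [mem_support, Ne, Fin.ext_iff, l0_nine, app_ec val_ct]
      revert i
      decide +kernel]
    rfl
  obtain ⟨σ, hσ⟩ := exists_ext hn hs.2
  obtain ⟨τ, hτ⟩ := exists_ext hn (Mn_mono h8 (l0_mem 9)).2
  obtain ⟨γ, hγ⟩ := isConj_iff.1 (isConj_of_cycleType_eq (σ := σ) (τ := τ) (by
    rw [← cycleType_extendDomain (fstEquiv hn), ← cycleType_extendDomain (fstEquiv hn) (g := τ),
      hσ, hτ, ct s h2 hc, ct _ t2 t8]))
  obtain ⟨x, hx⟩ := pr_surj (γ.extendDomain (fstEquiv hn))
  have e1 : pr (x * s * x⁻¹) = pr (l0 9) := by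
    rw [map_mul, map_mul, map_inv, hx, ← hσ, ← hτ, ← hγ, ← extendDomain_mul, ← extendDomain_mul,
      extendDomain_inv]
  have e2 : ∀ i : Fin 11, n ≤ i.1 → pr x i = i := fun i hi => by
    rw [hx, extendDomain_apply_not_subtype]; simpa using hi
  obtain ⟨x, hx, e1⟩ : ∃ x ∈ Mn 11 n, pr (x * s * x⁻¹) = pr (l0 9) := by
    rcases Int.units_eq_one_or (sign (pr x)) with h | h
    · exact ⟨x, ⟨h, e2⟩, e1⟩
    · refine ⟨V 0 1 * x, ⟨?_, fun i hi => ?_⟩, ?_⟩
      · rw [map_mul, Perm.sign_mul, h, pr_V (by decide) (by decide), sign_swap (by decide)]; simp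
      · rw [map_mul, mul_apply, e2 i hi, pr_V (by decide) (by decide), swap_apply_of_ne_of_ne] <;>
          · rintro rfl; simp at hi; omega
      · rw [show V 0 1 * x * s * (V 0 1 * x)⁻¹ = V 0 1 * (x * s * x⁻¹) * (V 0 1)⁻¹ by group, map_mul,
          map_mul, e1, map_inv, mul_inv_eq_iff_eq_mul]
        refine Equiv.ext fun i => Fin.ext ?_
        rw [mul_apply, mul_apply, pr_V_val (by decide) (by decide), l0_nine, app_ec val_ct,
          app_ec val_ct, pr_V_val (by decide) (by decide)]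
        revert i
        decide +kernel
  rcases pr_eq e1 with h | h
  · exact ⟨x, hx, h⟩
  · refine ⟨l0 4 * x, mul_mem (Mn_mono h8 (l0_mem 4)) hx, ?_⟩
    have : ev l0 [4, 8, 9] = ev l0 [9, 4] := by
      rw [ev_l0, ev_l0]; exact congrArg ec (by decide +kernel)
    simp only [ev_cons, ev_nil, mul_one, show l0 8 = zz from ec_cz] at this
    rw [show l0 4 * x * s * (l0 4 * x)⁻¹ = l0 4 * (x * s * x⁻¹) * (l0 4)⁻¹ by group, h, this]
    group

end H5.Ly
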