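import Mathlib
import Cfsg.Agent.H5.LyK

/-!
# The element `b` normalising a four-group
-/

set_option autoImplicit false
set_option maxRecDepth 100000

namespace H5.Ly

open Equiv Equiv.Perm H29

/-- The configuration with `8 ≤ n ≤ 11`. -/
structure Cf (X : Type*) [Group X] (n : ℕ) extends Cfg X 11 n where
  h8 : 8 ≤ n
  h11 : n ≤ 11

namespace Cf

variable {X : Type*} [Group X] {n : ℕ} (c : Cf X n)

open Classical in
/-- The embedding, extended by `1`. -/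
noncomputable def lf (x : PP 11) : X := if h : x ∈ Mn 11 n then c.ψ ⟨x, h⟩ else 1

theorem lf_eq {x : PP 11} (h : x ∈ Mn 11 n) : c.lf x = c.ψ ⟨x, h⟩ := dif_pos h

theorem lf_not {x : PP 11} (h : x ∉ Mn 11 n) : c.lf x = 1 := dif_neg h

theorem lf_mul {x y : PP 11} (hx : x ∈ Mn 11 n) (hy : y ∈ Mn 11 n) :
    c.lf (x * y) = c.lf x * c.lf y := by
  rw [c.lf_eq hx, c.lf_eq hy, c.lf_eq (mul_mem hx hy), ← map_mul]; rfl

theorem lf_one : c.lf 1 = 1 := by rw [c.lf_eq (one_mem _)]; exact map_one _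

theorem lf_inv {x : PP 11} (hx : x ∈ Mn 11 n) : c.lf x⁻¹ = (c.lf x)⁻¹ := by
  rw [c.lf_eq hx, c.lf_eq (inv_mem hx), ← map_inv]; rfl

theorem lf_pow {x : PP 11} (hx : x ∈ Mn 11 n) (k : ℕ) : c.lf (x ^ k) = c.lf x ^ k := by
  rw [c.lf_eq hx, c.lf_eq (pow_mem hx k), ← map_pow]; rfl

theorem lf_inj {x y : PP 11} (hx : x ∈ Mn 11 n) (hy : y ∈ Mn 11 n) (h : c.lf x = c.lf y) :
    x = y := by
  rw [c.lf_eq hx, c.lf_eq hy] at h
  exact congrArg Subtype.val (c.inj h)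

/-- The letters. -/
noncomputable def g (k : ℕ) : X := c.lf (l0 k)

/-- The element of order three (or `1`). -/
noncomputable def Y : X := c.lf yy

include c in
theorem mem0 (k : ℕ) : l0 k ∈ Mn 11 n := Mn_mono c.h8 (l0_mem k)

include c in
theorem mem_ev (w : List ℕ) : ev l0 w ∈ Mn 11 n := ev_mem fun k _ => c.mem0 k

theorem ev_g : ∀ w : List ℕ, ev c.g w = c.lf (ev l0 w)
  | [] => by simp [lf_one]
  | k :: w => by rw [ev_cons, ev_cons, c.lf_mul (c.mem0 k) (c.mem_ev w), ev_g w, g]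

theorem eqw (u v : List ℕ) (h : evC lc u c1 = evC lc v c1) : ev c.g u = ev c.g v := by
  rw [ev_g, ev_g, ev_l0, ev_l0, h]

theorem new (u v : List ℕ) (h : evC lc u c1 ≠ evC lc v c1) : ev c.g u ≠ ev c.g v := fun h1 => by
  rw [ev_g, ev_g] at h1
  have := c.lf_inj (c.mem_ev u) (c.mem_ev v) h1
  rw [ev_l0, ev_l0] at this
  exact h (ec_inj (val_evC _ val_c1) (val_evC _ val_c1) this)

theorem g_iv : IvOK c.g (ivOf []) := fun k => by
  change c.g k = (c.g k)⁻¹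
  rw [g, ← c.lf_inv (c.mem0 k)]
  exact congrArg c.lf (l0_iv k)

theorem g_inv (k : ℕ) : (c.g k)⁻¹ = c.g k := (c.g_iv k).symm

theorem g_mul_self (k : ℕ) : c.g k * c.g k = 1 := by
  nth_rw 1 [← c.g_inv k]; simp

theorem g_mul_self' (k : ℕ) (x : X) : c.g k * (c.g k * x) = x := by
  rw [← mul_assoc, g_mul_self, one_mul]

theorem g_eight : c.g 8 = c.z := by
  rw [g, show l0 8 = zz from ec_cz, c.lf_eq (zz_mem n)]; rfl

theorem yy_cube : yy ^ 3 = 1 := by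
  rw [pow_succ, pow_two, yy, ← ec_mul val_cy val_cy, ← ec_mul (mul_val val_cy val_cy) val_cy,
    ← ec_c1]
  exact congrArg ec (by decide +kernel)

theorem Y_cube : c.Y ^ 3 = 1 := by
  by_cases h : yy ∈ Mn 11 n
  · rw [Y, ← c.lf_pow h, yy_cube, lf_one]
  · rw [Y, c.lf_not h, one_pow]

theorem Y_comm (k : ℕ) : c.Y * c.g k = c.g k * c.Y := by
  by_cases h : yy ∈ Mn 11 n
  · rw [Y, g, ← c.lf_mul h (c.mem0 k), ← c.lf_mul (c.mem0 k) h, yy_comm]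
  · rw [Y, c.lf_not h, one_mul, mul_one]

theorem Y_comm_ev (w : List ℕ) : Commute c.Y (ev c.g w) := by
  induction w with
  | nil => simp
  | cons k w ih => rw [ev_cons]; exact Commute.mul_right (c.Y_comm k) ih

theorem lf_ye {x : PP 11} (hx : x ∈ Mn 11 n) {e : ℕ} (he : e < 3) {w : List ℕ}
    (h : x = yy ^ e * ev l0 w) : c.lf x = c.Y ^ e * ev c.g w := by
  have h1 : yy ^ e ∈ Mn 11 n := by
    have := mul_mem hx (inv_mem (c.mem_ev w))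
    rwa [h, mul_inv_cancel_right] at this
  rw [h, c.lf_mul h1 (c.mem_ev w), ev_g]
  congr 1
  interval_cases e
  · simp [lf_one]
  · simp [Y]
  · have h2 : yy ∈ Mn 11 n := by
      have := pow_mem h1 2
      rwa [← pow_mul, show 2 * 2 = 3 + 1 from rfl, pow_add, yy_cube, one_mul, pow_one] at this
    rw [c.lf_pow h2, Y]

theorem exists_ye (e : ℕ) (he : e < 3) (w : List ℕ) : ∃ e' < 3, yy ^ e' * ev l0 w ∈ Mn 11 n ∧
    c.Y ^ e * ev c.g w = c.lf (yy ^ e' * ev l0 w) := by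
  by_cases h : yy ∈ Mn 11 n
  · exact ⟨e, he, mul_mem (pow_mem h e) (c.mem_ev w),
      (c.lf_ye (mul_mem (pow_mem h e) (c.mem_ev w)) he rfl).symm⟩
  · exact ⟨0, by norm_num, by simpa using c.mem_ev w, by simp [Y, c.lf_not h, ev_g]⟩

theorem cen1 {x : X} (h1 : x * c.g 8 = c.g 8 * x) : ∃ u ∈ Mn 11 n, x = c.lf u := by
  rw [g_eight] at h1
  obtain ⟨u, rfl⟩ := c.rng x h1
  exact ⟨u.1, u.2, (c.lf_eq u.2).symm⟩

theorem comm_lf {u v : PP 11} (hu : u ∈ Mn 11 n) (hv : v ∈ Mn 11 n)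
    (h : c.lf u * c.lf v = c.lf v * c.lf u) : u * v = v * u :=
  c.lf_inj (mul_mem hu hv) (mul_mem hv hu) (by rw [c.lf_mul hu hv, c.lf_mul hv hu, h])

theorem pow_lf {u : PP 11} (hu : u ∈ Mn 11 n) {k : ℕ} (h : c.lf u ^ k = 1) : u ^ k = 1 :=
  c.lf_inj (pow_mem hu k) (one_mem _) (by rw [c.lf_pow hu, h, lf_one])

/-- Centralising the four-group. -/
def CV (x : X) : Prop := x * c.g 8 = c.g 8 * x ∧ x * c.g 9 = c.g 9 * x

variable {c}

theorem XK1 {x : X} (h : c.CV x) (h3 : x ^ 3 = 1) :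
    ∃ w ∈ WR, ∃ u ∈ WD, ∃ e < 3, ev c.g w * x * (ev c.g w)⁻¹ = c.Y ^ e * ev c.g u := by
  obtain ⟨v, hv, rfl⟩ := c.cen1 h.1
  obtain ⟨w, hw, u, hu, e, he, h4⟩ := K1 hv.1 (c.comm_lf hv (c.mem0 9) h.2) (c.pow_lf hv h3)
  refine ⟨w, hw, u, hu, e, he, ?_⟩
  have m := c.mem_ev w
  rw [← c.lf_ye (mul_mem (mul_mem m hv) (inv_mem m)) he h4, c.lf_mul (mul_mem m hv) (inv_mem m),
    c.lf_mul m hv, c.lf_inv m, ev_g]

theorem XK2 {x : X} (h : c.CV x) (h2 : x * x = 1) (h1 : x ≠ 1) {u : List ℕ} (hu : u ∈ WD) {e : ℕ}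
    (he : e < 3) (h3 : (x * (c.Y ^ e * ev c.g u)) ^ 3 = 1) : u ≠ [] ∧ ∃ w ∈ WF, x = ev c.g w := by
  obtain ⟨v, hv, rfl⟩ := c.cen1 h.1
  obtain ⟨e', he', m, h4⟩ := c.exists_ye e he u
  rw [h4, ← c.lf_mul hv m] at h3
  obtain ⟨h5, w, hw, h6⟩ := K2 hv.1 (c.comm_lf hv (c.mem0 9) h.2)
    (by rw [← pow_two]; exact c.pow_lf hv (by rw [pow_two, h2]))
    (by rintro rfl; exact h1 c.lf_one) hu he' (c.pow_lf (mul_mem hv m) h3)
  exact ⟨h5, w, hw, by rw [h6, ev_g]⟩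

theorem XK3 {x : X} (h : c.CV x) (h3 : x ^ 3 = 1) {w : List ℕ} (hw : w ∈ WF)
    (h4 : x * ev c.g w = ev c.g w * x) : ∃ e < 3, x = c.Y ^ e := by
  obtain ⟨v, hv, rfl⟩ := c.cen1 h.1
  rw [ev_g] at h4
  obtain ⟨e, he, h5⟩ := K3 hv.1 (c.comm_lf hv (c.mem0 9) h.2) (c.pow_lf hv h3) hw
    (c.comm_lf hv (c.mem_ev w) h4)
  exact ⟨e, he, by simpa using c.lf_ye hv he (w := []) (by simpa using h5)⟩

theorem XK4 {x : X} (h : c.CV x) :
    (x * c.g 0 = c.g 0 * x → x * c.g 1 = c.g 1 * x →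
      (∃ w ∈ WE 0 1, ∃ e < 3, x = c.Y ^ e * ev c.g w) ∧
      (x * c.g 2 = c.g 2 * x → x * c.g 3 = c.g 3 * x → ∃ w ∈ WV, ∃ e < 3, x = c.Y ^ e * ev c.g w)) ∧
    (x * c.g 2 = c.g 2 * x → x * c.g 3 = c.g 3 * x →
      ∃ w ∈ WE 2 3, ∃ e < 3, x = c.Y ^ e * ev c.g w) := by
  obtain ⟨v, hv, rfl⟩ := c.cen1 h.1
  have k : ∀ {j : ℕ}, c.lf v * c.g j = c.g j * c.lf v → v * l0 j = l0 j * v := fun h =>
    c.comm_lf hv (c.mem0 _) h
  have m : ∀ {W : List (List ℕ)}, (∃ w ∈ W, ∃ e < 3, v = yy ^ e * ev l0 w) →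
      ∃ w ∈ W, ∃ e < 3, c.lf v = c.Y ^ e * ev c.g w :=
    fun ⟨w, hw, e, he, h⟩ => ⟨w, hw, e, he, c.lf_ye hv he h⟩
  obtain ⟨h1, h2⟩ := K4 hv.1 (k h.2)
  exact ⟨fun a b => ⟨m (h1 (k a) (k b)).1, fun a' b' => m ((h1 (k a) (k b)).2 (k a') (k b'))⟩,
    fun a b => m (h2 (k a) (k b))⟩

variable (c)

/-- An element permuting the involutions of the four-group cyclically. -/
def Np (σ : X) : Prop := σ * c.g 8 * σ⁻¹ = c.g 9 ∧ σ * c.g 9 * σ⁻¹ = c.g 8 * c.g 9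

theorem conj_t' {x : X} (hx : x * c.z * x⁻¹ * c.z = c.z * (x * c.z * x⁻¹))
    (h : x * c.z * x⁻¹ ≠ c.z) : ∃ u, u * c.z = c.z * u ∧ u * (x * c.z * x⁻¹) * u⁻¹ = c.g 9 := by
  obtain ⟨t, ht⟩ := c.rng _ hx
  obtain ⟨u, hu, h1⟩ := conj_t c.h8 c.h11 t.2 (c.conj_facts ht.symm (ht ▸ h)).1
    (c.supp_eight ht.symm (ht ▸ h))
  refine ⟨c.lf u, by rw [c.lf_eq hu]; exact c.comm_z _, ?_⟩
  rw [← ht, ← c.lf_eq t.2, g, ← h1, c.lf_mul (mul_mem hu t.2) (inv_mem hu), c.lf_mul hu t.2,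
    c.lf_inv hu]

theorem z_t : c.g 8 * c.g 9 = c.g 9 * c.g 8 := by
  simpa using c.eqw [8, 9] [9, 8] (by decide +kernel)

theorem exists_np {x : X} (hx : x * c.z * x⁻¹ * c.z = c.z * (x * c.z * x⁻¹))
    (h : x * c.z * x⁻¹ ≠ c.z) : ∃ σ, c.Np σ := by
  obtain ⟨u, h1, h2⟩ := c.conj_t' hx h
  have h3 : u * x * c.z * (u * x)⁻¹ = c.g 9 := by rw [← h2]; group
  generalize u * x = x at h3
  have zt := c.z_t
  rw [g_eight] at zt
  obtain ⟨v, h4, h5⟩ := c.conj_t' (x := x⁻¹) (by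
      calc _ = x⁻¹ * (c.z * (x * c.z * x⁻¹)) * x := by group
        _ = _ := by rw [h3, zt, ← h3]; group) (fun h4 => by
      refine c.new [9] [8] (by decide +kernel) ?_
      simp only [ev_cons, ev_nil, mul_one, g_eight]
      rw [← h3]; conv_lhs => rw [← h4]
      group)
  have j1 : c.g 4 * c.g 9 * c.g 4 = c.z * c.g 9 := by
    simpa [g_eight, mul_assoc] using c.eqw [4, 9, 4] [8, 9] (by decide +kernel)
  have j2 : c.g 4 * c.z * c.g 4 = c.z := by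
    simpa [g_eight, mul_assoc] using c.eqw [4, 8, 4] [8] (by decide +kernel)
  have e1 : x * v⁻¹ * c.g 4 * c.z * (x * v⁻¹ * c.g 4)⁻¹ = c.g 9 := by
    calc _ = x * v⁻¹ * (c.g 4 * c.z * (c.g 4)⁻¹) * v * x⁻¹ := by group
      _ = x * (v⁻¹ * (c.z * v)) * x⁻¹ := by rw [g_inv, j2]; group
      _ = _ := by rw [← h4, ← h3]; group
  have e2 : x * v⁻¹ * c.g 4 * (c.z * c.g 9) * (x * v⁻¹ * c.g 4)⁻¹ = c.z := by
    rw [← j1]
    calc _ = x * v⁻¹ * (c.g 4 * c.g 4) * c.g 9 * v * x⁻¹ := by group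
      _ = _ := by rw [g_mul_self, ← h5]; group
  refine ⟨x * v⁻¹ * c.g 4, by rw [g_eight, e1], ?_⟩
  generalize x * v⁻¹ * c.g 4 = σ at e1 e2
  rw [g_eight, zt]
  calc _ = σ * (c.z * c.z) * c.g 9 * σ⁻¹ := by rw [c.z_mul_z]; group
    _ = (σ * c.z * σ⁻¹) * (σ * (c.z * c.g 9) * σ⁻¹) := by group
    _ = _ := by rw [e1, e2]

variable {c}

theorem CV.mul {x y : X} (hx : c.CV x) (hy : c.CV y) : c.CV (x * y) :=
  ⟨Commute.mul_left hx.1 hy.1, Commute.mul_left hx.2 hy.2⟩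

theorem CV.inv {x : X} (hx : c.CV x) : c.CV x⁻¹ :=
  ⟨Commute.inv_left hx.1, Commute.inv_left hx.2⟩

theorem CV.pow {x : X} (hx : c.CV x) (k : ℕ) : c.CV (x ^ k) :=
  ⟨Commute.pow_left hx.1 k, Commute.pow_left hx.2 k⟩

theorem cv_Y : c.CV c.Y := ⟨c.Y_comm 8, c.Y_comm 9⟩

theorem cv_ev {w : List ℕ} (h : evC lc (w ++ [8]) c1 = evC lc (8 :: w) c1 ∧
    evC lc (w ++ [9]) c1 = evC lc (9 :: w) c1) : c.CV (ev c.g w) :=
  ⟨by simpa using c.eqw _ _ h.1, by simpa using c.eqw _ _ h.2⟩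

theorem Np.conj {σ x : X} (h : c.Np σ) (hx : c.CV x) : c.CV (σ * x * σ⁻¹) := by
  have h1 : σ * x * σ⁻¹ * c.g 9 = c.g 9 * (σ * x * σ⁻¹) := by
    rw [← h.1]
    calc _ = σ * (x * c.g 8) * σ⁻¹ := by group
      _ = _ := by rw [hx.1]; group
  have h2 : σ * x * σ⁻¹ * (c.g 8 * c.g 9) = c.g 8 * c.g 9 * (σ * x * σ⁻¹) := by
    rw [← h.2]
    calc _ = σ * (x * c.g 9) * σ⁻¹ := by group
      _ = _ := by rw [hx.2]; group
  refine ⟨mul_right_cancel (b := c.g 9) ?_, h1⟩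
  rw [mul_assoc, h2, mul_assoc, ← h1]
  simp only [mul_assoc]

theorem Np.mul_left {σ x : X} (h : c.Np σ) (hx : c.CV x) : c.Np (x * σ) := by
  constructor
  · calc _ = x * (σ * c.g 8 * σ⁻¹) * x⁻¹ := by group
      _ = _ := by rw [h.1, hx.2]; group
  · calc _ = x * (σ * c.g 9 * σ⁻¹) * x⁻¹ := by group
      _ = _ := by rw [h.2, ← mul_assoc, hx.1, mul_assoc _ x, hx.2]; group

theorem Np.four {σ : X} (h : c.Np σ) : c.Np (σ * σ * σ * σ) := by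
  have h3 : σ * (c.g 8 * c.g 9) * σ⁻¹ = c.g 8 := by
    calc _ = (σ * c.g 8 * σ⁻¹) * (σ * c.g 9 * σ⁻¹) := by group
      _ = _ := by rw [h.1, h.2, c.z_t, g_mul_self']
  constructor
  · calc _ = σ * (σ * (σ * (σ * c.g 8 * σ⁻¹) * σ⁻¹) * σ⁻¹) * σ⁻¹ := by group
      _ = _ := by rw [h.1, h.2, h3, h.1]
  · calc _ = σ * (σ * (σ * (σ * c.g 9 * σ⁻¹) * σ⁻¹) * σ⁻¹) * σ⁻¹ := by group
      _ = _ := by rw [h.2, h3, h.1, h.2]

theorem cv_WR : ∀ w ∈ WR, c.CV (ev c.g w) := fun w hw => cv_ev (by revert w; decide +kernel)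

theorem cv_WD : ∀ w ∈ WD, c.CV (ev c.g w) := fun w hw => cv_ev (by revert w; decide +kernel)

theorem cv_WF : ∀ w ∈ WF, c.CV (ev c.g w) := fun w hw => cv_ev (by revert w; decide +kernel)

theorem rho_cube : ev c.g [4, 5] ^ 3 = 1 := by
  rw [← ev_powW]; exact c.eqw _ [] (by decide +kernel)

theorem Np.image {σ : X} (h : c.Np σ) {u : List ℕ} (hu : u ∈ WD) {e : ℕ} (he : e < 3)
    (hρ : σ * ev c.g [4, 5] * σ⁻¹ = c.Y ^ e * ev c.g u) {w : List ℕ} (hw : w ∈ WF) :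
    u ≠ [] ∧ ∃ w' ∈ WF, σ * ev c.g w * σ⁻¹ = ev c.g w' := by
  have key : ∀ w ∈ WF, evC lc (w ++ w) c1 = evC lc [] c1 ∧ evC lc w c1 ≠ evC lc [] c1 ∧
      evC lc (powW 3 (w ++ [4, 5])) c1 = evC lc [] c1 := by decide +kernel
  obtain ⟨k1, k2, k3⟩ := key w hw
  have k1 := c.eqw _ _ k1
  have k2 := c.new _ _ k2
  have k3 := c.eqw _ _ k3
  rw [ev_powW] at k3
  simp only [ev_append, ev_nil] at k1 k2 k3
  refine XK2 (h.conj (cv_WF w hw)) (by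
      calc _ = σ * (ev c.g w * ev c.g w) * σ⁻¹ := by group
        _ = _ := by rw [k1]; group) (fun h1 => k2 (by simpa using h1)) hu he ?_
  rw [← hρ, show σ * ev c.g w * σ⁻¹ * (σ * ev c.g [4, 5] * σ⁻¹) =
    σ * (ev c.g w * ev c.g [4, 5]) * σ⁻¹ by group, conj_pow, k3]
  group

theorem step1 {σ : X} (h : c.Np σ) : ∃ σ, c.Np σ ∧ (∃ e < 3, σ * c.Y * σ⁻¹ = c.Y ^ e) ∧
    ∃ u ∈ WD, u ≠ [] ∧ ∃ e < 3, σ * ev c.g [4, 5] * σ⁻¹ = c.Y ^ e * ev c.g u := by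
  obtain ⟨w, hw, u, hu, e, he, h1⟩ := XK1 (h.conj (cv_WD [4, 5] (by decide)))
    (by rw [conj_pow, rho_cube]; group)
  have h2 := h.mul_left (cv_WR w hw)
  have h3 : ev c.g w * σ * ev c.g [4, 5] * (ev c.g w * σ)⁻¹ = c.Y ^ e * ev c.g u := by
    rw [← h1]; group
  generalize ev c.g w * σ = σ at h2 h3
  obtain ⟨h4, w', hw', h5⟩ := h2.image hu he h3 (w := [0]) (by decide)
  refine ⟨σ, h2, XK3 (h2.conj cv_Y) (by rw [conj_pow, Y_cube]; group) hw' ?_, u, hu, h4, e, he, h3⟩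
  rw [← h5]
  calc _ = σ * (c.Y * ev c.g [0]) * σ⁻¹ := by group
    _ = _ := by rw [(c.Y_comm_ev [0]).eq]; group

theorem step2 {σ : X} (h : c.Np σ) : ∃ σ, c.Np σ ∧ σ * c.Y * σ⁻¹ = c.Y ∧
    ∃ e < 3, σ * ev c.g [4, 5] * σ⁻¹ = c.Y ^ e * ev c.g [4, 5] := by
  obtain ⟨σ, h1, ⟨d, hd, h2⟩, u, hu, hu', e, he, h3⟩ := step1 h
  have h4 : σ * σ * c.Y * (σ * σ)⁻¹ = c.Y := by
    have : σ * σ * c.Y * (σ * σ)⁻¹ = c.Y ^ (d * d) := by
      calc _ = σ * (σ * c.Y * σ⁻¹) * σ⁻¹ := by group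
        _ = _ := by rw [h2, ← conj_pow, h2, pow_mul]
    rw [this]
    interval_cases d
    · have : c.Y = 1 := by simpa using h2
      simp [this]
    · simp
    · rw [show 2 * 2 = 3 + 1 from rfl, pow_add, Y_cube]; simp
  generalize hρ : ev c.g [4, 5] = ρ at *
  have hc : Commute c.Y ρ := hρ ▸ c.Y_comm_ev _
  have h5 : ∃ f, σ * σ * ρ * (σ * σ)⁻¹ = c.Y ^ f * ρ := by
    have e1 : σ * σ * ρ * (σ * σ)⁻¹ = c.Y ^ (d * e) * (σ * ev c.g u * σ⁻¹) := by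
      calc _ = σ * (σ * ρ * σ⁻¹) * σ⁻¹ := by group
        _ = (σ * c.Y ^ e * σ⁻¹) * (σ * ev c.g u * σ⁻¹) := by rw [h3]; group
        _ = _ := by rw [← conj_pow, h2, pow_mul]
    simp only [WD, List.mem_cons, List.not_mem_nil, or_false] at hu
    rcases hu with rfl | rfl | rfl
    · exact absurd rfl hu'
    · exact ⟨d * e + e, by rw [e1, hρ, h3, hρ, pow_add, mul_assoc]⟩
    · have e2 : ev c.g [4, 5, 4, 5] = ρ ^ 2 := by rw [← hρ, pow_two, ← ev_append]; rfl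
      refine ⟨d * e + e * 2, ?_⟩
      rw [e1, e2, ← conj_pow, h3, e2, ((hc.pow_pow e 2).mul_pow 2), ← pow_mul, ← pow_mul,
        show 2 * 2 = 3 + 1 from rfl, pow_add ρ, ← hρ, rho_cube, pow_add, mul_assoc]
      simp
  obtain ⟨f, h5⟩ := h5
  refine ⟨σ * σ * σ * σ, h1.four, ?_, (f + f) % 3, Nat.mod_lt _ (by norm_num), ?_⟩
  · calc _ = σ * σ * (σ * σ * c.Y * (σ * σ)⁻¹) * (σ * σ)⁻¹ := by group
      _ = _ := by rw [h4, h4]
  · calc _ = σ * σ * (σ * σ * ρ * (σ * σ)⁻¹) * (σ * σ)⁻¹ := by group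
      _ = σ * σ * (c.Y ^ f * ρ) * (σ * σ)⁻¹ := by rw [h5]
      _ = (σ * σ * c.Y ^ f * (σ * σ)⁻¹) * (σ * σ * ρ * (σ * σ)⁻¹) := by group
      _ = _ := by rw [← conj_pow, h4, h5, ← mul_assoc, ← pow_add, pow_eq_pow_mod _ c.Y_cube]

theorem step3 {σ : X} (h : c.Np σ) : ∃ σ, c.Np σ ∧ σ * c.Y * σ⁻¹ = c.Y ∧
    (∃ e < 3, σ * ev c.g [4, 5] * σ⁻¹ = c.Y ^ e * ev c.g [4, 5]) ∧
    σ * c.g 0 * σ⁻¹ = c.g 0 ∧ σ * c.g 2 * σ⁻¹ = c.g 3 := by
  obtain ⟨σ, h1, h2, e, he, h3⟩ := step2 h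
  obtain ⟨-, u, hu, h4⟩ := h1.image (by decide) he h3 (w := [0]) (by decide)
  obtain ⟨-, v, hv, h5⟩ := h1.image (by decide) he h3 (w := [2]) (by decide)
  simp only [ev_cons, ev_nil, mul_one] at h4 h5
  have e1 : ev c.g (u ++ v ++ u ++ v) = ev c.g [9] := by
    have := c.eqw [0, 2, 0, 2] [8] (by decide +kernel)
    simp only [ev_append, ev_cons, ev_nil, mul_one] at this ⊢
    rw [← h4, ← h5, ← h1.1, ← this]; group
  have e2 : ev c.g (u ++ ([4, 5] ++ v ++ [5, 4]) ++ u ++ ([4, 5] ++ v ++ [5, 4])) =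
      ev c.g [8, 9] := by
    have := c.eqw [0, 4, 5, 2, 5, 4, 0, 4, 5, 2, 5, 4] [9] (by decide +kernel)
    have e3 : ev c.g ([4, 5] ++ v ++ [5, 4]) = σ * ev c.g [4, 5, 2, 5, 4] * σ⁻¹ := by
      have e4 : ev c.g [5, 4] = (ev c.g [4, 5])⁻¹ := by simp [g_inv]
      rw [show [4, 5, 2, 5, 4] = [4, 5] ++ [2] ++ [5, 4] from rfl, ev_append, ev_append, ev_append,
        ev_append, e4]
      calc _ = c.Y ^ e * (ev c.g [4, 5] * ev c.g v * (ev c.g [4, 5])⁻¹) * (c.Y ^ e)⁻¹ := by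
            rw [← e4, ← ev_append, ← ev_append, ((c.Y_comm_ev _).pow_left e).eq]; group
        _ = (c.Y ^ e * ev c.g [4, 5]) * ev c.g v * (c.Y ^ e * ev c.g [4, 5])⁻¹ := by group
        _ = _ := by rw [← h3, ← h5]; simp only [ev_cons, ev_nil, mul_one]; group
    rw [ev_append, ev_append, ev_append, e3, ← h4]
    simp only [ev_cons, ev_nil, mul_one] at this ⊢
    rw [← h1.2, ← this]; group
  have key : ∀ u ∈ WF, ∀ v ∈ WF, evC lc (u ++ v ++ u ++ v) c1 = evC lc [9] c1 →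
      evC lc (u ++ ([4, 5] ++ v ++ [5, 4]) ++ u ++ ([4, 5] ++ v ++ [5, 4])) c1 = evC lc [8, 9] c1 →
      ∃ w ∈ WD, evC lc (w ++ u) c1 = evC lc (0 :: w) c1 ∧ evC lc (w ++ v) c1 = evC lc (3 :: w) c1 ∧
        evC lc (w ++ [4, 5]) c1 = evC lc ([4, 5] ++ w) c1 := by decide +kernel
  obtain ⟨w, hw, k1, k2, k3⟩ := key u hu v hv (by by_contra h; exact c.new _ _ h e1)
    (by by_contra h; exact c.new _ _ h e2)
  have k1 := c.eqw _ _ k1
  have k2 := c.eqw _ _ k2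
  have k3 := c.eqw _ _ k3
  rw [ev_append, ev_cons] at k1 k2
  rw [ev_append, ev_append] at k3
  have k4 := (c.Y_comm_ev w).symm
  refine ⟨ev c.g w * σ, h1.mul_left (cv_WD w hw), ?_, ⟨e, he, ?_⟩, ?_, ?_⟩
  · calc _ = ev c.g w * (σ * c.Y * σ⁻¹) * (ev c.g w)⁻¹ := by group
      _ = _ := by rw [h2, k4.eq]; group
  · calc _ = ev c.g w * (σ * ev c.g [4, 5] * σ⁻¹) * (ev c.g w)⁻¹ := by group
      _ = _ := by rw [h3, ← mul_assoc, (k4.pow_right e).eq, mul_assoc (c.Y ^ e), k3]; group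
  · calc _ = ev c.g w * (σ * c.g 0 * σ⁻¹) * (ev c.g w)⁻¹ := by group
      _ = _ := by rw [h4, k1]; group
  · calc _ = ev c.g w * (σ * c.g 2 * σ⁻¹) * (ev c.g w)⁻¹ := by group
      _ = _ := by rw [h5, k2]; group

/-- The action of `b` on `R`, `y` and `ρ`. -/
structure Act (c : Cf X n) (e : ℕ) (b : X) : Prop where
  a0 : b * c.g 0 * b⁻¹ = c.g 0
  a1 : b * c.g 1 * b⁻¹ = c.g 0 * c.g 1
  a2 : b * c.g 2 * b⁻¹ = c.g 2 * c.g 3
  a3 : b * c.g 3 * b⁻¹ = c.g 3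
  a8 : b * c.g 8 * b⁻¹ = c.g 8 * c.g 9
  a9 : b * c.g 9 * b⁻¹ = c.g 9
  aY : b * c.Y * b⁻¹ = c.Y
  aρ : b * ev c.g [4, 5] * b⁻¹ = c.Y ^ e * ev c.g [5, 4]

theorem conj_eqw (u v w : List ℕ) (h : evC lc (u ++ v) c1 = evC lc (w ++ u) c1) :
    ev c.g u * ev c.g v * (ev c.g u)⁻¹ = ev c.g w := by
  have := c.eqw _ _ h
  rw [ev_append, ev_append] at this
  rw [this]; group

theorem step4 {σ : X} (h : c.Np σ) : ∃ e < 3, ∃ b, Act c e b := by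
  obtain ⟨σ, h1, h2, ⟨e, he, h3⟩, h4, h5⟩ := step3 h
  have cj : ∀ {k : ℕ} {w : List ℕ}, σ * c.g k * σ⁻¹ = ev c.g w →
      σ * ev c.g [4, 5, k, 5, 4] * σ⁻¹ = ev c.g ([4, 5] ++ w ++ [5, 4]) := fun {k w} h => by
    have e4 : ev c.g [5, 4] = (ev c.g [4, 5])⁻¹ := by simp [g_inv]
    rw [show [4, 5, k, 5, 4] = [4, 5] ++ [k] ++ [5, 4] from rfl, ev_append, ev_append, ev_append,
      ev_append, e4]
    symm
    calc _ = c.Y ^ e * (ev c.g [4, 5] * ev c.g w * (ev c.g [4, 5])⁻¹) * (c.Y ^ e)⁻¹ := by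
          rw [← e4, ← ev_append, ← ev_append, ((c.Y_comm_ev _).pow_left e).eq]; group
      _ = (c.Y ^ e * ev c.g [4, 5]) * ev c.g w * (c.Y ^ e * ev c.g [4, 5])⁻¹ := by group
      _ = _ := by rw [← h3, ← h]; simp only [ev_cons, ev_nil, mul_one]; group
  have h6 := cj (k := 0) (w := [0]) (by simpa using h4)
  have h7 := cj (k := 2) (w := [3]) (by simpa using h5)
  rw [c.eqw [4, 5, 0, 5, 4] [1] (by decide +kernel), 
    c.eqw ([4, 5] ++ [0] ++ [5, 4]) [1] (by decide +kernel)] at h6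
  rw [c.eqw [4, 5, 2, 5, 4] [3] (by decide +kernel), 
    c.eqw ([4, 5] ++ [3] ++ [5, 4]) [2, 3] (by decide +kernel)] at h7
  have key : ∀ {x : X} (u w : List ℕ), σ * x * σ⁻¹ = ev c.g u →
      evC lc ([4] ++ u) c1 = evC lc (w ++ [4]) c1 → c.g 4 * σ * x * (c.g 4 * σ)⁻¹ = ev c.g w :=
    fun {x} u w h h' => by
      rw [← conj_eqw _ _ _ h', ← h]; simp only [ev_cons, ev_nil, mul_one]; group
  have jY : c.g 4 * c.Y * (c.g 4)⁻¹ = c.Y := by rw [← c.Y_comm]; group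
  refine ⟨e, he, c.g 4 * σ, ?_, ?_, ?_, ?_, ?_, ?_, ?_, ?_⟩
  · simpa using key [0] [0] (by simpa using h4) (by decide +kernel)
  · simpa using key [1] [0, 1] (by simpa using h6) (by decide +kernel)
  · simpa using key [3] [2, 3] (by simpa using h5) (by decide +kernel)
  · simpa using key [2, 3] [3] (by simpa using h7) (by decide +kernel)
  · simpa using key [9] [8, 9] (by simpa using h1.1) (by decide +kernel)
  · simpa using key [8, 9] [9] (by simpa using h1.2) (by decide +kernel)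
  · calc _ = c.g 4 * (σ * c.Y * σ⁻¹) * (c.g 4)⁻¹ := by group
      _ = _ := by rw [h2, jY]
  · calc _ = c.g 4 * (σ * ev c.g [4, 5] * σ⁻¹) * (c.g 4)⁻¹ := by group
      _ = (c.g 4 * c.Y ^ e * (c.g 4)⁻¹) * (ev c.g [4] * ev c.g [4, 5] * (ev c.g [4])⁻¹) := by
        rw [h3]; simp only [ev_cons, ev_nil, mul_one]; group
      _ = _ := by rw [← conj_pow, jY, conj_eqw [4] [4, 5] [5, 4] (by decide +kernel)]

theorem Act.mul_left {e : ℕ} {b x : X} (h : Act c e b)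
    (hx : ∀ k ∈ [0, 1, 2, 3, 8, 9], Commute x (c.g k)) (hY : Commute x c.Y)
    (hρ : Commute x (ev c.g [5, 4])) : Act c e (x * b) := by
  have key : ∀ {u v : X}, b * u * b⁻¹ = v → Commute x v → x * b * u * (x * b)⁻¹ = v :=
    fun {u v} h1 h2 => by
      calc _ = x * (b * u * b⁻¹) * x⁻¹ := by group
        _ = _ := by rw [h1, h2.eq]; group
  exact ⟨key h.a0 (hx _ (by simp)), key h.a1 ((hx _ (by simp)).mul_right (hx _ (by simp))),
    key h.a2 ((hx _ (by simp)).mul_right (hx _ (by simp))), key h.a3 (hx _ (by simp)),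
    key h.a8 ((hx _ (by simp)).mul_right (hx _ (by simp))), key h.a9 (hx _ (by simp)),
    key h.aY hY, key h.aρ ((hY.pow_right e).mul_right hρ)⟩

theorem cenR {x : X} (h : ∀ k ∈ [0, 1, 2, 3, 8, 9], x * c.g k * x⁻¹ = c.g k) :
    ∃ w ∈ WV, ∃ e < 3, x = c.Y ^ e * ev c.g w := by
  have k : ∀ k ∈ [0, 1, 2, 3, 8, 9], x * c.g k = c.g k * x := fun k hk => by
    rw [← h k hk]; simp [h k hk]
    exact mul_inv_eq_iff_eq_mul.1 (h k hk)
  exact ((XK4 ⟨k _ (by simp), k _ (by simp)⟩).1 (k _ (by simp)) (k _ (by simp))).2 (k _ (by simp))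
    (k _ (by simp))

theorem conj2 {b u v w u' : X} (h1 : b * u * b⁻¹ = v * w) (h2 : b * v * b⁻¹ = v) (h3 : u = w)
    (h4 : v * v = 1) (h5 : u' = u) : b * b * u' * (b * b)⁻¹ = u' := by
  subst h3 h5
  calc _ = b * (b * u' * b⁻¹) * b⁻¹ := by group
    _ = b * (v * u') * b⁻¹ := by rw [h1]
    _ = (b * v * b⁻¹) * (b * u' * b⁻¹) := by group
    _ = _ := by rw [h1, h2, ← mul_assoc, h4, one_mul]

theorem step5 {e : ℕ} {b : X} (h : Act c e b) : ∃ b, Act c e b ∧ b * b = 1 := by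
  have fx : ∀ {u : X}, b * u * b⁻¹ = u → b * b * u * (b * b)⁻¹ = u := fun {u} h1 => by
    calc _ = b * (b * u * b⁻¹) * b⁻¹ := by group
      _ = _ := by rw [h1, h1]
  have c23 : c.g 2 * c.g 3 = c.g 3 * c.g 2 := by
    simpa using c.eqw [2, 3] [3, 2] (by decide +kernel)
  obtain ⟨w, hw, f, hf, h1⟩ := cenR (c := c) (x := b * b) (by
    simp only [List.forall_mem_cons, List.not_mem_nil, false_imp_iff, implies_true, and_true]
    exact ⟨fx h.a0, conj2 h.a1 h.a0 rfl (c.g_mul_self _) rfl,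
      conj2 (h.a2.trans c23) h.a3 rfl (c.g_mul_self _) rfl, fx h.a3,
      conj2 (h.a8.trans c.z_t) h.a9 rfl (c.g_mul_self _) rfl, fx h.a9⟩)
  have hYb : Commute c.Y b := (mul_inv_eq_iff_eq_mul.1 h.aY).symm
  have hY := h.mul_left (x := c.Y ^ f) (fun k _ => Commute.pow_left (c.Y_comm k) f)
    ((Commute.refl _).pow_left f) ((c.Y_comm_ev _).pow_left f)
  have h2 : c.Y ^ f * b * (c.Y ^ f * b) = ev c.g w := by
    rw [mul_assoc, ← mul_assoc b, ← (hYb.pow_left f).eq, mul_assoc, h1, ← mul_assoc, ← mul_assoc,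
      ← pow_add, ← pow_add, show f + f + f = 3 * f by ring, pow_mul, Y_cube, one_pow, one_mul]
  generalize c.Y ^ f * b = b at hY h2
  have h3 : b * ev c.g w * b⁻¹ = ev c.g w := by rw [← h2]; group
  simp only [WV, List.mem_cons, List.not_mem_nil, or_false] at hw
  rcases hw with rfl | rfl | rfl | rfl
  · exact ⟨b, hY, h2⟩
  · refine absurd ?_ (c.new [8, 9] [8] (by decide +kernel))
    simp only [ev_cons, ev_nil, mul_one] at h3 ⊢
    rw [← hY.a8, h3]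
  · refine ⟨c.g 8 * b, hY.mul_left (fun k hk => ?_) (c.Y_comm 8).symm ?_, ?_⟩
    · have : ∀ k ∈ [0, 1, 2, 3, 8, 9], evC lc [8, k] c1 = evC lc [k, 8] c1 := by decide +kernel
      simpa [commute_iff_eq] using c.eqw _ _ (this k hk)
    · simpa [commute_iff_eq, mul_assoc] using c.eqw [8, 5, 4] [5, 4, 8] (by decide +kernel)
    · calc _ = c.g 8 * (b * c.g 8 * b⁻¹) * (b * b) := by group
        _ = _ := by rw [hY.a8, h2, g_mul_self']; simp [g_mul_self]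
  · refine absurd ?_ (c.new [8] [8, 9] (by decide +kernel))
    simp only [ev_cons, ev_nil, mul_one] at h3 ⊢
    rw [← h3]
    calc c.g 8 = (b * c.g 8 * b⁻¹) * (b * c.g 9 * b⁻¹) := by
          rw [hY.a8, hY.a9, mul_assoc, g_mul_self, mul_one]
      _ = _ := by group

end Cf

end H5.Ly
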