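import Mathlib
import Cfsg.Agent.H29.Ext

set_option autoImplicit false
set_option maxRecDepth 100000
set_option Elab.async false
set_option linter.all false

namespace H5.MH1

open H29

noncomputable def n0 : Net := ben 3 [(nat_lit 0x0),
 (nat_lit 0x0),
 (nat_lit 0x0)]
noncomputable def t0 : List ℕ := [(nat_lit 0x16),
 (nat_lit 0x18),
 (nat_lit 0x60)]
noncomputable def d0 : ℕ := (nat_lit 0x0)
noncomputable def n1 : Net := ben 3 [(nat_lit 0x0),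
 (nat_lit 0x0),
 (nat_lit 0x0)]
noncomputable def t1 : List ℕ := [(nat_lit 0x12),
 (nat_lit 0x3c),
 (nat_lit 0x40)]
noncomputable def d1 : ℕ := (nat_lit 0x0)
noncomputable def n2 : Net := ben 3 [(nat_lit 0x30),
 (nat_lit 0x1a),
 (nat_lit 0x2)]
noncomputable def t2 : List ℕ := [(nat_lit 0x2),
 (nat_lit 0x1c),
 (nat_lit 0x0)]
noncomputable def d2 : ℕ := (nat_lit 0x40)
noncomputable def n3 : Net := ben 3 [(nat_lit 0xc),
 (nat_lit 0x52),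
 (nat_lit 0x4)]
noncomputable def t3 : List ℕ := [(nat_lit 0x20),
 (nat_lit 0x20),
 (nat_lit 0x40)]
noncomputable def d3 : ℕ := (nat_lit 0x14)
noncomputable def n4 : Net := ben 3 [(nat_lit 0x1c),
 (nat_lit 0x0),
 (nat_lit 0x4)]
noncomputable def t4 : List ℕ := [(nat_lit 0x4e),
 (nat_lit 0x48),
 (nat_lit 0x0)]
noncomputable def d4 : ℕ := (nat_lit 0x20)
noncomputable def n5 : Net := ben 3 [(nat_lit 0x0),
 (nat_lit 0x52),
 (nat_lit 0x4)]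
noncomputable def t5 : List ℕ := [(nat_lit 0x14),
 (nat_lit 0x20),
 (nat_lit 0x40)]
noncomputable def d5 : ℕ := (nat_lit 0x8)
noncomputable def n6 : Net := ben 3 [(nat_lit 0x11),
 (nat_lit 0x0),
 (nat_lit 0x0)]
noncomputable def t6 : List ℕ := [(nat_lit 0x3c),
 (nat_lit 0x30),
 (nat_lit 0x40)]
noncomputable def d6 : ℕ := (nat_lit 0x2)
noncomputable def n8 : Net := ben 3 [(nat_lit 0x0),
 (nat_lit 0x0),
 (nat_lit 0x0)]
noncomputable def t8 : List ℕ := [(nat_lit 0x12),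
 (nat_lit 0x1c),
 (nat_lit 0x60)]
noncomputable def d8 : ℕ := (nat_lit 0x0)
noncomputable def n9 : Net := ben 3 [(nat_lit 0x0),
 (nat_lit 0x0),
 (nat_lit 0x0)]
noncomputable def t9 : List ℕ := [(nat_lit 0x32),
 (nat_lit 0x3c),
 (nat_lit 0x40)]
noncomputable def d9 : ℕ := (nat_lit 0x0)
noncomputable def n11 : Net := ben 3 [(nat_lit 0x0),
 (nat_lit 0x0),
 (nat_lit 0x0)]
noncomputable def t11 : List ℕ := [(nat_lit 0x12),
 (nat_lit 0x1c),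
 (nat_lit 0x60)]
noncomputable def d11 : ℕ := (nat_lit 0x0)
noncomputable def n12 : Net := n11.rev
noncomputable def t12 : List ℕ := mapPull n12 t11
noncomputable def d12 : ℕ := (nat_lit 0x0)
def ivl : List ℕ := [0, 1, 2, 3, 4, 5, 6, 7, 8, 9, 10, 12, 11]
def cols : List ℕ := [0, 1, 2, 3, 4, 5, 6, 8, 9, 11, 12]
def hcols : List ℕ := [0, 1, 2, 3, 4, 5, 8, 9, 11, 12]
def G0 : List (List ℕ) := [[1, 0, 1, 0],
 [1, 5, 1, 5],
 [1, 9, 1, 9],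
 [1, 8, 1, 8],
 [3, 2, 3, 2],
 [3, 5, 3, 5],
 [3, 9, 3, 9],
 [3, 8, 3, 8],
 [0, 4, 0, 4],
 [0, 6, 0, 6],
 [0, 9, 0, 9],
 [0, 8, 0, 8],
 [2, 4, 2, 4],
 [2, 9, 2, 9],
 [2, 8, 2, 8],
 [4, 6, 4, 6],
 [4, 8, 4, 8],
 [5, 8, 5, 8],
 [6, 8, 6, 8],
 [9, 8, 9, 8],
 [1, 3, 1, 3, 8],
 [1, 0, 4, 1, 4],
 [1, 0, 5, 0, 5],
 [3, 0, 3, 0, 9],
 [3, 2, 4, 3, 4],
 [3, 2, 5, 2, 5],
 [0, 2, 0, 2, 8],
 [0, 6, 9, 6, 9],
 [2, 4, 6, 2, 6],
 [4, 9, 4, 9, 8],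
 [5, 9, 5, 9, 8],
 [1, 0, 1, 6, 0, 6],
 [1, 0, 1, 9, 0, 9],
 [1, 0, 1, 8, 0, 8],
 [1, 0, 6, 1, 6, 8],
 [1, 0, 6, 1, 8, 6],
 [1, 0, 6, 8, 1, 6],
 [1, 2, 1, 2, 9, 8],
 [1, 2, 1, 2, 8, 9],
 [1, 2, 9, 1, 8, 2],
 [1, 4, 5, 0, 5, 4],
 [1, 5, 9, 1, 9, 5],
 [1, 5, 8, 1, 8, 5],
 [1, 9, 8, 1, 8, 9],
 [3, 0, 3, 6, 9, 6],
 [3, 2, 3, 9, 2, 9],
 [3, 2, 3, 8, 2, 8],
 [3, 4, 3, 6, 2, 6],
 [3, 4, 5, 2, 5, 4],
 [3, 5, 9, 3, 9, 5],
 [3, 5, 8, 3, 8, 5],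
 [3, 6, 3, 6, 3, 6],
 [3, 9, 8, 3, 8, 9],
 [0, 4, 6, 0, 6, 4],
 [0, 4, 9, 0, 9, 4],
 [0, 4, 8, 0, 8, 4],
 [0, 6, 8, 0, 8, 6],
 [0, 9, 8, 0, 8, 9],
 [2, 4, 9, 2, 9, 4],
 [2, 4, 8, 2, 8, 4],
 [4, 5, 4, 5, 4, 5],
 [4, 5, 9, 5, 4, 9],
 [4, 6, 8, 4, 8, 6],
 [5, 6, 5, 6, 5, 6],
 [6, 9, 8, 9, 6, 8],
 [11, 11, 11],
 [0, 11, 0, 12],
 [1, 11, 1, 12],
 [2, 11, 2, 12],
 [3, 11, 3, 12],
 [4, 11, 4, 12],
 [5, 11, 5, 12],
 [6, 11, 6, 12],
 [8, 11, 8, 12],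
 [9, 11, 9, 12]]
def R0 : List (List ℕ) := G0
theorem hii : ∀ c, ivOf ivl (ivOf ivl c) = c := ivOf_ivOf (by decide +kernel)
theorem der : Derives (ivOf ivl) R0 R0 := Derives.refl _ _
noncomputable def nl : List Net := [n0, n1, n2, n3, n4, n5, n6, Net.nil, n8, n9, Net.nil, n11, n12]
noncomputable def T : TCData := ⟨7, 7, 3, 3, nth Net.nil nl, ivOf ivl, cols, hcols, R0,
  nth [] [t0, t1, t2, t3, t4, t5, t6, [], t8, t9, [], t11, t12], nth 0 [d0, d1, d2, d3, d4, d5, d6, 0, d8, d9, 0, d11, d12]⟩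
theorem hn : NetsOK 7 (nth Net.nil nl) := netsOK_of_all (by decide +kernel)
theorem hiv : IvOK (sg (nth Net.nil nl)) (ivOf ivl) :=
  ivOK_of_chk (k := 3) hn (by decide) (n := 13) (by decide) (by decide) (allN_true.1 (by decide +kernel))
theorem hb : T.Basic := TCData.basic_of_chk hn hiv (by decide +kernel)
theorem hG0 : ∀ r ∈ G0, ev (sg (nth Net.nil nl)) r = 1 :=
  rels_of_chk (k := 3) hn (by decide) hiv (allN_true.1 (by decide +kernel))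
noncomputable def s0 : List TCData.Step := [.pts 9 0 0 1 [1],
 .pts 22 3 0 2 [3],
 .pts 44 1 0 1 [2],
 .pts 44 1 0 3 [4],
 .pts 55 0 0 4 [5, 6]]
noncomputable def s1 : List TCData.Step := [.pts 20 2 0 2 [2],
 .pts 34 3 0 1 [1],
 .pts 40 0 0 2 [5],
 .pts 40 0 0 4 [6],
 .pts 42 0 0 2 [3],
 .pts 42 0 0 3 [4]]
noncomputable def s2 : List TCData.Step := [.pts 24 1 0 2 [2],
 .pts 28 3 0 1 [1],
 .pts 48 3 0 2 [3]]
noncomputable def s3 : List TCData.Step := [.pts 24 3 0 3 [5],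
 .pts 48 0 0 4 [6]]
noncomputable def s4 : List TCData.Step := [.pts 12 1 0 3 [3],
 .pts 15 0 0 1 [1],
 .pts 47 1 0 1 [2]]
noncomputable def s5 : List TCData.Step := [.pts 5 1 0 1 [2],
 .pts 60 1 0 2 [5],
 .pts 60 1 0 4 [6]]
noncomputable def s6 : List TCData.Step := [.pts 28 2 0 3 [5],
 .pts 28 2 0 4 [6],
 .pts 51 1 0 1 [2],
 .pts 63 1 0 1 [3]]
noncomputable def s8 : List TCData.Step := [.pts 16 1 0 4 [5, 6],
 .pts 17 1 0 2 [3],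
 .pts 17 1 0 3 [4],
 .pts 18 1 0 1 [1],
 .pts 50 2 0 2 [2]]
noncomputable def s9 : List TCData.Step := [.pts 13 1 0 4 [6],
 .pts 27 2 0 1 [1],
 .pts 30 1 0 3 [4],
 .pts 49 2 0 2 [2],
 .pts 61 2 0 2 [3],
 .pts 61 5 0 3 [5]]
noncomputable def s11 : List TCData.Step := []
noncomputable def s12 : List TCData.Step := [.pts 68 1 0 3 [4],
 .pts 69 1 0 2 [2],
 .pts 70 1 0 4 [5, 6],
 .pts 71 1 0 2 [3],
 .pts 72 1 0 1 [1]]
theorem hR0 : ∀ r ∈ R0, ev (sg (nth Net.nil nl)) r = 1 := hG0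
theorem col0 : T.ColOK 0 := TCData.colOK_of_chk (U := (T.stepsMask 0 s0 (T.mask0 0))) (V := (T.stepsMask 0 s0 (T.mask0 0))) hb (TCData.cov_stepsMask hb (by decide) s0 _ (T.cov_mask0 0)) (TCData.cov_stepsMask hb (by decide) s0 _ (T.cov_mask0 0)) (by decide +kernel)
theorem col1 : T.ColOK 1 := TCData.colOK_of_chk (U := (T.stepsMask 1 s1 (T.mask0 1))) (V := (T.stepsMask 1 s1 (T.mask0 1))) hb (TCData.cov_stepsMask hb (by decide) s1 _ (T.cov_mask0 1)) (TCData.cov_stepsMask hb (by decide) s1 _ (T.cov_mask0 1)) (by decide +kernel)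
theorem col2 : T.ColOK 2 := TCData.colOK_of_chk (U := (T.stepsMask 2 s2 (T.mask0 2))) (V := (T.stepsMask 2 s2 (T.mask0 2))) hb (TCData.cov_stepsMask hb (by decide) s2 _ (T.cov_mask0 2)) (TCData.cov_stepsMask hb (by decide) s2 _ (T.cov_mask0 2)) (by decide +kernel)
theorem col3 : T.ColOK 3 := TCData.colOK_of_chk (U := (T.stepsMask 3 s3 (T.mask0 3))) (V := (T.stepsMask 3 s3 (T.mask0 3))) hb (TCData.cov_stepsMask hb (by decide) s3 _ (T.cov_mask0 3)) (TCData.cov_stepsMask hb (by decide) s3 _ (T.cov_mask0 3)) (by decide +kernel)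
theorem col4 : T.ColOK 4 := TCData.colOK_of_chk (U := (T.stepsMask 4 s4 (T.mask0 4))) (V := (T.stepsMask 4 s4 (T.mask0 4))) hb (TCData.cov_stepsMask hb (by decide) s4 _ (T.cov_mask0 4)) (TCData.cov_stepsMask hb (by decide) s4 _ (T.cov_mask0 4)) (by decide +kernel)
theorem col5 : T.ColOK 5 := TCData.colOK_of_chk (U := (T.stepsMask 5 s5 (T.mask0 5))) (V := (T.stepsMask 5 s5 (T.mask0 5))) hb (TCData.cov_stepsMask hb (by decide) s5 _ (T.cov_mask0 5)) (TCData.cov_stepsMask hb (by decide) s5 _ (T.cov_mask0 5)) (by decide +kernel)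
theorem col6 : T.ColOK 6 := TCData.colOK_of_chk (U := (T.stepsMask 6 s6 (T.mask0 6))) (V := (T.stepsMask 6 s6 (T.mask0 6))) hb (TCData.cov_stepsMask hb (by decide) s6 _ (T.cov_mask0 6)) (TCData.cov_stepsMask hb (by decide) s6 _ (T.cov_mask0 6)) (by decide +kernel)
theorem col8 : T.ColOK 8 := TCData.colOK_of_chk (U := (T.stepsMask 8 s8 (T.mask0 8))) (V := (T.stepsMask 8 s8 (T.mask0 8))) hb (TCData.cov_stepsMask hb (by decide) s8 _ (T.cov_mask0 8)) (TCData.cov_stepsMask hb (by decide) s8 _ (T.cov_mask0 8)) (by decide +kernel)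
theorem col9 : T.ColOK 9 := TCData.colOK_of_chk (U := (T.stepsMask 9 s9 (T.mask0 9))) (V := (T.stepsMask 9 s9 (T.mask0 9))) hb (TCData.cov_stepsMask hb (by decide) s9 _ (T.cov_mask0 9)) (TCData.cov_stepsMask hb (by decide) s9 _ (T.cov_mask0 9)) (by decide +kernel)
theorem col11 : T.ColOK 11 := TCData.colOK_of_chk (U := (T.stepsMask 11 s11 (T.mask0 11))) (V := (T.stepsMask 12 s12 (T.mask0 12))) hb (TCData.cov_stepsMask hb (by decide) s11 _ (T.cov_mask0 11)) (TCData.cov_stepsMask hb (by decide) s12 _ (T.cov_mask0 12)) (by decide +kernel)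
theorem col12 : T.ColOK 12 := TCData.colOK_of_chk (U := (T.stepsMask 12 s12 (T.mask0 12))) (V := (T.stepsMask 11 s11 (T.mask0 11))) hb (TCData.cov_stepsMask hb (by decide) s12 _ (T.cov_mask0 12)) (TCData.cov_stepsMask hb (by decide) s11 _ (T.cov_mask0 11)) (by decide +kernel)
theorem ok : T.OK := ⟨hb, TCData.treeOK_of_chk hn (by decide +kernel), (List.forall_mem_cons.2 ⟨col0, (List.forall_mem_cons.2 ⟨col1, (List.forall_mem_cons.2 ⟨col2, (List.forall_mem_cons.2 ⟨col3, (List.forall_mem_cons.2 ⟨col4, (List.forall_mem_cons.2 ⟨col5, (List.forall_mem_cons.2 ⟨col6, (List.forall_mem_cons.2 ⟨col8, (List.forall_mem_cons.2 ⟨col9, (List.forall_mem_cons.2 ⟨col11, (List.forall_mem_cons.2 ⟨col12, (fun _ h => absurd h List.not_mem_nil)⟩)⟩)⟩)⟩)⟩)⟩)⟩)⟩)⟩)⟩)⟩), der _ _ hiv hR0⟩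
theorem bd {G : Type} [Group G] {e : ℕ → G} (h1 : IvOK e (ivOf ivl)) (h2 : ∀ r ∈ R0, ev e r = 1)
    {m : ℕ} (h : Bd (gen e hcols) m) : Bd (gen e cols) (7 * m) := ok.bd h1 (der G e h1 h2) h
theorem cm {G : Type} [Group G] {e : ℕ → G} (h1 : IvOK e (ivOf ivl)) (h2 : ∀ r ∈ R0, ev e r = 1)
    (h3 : gen e cols = ⊤) {ρ : G →* Equiv.Perm ℕ} (h4 : ∀ c, ρ (e c) = sg (nth Net.nil nl) c) :
    CosetModel ρ (gen e hcols) 7 := ok.cosetModel h1 (der G e h1 h2) h3 fun c _ => h4 c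

end H5.MH1
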