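import Mathlib
import Cfsg.Agent.H29.Ext

set_option autoImplicit false
set_option maxRecDepth 100000
set_option Elab.async false
set_option linter.all false

namespace H5.MN2

open H29

noncomputable def n0 : Net := ben 4 [(nat_lit 0x30),
 (nat_lit 0x1b1a),
 (nat_lit 0x28a),
 (nat_lit 0x8)]
noncomputable def t0 : List ℕ := [(nat_lit 0x502),
 (nat_lit 0x51c),
 (nat_lit 0x0),
 (nat_lit 0x0)]
noncomputable def d0 : ℕ := (nat_lit 0x6240)
noncomputable def n1 : Net := ben 4 [(nat_lit 0x3300),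
 (nat_lit 0x1b1a),
 (nat_lit 0x28a),
 (nat_lit 0x8)]
noncomputable def t1 : List ℕ := [(nat_lit 0x6652),
 (nat_lit 0x6654),
 (nat_lit 0x1800),
 (nat_lit 0x0)]
noncomputable def d1 : ℕ := (nat_lit 0x120)
noncomputable def n2 : Net := ben 4 [(nat_lit 0x0),
 (nat_lit 0x0),
 (nat_lit 0x0),
 (nat_lit 0x0)]
noncomputable def t2 : List ℕ := [(nat_lit 0x1ca2),
 (nat_lit 0x4bc),
 (nat_lit 0x7b40),
 (nat_lit 0x0)]
noncomputable def d2 : ℕ := (nat_lit 0x0)
noncomputable def n3 : Net := ben 4 [(nat_lit 0x0),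
 (nat_lit 0x0),
 (nat_lit 0x0),
 (nat_lit 0x0)]
noncomputable def t3 : List ℕ := [(nat_lit 0x70b2),
 (nat_lit 0x60bc),
 (nat_lit 0x1f40),
 (nat_lit 0x0)]
noncomputable def d3 : ℕ := (nat_lit 0x0)
noncomputable def n4 : Net := ben 4 [(nat_lit 0xc),
 (nat_lit 0x2f2),
 (nat_lit 0x504),
 (nat_lit 0x20)]
noncomputable def t4 : List ℕ := [(nat_lit 0x64c0),
 (nat_lit 0x60),
 (nat_lit 0x1100),
 (nat_lit 0x0)]
noncomputable def d4 : ℕ := (nat_lit 0x814)
noncomputable def n5 : Net := ben 4 [(nat_lit 0x3cfc),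
 (nat_lit 0x1222),
 (nat_lit 0x338c),
 (nat_lit 0x38)]
noncomputable def t5 : List ℕ := [(nat_lit 0x6366),
 (nat_lit 0x6410),
 (nat_lit 0x1800),
 (nat_lit 0x0)]
noncomputable def d5 : ℕ := (nat_lit 0x80)
noncomputable def n7 : Net := ben 4 [(nat_lit 0x3c00),
 (nat_lit 0x1152),
 (nat_lit 0x28c),
 (nat_lit 0x8)]
noncomputable def t7 : List ℕ := [(nat_lit 0x6054),
 (nat_lit 0x60),
 (nat_lit 0x900),
 (nat_lit 0x0)]
noncomputable def d7 : ℕ := (nat_lit 0x1408)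
noncomputable def n8 : Net := ben 4 [(nat_lit 0x0),
 (nat_lit 0x0),
 (nat_lit 0x0),
 (nat_lit 0x0)]
noncomputable def t8 : List ℕ := [(nat_lit 0x18b2),
 (nat_lit 0xbc),
 (nat_lit 0x7f40),
 (nat_lit 0x0)]
noncomputable def d8 : ℕ := (nat_lit 0x0)
noncomputable def n9 : Net := ben 4 [(nat_lit 0x0),
 (nat_lit 0x0),
 (nat_lit 0x0),
 (nat_lit 0x0)]
noncomputable def t9 : List ℕ := [(nat_lit 0x34b2),
 (nat_lit 0x24bc),
 (nat_lit 0x5b40),
 (nat_lit 0x0)]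
noncomputable def d9 : ℕ := (nat_lit 0x0)
noncomputable def n10 : Net := ben 4 [(nat_lit 0x31),
 (nat_lit 0xa20),
 (nat_lit 0x5700),
 (nat_lit 0x58)]
noncomputable def t10 : List ℕ := [(nat_lit 0x6bbc),
 (nat_lit 0x6ff8),
 (nat_lit 0x6ff8),
 (nat_lit 0x1000)]
noncomputable def d10 : ℕ := (nat_lit 0x2)
noncomputable def n11 : Net := ben 4 [(nat_lit 0x0),
 (nat_lit 0x0),
 (nat_lit 0x0),
 (nat_lit 0x0)]
noncomputable def t11 : List ℕ := [(nat_lit 0x58b2),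
 (nat_lit 0xbc),
 (nat_lit 0x7f40),
 (nat_lit 0x0)]
noncomputable def d11 : ℕ := (nat_lit 0x0)
noncomputable def n12 : Net := n11.rev
noncomputable def t12 : List ℕ := mapPull n12 t11
noncomputable def d12 : ℕ := (nat_lit 0x0)
def ivl : List ℕ := [0, 1, 2, 3, 4, 5, 6, 7, 8, 9, 10, 12, 11]
def cols : List ℕ := [0, 1, 2, 3, 4, 5, 7, 8, 9, 10, 11, 12]
def hcols : List ℕ := [0, 1, 2, 3, 4, 5, 7, 8, 9, 11, 12]
def G0 : List (List ℕ) := [[1, 0, 1, 0],
 [1, 5, 1, 5],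
 [1, 9, 1, 9],
 [1, 8, 1, 8],
 [3, 2, 3, 2],
 [3, 5, 3, 5],
 [3, 9, 3, 9],
 [3, 8, 3, 8],
 [0, 4, 0, 4],
 [0, 9, 0, 9],
 [0, 8, 0, 8],
 [2, 4, 2, 4],
 [2, 7, 2, 7],
 [2, 9, 2, 9],
 [2, 8, 2, 8],
 [4, 7, 4, 7],
 [4, 8, 4, 8],
 [5, 8, 5, 8],
 [7, 8, 7, 8],
 [9, 8, 9, 8],
 [1, 3, 1, 3, 8],
 [1, 0, 4, 1, 4],
 [1, 0, 5, 0, 5],
 [3, 0, 3, 0, 9],
 [3, 2, 4, 3, 4],
 [3, 2, 5, 2, 5],
 [0, 2, 0, 2, 8],
 [0, 4, 7, 0, 7],
 [2, 7, 9, 7, 9],
 [4, 9, 4, 9, 8],
 [5, 9, 5, 9, 8],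
 [1, 0, 1, 9, 0, 9],
 [1, 0, 1, 8, 0, 8],
 [1, 2, 1, 2, 9, 8],
 [1, 2, 1, 2, 8, 9],
 [1, 2, 9, 1, 8, 2],
 [1, 4, 1, 7, 0, 7],
 [1, 4, 5, 0, 5, 4],
 [1, 5, 9, 1, 9, 5],
 [1, 5, 8, 1, 8, 5],
 [1, 7, 1, 7, 1, 7],
 [1, 9, 8, 1, 8, 9],
 [3, 2, 3, 7, 2, 7],
 [3, 2, 3, 9, 2, 9],
 [3, 2, 3, 8, 2, 8],
 [3, 2, 7, 3, 7, 8],
 [3, 2, 7, 3, 8, 7],
 [3, 2, 7, 8, 3, 7],
 [3, 4, 5, 2, 5, 4],
 [3, 5, 9, 3, 9, 5],
 [3, 5, 8, 3, 8, 5],
 [3, 9, 8, 3, 8, 9],
 [0, 4, 9, 0, 9, 4],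
 [0, 4, 8, 0, 8, 4],
 [0, 9, 8, 0, 8, 9],
 [2, 4, 7, 2, 7, 4],
 [2, 4, 9, 2, 9, 4],
 [2, 4, 8, 2, 8, 4],
 [2, 7, 8, 2, 8, 7],
 [4, 5, 4, 5, 4, 5],
 [4, 5, 9, 5, 4, 9],
 [4, 7, 8, 4, 8, 7],
 [5, 7, 5, 7, 5, 7],
 [7, 9, 8, 9, 7, 8],
 [10, 0, 10, 0],
 [10, 1, 10, 1, 0],
 [10, 2, 10, 3, 2],
 [10, 3, 10, 3],
 [10, 8, 10, 9, 8],
 [10, 9, 10, 9],
 [10, 4, 5, 10, 4, 5, 12],
 [11, 11, 11],
 [0, 11, 0, 12],
 [1, 11, 1, 12],
 [2, 11, 2, 12],
 [3, 11, 3, 12],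
 [4, 11, 4, 12],
 [5, 11, 5, 12],
 [7, 11, 7, 12],
 [8, 11, 8, 12],
 [9, 11, 9, 12],
 [10, 11, 10, 12],
 [10, 5, 10, 5, 10, 5],
 [10, 1, 5, 10, 1, 5, 10, 1, 5],
 [10, 3, 5, 10, 3, 5, 10, 3, 5, 10, 3, 5, 10, 3, 5, 10, 3, 5],
 [10, 5, 8, 10, 5, 8, 10, 5, 8],
 [10, 1, 5, 8, 10, 1, 5, 8, 10, 1, 5, 8],
 [10, 3, 5, 8, 10, 3, 5, 8, 10, 3, 5, 8, 10, 3, 5, 8, 10, 3, 5, 8, 10, 3, 5, 8],
 [10, 4, 5, 4, 10, 4, 5, 4, 10, 4, 5, 4],
 [10, 4, 10, 4, 10, 4],
 [10, 7, 10, 7, 10, 7, 10, 7, 10, 7],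
 [10, 0, 4, 10, 0, 4, 10, 0, 4, 10, 0, 4, 10, 0, 4, 10, 0, 4],
 [10, 2, 4, 10, 2, 4, 10, 2, 4],
 [10, 2, 7, 10, 2, 7, 10, 2, 7, 10, 2, 7, 10, 2, 7],
 [10, 4, 7, 10, 4, 7, 10, 4, 7, 10, 4, 7, 10, 4, 7],
 [10, 4, 8, 10, 4, 8, 10, 4, 8],
 [10, 7, 8, 10, 7, 8, 10, 7, 8, 10, 7, 8, 10, 7, 8],
 [10, 5, 7, 5, 10, 5, 7, 5, 10, 5, 7, 5, 10, 5, 7, 5, 10, 5, 7, 5],
 [10, 5, 2, 7, 5, 10, 5, 2, 7, 5, 10, 5, 2, 7, 5, 10, 5, 2, 7, 5, 10, 5, 2, 7, 5],
 [10, 5, 4, 7, 5, 10, 5, 4, 7, 5, 10, 5, 4, 7, 5, 10, 5, 4, 7, 5, 10, 5, 4, 7, 5]]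
def R0 : List (List ℕ) := G0
def w0 : List ℕ := [10, 5, 1, 0, 12, 4, 5, 12, 5, 4, 11, 0, 1, 0, 12, 4, 5, 0, 1, 5, 4, 7, 5, 10, 5, 4, 7, 5, 10, 5, 4, 7, 5, 1, 0, 5, 4, 11, 7, 10, 7, 10, 7, 0, 12, 7, 10, 7, 11, 0, 7, 10, 7, 10, 7, 12, 4, 5, 0, 1, 5, 7, 4, 5, 10, 5, 7, 4, 5, 10, 5, 7, 4, 5, 1, 0, 5, 4, 11, 0, 1, 0, 12, 4, 5, 11, 5, 4, 11, 0, 1, 0, 12, 4, 5, 7, 1, 0, 5, 4, 11, 0, 1, 0, 12, 4, 5, 12, 5, 4, 11, 0, 1, 0, 12, 4, 5, 0, 1, 5, 4, 7, 5, 10, 5, 4, 7, 5, 10, 5, 4, 7, 5, 1, 0, 5, 4, 11, 7, 10, 7, 10, 7, 0, 12, 7, 10, 7, 11, 0, 7, 10, 7, 10, 7, 12, 4, 5, 0, 1, 5, 7, 4, 5, 10, 5, 7, 4, 5, 10, 5, 7, 4, 5, 1, 0, 5, 4, 11, 0, 1, 0, 12, 4, 5, 11, 5, 4, 11, 0, 1, 0, 12, 4, 5, 0, 1, 7, 5, 4, 11, 0, 1, 0, 12, 4, 5, 12, 5, 4, 11, 0, 1, 0, 12, 4, 5, 0, 1, 5, 4, 7, 5, 10, 5, 4, 7, 5, 10, 5, 4, 7, 5, 1, 0, 5, 4, 11, 7, 10, 7, 10, 7, 0, 12, 7, 10, 7, 11, 0, 7, 10, 7, 10, 7, 12, 4, 5, 0, 1, 5, 7, 4, 5,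 10, 5, 7, 4, 5, 10, 5, 7, 4, 5, 1, 0, 5, 4, 11, 0, 1, 0, 12, 4, 5, 11, 5, 4, 11, 0, 1, 0, 12, 4, 5, 7, 1, 0, 5, 4, 11, 0, 1, 0, 12, 4, 5, 12, 5, 4, 11, 0, 1, 0, 12, 4, 5, 0, 1, 5, 4, 7, 5, 10, 5, 4, 7, 5, 10, 5, 4, 7, 5, 1, 0, 5, 4, 11, 7, 10, 7, 10, 7, 0, 12, 7, 10, 7, 11, 0, 7, 10, 7, 10, 7, 12, 4, 5, 0, 1, 5, 7, 4, 5, 10, 5, 7, 4, 5, 10, 5, 7, 4, 5, 1, 0, 5, 4, 11, 0, 1, 0, 12, 4, 5, 11, 5, 4, 11, 0, 1, 0, 12, 4, 5, 0, 1, 7, 1, 5]
def R1 : List (List ℕ) := R0 ++ [w0]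
theorem hii : ∀ c, ivOf ivl (ivOf ivl c) = c := ivOf_ivOf (by decide +kernel)
noncomputable def pr0 : List (ℕ × ℕ) := [(200, (nat_lit 0x70000500000070000080000000001890000070001dd0000070000280001910000070000280000010000070000380000010000070000280000c900000700002800000100000700000800001100000700000a00000100000900000700000d00000700003800000100000700005000000700000a0000010000090000070001f500000700003800000100000700002800000100000700005000000700003800001a0000010000190000070002d500000700000200000a0000f100000900000700000a00004900000900005a0000f100000700003800000100000700005000000700000a00000100000900002a0000110000070000ad0000070000080000510000070000220000910000210000c100000700000200005900007200006900007100008100000700000100003a00003100003900000700000a0000010000090000110000190000070000dd0000070000500000070000000000c10000070000280000200000220000920000210000020000070000580000a100000700000500000700003800000100000700002800000100000700005000000700004900001a00000100001900000700014500000700012500000700000800000100000700003800002100000700001a00000100001900000900000700007d00000700000a00000100000900001200002100004900000700012d00000700005000000700000800000000000100000700020d00000700002800002000000a00000200000900001200000700023500000700005000000700005800000100000700028d000007000000000001000007000205000007000028000001000007000295)),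
 (200, (nat_lit 0x2c100028900000700000100001a0000b90000190000070000010001420000a90001410000070000580002f900000700002800000100000700003800012900000700011900000100002200019100002100000700000200021100000100000a0000070000200001110000070002420000010002410000c100000700004500000700000000000100000700003800022900000700002800014100000700000200001100011a00026100011900012a0000070000010001520002a90001510000070000120001c90000110000c10000690000070000010000110000ea0002710000e90000420000070000020002310000010000a10000070000500000070000010000da0000210000d90000070000010000da0000110000d90000070000010001a20000110001a100000700005800025900000700027500000700026d0000070000ca0000020000c90000420000a20002190000a10000070000010000280000200000380000280000500000280000200000380000280000500000280000200000380000280000090000120000070000d20001e10000d100000900000700031d00000700005900000200007100000100000a0000070000280000590000070000da0001d10000d90000010001610000090000070000080000000001e100000700000000021100000700006200000100006100000a0000070000b50000070000010000520001490000510000070000820001190000810000120000010000070000010000320000290000310001ba0000070000010000090000120001910000110000190000070000000001d90000070000200000280000580001a9)),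
 (198, (nat_lit 0x70000040000010000070000020000070000280000010000070000010004a100000700000100000700000200000700000200000900041a00000700033200041900033100025100000700000100009a0000070000020000090000290000070000c20000070000010000120000070002310000010000070000910000070002210003220003b900032100000700000200000700000100001100000700001a0000890000010000070000110000220004210000210000070000020000320003e10000310000070000010000120003610000110000070002c20003310002c10000010003b10000070000000004010000070000380000010000070000280000010000070000500000070000080000010000070000380002910000070000010002e10000070003720000010002ba0000070000010002920000070000080000010000070000380000010000070000010002690000070000010000070000010000070002290000d900003a00002900002100000200001200000900001100002200002a0000390000da00022a00000700003800005000003800008a00025100008900000700030d00000700002800000100000700005000007100000700000200006a0003790000690000070000020001a100000100001200002a00000700005000005100000700000200005a0000920002f100009100000700000200001200002900004200032100004100000700007a00034100007900000200000700003800005000003800005000003800020100000700000100000a00006a00005900006900000700015a00025100015900011200000700028a))]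
theorem p0 : chkProg 4 (ivOf ivl) R0 pr0 [(0, w0)] = true := by decide +kernel
theorem der : Derives (ivOf ivl) R0 R1 := (Derives.refl _ _).prog hii p0
noncomputable def nl : List Net := [n0, n1, n2, n3, n4, n5, Net.nil, n7, n8, n9, n10, n11, n12]
noncomputable def T : TCData := ⟨15, 15, 4, 4, nth Net.nil nl, ivOf ivl, cols, hcols, R1,
  nth [] [t0, t1, t2, t3, t4, t5, [], t7, t8, t9, t10, t11, t12], nth 0 [d0, d1, d2, d3, d4, d5, 0, d7, d8, d9, d10, d11, d12]⟩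
theorem hn : NetsOK 15 (nth Net.nil nl) := netsOK_of_all (by decide +kernel)
theorem hiv : IvOK (sg (nth Net.nil nl)) (ivOf ivl) :=
  ivOK_of_chk (k := 4) hn (by decide) (n := 13) (by decide) (by decide) (allN_true.1 (by decide +kernel))
theorem hb : T.Basic := TCData.basic_of_chk hn hiv (by decide +kernel)
theorem hG0 : ∀ r ∈ G0, ev (sg (nth Net.nil nl)) r = 1 :=
  rels_of_chk (k := 4) hn (by decide) hiv (allN_true.1 (by decide +kernel))
noncomputable def s0 : List TCData.Step := [.pts 8 0 0 2 [2],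
 .pts 22 3 0 3 [10],
 .pts 27 3 0 2 [4],
 .pts 64 1 0 1 [1]]
noncomputable def s1 : List TCData.Step := [.pts 0 0 0 3 [4],
 .pts 21 3 0 2 [2],
 .pts 22 0 0 3 [10],
 .pts 36 0 0 4 [12],
 .pts 37 0 0 3 [13],
 .pts 65 1 0 1 [1]]
noncomputable def s2 : List TCData.Step := [.pts 11 0 0 2 [2],
 .pts 12 0 0 2 [3],
 .pts 25 3 0 3 [7],
 .pts 25 3 0 4 [8],
 .pts 26 1 0 4 [9],
 .pts 26 1 0 5 [12],
 .pts 34 1 0 3 [5],
 .pts 34 1 0 4 [6],
 .pts 48 3 0 3 [10],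
 .pts 48 3 0 4 [14],
 .pts 55 3 0 2 [4],
 .pts 55 3 0 4 [13],
 .pts 58 0 0 5 [11],
 .pts 66 1 0 1 [1]]
noncomputable def s3 : List TCData.Step := [.pts 5 0 0 3 [7],
 .pts 20 1 0 3 [5],
 .pts 20 1 0 4 [6],
 .pts 23 2 0 4 [9, 11],
 .pts 23 2 0 5 [12],
 .pts 24 3 0 2 [2],
 .pts 45 3 0 2 [3],
 .pts 46 0 0 3 [4],
 .pts 48 0 0 3 [13, 14],
 .pts 49 0 0 4 [8],
 .pts 50 0 0 4 [10],
 .pts 67 1 0 1 [1]]
noncomputable def s4 : List TCData.Step := [.pts 8 1 0 1 [7],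
 .pts 8 1 0 3 [6],
 .pts 27 1 0 1 [14],
 .pts 27 1 0 4 [8],
 .pts 36 1 0 2 [5]]
noncomputable def s5 : List TCData.Step := [.pts 1 1 0 1 [5],
 .pts 22 2 0 1 [6],
 .pts 22 2 0 4 [12],
 .pts 37 2 0 4 [11],
 .pts 59 1 0 3 [13],
 .pts 62 0 0 2 [4],
 .pts 70 2 0 1 [2]]
noncomputable def s7 : List TCData.Step := [.pts 15 1 0 1 [2],
 .pts 27 4 0 1 [14],
 .pts 27 4 0 3 [6],
 .pts 27 4 0 4 [11],
 .pts 40 1 0 2 [5]]
noncomputable def s8 : List TCData.Step := [.pts 10 1 0 5 [12],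
 .pts 17 1 0 3 [7],
 .pts 17 1 0 4 [8, 10],
 .pts 18 1 0 2 [3],
 .pts 18 1 0 3 [4],
 .pts 20 4 0 4 [14],
 .pts 29 4 0 4 [13],
 .pts 32 3 0 4 [9],
 .pts 39 2 0 3 [5],
 .pts 39 2 0 4 [6],
 .pts 61 2 0 2 [2],
 .pts 63 5 0 5 [11],
 .pts 68 1 0 1 [1]]
noncomputable def s9 : List TCData.Step := [.all 9 1 0,
 .pts 28 2 0 2 [3],
 .pts 29 1 0 2 [2],
 .pts 30 1 0 3 [7],
 .pts 31 3 0 4 [9],
 .pts 38 2 0 3 [5],
 .pts 38 2 0 4 [6],
 .pts 52 2 0 4 [11],
 .pts 60 2 0 3 [10],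
 .pts 60 2 0 4 [14],
 .pts 60 5 0 3 [13],
 .pts 69 1 0 1 [1]]
noncomputable def s10 : List TCData.Step := [.pts 64 0 0 7 [5],
 .pts 65 2 0 7 [4],
 .pts 70 0 0 7 [9, 13],
 .pts 89 0 0 1 [2],
 .pts 90 0 0 8 [12],
 .pts 95 0 0 7 [14],
 .pts 100 0 0 6 [6]]
noncomputable def s11 : List TCData.Step := []
noncomputable def s12 : List TCData.Step := [.pts 72 1 0 3 [4],
 .pts 72 1 0 4 [9],
 .pts 73 1 0 3 [5],
 .pts 73 1 0 4 [6, 8],
 .pts 76 1 0 4 [13],
 .pts 76 1 0 5 [12, 14],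
 .all 77 1 0,
 .pts 78 1 0 2 [3],
 .pts 78 1 0 5 [11],
 .pts 81 1 0 1 [1]]
theorem hR0 : ∀ r ∈ R0, ev (sg (nth Net.nil nl)) r = 1 := hG0
theorem col0 : T.ColOK 0 := TCData.colOK_of_chk (U := (T.stepsMask 0 s0 (T.mask0 0))) (V := (T.stepsMask 0 s0 (T.mask0 0))) hb (TCData.cov_stepsMask hb (by decide) s0 _ (T.cov_mask0 0)) (TCData.cov_stepsMask hb (by decide) s0 _ (T.cov_mask0 0)) (by decide +kernel)
theorem col1 : T.ColOK 1 := TCData.colOK_of_chk (U := (T.stepsMask 1 s1 (T.mask0 1))) (V := (T.stepsMask 1 s1 (T.mask0 1))) hb (TCData.cov_stepsMask hb (by decide) s1 _ (T.cov_mask0 1)) (TCData.cov_stepsMask hb (by decide) s1 _ (T.cov_mask0 1)) (by decide +kernel)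
theorem col2 : T.ColOK 2 := TCData.colOK_of_chk (U := (T.stepsMask 2 s2 (T.mask0 2))) (V := (T.stepsMask 2 s2 (T.mask0 2))) hb (TCData.cov_stepsMask hb (by decide) s2 _ (T.cov_mask0 2)) (TCData.cov_stepsMask hb (by decide) s2 _ (T.cov_mask0 2)) (by decide +kernel)
theorem col3 : T.ColOK 3 := TCData.colOK_of_chk (U := (T.stepsMask 3 s3 (T.mask0 3))) (V := (T.stepsMask 3 s3 (T.mask0 3))) hb (TCData.cov_stepsMask hb (by decide) s3 _ (T.cov_mask0 3)) (TCData.cov_stepsMask hb (by decide) s3 _ (T.cov_mask0 3)) (by decide +kernel)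
theorem col4 : T.ColOK 4 := TCData.colOK_of_chk (U := (T.stepsMask 4 s4 (T.mask0 4))) (V := (T.stepsMask 4 s4 (T.mask0 4))) hb (TCData.cov_stepsMask hb (by decide) s4 _ (T.cov_mask0 4)) (TCData.cov_stepsMask hb (by decide) s4 _ (T.cov_mask0 4)) (by decide +kernel)
theorem col5 : T.ColOK 5 := TCData.colOK_of_chk (U := (T.stepsMask 5 s5 (T.mask0 5))) (V := (T.stepsMask 5 s5 (T.mask0 5))) hb (TCData.cov_stepsMask hb (by decide) s5 _ (T.cov_mask0 5)) (TCData.cov_stepsMask hb (by decide) s5 _ (T.cov_mask0 5)) (by decide +kernel)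
theorem col7 : T.ColOK 7 := TCData.colOK_of_chk (U := (T.stepsMask 7 s7 (T.mask0 7))) (V := (T.stepsMask 7 s7 (T.mask0 7))) hb (TCData.cov_stepsMask hb (by decide) s7 _ (T.cov_mask0 7)) (TCData.cov_stepsMask hb (by decide) s7 _ (T.cov_mask0 7)) (by decide +kernel)
theorem col8 : T.ColOK 8 := TCData.colOK_of_chk (U := (T.stepsMask 8 s8 (T.mask0 8))) (V := (T.stepsMask 8 s8 (T.mask0 8))) hb (TCData.cov_stepsMask hb (by decide) s8 _ (T.cov_mask0 8)) (TCData.cov_stepsMask hb (by decide) s8 _ (T.cov_mask0 8)) (by decide +kernel)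
theorem col9 : T.ColOK 9 := TCData.colOK_of_chk (U := (T.stepsMask 9 s9 (T.mask0 9))) (V := (T.stepsMask 9 s9 (T.mask0 9))) hb (TCData.cov_stepsMask hb (by decide) s9 _ (T.cov_mask0 9)) (TCData.cov_stepsMask hb (by decide) s9 _ (T.cov_mask0 9)) (by decide +kernel)
theorem col10 : T.ColOK 10 := TCData.colOK_of_chk (U := (T.stepsMask 10 s10 (T.mask0 10))) (V := (T.stepsMask 10 s10 (T.mask0 10))) hb (TCData.cov_stepsMask hb (by decide) s10 _ (T.cov_mask0 10)) (TCData.cov_stepsMask hb (by decide) s10 _ (T.cov_mask0 10)) (by decide +kernel)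
theorem col11 : T.ColOK 11 := TCData.colOK_of_chk (U := (T.stepsMask 11 s11 (T.mask0 11))) (V := (T.stepsMask 12 s12 (T.mask0 12))) hb (TCData.cov_stepsMask hb (by decide) s11 _ (T.cov_mask0 11)) (TCData.cov_stepsMask hb (by decide) s12 _ (T.cov_mask0 12)) (by decide +kernel)
theorem col12 : T.ColOK 12 := TCData.colOK_of_chk (U := (T.stepsMask 12 s12 (T.mask0 12))) (V := (T.stepsMask 11 s11 (T.mask0 11))) hb (TCData.cov_stepsMask hb (by decide) s12 _ (T.cov_mask0 12)) (TCData.cov_stepsMask hb (by decide) s11 _ (T.cov_mask0 11)) (by decide +kernel)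
theorem ok : T.OK := ⟨hb, TCData.treeOK_of_chk hn (by decide +kernel), (List.forall_mem_cons.2 ⟨col0, (List.forall_mem_cons.2 ⟨col1, (List.forall_mem_cons.2 ⟨col2, (List.forall_mem_cons.2 ⟨col3, (List.forall_mem_cons.2 ⟨col4, (List.forall_mem_cons.2 ⟨col5, (List.forall_mem_cons.2 ⟨col7, (List.forall_mem_cons.2 ⟨col8, (List.forall_mem_cons.2 ⟨col9, (List.forall_mem_cons.2 ⟨col10, (List.forall_mem_cons.2 ⟨col11, (List.forall_mem_cons.2 ⟨col12, (fun _ h => absurd h List.not_mem_nil)⟩)⟩)⟩)⟩)⟩)⟩)⟩)⟩)⟩)⟩)⟩)⟩), der _ _ hiv hR0⟩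
theorem bd {G : Type} [Group G] {e : ℕ → G} (h1 : IvOK e (ivOf ivl)) (h2 : ∀ r ∈ R0, ev e r = 1)
    {m : ℕ} (h : Bd (gen e hcols) m) : Bd (gen e cols) (15 * m) := ok.bd h1 (der G e h1 h2) h
theorem cm {G : Type} [Group G] {e : ℕ → G} (h1 : IvOK e (ivOf ivl)) (h2 : ∀ r ∈ R0, ev e r = 1)
    (h3 : gen e cols = ⊤) {ρ : G →* Equiv.Perm ℕ} (h4 : ∀ c, ρ (e c) = sg (nth Net.nil nl) c) :
    CosetModel ρ (gen e hcols) 15 := ok.cosetModel h1 (der G e h1 h2) h3 fun c _ => h4 c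

end H5.MN2
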