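import Mathlib
import Cfsg.Agent.H29.Ext

set_option autoImplicit false
set_option maxRecDepth 100000
set_option Elab.async false
set_option linter.all false

namespace H5.MO1

open H29

noncomputable def n0 : Net := ben 6 [(nat_lit 0x303c00000000000),
 (nat_lit 0x222200000000000),
 (nat_lit 0x1ef000000000000),
 (nat_lit 0xe404000000000),
 (nat_lit 0x4000000000),
 (nat_lit 0x0)]
noncomputable def n1 : Net := ben 6 [(nat_lit 0x333000000000000),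
 (nat_lit 0xd82200000000000),
 (nat_lit 0x1c7000000000000),
 (nat_lit 0xe404000000000),
 (nat_lit 0x4000000000),
 (nat_lit 0x0)]
noncomputable def n2 : Net := ben 6 [(nat_lit 0x30c03f000300),
 (nat_lit 0xafa0a3110100500),
 (nat_lit 0x112213503b1b4c00),
 (nat_lit 0x11fd6de14550040),
 (nat_lit 0x215039540007400),
 (nat_lit 0x2154000)]
noncomputable def n3 : Net := ben 6 [(nat_lit 0x7c00f3ff0030000),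
 (nat_lit 0x578772505000),
 (nat_lit 0xae8c0e0e040000),
 (nat_lit 0x80b24a79adf2060),
 (nat_lit 0x4580c782000ba20),
 (nat_lit 0x4582000)]
noncomputable def n4 : Net := ben 6 [(nat_lit 0xf0f30fcf00000f0),
 (nat_lit 0x22aa0fffaa0aa00),
 (nat_lit 0xeedd113300df02),
 (nat_lit 0x1f216b040600d0),
 (nat_lit 0x119411b4a000ac00),
 (nat_lit 0x1194a000)]
noncomputable def n5 : Net := ben 6 [(nat_lit 0x4c00488d4b040c0),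
 (nat_lit 0xaa02faf0ae0b110),
 (nat_lit 0x8a11b96c880002),
 (nat_lit 0x1910024a1b0080),
 (nat_lit 0xf600f600007a00),
 (nat_lit 0xf60000)]
noncomputable def n6 : Net := ben 6 [(nat_lit 0x73c3d38013003c0),
 (nat_lit 0xbaae00aba0a0a0),
 (nat_lit 0x108112211889b02),
 (nat_lit 0x269e70c0e00d0),
 (nat_lit 0x111c113c60006c00),
 (nat_lit 0x111c6000)]
noncomputable def n8 : Net := ben 6 [(nat_lit 0x4c0f00000000000),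
 (nat_lit 0x520000000000000),
 (nat_lit 0x119d440000000000),
 (nat_lit 0x1013808000000000),
 (nat_lit 0x148000000000),
 (nat_lit 0x0)]
noncomputable def n9 : Net := ben 6 [(nat_lit 0x3cc000000000000),
 (nat_lit 0x5f5000000000000),
 (nat_lit 0x123000000000000),
 (nat_lit 0x1fe0e000000000),
 (nat_lit 0xe000000000),
 (nat_lit 0x0)]
noncomputable def n10 : Net := ben 6 [(nat_lit 0xf7c3dc1030033c1),
 (nat_lit 0x70fa000b5a0aa00),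
 (nat_lit 0x1234c0033000004),
 (nat_lit 0x152c6f404220a8),
 (nat_lit 0xc900cb020007020),
 (nat_lit 0xc902000)]
noncomputable def n11 : Net := ben 6 [(nat_lit 0x3b0be9a27f14),
 (nat_lit 0xad7baca201a1),
 (nat_lit 0xf71a1a108802),
 (nat_lit 0x2850242d00c2),
 (nat_lit 0x8a508a540007400),
 (nat_lit 0x8a54000)]
noncomputable def n12 : Net := n11.rev
def ivl : List ℕ := [0, 1, 2, 3, 4, 5, 6, 7, 8, 9, 10, 12, 11]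
noncomputable def nl : List Net := [n0, n1, n2, n3, n4, n5, n6, Net.nil, n8, n9, n10, n11, n12]
theorem hn : NetsOK 61 (nth Net.nil nl) := netsOK_of_all (by decide +kernel)
theorem hiv : IvOK (sg (nth Net.nil nl)) (ivOf ivl) :=
  ivOK_of_chk (k := 6) hn (by decide) (n := 13) (by decide) (by decide) (allN_true.1 (by decide +kernel))
def R0 : List (List ℕ) := [[1, 0, 1, 0],
 [1, 5, 1, 5],
 [1, 9, 1, 9],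
 [1, 8, 1, 8],
 [3, 2, 3, 2],
 [3, 5, 3, 5],
 [3, 9, 3, 9],
 [3, 8, 3, 8],
 [0, 4, 0, 4],
 [0, 6, 0, 6],
 [0, 9, 0, 9],
 [0, 8, 0, 8],
 [2, 4, 2, 4],
 [2, 9, 2, 9],
 [2, 8, 2, 8],
 [4, 6, 4, 6],
 [4, 8, 4, 8],
 [5, 8, 5, 8],
 [6, 8, 6, 8],
 [9, 8, 9, 8],
 [1, 3, 1, 3, 8],
 [1, 0, 4, 1, 4],
 [1, 0, 5, 0, 5],
 [3, 0, 3, 0, 9],
 [3, 2, 4, 3, 4],
 [3, 2, 5, 2, 5],
 [0, 2, 0, 2, 8],
 [0, 6, 9, 6, 9],
 [2, 4, 6, 2, 6],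
 [4, 9, 4, 9, 8],
 [5, 9, 5, 9, 8],
 [1, 0, 1, 6, 0, 6],
 [1, 0, 1, 9, 0, 9],
 [1, 0, 1, 8, 0, 8],
 [1, 0, 6, 1, 6, 8],
 [1, 0, 6, 1, 8, 6],
 [1, 0, 6, 8, 1, 6],
 [1, 2, 1, 2, 9, 8],
 [1, 2, 1, 2, 8, 9],
 [1, 2, 9, 1, 8, 2],
 [1, 4, 5, 0, 5, 4],
 [1, 5, 9, 1, 9, 5],
 [1, 5, 8, 1, 8, 5],
 [1, 9, 8, 1, 8, 9],
 [3, 0, 3, 6, 9, 6],
 [3, 2, 3, 9, 2, 9],
 [3, 2, 3, 8, 2, 8],
 [3, 4, 3, 6, 2, 6],
 [3, 4, 5, 2, 5, 4],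
 [3, 5, 9, 3, 9, 5],
 [3, 5, 8, 3, 8, 5],
 [3, 6, 3, 6, 3, 6],
 [3, 9, 8, 3, 8, 9],
 [0, 4, 6, 0, 6, 4],
 [0, 4, 9, 0, 9, 4],
 [0, 4, 8, 0, 8, 4],
 [0, 6, 8, 0, 8, 6],
 [0, 9, 8, 0, 8, 9],
 [2, 4, 9, 2, 9, 4],
 [2, 4, 8, 2, 8, 4],
 [4, 5, 4, 5, 4, 5],
 [4, 5, 9, 5, 4, 9],
 [4, 6, 8, 4, 8, 6],
 [5, 6, 5, 6, 5, 6],
 [6, 9, 8, 9, 6, 8],
 [10, 0, 10, 0],
 [10, 1, 10, 1, 0],
 [10, 2, 10, 3, 2],
 [10, 3, 10, 3],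
 [10, 8, 10, 9, 8],
 [10, 9, 10, 9],
 [10, 4, 5, 10, 4, 5, 12],
 [11, 11, 11],
 [0, 11, 0, 12],
 [1, 11, 1, 12],
 [2, 11, 2, 12],
 [3, 11, 3, 12],
 [4, 11, 4, 12],
 [5, 11, 5, 12],
 [6, 11, 6, 12],
 [8, 11, 8, 12],
 [9, 11, 9, 12],
 [10, 11, 10, 12],
 [10, 5, 10, 5, 10, 5],
 [10, 1, 5, 10, 1, 5, 10, 1, 5],
 [10, 3, 5, 10, 3, 5, 10, 3, 5, 10, 3, 5, 10, 3, 5, 10, 3, 5],
 [10, 5, 8, 10, 5, 8, 10, 5, 8],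
 [10, 1, 5, 8, 10, 1, 5, 8, 10, 1, 5, 8],
 [10, 3, 5, 8, 10, 3, 5, 8, 10, 3, 5, 8, 10, 3, 5, 8, 10, 3, 5, 8, 10, 3, 5, 8],
 [10, 4, 5, 4, 10, 4, 5, 4, 10, 4, 5, 4],
 [10, 5, 6, 5, 10, 5, 6, 5, 10, 5, 6, 5, 10, 5, 6, 5, 10, 5, 6, 5],
 [10, 4, 5, 6, 5, 4, 10, 4, 5, 6, 5, 4, 10, 4, 5, 6, 5, 4, 10, 4, 5, 6, 5, 4, 10, 4, 5, 6, 5, 4],
 [10, 4, 10, 4, 10, 4],
 [10, 0, 4, 10, 0, 4, 10, 0, 4, 10, 0, 4, 10, 0, 4, 10, 0, 4],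
 [10, 2, 4, 10, 2, 4, 10, 2, 4],
 [10, 4, 8, 10, 4, 8, 10, 4, 8],
 [4, 6, 10, 4, 6, 10, 4, 6, 10]]
theorem hR0 : ∀ r ∈ R0, ev (sg (nth Net.nil nl)) r = 1 :=
  rels_of_chk (k := 6) hn (by decide) hiv (allN_true.1 (by decide +kernel))

end H5.MO1
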