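import Mathlib
import Cfsg.Agent.H5.MO1
import Cfsg.Agent.H29.Cert

set_option autoImplicit false
set_option maxRecDepth 100000
set_option Elab.async false
set_option linter.all false

namespace H5.MO1X

open H29

noncomputable def x13 : Net := ben 6 [(nat_lit 0x45ac8169f5476c0),
 (nat_lit 0x53507b56ce20310),
 (nat_lit 0x1089efddd2ab8102),
 (nat_lit 0x803d141785c0080),
 (nat_lit 0x11ea1bea0000b880),
 (nat_lit 0x11ea4000)]
noncomputable def x15 : Net := ben 6 [(nat_lit 0xc814792f2947400),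
 (nat_lit 0xa3472178d220200),
 (nat_lit 0x103624826040102),
 (nat_lit 0x21d81c086fe0060),
 (nat_lit 0x82d1aad8000a7b0),
 (nat_lit 0x82da412)]
noncomputable def x17 : Net := ben 6 [(nat_lit 0x796bccc3f0d10c0),
 (nat_lit 0x6c600aa05f0a110),
 (nat_lit 0x1113572211040002),
 (nat_lit 0x409e9f900300000),
 (nat_lit 0x108050980008280),
 (nat_lit 0x108e800)]
noncomputable def x19 : Net := ben 6 [(nat_lit 0x1fff00000000000),
 (nat_lit 0x72500000000000),
 (nat_lit 0x111b880000000000),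
 (nat_lit 0x1015404000000000),
 (nat_lit 0x184000000000),
 (nat_lit 0x0)]
noncomputable def x21 : Net := ben 6 [(nat_lit 0x1e7f00000000000),
 (nat_lit 0xf500000000000),
 (nat_lit 0x25440000000000),
 (nat_lit 0xb808000000000),
 (nat_lit 0x148000000000),
 (nat_lit 0x0)]
noncomputable def x23 : Net := ben 6 [(nat_lit 0x3cc000000000000),
 (nat_lit 0x5f5000000000000),
 (nat_lit 0x123000000000000),
 (nat_lit 0x1fe0e000000000),
 (nat_lit 0xe000000000),
 (nat_lit 0x0)]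
noncomputable def x25 : Net := ben 6 [(nat_lit 0xf75400000000000),
 (nat_lit 0xdda700000000000),
 (nat_lit 0x1f6aa0000000000),
 (nat_lit 0x121c000000000000),
 (nat_lit 0x1a0000000000),
 (nat_lit 0x0)]
noncomputable def x27 : Net := ben 6 [(nat_lit 0x90db3f3103f3f03),
 (nat_lit 0x49ee4abaf444410),
 (nat_lit 0x1c5554d000d0d01),
 (nat_lit 0x1e2cfcc8ea00e1),
 (nat_lit 0x4000520c0002821),
 (nat_lit 0x400ca91)]
noncomputable def ly : List Net := [x13, x15, x17, x19, x21, x23, x25, x27]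
noncomputable def nx : ℕ → Net := nth Net.nil (MO1.nl ++ dbl ly)
def ivx : List ℕ := [0, 1, 2, 3, 4, 5, 6, 7, 8, 9, 10, 12, 11, 14, 13, 16, 15, 18, 17, 20, 19, 22, 21, 24, 23, 26, 25, 28, 27]
def defs : List (List ℕ) := [[12, 9, 0, 8, 3, 11, 0, 2, 1, 5],
 [10, 11, 9, 1, 10, 3, 0, 12, 3, 6, 4, 2, 14, 6],
 [14, 14, 16, 10, 4, 6, 4, 15, 4, 0, 6, 5, 10, 11, 6],
 [17, 17, 17, 17, 17, 17, 17, 17, 17, 17],
 [14, 16, 14, 11, 13, 0, 18, 14, 12, 13, 19, 0, 15, 1, 5],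
 [18, 5, 1, 2, 20, 18, 13, 1, 8],
 [18, 13, 15, 13, 15, 23, 15, 23, 13, 20, 16, 13, 15, 14, 18],
 [14, 15, 18, 16, 21, 13, 19, 18, 19, 23, 22, 14, 22, 16, 16]]
theorem hext : chkExt 13 defs MO1.ivl ivx = true := by decide +kernel
theorem hn : NetsOK 61 nx := netsOK_ext MO1.hn (by decide +kernel)
theorem hiv : IvOK (sg nx) (ivOf ivx) := ivOK_ext MO1.hiv hext rfl rfl
theorem hdef : ∀ r ∈ defRels defs 13, ev (sg nx) r = 1 :=
  rels_of_chk (k := 6) hn (by decide) hiv (allN_true.1 (by decide +kernel))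
theorem ch : chkChain 61 6 nx [(0, 2, 45, [13, 15, 17, 19, 21, 23, 25, 27]),
 (30, 3, 42, [17, 19, 21, 23, 25, 27]),
 (34, 1, 4, [19, 21, 23, 25]),
 (60, 1, 16, [])] [0, 1, 2, 3, 4, 5, 6, 8, 9, 10, 11, 12, 13, 15, 17, 19, 21, 23, 25, 27] = true := by decide +kernel
theorem map {G : Type} [Group G] {e : ℕ → G} {ρ : G →* Equiv.Perm ℕ}
    (h : ∀ c, ρ (e c) = sg (nth Net.nil MO1.nl) c) : ∀ c, ρ (extE e 13 defs c) = sg nx c :=
  map_ext hext hiv hdef rfl rfl h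

end H5.MO1X
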