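import Mathlib
import Cfsg.Agent.H29.Ext

set_option autoImplicit false
set_option maxRecDepth 100000
set_option Elab.async false
set_option linter.all false

namespace H5.MO2

open H29

noncomputable def n0 : Net := ben 6 [(nat_lit 0x3c0333f003f0300),
 (nat_lit 0x25a06bb1bba0500),
 (nat_lit 0x46005536570044),
 (nat_lit 0x14c7e2585d8084),
 (nat_lit 0x30c03cc8000f880),
 (nat_lit 0x30c8000)]
noncomputable def n1 : Net := ben 6 [(nat_lit 0xf0c3f33303c0c00),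
 (nat_lit 0x2f0a7f5f151f000),
 (nat_lit 0x4c88bb22004444),
 (nat_lit 0x14606da2af6064),
 (nat_lit 0x9200f26000f260),
 (nat_lit 0x926000)]
noncomputable def n2 : Net := ben 6 [(nat_lit 0xc0c00000000000),
 (nat_lit 0x783700000000000),
 (nat_lit 0x16c000000000000),
 (nat_lit 0x101e000000000000),
 (nat_lit 0x100000000000),
 (nat_lit 0x0)]
noncomputable def n3 : Net := ben 6 [(nat_lit 0x34d000000000000),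
 (nat_lit 0x272200000000000),
 (nat_lit 0x129000000000000),
 (nat_lit 0xe404000000000),
 (nat_lit 0x4000000000),
 (nat_lit 0x0)]
noncomputable def n4 : Net := ben 6 [(nat_lit 0xcfc3c00f33f00f0),
 (nat_lit 0x505a77002f00a00),
 (nat_lit 0x1cd55ee4488dd02),
 (nat_lit 0xe22682a2a20f0),
 (nat_lit 0x109e10bea000ae20),
 (nat_lit 0x109ea000)]
noncomputable def n5 : Net := ben 6 [(nat_lit 0xf0f3c33f1fcc0c0),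
 (nat_lit 0xa500550a05aa110),
 (nat_lit 0x223322ddcc0002),
 (nat_lit 0x1f60721abb40c0),
 (nat_lit 0xc004c40005a40),
 (nat_lit 0xc6000)]
noncomputable def n7 : Net := ben 6 [(nat_lit 0x73f0c0cc0c7c3c0),
 (nat_lit 0xa755aaf7af000a0),
 (nat_lit 0x48c0300449902),
 (nat_lit 0x8194aca263600d0),
 (nat_lit 0x102010a40006600),
 (nat_lit 0x1024800)]
noncomputable def n8 : Net := ben 6 [(nat_lit 0x400300000000000),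
 (nat_lit 0xf5a000000000000),
 (nat_lit 0x1157000000000000),
 (nat_lit 0x101dc0c000000000),
 (nat_lit 0x10c000000000),
 (nat_lit 0x0)]
noncomputable def n9 : Net := ben 6 [(nat_lit 0xf7300000000000),
 (nat_lit 0xb5a000000000000),
 (nat_lit 0x1133000000000000),
 (nat_lit 0x101bc0c000000000),
 (nat_lit 0x10c000000000),
 (nat_lit 0x0)]
noncomputable def n10 : Net := ben 6 [(nat_lit 0x3c00c00fc0cc3c1),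
 (nat_lit 0xa500ba0faf50a00),
 (nat_lit 0x2288dd130a0204),
 (nat_lit 0x1f484801670088),
 (nat_lit 0x811085180009100),
 (nat_lit 0x811c000)]
noncomputable def n11 : Net := ben 6 [(nat_lit 0x31f3fe962164),
 (nat_lit 0xab401941e9b1),
 (nat_lit 0x77180cad7502),
 (nat_lit 0x54a4a0380052),
 (nat_lit 0x43204324000e540),
 (nat_lit 0x4324000)]
noncomputable def n12 : Net := n11.rev
def ivl : List ℕ := [0, 1, 2, 3, 4, 5, 6, 7, 8, 9, 10, 12, 11]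
noncomputable def nl : List Net := [n0, n1, n2, n3, n4, n5, Net.nil, n7, n8, n9, n10, n11, n12]
theorem hn : NetsOK 61 (nth Net.nil nl) := netsOK_of_all (by decide +kernel)
theorem hiv : IvOK (sg (nth Net.nil nl)) (ivOf ivl) :=
  ivOK_of_chk (k := 6) hn (by decide) (n := 13) (by decide) (by decide) (allN_true.1 (by decide +kernel))
def R0 : List (List ℕ) := [[1, 0, 1, 0],
 [1, 5, 1, 5],
 [1, 9, 1, 9],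
 [1, 8, 1, 8],
 [3, 2, 3, 2],
 [3, 5, 3, 5],
 [3, 9, 3, 9],
 [3, 8, 3, 8],
 [0, 4, 0, 4],
 [0, 9, 0, 9],
 [0, 8, 0, 8],
 [2, 4, 2, 4],
 [2, 7, 2, 7],
 [2, 9, 2, 9],
 [2, 8, 2, 8],
 [4, 7, 4, 7],
 [4, 8, 4, 8],
 [5, 8, 5, 8],
 [7, 8, 7, 8],
 [9, 8, 9, 8],
 [1, 3, 1, 3, 8],
 [1, 0, 4, 1, 4],
 [1, 0, 5, 0, 5],
 [3, 0, 3, 0, 9],
 [3, 2, 4, 3, 4],
 [3, 2, 5, 2, 5],
 [0, 2, 0, 2, 8],
 [0, 4, 7, 0, 7],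
 [2, 7, 9, 7, 9],
 [4, 9, 4, 9, 8],
 [5, 9, 5, 9, 8],
 [1, 0, 1, 9, 0, 9],
 [1, 0, 1, 8, 0, 8],
 [1, 2, 1, 2, 9, 8],
 [1, 2, 1, 2, 8, 9],
 [1, 2, 9, 1, 8, 2],
 [1, 4, 1, 7, 0, 7],
 [1, 4, 5, 0, 5, 4],
 [1, 5, 9, 1, 9, 5],
 [1, 5, 8, 1, 8, 5],
 [1, 7, 1, 7, 1, 7],
 [1, 9, 8, 1, 8, 9],
 [3, 2, 3, 7, 2, 7],
 [3, 2, 3, 9, 2, 9],
 [3, 2, 3, 8, 2, 8],
 [3, 2, 7, 3, 7, 8],
 [3, 2, 7, 3, 8, 7],
 [3, 2, 7, 8, 3, 7],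
 [3, 4, 5, 2, 5, 4],
 [3, 5, 9, 3, 9, 5],
 [3, 5, 8, 3, 8, 5],
 [3, 9, 8, 3, 8, 9],
 [0, 4, 9, 0, 9, 4],
 [0, 4, 8, 0, 8, 4],
 [0, 9, 8, 0, 8, 9],
 [2, 4, 7, 2, 7, 4],
 [2, 4, 9, 2, 9, 4],
 [2, 4, 8, 2, 8, 4],
 [2, 7, 8, 2, 8, 7],
 [4, 5, 4, 5, 4, 5],
 [4, 5, 9, 5, 4, 9],
 [4, 7, 8, 4, 8, 7],
 [5, 7, 5, 7, 5, 7],
 [7, 9, 8, 9, 7, 8],
 [10, 0, 10, 0],
 [10, 1, 10, 1, 0],
 [10, 2, 10, 3, 2],
 [10, 3, 10, 3],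
 [10, 8, 10, 9, 8],
 [10, 9, 10, 9],
 [10, 4, 5, 10, 4, 5, 12],
 [11, 11, 11],
 [0, 11, 0, 12],
 [1, 11, 1, 12],
 [2, 11, 2, 12],
 [3, 11, 3, 12],
 [4, 11, 4, 12],
 [5, 11, 5, 12],
 [7, 11, 7, 12],
 [8, 11, 8, 12],
 [9, 11, 9, 12],
 [10, 11, 10, 12],
 [10, 5, 10, 5, 10, 5],
 [10, 1, 5, 10, 1, 5, 10, 1, 5],
 [10, 3, 5, 10, 3, 5, 10, 3, 5, 10, 3, 5, 10, 3, 5, 10, 3, 5],
 [10, 5, 8, 10, 5, 8, 10, 5, 8],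
 [10, 1, 5, 8, 10, 1, 5, 8, 10, 1, 5, 8],
 [10, 3, 5, 8, 10, 3, 5, 8, 10, 3, 5, 8, 10, 3, 5, 8, 10, 3, 5, 8, 10, 3, 5, 8],
 [10, 4, 5, 4, 10, 4, 5, 4, 10, 4, 5, 4],
 [10, 4, 10, 4, 10, 4],
 [10, 7, 10, 7, 10, 7, 10, 7, 10, 7],
 [10, 0, 4, 10, 0, 4, 10, 0, 4, 10, 0, 4, 10, 0, 4, 10, 0, 4],
 [10, 2, 4, 10, 2, 4, 10, 2, 4],
 [10, 2, 7, 10, 2, 7, 10, 2, 7, 10, 2, 7, 10, 2, 7],
 [10, 4, 7, 10, 4, 7, 10, 4, 7, 10, 4, 7, 10, 4, 7],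
 [10, 4, 8, 10, 4, 8, 10, 4, 8],
 [10, 7, 8, 10, 7, 8, 10, 7, 8, 10, 7, 8, 10, 7, 8],
 [10, 5, 7, 5, 10, 5, 7, 5, 10, 5, 7, 5, 10, 5, 7, 5, 10, 5, 7, 5],
 [10, 5, 2, 7, 5, 10, 5, 2, 7, 5, 10, 5, 2, 7, 5, 10, 5, 2, 7, 5, 10, 5, 2, 7, 5],
 [10, 5, 4, 7, 5, 10, 5, 4, 7, 5, 10, 5, 4, 7, 5, 10, 5, 4, 7, 5, 10, 5, 4, 7, 5],
 [5, 7, 10, 5, 7, 10, 5, 7, 10]]
theorem hR0 : ∀ r ∈ R0, ev (sg (nth Net.nil nl)) r = 1 :=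
  rels_of_chk (k := 6) hn (by decide) hiv (allN_true.1 (by decide +kernel))

end H5.MO2
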