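import Mathlib
import Cfsg.Agent.H5.MO2
import Cfsg.Agent.H29.Cert

set_option autoImplicit false
set_option maxRecDepth 100000
set_option Elab.async false
set_option linter.all false

namespace H5.MO2X

open H29

noncomputable def x13 : Net := ben 6 [(nat_lit 0x43e834ccfd3cc00),
 (nat_lit 0xb4d7b1f0eba0e30),
 (nat_lit 0x112b9d8e1588d900),
 (nat_lit 0xba0e440100052),
 (nat_lit 0x6990eb900000d40),
 (nat_lit 0x6999040)]
noncomputable def x15 : Net := ben 6 [(nat_lit 0x400300000000000),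
 (nat_lit 0xf5a000000000000),
 (nat_lit 0x1157000000000000),
 (nat_lit 0x101dc0c000000000),
 (nat_lit 0x10c000000000),
 (nat_lit 0x0)]
noncomputable def x17 : Net := ben 6 [(nat_lit 0xb023c3d7c341c00),
 (nat_lit 0x72bea00fa0f0a20),
 (nat_lit 0x1617764bb025500),
 (nat_lit 0x4113b1b81e20012),
 (nat_lit 0x2bc06bf20000900),
 (nat_lit 0x2bce140)]
noncomputable def x19 : Net := ben 6 [(nat_lit 0x33fb9e94df21320),
 (nat_lit 0x17bc49ee36b5a0),
 (nat_lit 0x10c3b6f9b073f02),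
 (nat_lit 0x18baf00150070),
 (nat_lit 0x1fd81fd820006b40),
 (nat_lit 0x1fd8a000)]
noncomputable def x21 : Net := ben 6 [(nat_lit 0xb86f00c3033d0c0),
 (nat_lit 0x27241050f11a110),
 (nat_lit 0x1c7222245000002),
 (nat_lit 0x10158cac20280000),
 (nat_lit 0x40214828000e280),
 (nat_lit 0x4028800)]
noncomputable def x23 : Net := ben 6 [(nat_lit 0xc5cf46a4788c620),
 (nat_lit 0xf74a60765dfa620),
 (nat_lit 0x1022c42ee9160502),
 (nat_lit 0x40bf231a43c00e0),
 (nat_lit 0xc043cc000f6d2),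
 (nat_lit 0xcd102)]
noncomputable def x25 : Net := ben 6 [(nat_lit 0xa65800c3033d0c0),
 (nat_lit 0x69601050f11a110),
 (nat_lit 0x102b662245000002),
 (nat_lit 0x4168cac20280000),
 (nat_lit 0x40206068000e280),
 (nat_lit 0x4028800)]
noncomputable def x27 : Net := ben 6 [(nat_lit 0xc0c333c33000c00),
 (nat_lit 0xa5a0bf2a2d72610),
 (nat_lit 0x8dd4437bf7d00),
 (nat_lit 0xd1f9c9c091b0052),
 (nat_lit 0x3010f00000b02),
 (nat_lit 0x34cb0)]
noncomputable def x29 : Net := ben 6 [(nat_lit 0xcc0cc0139f64d00),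
 (nat_lit 0xa00aa019af00a0),
 (nat_lit 0x1100994400048c22),
 (nat_lit 0x7f173189460e2),
 (nat_lit 0x2800ae000009fe0),
 (nat_lit 0x280e112)]
noncomputable def ly : List Net := [x13, x15, x17, x19, x21, x23, x25, x27, x29]
noncomputable def nx : ℕ → Net := nth Net.nil (MO2.nl ++ dbl ly)
def ivx : List ℕ := [0, 1, 2, 3, 4, 5, 6, 7, 8, 9, 10, 12, 11, 14, 13, 16, 15, 18, 17, 20, 19, 22, 21, 24, 23, 26, 25, 28, 27, 30, 29]
def defs : List (List ℕ) := [[11, 5, 7, 4, 7, 1, 12, 9, 5, 0],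
 [14, 14, 14, 14, 14, 14, 14, 14, 14, 14],
 [13, 0, 16, 9, 8, 16, 1, 8, 16, 9],
 [10, 14, 10, 16, 16, 17, 3, 0, 4, 10, 18, 11, 10],
 [18, 15, 19, 13, 16, 17, 14, 14, 18, 19, 14, 19],
 [11, 2, 22, 16, 7, 4, 20, 13, 12, 8],
 [23, 20, 22, 24, 18, 19, 19, 15, 24, 18, 23, 17, 23],
 [24, 21, 13, 22, 22, 16, 24, 15, 19, 14, 14, 15],
 [22, 25, 23, 22, 28, 28, 24, 13, 26, 28, 22, 26, 23]]
theorem hext : chkExt 13 defs MO2.ivl ivx = true := by decide +kernel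
theorem hn : NetsOK 61 nx := netsOK_ext MO2.hn (by decide +kernel)
theorem hiv : IvOK (sg nx) (ivOf ivx) := ivOK_ext MO2.hiv hext rfl rfl
theorem hdef : ∀ r ∈ defRels defs 13, ev (sg nx) r = 1 :=
  rels_of_chk (k := 6) hn (by decide) hiv (allN_true.1 (by decide +kernel))
theorem ch : chkChain 61 6 nx [(0, 2, 45, [13, 15, 17, 19, 21, 23, 25, 27, 29]),
 (35, 2, 42, [15, 21, 25, 27, 29]),
 (52, 2, 16, [27, 29]),
 (12, 1, 4, [])] [0, 1, 2, 3, 4, 5, 7, 8, 9, 10, 11, 12, 13, 15, 17, 19, 21, 23, 25, 27, 29] = true := by decide +kernel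
theorem map {G : Type} [Group G] {e : ℕ → G} {ρ : G →* Equiv.Perm ℕ}
    (h : ∀ c, ρ (e c) = sg (nth Net.nil MO2.nl) c) : ∀ c, ρ (extE e 13 defs c) = sg nx c :=
  map_ext hext hiv hdef rfl rfl h

end H5.MO2X
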