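import Mathlib
import Cfsg.Agent.H5.MM
import Cfsg.Agent.H5.MN1
import Cfsg.Agent.H5.MN2
import Cfsg.Agent.H5.MH1
import Cfsg.Agent.H5.MH2
import Cfsg.Agent.H5.MK
import Cfsg.Agent.H5.MC0
import Cfsg.Agent.H5.MY3
import Cfsg.Agent.H5.MO1X
import Cfsg.Agent.H5.MO2X
import Cfsg.Agent.H5.MSX
import Cfsg.Agent.H9.CG

set_option autoImplicit false
set_option maxRecDepth 100000
set_option Elab.async false
set_option linter.all false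

namespace H5.McP

open H29

open H9.MX

/-- Inverse letters. -/
def ivl : List ℕ := [0, 1, 2, 3, 4, 5, 6, 7, 8, 9, 10, 12, 11]
/-- All letters: `a A c C j k p q z t b y y⁻¹`. -/
def cols : List ℕ := [0, 1, 2, 3, 4, 5, 6, 7, 8, 9, 10, 11, 12]
/-- Relators of `2A₈`. -/
def RC : List (List ℕ) := [[1, 0, 1, 0],
  [1, 5, 1, 5],
  [1, 9, 1, 9],
  [1, 8, 1, 8],
  [3, 2, 3, 2],
  [3, 5, 3, 5],
  [3, 9, 3, 9],
  [3, 8, 3, 8],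
  [0, 4, 0, 4],
  [0, 6, 0, 6],
  [0, 9, 0, 9],
  [0, 8, 0, 8],
  [2, 4, 2, 4],
  [2, 7, 2, 7],
  [2, 9, 2, 9],
  [2, 8, 2, 8],
  [4, 6, 4, 6],
  [4, 7, 4, 7],
  [4, 8, 4, 8],
  [5, 8, 5, 8],
  [6, 8, 6, 8],
  [7, 8, 7, 8],
  [9, 8, 9, 8],
  [1, 3, 1, 3, 8],
  [1, 0, 4, 1, 4],
  [1, 0, 5, 0, 5],
  [3, 0, 3, 0, 9],
  [3, 2, 4, 3, 4],
  [3, 2, 5, 2, 5],
  [0, 2, 0, 2, 8],
  [0, 4, 7, 0, 7],
  [0, 6, 9, 6, 9],
  [2, 4, 6, 2, 6],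
  [2, 7, 9, 7, 9],
  [4, 9, 4, 9, 8],
  [5, 9, 5, 9, 8],
  [1, 0, 1, 6, 0, 6],
  [1, 0, 1, 9, 0, 9],
  [1, 0, 1, 8, 0, 8],
  [1, 0, 6, 1, 6, 8],
  [1, 0, 6, 1, 8, 6],
  [1, 0, 6, 8, 1, 6],
  [1, 2, 1, 2, 9, 8],
  [1, 2, 1, 2, 8, 9],
  [1, 2, 9, 1, 8, 2],
  [1, 4, 1, 7, 0, 7],
  [1, 4, 5, 0, 5, 4],
  [1, 5, 9, 1, 9, 5],
  [1, 5, 8, 1, 8, 5],
  [1, 7, 1, 7, 1, 7],
  [1, 9, 8, 1, 8, 9],
  [3, 0, 3, 6, 9, 6],
  [3, 2, 3, 7, 2, 7],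
  [3, 2, 3, 9, 2, 9],
  [3, 2, 3, 8, 2, 8],
  [3, 2, 7, 3, 7, 8],
  [3, 2, 7, 3, 8, 7],
  [3, 2, 7, 8, 3, 7],
  [3, 4, 3, 6, 2, 6],
  [3, 4, 5, 2, 5, 4],
  [3, 5, 9, 3, 9, 5],
  [3, 5, 8, 3, 8, 5],
  [3, 6, 3, 6, 3, 6],
  [3, 9, 8, 3, 8, 9],
  [0, 4, 6, 0, 6, 4],
  [0, 4, 9, 0, 9, 4],
  [0, 4, 8, 0, 8, 4],
  [0, 6, 8, 0, 8, 6],
  [0, 9, 8, 0, 8, 9],
  [2, 4, 7, 2, 7, 4],
  [2, 4, 9, 2, 9, 4],
  [2, 4, 8, 2, 8, 4],
  [2, 7, 8, 2, 8, 7],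
  [4, 5, 4, 5, 4, 5],
  [4, 5, 9, 5, 4, 9],
  [4, 6, 7, 4, 7, 6],
  [4, 6, 7, 6, 8, 7],
  [4, 6, 7, 8, 6, 7],
  [4, 6, 8, 4, 8, 6],
  [4, 6, 8, 7, 6, 7],
  [4, 7, 8, 4, 8, 7],
  [5, 6, 5, 6, 5, 6],
  [5, 7, 5, 7, 5, 7],
  [6, 9, 8, 9, 6, 8],
  [7, 9, 8, 9, 7, 8]]
/-- Relators describing the action of `b`. -/
def RB : List (List ℕ) := [[10, 0, 10, 0],
  [10, 1, 10, 1, 0],
  [10, 2, 10, 3, 2],
  [10, 3, 10, 3],
  [10, 8, 10, 9, 8],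
  [10, 9, 10, 9],
  [10, 4, 5, 10, 4, 5, 12]]
/-- Relators of `y`. -/
def RY : List (List ℕ) := [[11, 11, 11],
  [0, 11, 0, 12],
  [1, 11, 1, 12],
  [2, 11, 2, 12],
  [3, 11, 3, 12],
  [4, 11, 4, 12],
  [5, 11, 5, 12],
  [6, 11, 6, 12],
  [7, 11, 7, 12],
  [8, 11, 8, 12],
  [9, 11, 9, 12],
  [10, 11, 10, 12]]
/-- Relators from the normalisers of the groups of order 16. -/
def RE : List (List ℕ) := [[10, 5, 10, 5, 10, 5],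
  [10, 1, 5, 10, 1, 5, 10, 1, 5],
  [10, 3, 5, 10, 3, 5, 10, 3, 5, 10, 3, 5, 10, 3, 5, 10, 3, 5],
  [10, 5, 8, 10, 5, 8, 10, 5, 8],
  [10, 1, 5, 8, 10, 1, 5, 8, 10, 1, 5, 8],
  [10, 3, 5, 8, 10, 3, 5, 8, 10, 3, 5, 8, 10, 3, 5, 8, 10, 3, 5, 8, 10, 3, 5, 8],
  [10, 4, 5, 4, 10, 4, 5, 4, 10, 4, 5, 4],
  [10, 5, 6, 5, 10, 5, 6, 5, 10, 5, 6, 5, 10, 5, 6, 5, 10, 5, 6, 5],
  [10, 4, 5, 6, 5, 4, 10, 4, 5, 6, 5, 4, 10, 4, 5, 6, 5, 4, 10, 4, 5, 6, 5, 4, 10, 4, 5, 6, 5, 4],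
  [10, 4, 10, 4, 10, 4],
  [10, 7, 10, 7, 10, 7, 10, 7, 10, 7],
  [10, 0, 4, 10, 0, 4, 10, 0, 4, 10, 0, 4, 10, 0, 4, 10, 0, 4],
  [10, 2, 4, 10, 2, 4, 10, 2, 4],
  [10, 2, 7, 10, 2, 7, 10, 2, 7, 10, 2, 7, 10, 2, 7],
  [10, 4, 7, 10, 4, 7, 10, 4, 7, 10, 4, 7, 10, 4, 7],
  [10, 4, 8, 10, 4, 8, 10, 4, 8],
  [10, 7, 8, 10, 7, 8, 10, 7, 8, 10, 7, 8, 10, 7, 8],
  [10, 5, 7, 5, 10, 5, 7, 5, 10, 5, 7, 5, 10, 5, 7, 5, 10, 5, 7, 5],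
  [10, 5, 2, 7, 5, 10, 5, 2, 7, 5, 10, 5, 2, 7, 5, 10, 5, 2, 7, 5, 10, 5, 2, 7, 5],
  [10, 5, 4, 7, 5, 10, 5, 4, 7, 5, 10, 5, 4, 7, 5, 10, 5, 4, 7, 5, 10, 5, 4, 7, 5]]
/-- All relators. -/
def RA : List (List ℕ) := RC ++ RB ++ RY ++ RE

section
variable {G : Type} [Group G] {e : ℕ → G} (h1 : IvOK e (ivOf ivl))
include h1

theorem bdH1 (h2 : ∀ r ∈ MN1.R0, ev e r = 1) {m : ℕ} (h : Bd (gen e [11, 12]) m) :
    Bd (gen e MH1.cols) (7 * (384 * m)) :=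
  MH1.bd h1 (rels_sub h2 (by decide +kernel)) (MK.bd h1 (rels_sub h2 (by decide +kernel)) h)

theorem bdH2 (h2 : ∀ r ∈ MN2.R0, ev e r = 1) {m : ℕ} (h : Bd (gen e [11, 12]) m) :
    Bd (gen e MH2.cols) (7 * (384 * m)) :=
  MH2.bd h1 (rels_sub h2 (by decide +kernel)) (MK.bd h1 (rels_sub h2 (by decide +kernel)) h)

theorem bdY (h2 : ev e [11, 11, 11] = 1) : Bd (gen e [11, 12]) (3 * 1) :=
  MY3.bd h1 (fun r hr => by rw [List.mem_singleton.1 hr]; exact h2) (bd_nil _)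

end

theorem ubN1 : UBd (ivOf ivl) MN1.R0 MN1.cols 120960 := fun _ _ _ h1 h2 =>
  MN1.bd h1 h2 (bdH1 h1 h2 (bdY h1 (h2 _ (by decide +kernel))))

theorem ubN2 : UBd (ivOf ivl) MN2.R0 MN2.cols 120960 := fun _ _ _ h1 h2 =>
  MN2.bd h1 h2 (bdH2 h1 h2 (bdY h1 (h2 _ (by decide +kernel))))

theorem tr1 {G : Type} [Group G] {e : ℕ → G} (h1 : IvOK e (ivOf ivl))
    (h2 : ∀ r ∈ MN1.R0, ev e r = 1) : Tr (sg (nth Net.nil MO1.nl)) e MN1.cols := by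
  have hiv : IvOK (pe MO1.nl) (ivOf ivl) := ivOK_sub _ MO1.hiv
  have hR : ∀ r ∈ MN1.R0, ev (pe MO1.nl) r = 1 := rels_subE _ (rels_sub MO1.hR0 (by decide +kernel))
  have top : gen (pe MO1.nl) MN1.cols = ⊤ := pe_top (by decide +kernel)
  have card := card_eq_of_chain MO1X.hn ((ubN1 _ _ hiv hR).of_top top)
    (fun c _ => MO1X.map (pe_rho _) c) MO1X.ch (by decide +kernel)
  exact (Tr.of_injective (PG MO1.nl).subtype Subtype.val_injective fun c _ => pe_rho _ c).trans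
    (tr_of_bd ubN1 (by decide) hiv h1 hR h2 (by rw [top, Subgroup.card_top, card.1]))

theorem tr2 {G : Type} [Group G] {e : ℕ → G} (h1 : IvOK e (ivOf ivl))
    (h2 : ∀ r ∈ MN2.R0, ev e r = 1) : Tr (sg (nth Net.nil MO2.nl)) e MN2.cols := by
  have hiv : IvOK (pe MO2.nl) (ivOf ivl) := ivOK_sub _ MO2.hiv
  have hR : ∀ r ∈ MN2.R0, ev (pe MO2.nl) r = 1 := rels_subE _ (rels_sub MO2.hR0 (by decide +kernel))
  have top : gen (pe MO2.nl) MN2.cols = ⊤ := pe_top (by decide +kernel)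
  have card := card_eq_of_chain MO2X.hn ((ubN2 _ _ hiv hR).of_top top)
    (fun c _ => MO2X.map (pe_rho _) c) MO2X.ch (by decide +kernel)
  exact (Tr.of_injective (PG MO2.nl).subtype Subtype.val_injective fun c _ => pe_rho _ c).trans
    (tr_of_bd ubN2 (by decide) hiv h1 hR h2 (by rw [top, Subgroup.card_top, card.1]))

section
variable {G : Type} [Group G] {e : ℕ → G} (h1 : IvOK e (ivOf ivl)) (h2 : ∀ r ∈ RA, ev e r = 1)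
include h1 h2

theorem relsM : ∀ r ∈ RA ++ [[4, 6, 10, 4, 6, 10, 4, 6, 10], [5, 7, 10, 5, 7, 10, 5, 7, 10]], ev e r = 1 :=
  rels_append h2 (List.forall_mem_cons.2 ⟨tr1 h1 (rels_sub h2 (by decide +kernel)) _ (by decide)
    (MO1.hR0 _ (by decide +kernel)), List.forall_mem_cons.2 ⟨tr2 h1 (rels_sub h2 (by decide +kernel)) _ (by decide)
    (MO2.hR0 _ (by decide +kernel)), fun _ h => absurd h List.not_mem_nil⟩⟩)

theorem bdC {m : ℕ} (h : Bd (gen e [11, 12]) m) : Bd (gen e MM.hcols) (15 * (7 * (384 * m))) :=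
  MC0.bd h1 (rels_sub h2 (by decide +kernel)) (bdH1 h1 (rels_sub h2 (by decide +kernel)) h)

theorem bdM {m : ℕ} (h : Bd (gen e [11, 12]) m) :
    Bd (gen e cols) (22275 * (15 * (7 * (384 * m)))) :=
  MM.bd h1 (rels_sub (relsM h1 h2) (by decide +kernel)) (bdC h1 h2 h)

theorem bdOne (h : e 11 = 1) : Bd (gen e [11, 12]) 1 :=
  (bd_nil e).of_le (gen_le.2 fun c hc => by
    have h3 : e 12 = 1 := (h1 11).trans (by rw [h, inv_one])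
    simp only [List.mem_cons, List.not_mem_nil, or_false] at hc
    rcases hc with rfl | rfl
    · rw [h]; exact one_mem _
    · rw [h3]; exact one_mem _)

end

theorem ub3 : UBd (ivOf ivl) RA cols 2694384000 := fun _ _ _ h1 h2 =>
  bdM h1 h2 (bdY h1 (h2 _ (by decide +kernel)))

theorem ub1 : UBd (ivOf ivl) (RA ++ [[11]]) cols 898128000 := fun _ _ _ h1 h2 =>
  bdM h1 (fun r hr => h2 r (List.mem_append_left _ hr))
    (bdOne h1 (fun r hr => h2 r (List.mem_append_left _ hr)) (by simpa using h2 [11] (by simp)))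

theorem hL : ∀ c ∈ cols, ivOf ivl c ∈ cols := by decide

/-- The McLaughlin group on 275 points. -/
abbrev S : Type := PG MS.nl
theorem hiv : IvOK (pe MS.nl) (ivOf ivl) := ivOK_sub _ MS.hiv
theorem hR0 : ∀ r ∈ MS.R0, ev (pe MS.nl) r = 1 := rels_subE _ MS.hR0
theorem hR : ∀ r ∈ RA ++ [[11]], ev (pe MS.nl) r = 1 := rels_sub hR0 (by decide +kernel)
theorem top : gen (pe MS.nl) cols = ⊤ := pe_top (by decide +kernel)
theorem card : Nat.card S = 898128000 ∧ ∀ g : S, (∀ i < 275, (PG MS.nl).subtype g i = i) → g = 1 :=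
  card_eq_of_chain MSX.hn ((ub1 _ _ hiv hR).of_top top) (fun c _ => MSX.map (pe_rho _) c) MSX.ch
    (by decide +kernel)
theorem trans : Trans (PG MS.nl).subtype 275 :=
  trans_of_reach (by decide) (PG_lt MS.hn) (fun c _ => pe_rho _ c)
    (reach_of_chk (L := cols) (r := 3) MS.hn (by decide +kernel))
theorem simple : IsSimpleGroup S :=
  simple_of_cert (q := 11) (m := 81648000) MSX.hn MSX.prim trans (MSX.map (pe_rho _)) card.2 card.1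
    MSX.wit (ivOK_extE hiv MSX.hext) (rels_extE hR0 (by decide +kernel))
    ((gen_extE _ _ (by decide)).trans top)
    (l := [(89, 0), (31, 0), (25, 0), (30, 0), (27, 1), (28, 0), (49, 0), (62, 0), (73, 0), (91, 0), (104, 0)])
    (by decide +kernel) (by norm_num)

theorem trS {G : Type} [Group G] {e : ℕ → G} (h1 : IvOK e (ivOf ivl))
    (h2 : ∀ r ∈ RA, ev e r = 1) (h3 : e 11 = 1) : Tr (pe MS.nl) e cols :=
  tr_of_bd ub1 hL hiv h1 hR (rels_append h2 (by simpa using h3))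
    (by rw [top, Subgroup.card_top, card.1])

theorem trP {G : Type} [Group G] {e : ℕ → G} (h1 : IvOK e (ivOf ivl))
    (h2 : ∀ r ∈ RA, ev e r = 1) (h3 : e 11 = 1) : Tr (sg (nth Net.nil MS.nl)) e cols :=
  (Tr.of_injective (PG MS.nl).subtype Subtype.val_injective fun c _ => pe_rho _ c).trans
    (trS h1 h2 h3)

/-- An embedding of the McLaughlin group matching the letters. -/
theorem exists_emb {G : Type} [Group G] {e : ℕ → G} (h1 : IvOK e (ivOf ivl))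
    (h2 : ∀ r ∈ RA, ev e r = 1) (h3 : e 11 = 1) (h4 : e 8 ≠ 1) :
    ∃ f : S →* G, Function.Injective f ∧ f.range = gen e cols ∧ ∀ c ∈ cols, f (pe MS.nl c) = e c := by
  obtain ⟨f, f1, f2⟩ := exists_hom_of_tr (trS h1 h2 h3) hiv h1 hL top
  refine ⟨f, (MonoidHom.ker_eq_bot_iff f).1 ?_, f1, f2⟩
  refine (simple.eq_bot_or_eq_top_of_normal f.ker inferInstance).resolve_right fun h => h4 ?_
  rw [← f2 8 (by decide)]
  exact (h ▸ Subgroup.mem_top _ : pe MS.nl 8 ∈ f.ker)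

end H5.McP
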