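import Mathlib
import Cfsg.Agent.H5.LyB
import Cfsg.Agent.H5.McP

/-!
# The relators of `3 McL` hold
-/

set_option autoImplicit false
set_option maxRecDepth 100000

namespace H5.Ly

open Equiv Equiv.Perm H29

/-- Substitution of words for letters. -/
noncomputable def subW (f : List (List ℕ)) (w : List ℕ) : List ℕ :=
  List.rec (motive := fun _ => List ℕ) [] (fun y _ ih => nth [] f y ++ ih) w

theorem conj_subW {X : Type*} [Group X] {e : ℕ → X} {f : List (List ℕ)} {b : X} :
    ∀ {w : List ℕ}, (∀ k ∈ w, b * e k * b⁻¹ = ev e (nth [] f k)) →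
      b * ev e w * b⁻¹ = ev e (subW f w)
  | [], _ => by simp [show subW f [] = [] from rfl]
  | y :: w, h => by
    rw [show subW f (y :: w) = nth [] f y ++ subW f w from rfl, ev_append, ev_cons,
      ← conj_subW (w := w) fun k hk => h k (by simp [hk]), ← h y (by simp)]
    group

/-- The action of `b` on the letters of `R`. -/
def fB : List (List ℕ) := [[0], [0, 1], [2, 3], [3], [], [], [], [], [8, 9], [9]]

/-- A digit of a table. -/
def dg (t m : ℕ) : ℕ := Nat.mod (Nat.shiftRight t (Nat.mul 4 m)) 16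

theorem dg_lt (t m : ℕ) : dg t m < 16 := Nat.mod_lt _ (by norm_num)

/-- Iterating the action. -/
noncomputable def itr (tb t o m : ℕ) : ℕ :=
  Nat.rec (motive := fun _ => ℕ) m (fun _ ih => lit ih fun r => dg tb (dg t r)) o

/-- The table of the action of `b`. -/
noncomputable def chkB (W : List (List ℕ)) (tb : ℕ) : Bool :=
  allN 16 fun m => and2 (allL (nth [] W m) fun k => memL k [0, 1, 2, 3, 8, 9])
    (Nat.beq (evC lc (subW fB (nth [] W m)) c1) (evC lc (nth [] W (dg tb m)) c1))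

/-- The test of one relator. -/
noncomputable def chkE (W : List (List ℕ)) (tb : ℕ) (r : List ℕ × ℕ × ℕ) : Bool :=
  and2 (Nat.beq (evC lc (r.1 ++ r.1) c1) (evC lc [] c1)) (and2 (allN 16 fun m =>
    and2 (Nat.beq (evC lc (r.1 ++ nth [] W m) c1) (evC lc (nth [] W (dg r.2.2 m) ++ r.1) c1))
      (imp (Nat.beq (evC lc (nth [] W (dg tb (dg r.2.2 m))) c1) (evC lc (nth [] W m) c1))
        (Nat.beq m 0)))
    (allL [1, 2, 4, 8] fun m => Nat.beq (itr tb r.2.2 r.2.1 m) m))

namespace Cf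

variable {X : Type*} [Group X] {n : ℕ} {c : Cf X n}

theorem Act.conj_w {e : ℕ} {b : X} (h : Act c e b) {w : List ℕ}
    (hw : ∀ k ∈ w, k ∈ [0, 1, 2, 3, 8, 9]) : b * ev c.g w * b⁻¹ = ev c.g (subW fB w) :=
  conj_subW fun k hk => by
    have := hw k hk
    simp only [List.mem_cons, List.not_mem_nil, or_false] at this
    rcases this with rfl | rfl | rfl | rfl | rfl | rfl
    · simpa [nth_eq, fB] using h.a0
    · simpa [nth_eq, fB] using h.a1
    · simpa [nth_eq, fB] using h.a2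
    · simpa [nth_eq, fB] using h.a3
    · simpa [nth_eq, fB] using h.a8
    · simpa [nth_eq, fB] using h.a9

theorem Y_pow_eq_one {f : ℕ} (h : c.Y ^ f = (c.Y ^ f)⁻¹) : c.Y ^ f = 1 := by
  have h3 : (c.Y ^ f) ^ 3 = 1 := by rw [← pow_mul, mul_comm, pow_mul, Y_cube, one_pow]
  rw [pow_succ, pow_two] at h3
  nth_rw 1 [h] at h3
  simpa using h3

theorem Act.relE {e : ℕ} {b : X} (h : Act c e b) (hb : b * b = 1) {a a' tb : ℕ}
    (hC : ∀ x, c.CV x → x * c.g a = c.g a * x → x * c.g a' = c.g a' * x →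
      ∃ w ∈ WE a a', ∃ f < 3, x = c.Y ^ f * ev c.g w)
    (hB : chkB (WE a a') tb = true) {r : List ℕ × ℕ × ℕ} (hr : chkE (WE a a') tb r = true) :
    (b * ev c.g r.1) ^ r.2.1 = 1 := by
  obtain ⟨u, o, t⟩ := r
  simp only [chkE, and2_true, allN_true, allL_true, H29.beq_true] at hr
  simp only [chkB, and2_true, allN_true, allL_true, H29.beq_true, memL_true] at hB
  obtain ⟨h1, h2, h3⟩ := hr
  have h1 := c.eqw _ _ h1
  rw [ev_append, ev_nil] at h1
  generalize hg : b * ev c.g u = x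
  have s1 : ∀ m < 16, x * ev c.g (nth [] (WE a a') m) * x⁻¹ =
      ev c.g (nth [] (WE a a') (dg tb (dg t m))) := fun m hm => by
    rw [← c.eqw _ _ (hB _ (dg_lt t m)).2, ← h.conj_w (hB _ (dg_lt t m)).1,
      ← conj_eqw _ _ _ (h2 m hm).1, ← hg]
    group
  have s2 : ∀ m < 16, ∀ k, itr tb t k m < 16 ∧ x ^ k * ev c.g (nth [] (WE a a') m) * (x ^ k)⁻¹ =
      ev c.g (nth [] (WE a a') (itr tb t k m)) := fun m hm k => by
    induction k with
    | zero => exact ⟨hm, by simp; rfl⟩
    | succ k ih =>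
      rw [show itr tb t (k + 1) m = lit (itr tb t k m) fun r => dg tb (dg t r) from rfl, lit_eq]
      refine ⟨dg_lt _ _, ?_⟩
      rw [← s1 _ ih.1, ← ih.2, pow_succ']
      group
  have s3 : ∀ m ∈ [1, 2, 4, 8], x ^ o * ev c.g (nth [] (WE a a') m) =
      ev c.g (nth [] (WE a a') m) * x ^ o := fun m hm => by
    have := (s2 m (by simp at hm; omega) o).2
    rw [h3 m hm] at this
    exact mul_inv_eq_iff_eq_mul.1 this
  obtain ⟨w, hw, f, -, h4⟩ := hC (x ^ o) ⟨by simpa [nth_eq, WE] using s3 4 (by simp),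
    by simpa [nth_eq, WE] using s3 8 (by simp)⟩ (by simpa [nth_eq, WE] using s3 1 (by simp))
    (by simpa [nth_eq, WE] using s3 2 (by simp))
  obtain ⟨m, hm, rfl⟩ : ∃ m < 16, nth [] (WE a a') m = w := by
    obtain ⟨m, hm, rfl⟩ := List.getElem_of_mem hw
    exact ⟨m, hm, by rw [nth_eq, List.getD_eq_getElem _ _ hm]⟩
  have hYb : Commute b c.Y := mul_inv_eq_iff_eq_mul.1 h.aY
  have hY : Commute x (c.Y ^ f) := hg ▸ (hYb.mul_left (c.Y_comm_ev u).symm).pow_right f
  have h5 : x * ev c.g (nth [] (WE a a') m) * x⁻¹ = ev c.g (nth [] (WE a a') m) := by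
    apply mul_left_cancel (a := c.Y ^ f)
    rw [← mul_assoc, ← mul_assoc, ← hY.eq, mul_assoc x, ← h4]
    group
  rw [s1 m hm] at h5
  have h6 : m = 0 := H29.beq_true.1 (imp_true (h2 m hm).2 (H29.beq_true.2 (by
    by_contra h6; exact c.new _ _ h6 h5)))
  subst h6
  rw [show nth [] (WE a a') 0 = [] from rfl, ev_nil, mul_one] at h4
  have h7 : b * x * b⁻¹ = x⁻¹ := by
    rw [← hg, ← mul_assoc, hb, one_mul, mul_inv_rev, inv_eq_of_mul_eq_one_left h1]
  rw [h4]
  apply Y_pow_eq_one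
  conv_rhs => rw [← h4, ← inv_pow, ← h7, conj_pow, h4, (hYb.pow_right f).eq]
  simp

variable (c)

/-- All letters. -/
noncomputable def EE (e : ℕ) (b : X) (k : ℕ) : X :=
  if k < 10 then c.g k else if k = 10 then b else if k = 11 then c.Y ^ e else
    if k = 12 then (c.Y ^ e)⁻¹ else 1

theorem EE_lt (e : ℕ) (b : X) {k : ℕ} (h : k < 10) : c.EE e b k = c.g k := if_pos h
theorem EE_10 (e : ℕ) (b : X) : c.EE e b 10 = b := by simp [EE]
theorem EE_11 (e : ℕ) (b : X) : c.EE e b 11 = c.Y ^ e := by simp [EE]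
theorem EE_12 (e : ℕ) (b : X) : c.EE e b 12 = (c.Y ^ e)⁻¹ := by simp [EE]

theorem ev_EE (e : ℕ) (b : X) {w : List ℕ} (h : ∀ k ∈ w, k < 10) : ev (c.EE e b) w = ev c.g w :=
  ev_congr fun k hk => c.EE_lt e b (h k hk)

theorem EE_iv (e : ℕ) {b : X} (hb : b * b = 1) : IvOK (c.EE e b) (ivOf McP.ivl) := fun k => by
  by_cases hk : k < 13
  · have hb' : b = b⁻¹ := eq_inv_of_mul_eq_one_left hb
    interval_cases k <;> simp [ivOf, nth_eq, McP.ivl, EE, g_inv, ← hb']
  · rw [ivOf, nth_default _ (by simp [McP.ivl]; omega), EE, if_neg (by omega), if_neg (by omega),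
      if_neg (by omega), if_neg (by omega), inv_one]

variable {c}

/-- Relators on the first group of order 16. -/
def T1 : List (List ℕ × ℕ × ℕ) := [([5], 3, 0x9ab8defc56741230), ([1, 5], 3, 0x9ab8defc56741230),
  ([3, 5], 6, 0x1e785a3cd2b496f0), ([5, 8], 3, 0x9ab8defc56741230),
  ([1, 5, 8], 3, 0x9ab8defc56741230), ([3, 5, 8], 6, 0x1e785a3cd2b496f0),
  ([4, 5, 4], 3, 0xb9a8fdec75643120), ([5, 6, 5], 5, 0xca9f8edb71243560),
  ([4, 5, 6, 5, 4], 5, 0xbc9ef8da16345270)]

/-- Relators on the second group of order 16. -/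
def T2 : List (List ℕ × ℕ × ℕ) := [([4], 3, 0xab98efdc67542310), ([7], 5, 0xbacdfe8923546710),
  ([0, 4], 6, 0x27d8639ceb14af50), ([2, 4], 3, 0xab98efdc67542310),
  ([2, 7], 5, 0xbacdfe8923546710), ([4, 7], 5, 0xef89abcd32547610),
  ([4, 8], 3, 0xab98efdc67542310), ([7, 8], 5, 0xbacdfe8923546710),
  ([5, 7, 5], 5, 0xca9f8edb71243560), ([5, 2, 7, 5], 5, 0xca9f8edb71243560),
  ([5, 4, 7, 5], 5, 0x8debc9af72143650)]

theorem Act.rels {e : ℕ} {b : X} (h : Act c e b) (hb : b * b = 1) :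
    ∀ r ∈ McP.RA, ev (c.EE e b) r = 1 := by
  have hb' : b⁻¹ = b := inv_eq_of_mul_eq_one_left hb
  have hYb : Commute b c.Y := mul_inv_eq_iff_eq_mul.1 h.aY
  refine rels_append (rels_append (rels_append (fun r hr => ?_) ?_) ?_) ?_
  · have key : ∀ r ∈ McP.RC, (∀ k ∈ r, k < 10) ∧ evC lc r c1 = evC lc [] c1 := by decide +kernel
    rw [c.ev_EE e b (key r hr).1]
    exact c.eqw _ _ (key r hr).2
  · have k : ∀ (u v : List ℕ), (∀ k ∈ u, k ∈ [0, 1, 2, 3, 8, 9]) → (∀ k ∈ u ++ v, k < 10) →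
        evC lc (subW fB u ++ v) c1 = evC lc [] c1 → ev (c.EE e b) (10 :: u ++ 10 :: v) = 1 :=
      fun u v h1 h2 h3 => by
        have h3 := c.eqw _ _ h3
        rw [ev_append, ← h.conj_w h1, hb', ev_nil] at h3
        rw [List.cons_append, ev_cons, ev_append, ev_cons, EE_10,
          c.ev_EE e b fun k hk => h2 k (by simp [hk]), c.ev_EE e b fun k hk => h2 k (by simp [hk]),
          ← h3]
        group
    simp only [McP.RB, List.forall_mem_cons, List.not_mem_nil, false_imp_iff, implies_true,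
      and_true]
    refine ⟨k [0] [0] (by decide) (by decide) (by decide +kernel),
      k [1] [1, 0] (by decide) (by decide) (by decide +kernel),
      k [2] [3, 2] (by decide) (by decide) (by decide +kernel),
      k [3] [3] (by decide) (by decide) (by decide +kernel),
      k [8] [9, 8] (by decide) (by decide) (by decide +kernel),
      k [9] [9] (by decide) (by decide) (by decide +kernel), ?_⟩
    have h1 := h.aρ
    have h2 := ((c.Y_comm_ev [5, 4, 4, 5]).pow_left e).eq
    rw [hb'] at h1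
    simp only [ev_cons, ev_nil, mul_one, EE_10, EE_12, c.EE_lt e b (show 4 < 10 by decide),
      c.EE_lt e b (show 5 < 10 by decide)] at h1 h2 ⊢
    calc _ = (b * (c.g 4 * c.g 5) * b) * (c.g 4 * c.g 5) * (c.Y ^ e)⁻¹ := by group
      _ = _ := by rw [h1]; simp [mul_assoc, g_mul_self, g_mul_self']
  · have k : ∀ j < 10, ev (c.EE e b) [j, 11, j, 12] = 1 := fun j hj => by
      simp only [ev_cons, ev_nil, mul_one, EE_11, EE_12, c.EE_lt e b hj]
      rw [← mul_assoc (c.Y ^ e), (Commute.pow_left (c.Y_comm j) e).eq]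
      simp [g_mul_self]
    simp only [McP.RY, List.forall_mem_cons, List.not_mem_nil, false_imp_iff, implies_true,
      and_true]
    refine ⟨?_, k 0 (by decide), k 1 (by decide), k 2 (by decide), k 3 (by decide),
      k 4 (by decide), k 5 (by decide), k 6 (by decide), k 7 (by decide), k 8 (by decide),
      k 9 (by decide), ?_⟩
    · simp only [ev_cons, ev_nil, mul_one, EE_11]
      rw [← pow_add, ← pow_add, show e + (e + e) = 3 * e by ring, pow_mul, Y_cube, one_pow]
    · simp only [ev_cons, ev_nil, mul_one, EE_10, EE_11, EE_12]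
      rw [← mul_assoc (c.Y ^ e), ← (hYb.pow_right e).eq]
      simp [hb]
  · have k : ∀ r : List ℕ × ℕ × ℕ, (∀ k ∈ r.1, k < 10) → (b * ev c.g r.1) ^ r.2.1 = 1 →
        ev (c.EE e b) (powW r.2.1 (10 :: r.1)) = 1 := fun r h1 h2 => by
      rw [ev_powW, ev_cons, EE_10, c.ev_EE e b h1, h2]
    have k1 : ∀ r ∈ T1.map fun r => powW r.2.1 (10 :: r.1), ev (c.EE e b) r = 1 :=
      List.forall_mem_map.2 fun r hr => k r (by revert r; decide) (h.relE hb (tb := 0x6754ab98efdc2310)
        (fun x hx h1 h2 => ((XK4 hx).1 h1 h2).1) (by decide +kernel)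
        (allL_true.1 (by decide +kernel) r hr))
    have k2 : ∀ r ∈ T2.map fun r => powW r.2.1 (10 :: r.1), ev (c.EE e b) r = 1 :=
      List.forall_mem_map.2 fun r hr => k r (by revert r; decide) (h.relE hb (tb := 0x56749ab8defc1230)
        (fun x hx h1 h2 => (XK4 hx).2 h1 h2) (by decide +kernel)
        (allL_true.1 (by decide +kernel) r hr))
    exact rels_sub (rels_append k1 k2) (by decide +kernel)

end Cf

end H5.Ly
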