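import Mathlib
import Cfsg.Agent.H5.LyK

/-!
# Sifting in the double cover of `A₁₁`
-/

set_option autoImplicit false
set_option maxRecDepth 100000

namespace H5.Ly

open Equiv Equiv.Perm H29

/-- Elements of `2Aₙ` commuting with `s` modulo the centre and fixing the points of a list. -/
def XG (n s : ℕ) (S : List ℕ) (x : PP 11) : Prop :=
  x ∈ Mn 11 n ∧ pr x * pr (ec s) = pr (ec s) * pr x ∧ ∀ i : Fin 11, i.1 ∈ S → pr x i = i

/-- The new list of fixed points. -/
noncomputable def nxt (s p : ℕ) (S : List ℕ) : List ℕ :=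
  lit (appA 10 s p) fun p1 => lit (appA 10 s p1) fun p2 => p :: p1 :: p2 :: S

/-- One level of the sift. -/
noncomputable def chkG (n s : ℕ) (S : List ℕ) (p : ℕ) (T : List ℕ) : Bool :=
  and2 (and2 (Nat.ble (Nat.succ p) n) (Bool.not (memL p S)))
  (and2 (allL T fun w => and2 (inM n w) (and2 (allL S fun i => Nat.beq (appA 10 w i) i)
      (allN 11 fun i => Nat.beq (appA 10 w (appA 10 s i)) (appA 10 s (appA 10 w i)))))
    (allN 11 fun j => or2 (memL j S) (or2 (Nat.ble n j) (or2 (exL T fun w => Nat.beq (appA 10 w j) p)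
      (Bool.xor (Nat.beq (appA 10 s j) j) (Nat.beq (appA 10 s p) p))))))

theorem siftG {n s p : ℕ} {S T : List ℕ} (hn : n ≤ 11) (hs : Val 10 s) (h : chkG n s S p T = true)
    {x : PP 11} (hx : XG n s S x) : ∃ w ∈ T, Val 10 w ∧ XG n s (nxt s p S) (x * (ec w)⁻¹) := by
  simp only [chkG, and2_true, allL_true, allN_true, H29.beq_true, or2_true, memL_true, ble_true,
    Bool.not_eq_true', ← Bool.not_eq_true] at h
  obtain ⟨⟨hp', hS⟩, h⟩ := h
  have hp : p < 11 := by omega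
  obtain ⟨j, hj⟩ := (pr x).surjective ⟨p, hp⟩
  have hc : ∀ i, pr x (pr (ec s) i) = pr (ec s) (pr x i) := fun i => by
    rw [← mul_apply, hx.2.1, mul_apply]
  rcases h.2 j.1 j.2 with h1 | h1 | h1 | h1
  · rw [hx.2.2 j h1] at hj
    exact absurd (by rw [hj] at h1; exact h1) hS
  · rw [hx.1.2 j h1] at hj
    rw [hj] at h1
    exact absurd h1 (by simp; omega)
  · obtain ⟨w, hw, h2⟩ := exL_true h1
    obtain ⟨h3, h4, h5⟩ := h.1 w hw
    have hv := inM_val h3
    have h6 : pr (ec w) * pr (ec s) = pr (ec s) * pr (ec w) := Equiv.ext fun i => Fin.ext (by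
      rw [mul_apply, mul_apply, app_ec hv, app_ec hs, app_ec hs, app_ec hv, h5 i.1 i.2])
    have h7 : pr (x * (ec w)⁻¹) * pr (ec s) = pr (ec s) * pr (x * (ec w)⁻¹) := by
      rw [map_mul, map_inv, mul_assoc, ((show Commute _ _ from h6).inv_left).eq, ← mul_assoc,
        hx.2.1, mul_assoc]
    have h8 : pr (x * (ec w)⁻¹) ⟨p, hp⟩ = ⟨p, hp⟩ := by
      rw [map_mul, map_inv, mul_apply, show (pr (ec w))⁻¹ ⟨p, hp⟩ = j from
        Perm.inv_eq_iff_eq.2 (Fin.ext ((app_ec hv j).trans (H29.beq_true.1 h2)).symm), hj]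
    have h9 : ∀ i, pr (x * (ec w)⁻¹) i = i →
        pr (x * (ec w)⁻¹) (pr (ec s) i) = pr (ec s) i := fun i hi => by
      rw [← mul_apply, h7, mul_apply, hi]
    refine ⟨w, hw, hv, mul_mem hx.1 (inv_mem (inM_mem h3)), h7, fun i hi => ?_⟩
    simp only [nxt, lit_eq, List.mem_cons] at hi
    rcases hi with hi | hi | hi | hi
    · rw [show i = ⟨p, hp⟩ from Fin.ext hi, h8]
    · rw [show i = pr (ec s) ⟨p, hp⟩ from Fin.ext (hi.trans (app_ec hs ⟨p, hp⟩).symm), h9 _ h8]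
    · rw [show i = pr (ec s) (pr (ec s) ⟨p, hp⟩) from Fin.ext (by
        rw [hi, app_ec hs, app_ec hs]), h9 _ (h9 _ h8)]
    · rw [map_mul, map_inv, mul_apply, show (pr (ec w))⁻¹ i = i from
        Perm.inv_eq_iff_eq.2 (Fin.ext ((app_ec hv i).trans (h4 _ hi)).symm), hx.2.2 i hi]
  · exfalso
    have h2 := hc j
    rw [hj] at h2
    have h3 : pr (ec s) j = j ↔ pr (ec s) ⟨p, hp⟩ = ⟨p, hp⟩ := by
      rw [← h2, ← hj, (pr x).injective.eq_iff]
    rw [Fin.ext_iff, Fin.ext_iff, app_ec hs, app_ec hs, ← H29.beq_true, ← H29.beq_true] at h3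
    revert h1 h3
    generalize Nat.beq _ _ = u
    generalize Nat.beq _ _ = v
    cases u <;> cases v <;> simp

theorem botG {n s a b : ℕ} {S : List ℕ} (h : (allN n fun i => memL i (a :: b :: S)) = true)
    {x : PP 11} (hx : XG n s S x) : x = 1 ∨ x = zz := by
  refine pr_eq_one ?_
  by_contra h3
  have h5 : (pr x).support.card ≤ 2 := by
    rw [← Finset.card_map Fin.valEmbedding]
    refine (Finset.card_le_card (t := {a, b}) fun i hi => ?_).trans Finset.card_le_two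
    obtain ⟨j, hj, rfl⟩ := Finset.mem_map.1 hi
    rw [mem_support] at hj
    have := memL_true.1 (allN_true.1 h j.1 (lt_of_moved hx.1 hj))
    simp only [List.mem_cons] at this
    rcases this with h1 | h1 | h1
    · simp [h1]
    · simp [h1]
    · exact absurd (hx.2.2 j h1) hj
  have := hx.1.1
  rw [(card_support_eq_two.1 (le_antisymm h5 (two_le_card_support_of_ne_one h3))).sign_eq] at this
  exact absurd this (by decide)

/-- A chain of sifts. -/
noncomputable def chkCh (n s a b : ℕ) (ch : List (ℕ × List ℕ)) : List ℕ → Bool :=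
  List.rec (motive := fun _ => List ℕ → Bool) (fun S => allN n fun i => memL i (a :: b :: S))
    (fun l _ ih S => and2 (chkG n s S l.1 l.2) (ih (nxt s l.1 S))) ch

/-- Run through the products. -/
noncomputable def allP (ch : List (ℕ × List ℕ)) : (ℕ → Bool) → Bool :=
  List.rec (motive := fun _ => (ℕ → Bool) → Bool) (fun f => and2 (f c1) (f cz))
    (fun l _ ih f => ih fun c => allL l.2 fun w => lit (mul c w) f) ch

theorem chain_all {n s a b : ℕ} (hn : n ≤ 11) (hs : Val 10 s) : ∀ (ch : List (ℕ × List ℕ))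
    {S : List ℕ} {f : ℕ → Bool} {x : PP 11}, chkCh n s a b ch S = true → allP ch f = true →
    XG n s S x → ∃ c, Val 10 c ∧ x = ec c ∧ f c = true
  | [], S, f, x, h, hf, hx => by
    rcases botG h hx with h1 | h1
    · exact ⟨c1, val_c1, h1.trans ec_c1.symm, (and2_true.1 hf).1⟩
    · exact ⟨cz, val_cz, h1.trans ec_cz.symm, (and2_true.1 hf).2⟩
  | l :: ch, S, f, x, h, hf, hx => by
    obtain ⟨w, hw, hv, h1⟩ := siftG hn hs (and2_true.1 h).1 hx
    obtain ⟨c, hc, h2, h3⟩ := chain_all hn hs ch (and2_true.1 h).2 hf h1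
    have h4 := allL_true.1 h3 w hw
    rw [lit_eq] at h4
    exact ⟨_, mul_val hc hv, by rw [ec_mul hc hv, ← h2, inv_mul_cancel_right], h4⟩

theorem chain_mem {n s a b : ℕ} (hn : n ≤ 11) (hs : Val 10 s) {H : Subgroup (PP 11)}
    (hz : zz ∈ H) : ∀ (ch : List (ℕ × List ℕ)) {S : List ℕ} {x : PP 11},
    chkCh n s a b ch S = true → (∀ l ∈ ch, ∀ w ∈ l.2, ec w ∈ H) → XG n s S x → x ∈ H
  | [], S, x, h, _, hx => by
    rcases botG h hx with h1 | h1
    · exact h1 ▸ one_mem _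
    · exact h1 ▸ hz
  | l :: ch, S, x, h, hf, hx => by
    obtain ⟨w, hw, -, h1⟩ := siftG hn hs (and2_true.1 h).1 hx
    simpa using mul_mem (chain_mem hn hs hz ch (and2_true.1 h).2
      (fun l hl => hf l (by simp [hl])) h1) (hf l (by simp) w hw)

theorem XG.of_comm {n s : ℕ} {x : PP 11} (hx : x ∈ Mn 11 n) (h : x * ec s = ec s * x) :
    XG n s [] x := ⟨hx, by rw [← map_mul, h, map_mul], by simp⟩

/-- A chain given by words. -/
noncomputable def chW (L : List ℕ) (ch : List (ℕ × List (List ℕ))) : List (ℕ × List ℕ) :=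
  ch.map fun l => (l.1, l.2.map fun w => evC L w c1)

theorem chW_mem {L : List ℕ} (hL : allL L (valA 10) = true) {ch : List (ℕ × List (List ℕ))}
    {H : Subgroup (PP 11)} (h : ∀ k, lE L k ∈ H) : ∀ l ∈ chW L ch, ∀ w ∈ l.2, ec w ∈ H := by
  intro l hl w hw
  obtain ⟨l, -, rfl⟩ := List.mem_map.1 hl
  obtain ⟨u, -, rfl⟩ := List.mem_map.1 hw
  rw [← ev_lE hL]
  exact ev_mem fun k _ => h k

/-- The letters generate `2A₈`. -/
theorem mem_of_eight {H : Subgroup (PP 11)} (h : ∀ k, l0 k ∈ H) {x : PP 11} (hx : x ∈ Mn 11 8) :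
    x ∈ H :=
  chain_mem (n := 8) (a := 0) (b := 1) (by decide) val_c1 (ec_cz ▸ h 8)
    (chW lc [(7, [[6], [0, 1], [5], [1], [4], [0], [9], []]),
      (6, [[0, 6, 5], [7, 5], [5, 6, 5, 4], [0, 7, 5, 6], [5, 7], [0, 6, 7], []]),
      (5, [[3, 4, 5], [1, 4, 5], [1, 5, 2, 4], [0, 5, 4], [1, 3], []]),
      (4, [[5, 7, 6, 5, 2, 4, 1], [5, 7, 1, 9, 6, 5, 4], [5, 7, 6, 1, 5, 2], [5, 0, 6, 7, 5], []]),
      (3, [[2, 4, 9], [0, 4, 9], [0, 2], []]), (2, [[6, 1, 7, 3], [3, 7, 1, 6], []])])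
    (by decide +kernel) (chW_mem lc_val h) (XG.of_comm hx (by simp [ec_c1]))

/-- The centraliser of `y`. -/
theorem cen_yy {x : PP 11} (hx : x ∈ Mn 11 11) (h : x * yy = yy * x) :
    ∃ k < 3, x * (yy ^ k)⁻¹ ∈ Mn 11 8 := by
  obtain ⟨w, hw, hv, h1⟩ := siftG (p := 10) (T := [c1, cy, 0x11234567888]) le_rfl val_cy
    (by decide +kernel) (XG.of_comm hx h)
  obtain ⟨k, hk, h2⟩ : ∃ k < 3, ec w = yy ^ k := by
    simp only [List.mem_cons, List.not_mem_nil, or_false] at hw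
    rcases hw with rfl | rfl | rfl
    · exact ⟨0, by norm_num, by rw [pow_zero]; exact ec_c1⟩
    · exact ⟨1, by norm_num, (pow_one _).symm⟩
    · exact ⟨2, by norm_num, by
        rw [pow_two, yy, ← ec_mul val_cy val_cy]; exact congrArg ec (by decide +kernel)⟩
  refine ⟨k, hk, h2 ▸ ⟨h1.1.1, fun i hi => h1.2.2 i ?_⟩⟩
  revert i
  decide +kernel

/-- Powers of a code. -/
noncomputable def pwC (c k : ℕ) : ℕ :=
  Nat.rec (motive := fun _ => ℕ) c1 (fun _ ih => mul ih c) k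

theorem pwC_spec {c : ℕ} (hc : Val 10 c) : ∀ k, Val 10 (pwC c k) ∧ ec (pwC c k) = ec c ^ k
  | 0 => ⟨val_c1, by rw [pow_zero]; exact ec_c1⟩
  | k + 1 => by
    rw [show pwC c (k + 1) = mul (pwC c k) c from rfl]
    exact ⟨mul_val (pwC_spec hc k).1 hc,
      by rw [ec_mul (pwC_spec hc k).1 hc, (pwC_spec hc k).2, pow_succ]⟩

theorem not_odd_of {G : Type*} [Group G] {x : G} {a : ℕ} (h1 : x ^ a ≠ 1) (h2 : (x ^ a) ^ 4 = 1) :
    ¬ Odd (orderOf x) := fun h => h1 (by
  have h3 : orderOf (x ^ a) ∣ 4 := orderOf_dvd_of_pow_eq_one h2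
  have h4 : Odd (orderOf (x ^ a)) := h.of_dvd_nat (orderOf_pow_dvd a)
  rw [← orderOf_eq_one_iff]
  exact Nat.Coprime.eq_one_of_dvd (Nat.Coprime.pow_right 2 (Nat.coprime_two_right.2 h4)) h3)

/-- The code of the third three-cycle in degree nine. -/
def cg : ℕ := 0x23456719a
/-- The word of `e₁`. -/
def w1 : List ℕ := [1, 3, 7, 5, 6, 3, 0, 5, 7, 1]

theorem val_cg : Val 10 cg := val_of _ _ (by decide +kernel)

theorem cen_rho {x : PP 11} (hx : x ∈ Mn 11 9) (h : x * ev l0 [4, 5] = ev l0 [4, 5] * x)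
    (ho : Odd (orderOf x)) :
    ∃ i < 3, ∃ j < 3, ∃ k < 3, x = ec cg ^ k * (ev l0 [4, 5] ^ i * ev l0 w1 ^ j) := by
  rw [ev_l0] at h
  obtain ⟨c, hc, rfl, h1⟩ := chain_all (n := 9) (a := 1) (b := 8) (by decide)
    (val_evC [4, 5] val_c1)
    [(2, [0x123456789a, 0x22446689a, 0x123252789a, 0x23423489a, 0x123254789a, 0x23355289a]),
      (3, [0x123456789a, 0x123436389a, 0x123436589a]), (0, [0x123456789a, 0x23456709a, 0x23456719a])]
    (f := fun c => or2 (exL [0, 1, 2] fun i => exL [0, 1, 2] fun j => exL [0, 1, 2] fun k =>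
      Nat.beq c (evC lc (powW i [4, 5] ++ powW j w1) (pwC cg k)))
      (lit (pwC c 3) fun d => and2 (Bool.not (Nat.beq d c1)) (Nat.beq (pwC d 4) c1)))
    (by decide +kernel) (by decide +kernel) (XG.of_comm hx h)
  rcases or2_true.1 h1 with h1 | h1
  · obtain ⟨i, hi, h1⟩ := exL_true h1
    obtain ⟨j, hj, h1⟩ := exL_true h1
    obtain ⟨k, hk, h1⟩ := exL_true h1
    refine ⟨i, by simp at hi; omega, j, by simp at hj; omega, k, by simp at hk; omega, ?_⟩
    rw [H29.beq_true.1 h1, ec_evC _ (pwC_spec val_cg k).1, (pwC_spec val_cg k).2, ev_append,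
      ev_powW, ev_powW]
  · rw [lit_eq, and2_true] at h1
    obtain ⟨h2, h3⟩ := pwC_spec hc 3
    refine absurd ho (not_odd_of (a := 3) (fun h4 => ?_) ?_)
    · rw [beq_of_ec h2 val_c1 (by rw [h3, h4, ec_c1])] at h1
      exact absurd h1.1 (by decide)
    · rw [← h3, ← (pwC_spec h2 4).2, H29.beq_true.1 h1.2, ec_c1]

end H5.Ly
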