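import Mathlib
import Cfsg.Agent.H5.LyR
import Cfsg.Agent.H5.LyS

/-!
# The outer involution
-/

set_option autoImplicit false
set_option maxRecDepth 100000

namespace H5.Ly

open Equiv Equiv.Perm H29

/-- The code of `i`. -/
def ci : ℕ := 0x23454588a
/-- The code of `i z`. -/
def ciz : ℕ := 0x1023454588a

/-- The action of `i` on the letters. -/
def fI : List (List ℕ) := [[2], [2, 3], [0], [0, 1], [4], [4, 5, 4], [7], [6], [8], [9],
  [11, 4, 5, 10], [12], [11]]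

theorem val_ci : Val 10 ci := val_of _ _ (by decide +kernel)
theorem ci_mem : ec ci ∈ Mn 11 10 := inM_mem (by decide +kernel)

theorem ec_ciz : ec ciz = ec ci * zz := by
  rw [← ec_cz, ← ec_mul val_ci val_cz]; exact congrArg ec (by decide +kernel)

theorem ci_sq : ec ci * ec ci = 1 := by
  rw [← ec_mul val_ci val_ci, ← ec_c1]; exact congrArg ec (by decide +kernel)

theorem ci_l0 {k : ℕ} (hk : k < 10) : ec ci * l0 k = ev l0 (nth [] fI k) * ec ci := by
  have h : ∀ k < 10, evC lc [k] ci = mul (evC lc (nth [] fI k) c1) ci := by decide +kernel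
  have h1 := congrArg ec (h k hk)
  rwa [ec_evC _ val_ci, ec_mul (val_evC _ val_c1) val_ci, ← ev_l0, ev_cons, ev_nil, mul_one] at h1

theorem ci_yy : ec ci * yy * (ec ci * yy) = 1 := by
  rw [yy, ← ec_mul val_ci val_cy, ← ec_mul (mul_val val_ci val_cy) (mul_val val_ci val_cy),
    ← ec_c1]
  exact congrArg ec (by decide +kernel)

namespace Cf

variable {X : Type*} [Group X] {n : ℕ} {c : Cf X n}

theorem I_sq (h10 : 10 ≤ n) : c.lf (ec ci) * c.lf (ec ci) = 1 := by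
  rw [← c.lf_mul (Mn_mono h10 ci_mem) (Mn_mono h10 ci_mem), ci_sq, lf_one]

theorem I_g (h10 : 10 ≤ n) {k : ℕ} (hk : k < 10) :
    c.lf (ec ci) * c.g k * (c.lf (ec ci))⁻¹ = ev c.g (nth [] fI k) := by
  have m := Mn_mono h10 ci_mem
  rw [g, ← c.lf_mul m (c.mem0 k), ci_l0 hk, c.lf_mul (c.mem_ev _) m, ev_g, mul_inv_cancel_right]

theorem I_Y (h10 : 10 ≤ n) : c.lf (ec ci) * c.Y * (c.lf (ec ci))⁻¹ = c.Y⁻¹ := by
  have m := Mn_mono h10 ci_mem
  by_cases h : yy ∈ Mn 11 n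
  · rw [inv_eq_of_mul_eq_one_left (I_sq h10), eq_inv_iff_mul_eq_one, Y, mul_assoc,
      ← c.lf_mul m h, ← c.lf_mul (mul_mem m h) (mul_mem m h), ci_yy, lf_one]
  · simp [Y, c.lf_not h]

theorem Act.I_b (h10 : 10 ≤ n) {e : ℕ} {b : X} (h : Act c e b) (hb : b * b = 1) :
    ∃ v ∈ [[], [9]], c.lf (ec ci) * b * (c.lf (ec ci))⁻¹ = c.Y ^ e * ev c.g [4, 5] * b * ev c.g v := by
  have hI := I_sq (c := c) h10
  have hg := fun k hk => I_g (c := c) h10 (k := k) hk
  generalize c.lf (ec ci) = I at hI hg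
  have hI' : I⁻¹ = I := inv_eq_of_mul_eq_one_left hI
  have hb' : b⁻¹ = b := inv_eq_of_mul_eq_one_left hb
  have hYb : Commute b c.Y := mul_inv_eq_iff_eq_mul.1 h.aY
  obtain ⟨w, hw, f, -, h1⟩ := cenR (c := c) (x := (ev c.g [4, 5] * b)⁻¹ * (I * b * I⁻¹))
    fun k hk => by
      have key : ∀ k ∈ [0, 1, 2, 3, 8, 9], k < 10 ∧ (∀ j ∈ nth [] fI k, j ∈ [0, 1, 2, 3, 8, 9]) ∧
          (∀ j ∈ subW fB (nth [] fI k), j < 10) ∧ evC lc ([4, 5] ++ subW fB [k]) c1 =
            evC lc (subW fI (subW fB (nth [] fI k)) ++ [4, 5]) c1 := by decide +kernel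
      obtain ⟨k1, k2, k3, k4⟩ := key k hk
      have e1 := h.conj_w (w := [k]) (by simpa using hk)
      have e2 : I * b * I⁻¹ * c.g k * (I * b * I⁻¹)⁻¹ =
          ev c.g [4, 5] * b * c.g k * (ev c.g [4, 5] * b)⁻¹ := by
        calc _ = I * (b * (I * c.g k * I⁻¹) * b⁻¹) * I⁻¹ := by
              rw [mul_inv_rev, mul_inv_rev, hI', hI']; group
          _ = _ := by
              rw [hg k k1, h.conj_w k2, conj_subW fun j hj => hg j (k3 j hj),
                ← conj_eqw _ _ _ k4, ← e1]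
              simp only [ev_cons, ev_nil, mul_one]; group
      calc _ = (ev c.g [4, 5] * b)⁻¹ * (I * b * I⁻¹ * c.g k * (I * b * I⁻¹)⁻¹) *
            (ev c.g [4, 5] * b) := by group
        _ = _ := by rw [e2]; group
  have h2 : I * b * I⁻¹ = ev c.g [4, 5] * b * (c.Y ^ f * ev c.g w) := by rw [← h1]; group
  have key : ∀ w ∈ WV, (∀ j ∈ w, j ∈ [0, 1, 2, 3, 8, 9]) ∧
      (evC lc ([4, 5] ++ subW fB w ++ [5, 4] ++ w) c1 = evC lc [9] c1 ∨
        evC lc ([4, 5] ++ subW fB w ++ [5, 4] ++ w) c1 = evC lc [] c1 ∧ w ∈ [[], [9]]) := by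
    decide +kernel
  have h3 : c.Y ^ (f + f + e) * ev c.g ([4, 5] ++ subW fB w ++ [5, 4] ++ w) = 1 := by
    have h4 : I * b * I⁻¹ * (I * b * I⁻¹) = 1 := by
      calc _ = I * (b * b) * I⁻¹ := by group
        _ = 1 := by rw [hb]; group
    have cY : ∀ (m : ℕ) (u : List ℕ) (x : X), ev c.g u * (c.Y ^ m * x) = c.Y ^ m * (ev c.g u * x) :=
      fun m u x => by rw [← mul_assoc, ← ((c.Y_comm_ev u).pow_left m).eq, mul_assoc]
    have cb : ∀ (m : ℕ) (x : X), b * (c.Y ^ m * x) = c.Y ^ m * (b * x) :=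
      fun m x => by rw [← mul_assoc, (hYb.pow_right m).eq, mul_assoc]
    have h5 := h.aρ
    have h6 := h.conj_w (key w hw).1
    rw [hb'] at h5 h6
    rw [h2] at h4
    rw [ev_append, ev_append, ev_append, ← h6, ← h4, pow_add, pow_add]
    calc _ = c.Y ^ f * (c.Y ^ f * (ev c.g [4, 5] * (b * ev c.g w * b *
          (c.Y ^ e * ev c.g [5, 4] * ev c.g w)))) := by
          simp only [mul_assoc, cY, cb]
      _ = _ := by
          rw [← h5]
          simp only [mul_assoc, cY, cb]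
          rw [← mul_assoc b b, hb, one_mul]
  rcases (key w hw).2 with h4 | ⟨h4, h5⟩
  · rw [c.eqw _ _ h4] at h3
    have h6 := congrArg (· ^ 3) h3
    rw [((c.Y_comm_ev [9]).pow_left _).mul_pow, ← pow_mul, mul_comm _ 3, pow_mul, Y_cube,
      one_pow, one_mul, ← ev_powW, one_pow] at h6
    exact absurd h6 (c.new _ [] (by decide +kernel))
  · rw [c.eqw _ _ h4, ev_nil, mul_one] at h3
    have h6 : c.Y ^ f = c.Y ^ e := by
      calc _ = c.Y ^ f * c.Y ^ (f + f + e) := by rw [h3, mul_one]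
        _ = _ := by
          rw [← pow_add, show f + (f + f + e) = 3 * f + e by ring, pow_add, pow_mul, Y_cube]; simp
    refine ⟨w, h5, ?_⟩
    rw [h2, h6, ← mul_assoc, mul_assoc _ b, (hYb.pow_right e).eq, ← mul_assoc,
      ((c.Y_comm_ev _).pow_left e).eq]

theorem Act.exists_I (h10 : 10 ≤ n) {e : ℕ} {b : X} (h : Act c e b) (hb : b * b = 1) :
    ∃ s ∈ [ci, ciz], ∀ k < 13,
      c.lf (ec s) * c.EE e b k * (c.lf (ec s))⁻¹ = ev (c.EE e b) (nth [] fI k) := by
  have key : ∀ I : X, (∀ k < 10, I * c.g k * I⁻¹ = ev c.g (nth [] fI k)) →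
      I * c.Y * I⁻¹ = c.Y⁻¹ → I * b * I⁻¹ = c.Y ^ e * ev c.g [4, 5] * b →
      ∀ k < 13, I * c.EE e b k * I⁻¹ = ev (c.EE e b) (nth [] fI k) := fun I h1 h2 h3 k hk => by
    by_cases h4 : k < 10
    · rw [c.EE_lt e b h4, h1 k h4, c.ev_EE e b (by revert k; decide +kernel)]
    · have h5 : I * c.Y ^ e * I⁻¹ = (c.Y ^ e)⁻¹ := by rw [← conj_pow, h2, inv_pow]
      interval_cases k
      · simpa [nth_eq, fI, EE, mul_assoc] using h3
      · simpa [nth_eq, fI, EE] using h5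
      · simp only [nth_eq, fI, EE]
        simp only [List.getD_cons_succ, List.getD_cons_zero, ev_cons, ev_nil, EE]
        simp [← conj_inv, h5]
  obtain ⟨v, hv, h1⟩ := h.I_b h10 hb
  simp only [List.mem_cons, List.not_mem_nil, or_false] at hv
  rcases hv with rfl | rfl
  · exact ⟨ci, by simp, key _ (fun k hk => I_g h10 hk) (I_Y h10) (by simpa using h1)⟩
  · refine ⟨ciz, by simp, ?_⟩
    have e1 : c.lf (ec ciz) = c.lf (ec ci) * c.g 8 := by
      rw [ec_ciz, c.lf_mul (Mn_mono h10 ci_mem) (zz_mem n), g, show l0 8 = zz from ec_cz]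
    have e2 : ∀ x, c.g 8 * x = x * c.g 8 → c.lf (ec ciz) * x * (c.lf (ec ciz))⁻¹ =
        c.lf (ec ci) * x * (c.lf (ec ci))⁻¹ := fun x hx => by
      rw [e1, mul_assoc _ (c.g 8), hx]; group
    refine key _ (fun k hk => ?_) ?_ ?_
    · rw [e2 _ (by rw [g_eight, g, c.lf_eq (c.mem0 k), c.comm_z]), I_g h10 hk]
    · rw [e2 _ (c.Y_comm 8).symm, I_Y h10]
    · have e3 : c.g 8 * b * (c.g 8)⁻¹ = c.g 9 * b := by
        calc _ = c.g 8 * (b * (c.g 8)⁻¹ * b⁻¹) * b := by group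
          _ = _ := by rw [g_inv, h.a8, g_mul_self']
      have e4 := I_g (c := c) h10 (k := 9) (by decide)
      have e5 : c.g 9 * ev c.g [4, 5] = ev c.g [4, 5] * c.g 9 := by
        simpa [mul_assoc] using c.eqw [9, 4, 5] [4, 5, 9] (by decide +kernel)
      have e6 : c.g 9 * b = b * c.g 9 := (mul_inv_eq_iff_eq_mul.1 h.a9).symm
      calc _ = c.lf (ec ci) * (c.g 8 * b * (c.g 8)⁻¹) * (c.lf (ec ci))⁻¹ := by rw [e1]; group
        _ = (c.lf (ec ci) * c.g 9 * (c.lf (ec ci))⁻¹) * (c.lf (ec ci) * b * (c.lf (ec ci))⁻¹) := by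
          rw [e3]; group
        _ = _ := by
          rw [e4, h1, show ev c.g (nth [] fI 9) = c.g 9 by simp [nth_eq, fI]]
          simp only [ev_cons (y := 9), ev_nil, mul_one, ← mul_assoc]
          rw [← (Commute.pow_left (c.Y_comm 9) e).eq, mul_assoc _ (c.g 9), e5, ← mul_assoc,
            mul_assoc _ (c.g 9), e6]
          simp [mul_assoc, g_mul_self]

end Cf

end H5.Ly
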