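import Mathlib
import Cfsg.Agent.H4.InvAct
import Cfsg.Agent.H1.Wielandt
import Cfsg.Agent.S0205

/-!
# Small tools on groups of odd order
-/

set_option autoImplicit false

namespace H5

open Subgroup

theorem exists_odd_part_top {G : Type*} [Group G] [Finite G] {z : G} (hz : z * z = 1) (hz1 : z ≠ 1)
    (h : ∀ x, x * z = z * x → ∀ k, x ^ 2 ^ k = 1 → x = 1 ∨ x = z) :
    ∃ O : Subgroup G, Odd (Nat.card O) ∧ ∀ x, x ∈ O ↔ Odd (orderOf x) := by
  classical
  have : Fact (Nat.Prime 2) := ⟨Nat.prime_two⟩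
  have ho : orderOf z = 2 := orderOf_eq_prime (by rw [pow_two, hz]) hz1
  have mz : ∀ x ∈ zpowers z, x = 1 ∨ x = z := fun x hx => by
    rw [mem_zpowers_iff_mem_range_orderOf, ho] at hx
    obtain ⟨k, hk, rfl⟩ := Finset.mem_image.1 hx
    have := Finset.mem_range.1 hk
    interval_cases k <;> simp
  have nz : ∀ x, x * z * x⁻¹ ∈ zpowers z → x * z = z * x := fun x hx => by
    rcases mz _ hx with h1 | h1
    · exact absurd (by simpa using h1) hz1
    · exact mul_inv_eq_iff_eq_mul.1 h1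
  obtain ⟨P, hP⟩ := (IsPGroup.of_card (n := 1) (G := zpowers z)
    (by rw [Nat.card_zpowers, ho, pow_one])).exists_le_sylow
  have hPz : (P : Subgroup G) = zpowers z := by
    refine le_antisymm (subgroupOf_eq_top.1 ?_) hP
    by_contra hne
    have := P.2.isNilpotent
    obtain ⟨x, hx, hx'⟩ := SetLike.exists_of_lt
      (Group.normalizerCondition_of_isNilpotent _ (lt_top_iff_ne_top.2 hne))
    have h1 := (mem_normalizer_iff.1 hx ⟨z, hP (mem_zpowers z)⟩).1 (mem_zpowers z)
    obtain ⟨k, hk⟩ := P.2 x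
    rcases h x.1 (nz _ h1) k (by simpa using congrArg Subtype.val hk) with h2 | h2
    · exact hx' (by rw [mem_subgroupOf, h2]; exact one_mem _)
    · exact hx' (by rw [mem_subgroupOf, h2]; exact mem_zpowers _)
  have hN : normalizer ((P : Subgroup G) : Set G) ≤ centralizer ((P : Subgroup G) : Set G) := by
    rw [hPz]
    intro x hx y hy
    rcases mz y hy with rfl | rfl
    · simp
    · exact (nz x ((mem_normalizer_iff.1 hx _).1 hy)).symm
  have hi : (MonoidHom.transferSylow P hN).ker.index = 2 := by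
    rw [(MonoidHom.ker_transferSylow_isComplement' P hN).symm.index_eq_card, hPz,
      Nat.card_zpowers, ho]
  have hodd : Odd (Nat.card (MonoidHom.transferSylow P hN).ker) :=
    Nat.not_even_iff_odd.1 fun h => MonoidHom.not_dvd_card_ker_transferSylow P hN h.two_dvd
  refine ⟨_, hodd, fun x => ⟨H4.odd_orderOf hodd, fun hx => ?_⟩⟩
  obtain ⟨k, hk⟩ := H4.exists_sq_eq hx
  exact hk ▸ mul_self_mem_of_index_two hi _

theorem exists_odd_part {G : Type*} [Group G] [Finite G] {H : Subgroup G} {z : G} (hH : z ∈ H)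
    (hz : z * z = 1) (hz1 : z ≠ 1)
    (h : ∀ x ∈ H, x * z = z * x → ∀ k, x ^ 2 ^ k = 1 → x = 1 ∨ x = z) :
    ∃ O : Subgroup G, Odd (Nat.card O) ∧ ∀ x, x ∈ O ↔ x ∈ H ∧ Odd (orderOf x) := by
  obtain ⟨O, h1, h2⟩ := exists_odd_part_top (G := H) (z := ⟨z, hH⟩) (Subtype.ext hz)
    (fun h => hz1 (congrArg Subtype.val h)) fun x hx k hk => by
      exact (h x.1 x.2 (congrArg Subtype.val hx) k (congrArg Subtype.val hk)).imp Subtype.ext
        Subtype.ext
  refine ⟨O.map H.subtype, by rwa [card_map_of_injective H.subtype_injective], fun x => ⟨?_, ?_⟩⟩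
  · rintro ⟨y, hy, rfl⟩
    exact ⟨y.2, (orderOf_coe y).symm ▸ (h2 y).1 hy⟩
  · exact fun ⟨h3, h4⟩ => ⟨⟨x, h3⟩, (h2 _).2 (by rwa [← orderOf_coe]), rfl⟩

theorem cent_zpowers {G : Type*} [Group G] (a : G) :
    centralizer (zpowers a : Set G) = centralizer {a} := by
  rw [zpowers_eq_closure, centralizer_closure]

theorem four_formula {G : Type*} [Group G] [Finite G] {K : Subgroup G} (hK : Odd (Nat.card K))
    {a b : G} (ha : a * a = 1) (hb : b * b = 1) (hab : b * a = a * b) (ha1 : a ≠ 1) (hb1 : b ≠ 1)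
    (hne : b ≠ a) (hna : ∀ x ∈ K, a * x * a⁻¹ ∈ K) (hnb : ∀ x ∈ K, b * x * b⁻¹ ∈ K) :
    Nat.card K * Nat.card (K ⊓ centralizer {a, b} : Subgroup G) ^ 2 =
      Nat.card (K ⊓ centralizer {a} : Subgroup G) * Nat.card (K ⊓ centralizer {b} : Subgroup G) *
        Nat.card (K ⊓ centralizer {a * b} : Subgroup G) := by
  classical
  have : Fact (Nat.Prime 2) := ⟨Nat.prime_two⟩
  have hc := H16.card_kleinOf ha hb hab ha1 hb1 hne
  have hab1 : a * b ≠ 1 := fun h => hne (by rw [← inv_eq_of_mul_eq_one_right h,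
    inv_eq_of_mul_eq_one_right ha])
  have hab2 : a * b * (a * b) = 1 := by
    rw [mul_assoc, ← mul_assoc b, hab, mul_assoc, hb, mul_one, ha]
  have mz : ∀ {z : G}, z * z = 1 → z ≠ 1 → Nat.card (zpowers z) = 2 ∧
      ∀ x, x ∈ zpowers z ↔ x = 1 ∨ x = z := fun {z} hz hz1 => by
    have ho : orderOf z = 2 := orderOf_eq_prime (by rw [pow_two, hz]) hz1
    refine ⟨by rw [Nat.card_zpowers, ho], fun x => ⟨fun hx => ?_, ?_⟩⟩
    · rw [mem_zpowers_iff_mem_range_orderOf, ho] at hx
      obtain ⟨k, hk, rfl⟩ := Finset.mem_image.1 hx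
      have := Finset.mem_range.1 hk
      interval_cases k <;> simp
    · rintro (rfl | rfl)
      exacts [one_mem _, mem_zpowers _]
  have eV : centralizer (H16.kleinOf a b ha hb hab : Set G) = centralizer {a, b} := by
    ext x
    simp only [mem_centralizer_iff, SetLike.mem_coe, H16.mem_kleinOf, Set.mem_insert_iff,
      Set.mem_singleton_iff, forall_eq_or_imp, forall_eq]
    exact ⟨fun h => ⟨h.2.1, h.2.2.1⟩, fun h => ⟨by simp, h.1, h.2,
      by rw [mul_assoc, h.2, ← mul_assoc, h.1, mul_assoc]⟩⟩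
  have na := H4.mem_normalizer_of hna
  have nb := H4.mem_normalizer_of hnb
  have key := H1.solvable_Wielandt_fixpoint (V := K) (M := H16.kleinOf a b ha hb hab)
    ![⊥, H16.kleinOf a b ha hb hab, zpowers a, zpowers b, zpowers (a * b)] ![2, 1, 0, 0, 0]
    ![0, 0, 1, 1, 1] (fun i _ => by
      fin_cases i <;> simp [H16.mem_kleinOf]) (fun g hg => by
      rcases H16.mem_kleinOf.1 hg with rfl | rfl | rfl | rfl
      exacts [one_mem _, na, nb, mul_mem na nb])
    (by rw [hc]; exact (Nat.coprime_two_right.2 hK).pow_right 2)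
    (Cfsg.Agent.S0205.result hK) fun g hg => by
      have h1 : a * b ≠ a := by simpa using hb1
      have h2 : a * b ≠ b := by simpa using ha1
      simp only [Finset.sum_filter, Fin.sum_univ_five, Matrix.cons_val, (mz ha ha1).2,
        (mz hb hb1).2, (mz hab2 hab1).2, mem_bot, hg]
      rcases H16.mem_kleinOf.1 hg with rfl | rfl | rfl | rfl <;>
        simp [ha1, hb1, hab1, hne, hne.symm, h1, h2, h1.symm, h2.symm]
  simp only [Fin.prod_univ_five, Matrix.cons_val, (mz ha ha1).1, (mz hb hb1).1, (mz hab2 hab1).1,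
    hc, eV, cent_zpowers, coe_bot, card_bot] at key
  rw [show centralizer ({1} : Set G) = ⊤ by simp [eq_top_iff, mem_centralizer_iff, SetLike.le_def],
    inf_top_eq] at key
  refine Nat.pow_left_injective (n := 2) (by norm_num) ?_
  simp only [mul_pow, ← pow_mul]
  simpa using key

theorem aut_triv {A : Type*} [Group A] [Finite A] (ψ : A →* A) (h5 : ∀ x, ψ (ψ (ψ (ψ (ψ x)))) = x)
    (hA : Nat.card A ∣ 27) (x : A) : ψ x = x := by
  classical
  have : Fact (Nat.Prime 5) := ⟨by norm_num⟩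
  have := Fintype.ofFinite A
  have h1 := Equiv.Perm.card_fixedPoints_modEq (f := (ψ : A → A)) (p := 5) (n := 1)
    (funext fun x => h5 x)
  have h2 : Nat.card (ψ.eqLocus (MonoidHom.id A)) = Fintype.card (Function.fixedPoints ψ) := by
    rw [← Nat.card_eq_fintype_card]; rfl
  rw [← h2, ← Nat.card_eq_fintype_card] at h1
  have h3 := (ψ.eqLocus (MonoidHom.id A)).card_subgroup_dvd_card
  have h4 : ψ.eqLocus (MonoidHom.id A) = ⊤ := by
    refine eq_top_of_card_eq _ ?_
    generalize Nat.card A = m at *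
    generalize Nat.card (ψ.eqLocus (MonoidHom.id A)) = k at *
    obtain ⟨i, hi, rfl⟩ := (Nat.dvd_prime_pow Nat.prime_three (m := 3)).1 hA
    obtain ⟨j, hj, rfl⟩ := (Nat.dvd_prime_pow Nat.prime_three).1 h3
    clear h2 h3 hA
    interval_cases i <;> interval_cases j <;> revert h1 <;> decide
  exact (h4 ▸ mem_top x : x ∈ ψ.eqLocus (MonoidHom.id A))

theorem conj_triv {G : Type*} [Group G] [Finite G] {B Q : Subgroup G} (hBQ : B ≤ Q)
    (hc : ∀ q ∈ Q, ∀ b ∈ B, q * b * q⁻¹ ∈ B) (hi : B.relIndex Q ∣ 27) {f : G} (h5 : f ^ 5 = 1)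
    (hQ : ∀ q ∈ Q, f * q * f⁻¹ ∈ Q) (hB : ∀ b ∈ B, f * b * f⁻¹ ∈ B) {q : G} (hq : q ∈ Q) :
    q⁻¹ * (f * q * f⁻¹) ∈ B := by
  have : (B.subgroupOf Q).Normal := ⟨fun b hb q => hc q.1 q.2 b.1 hb⟩
  let φ : Q →* Q := ((MulAut.conj f).toMonoidHom.comp Q.subtype).codRestrict Q fun q => hQ q.1 q.2
  have hφ : B.subgroupOf Q ≤ (B.subgroupOf Q).comap φ := fun b hb => hB b.1 hb
  have h1 := aut_triv (QuotientGroup.map (B.subgroupOf Q) (B.subgroupOf Q) φ hφ)
    (fun x => by
      obtain ⟨x, rfl⟩ := QuotientGroup.mk_surjective x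
      simp only [QuotientGroup.map_mk]
      congr 1
      apply Subtype.ext
      change f * (f * (f * (f * (f * x.1 * f⁻¹) * f⁻¹) * f⁻¹) * f⁻¹) * f⁻¹ = x.1
      calc _ = f ^ 5 * x.1 * (f ^ 5)⁻¹ := by
            simp only [pow_succ, pow_zero, one_mul, mul_inv_rev, mul_assoc]
        _ = _ := by rw [h5]; group) hi (⟨q, hq⟩ : Q)
  rw [QuotientGroup.map_mk, eq_comm, QuotientGroup.eq] at h1
  exact h1

theorem card_le_of_forms {G : Type*} [Group G] {D : Subgroup G} {ι : Type*} [Fintype ι]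
    (f : ι → G) (h : ∀ d ∈ D, ∃ i, d = f i) : Nat.card D ≤ Fintype.card ι := by
  choose g hg using fun d : D => h d.1 d.2
  rw [← Nat.card_eq_fintype_card]
  exact Nat.card_le_card_of_injective g fun a b hab => Subtype.ext (by rw [hg a, hg b, hab])

end H5
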