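import Mathlib
import Cfsg.Agent.H5.LyT

/-!
# The abstract argument excluding degree nine
-/

set_option autoImplicit false

namespace H5

open Subgroup

variable {X : Type*} [Group X]

/-- Products of powers of four commuting elements of order three. -/
def B4 (a b c d : X) (ha : a ^ 3 = 1) (hb : b ^ 3 = 1) (hc : c ^ 3 = 1) (hd : d ^ 3 = 1)
    (ab : Commute a b) (ac : Commute a c) (ad : Commute a d) (bc : Commute b c) (bd : Commute b d)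
    (cd : Commute c d) : Subgroup X where
  carrier := {x | ∃ i j k l : ℕ, x = a ^ i * b ^ j * (c ^ k * d ^ l)}
  one_mem' := ⟨0, 0, 0, 0, by simp⟩
  mul_mem' := by
    rintro _ _ ⟨i, j, k, l, rfl⟩ ⟨i', j', k', l', rfl⟩
    refine ⟨i + i', j + j', k + k', l + l', ?_⟩
    rw [Commute.mul_mul_mul_comm (((ac.pow_pow _ _).mul_right (ad.pow_pow _ _)).mul_left
      ((bc.pow_pow _ _).mul_right (bd.pow_pow _ _))).symm, (ab.pow_pow _ _).symm.mul_mul_mul_comm,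
      (cd.pow_pow _ _).symm.mul_mul_mul_comm, pow_add, pow_add, pow_add, pow_add]
  inv_mem' := by
    rintro _ ⟨i, j, k, l, rfl⟩
    refine ⟨2 * i, 2 * j, 2 * k, 2 * l, inv_eq_of_mul_eq_one_right ?_⟩
    rw [Commute.mul_mul_mul_comm (((ac.pow_pow _ _).mul_right (ad.pow_pow _ _)).mul_left
      ((bc.pow_pow _ _).mul_right (bd.pow_pow _ _))).symm, (ab.pow_pow _ _).symm.mul_mul_mul_comm,
      (cd.pow_pow _ _).symm.mul_mul_mul_comm]
    simp only [← pow_add, show ∀ i : ℕ, i + 2 * i = 3 * i from fun i => by ring]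
    simp [pow_mul, ha, hb, hc, hd]

theorem eq_one_of_sq_cube {x : X} (h2 : x * x = 1) (h3 : x ^ 3 = 1) : x = 1 := by
  rwa [pow_succ, pow_two, h2, one_mul] at h3

theorem inv_eq_sq {x : X} (h3 : x ^ 3 = 1) : x⁻¹ = x ^ 2 :=
  inv_eq_of_mul_eq_one_left (by rw [← pow_succ, h3])

theorem odd_of_cube {x : X} (h3 : x ^ 3 = 1) : Odd (orderOf x) :=
  (show Odd 3 by decide).of_dvd_nat (orderOf_dvd_of_pow_eq_one h3)

theorem zmod_aux : ∀ c d : ZMod 3, c * (c * (c * 1 + 2 * d * 0) + 2 * d * (d * 1 + c * 0)) +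
    2 * d * (d * (c * 1 + 2 * d * 0) + c * (d * 1 + c * 0)) = 1 →
    d * (c * (c * 1 + 2 * d * 0) + 2 * d * (d * 1 + c * 0)) +
    c * (d * (c * 1 + 2 * d * 0) + c * (d * 1 + c * 0)) = 0 → c = 1 ∧ d = 0 := by decide

/-- An element of order three acting on a group of order nine. -/
theorem comm_of_act {γ x y t j : X} (hγ : γ ^ 3 = 1) (hx : x ^ 3 = 1) (hy : y ^ 3 = 1)
    (hx1 : x ≠ 1) (hy1 : y ≠ 1) (xy : Commute x y) (tx : t * x * t⁻¹ = x) (ty : t * y * t⁻¹ = y⁻¹)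
    (tγ : t * γ * t⁻¹ = γ⁻¹) (jx : j * x * j⁻¹ = y) (jy : j * y * j⁻¹ = x)
    (jγ : j * γ * j⁻¹ = γ⁻¹) {c d : ℕ} (h : γ * x * γ⁻¹ = x ^ c * y ^ d) : γ * x * γ⁻¹ = x := by
  have : Fact (Nat.Prime 3) := ⟨Nat.prime_three⟩
  have h1 : γ * y * γ⁻¹ = x ^ (2 * d) * y ^ c := by
    have h2 := congrArg (fun u => j * (t * u * t⁻¹) * j⁻¹) h
    simp only [← conj_mul, ← conj_pow, ← conj_inv, tx, ty, tγ, jx, jy, jγ, inv_inv] at h2
    rw [h2, inv_eq_sq hx, ← pow_mul, (xy.pow_pow _ _).eq]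
  have step : ∀ m n : ℕ, γ * (x ^ m * y ^ n) * γ⁻¹ =
      x ^ (c * m + 2 * d * n) * y ^ (d * m + c * n) := fun m n => by
    rw [← conj_mul, ← conj_pow, ← conj_pow, h, h1, (xy.pow_pow _ _).mul_pow,
      (xy.pow_pow _ _).mul_pow]
    simp only [← pow_mul]
    rw [(xy.pow_pow _ _).symm.mul_mul_mul_comm, ← pow_add, ← pow_add]
  have h3 : γ * (γ * (γ * (x ^ 1 * y ^ 0) * γ⁻¹) * γ⁻¹) * γ⁻¹ = x := by
    calc _ = γ ^ 3 * x * (γ ^ 3)⁻¹ := by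
          simp only [pow_succ, pow_zero, one_mul, mul_one, mul_inv_rev, mul_assoc]
      _ = x := by rw [hγ]; group
  rw [step, step, step] at h3
  generalize hP : c * _ + 2 * d * _ = P at h3
  generalize hQ : d * _ + c * _ = Q at h3
  have h4 : y ^ Q = 1 := by
    have h5 := congrArg (fun u => t * u * t⁻¹) h3
    simp only [← conj_mul, ← conj_pow, tx, ty] at h5
    replace h5 := h5.trans h3.symm
    rw [mul_right_inj, inv_pow] at h5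
    exact eq_one_of_sq_cube (by nth_rw 1 [← h5]; simp)
      (by rw [← pow_mul, mul_comm, pow_mul, hy, one_pow])
  rw [h4, mul_one] at h3
  have h5 : P ≡ 1 [MOD 3] := by
    rw [← orderOf_eq_prime hx hx1, ← pow_eq_pow_iff_modEq, h3, pow_one]
  have h6 : 3 ∣ Q := by rw [← orderOf_eq_prime hy hy1]; exact orderOf_dvd_of_pow_eq_one h4
  have h7 : c % 3 = 1 ∧ d % 3 = 0 := by
    subst hP hQ
    rw [Nat.dvd_iff_mod_eq_zero] at h6
    rw [Nat.ModEq] at h5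
    have h9 := zmod_aux c d (by exact_mod_cast (ZMod.natCast_eq_natCast_iff' _ 1 3).2 h5)
      (by exact_mod_cast (ZMod.natCast_eq_natCast_iff' _ 0 3).2 h6)
    exact ⟨(ZMod.natCast_eq_natCast_iff' c 1 3).1 (by exact_mod_cast h9.1),
      (ZMod.natCast_eq_natCast_iff' d 0 3).1 (by exact_mod_cast h9.2)⟩
  rw [h, pow_eq_pow_mod c hx, pow_eq_pow_mod d hy, h7.1, h7.2]
  simp

theorem relIndex_pow [Finite X] {B Q O : Subgroup X} (hBQ : B ≤ Q) (hQO : Q ≤ O) {m k : ℕ}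
    (hO : Nat.card O = 3 ^ m) (h : Nat.card O ≤ 3 ^ k * Nat.card B) : B.relIndex Q ∣ 3 ^ k := by
  obtain ⟨i, -, hi⟩ := (Nat.dvd_prime_pow Nat.prime_three).1
    ((relIndex_dvd_card B Q).trans (hO ▸ card_dvd_of_le hQO))
  have h1 := (B.subgroupOf Q).index_mul_card
  rw [Nat.card_congr (subgroupOfEquivOfLe hBQ).toEquiv] at h1
  have h2 : B.relIndex Q * Nat.card B ≤ 3 ^ k * Nat.card B :=
    h1.le.trans ((card_le_of_le hQO).trans h)
  rw [hi] at h2 ⊢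
  exact pow_dvd_pow _ ((Nat.pow_le_pow_iff_right (by norm_num)).1
    (Nat.le_of_mul_le_mul_right h2 Nat.card_pos))

theorem nine_abs [Finite X] {z t σ j ρ e1 e2 e3 γ f1 f2 β : X} {B : Subgroup X}
    (hB : ∀ x, x ∈ B ↔ ∃ i j k l : ℕ, x = ρ ^ i * e1 ^ j * (e2 ^ k * e3 ^ l))
    (hz : z * z = 1) (ht : t * t = 1) (htz : t * z = z * t) (hz1 : z ≠ 1) (ht1 : t ≠ 1)
    (htz1 : t ≠ z) (ρ3 : ρ ^ 3 = 1) (a3 : e1 ^ 3 = 1) (b3 : e2 ^ 3 = 1) (c3 : e3 ^ 3 = 1)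
    (γ3 : γ ^ 3 = 1) (ρ1 : ρ ≠ 1) (b1 : e2 ≠ 1) (c1 : e3 ≠ 1) (ρa : Commute ρ e1)
    (ρb : Commute ρ e2) (ρc : Commute ρ e3) (ab : Commute e1 e2) (ac : Commute e1 e3)
    (bc : Commute e2 e3) (γρ : Commute γ ρ) (γa : Commute γ e1) (γz : Commute γ z)
    (zρ : Commute z ρ) (za : Commute z e1) (zb : z * e2 * z⁻¹ = e2⁻¹) (zc : z * e3 * z⁻¹ = e3⁻¹)
    (tρ : Commute t ρ) (ta : t * e1 * t⁻¹ = e1⁻¹) (tb : t * e2 * t⁻¹ = e2)
    (tc : t * e3 * t⁻¹ = e3⁻¹) (tγ : t * γ * t⁻¹ = γ⁻¹) (jρ : j * ρ * j⁻¹ = ρ⁻¹)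
    (ja : j * e1 * j⁻¹ = e1) (jb : j * e2 * j⁻¹ = e3) (jc : j * e3 * j⁻¹ = e2)
    (jγ : j * γ * j⁻¹ = γ⁻¹) (jt : j * (z * t) * j⁻¹ = t) (σρ : σ * ρ * σ⁻¹ = ρ)
    (σz : σ * z * σ⁻¹ = t) (σa : σ * e1 * σ⁻¹ = e2) (σc : σ * e3 * σ⁻¹ = e1)
    (hρ : ∀ x, x * z = z * x → x * ρ = ρ * x → Odd (orderOf x) →
      ∃ i < 3, ∃ j < 3, ∃ k < 3, x = γ ^ k * (ρ ^ i * e1 ^ j))
    (hW : ∀ x, x * z = z * x → x * ρ = ρ * x → x * e1 = e1 * x → x ^ 3 = 1 ∨ x ^ 3 = z)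
    (h81 : 81 ≤ Nat.card B) (f15 : f1 ^ 5 = 1) (f25 : f2 ^ 5 = 1)
    (n1 : ∀ x ∈ [ρ, e1, e2, e3], f1 * x * f1⁻¹ ∈ B) (n2 : ∀ x ∈ [ρ, e1, e2, e3], f2 * x * f2⁻¹ ∈ B)
    (hβ : β ∈ B) (htf : t = f1 * f2 * β) (hγ : ∀ i j : ℕ, γ ≠ ρ ^ i * e1 ^ j) : False := by
  have : Fact (Nat.Prime 3) := ⟨Nat.prime_three⟩
  have mW : ∀ x, x ∈ centralizer ({ρ, e1} : Set X) ↔ x * ρ = ρ * x ∧ x * e1 = e1 * x := fun x => by
    simp only [mem_centralizer_iff, Set.mem_insert_iff, Set.mem_singleton_iff, forall_eq_or_imp,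
      forall_eq, eq_comm (b := x * _)]
  obtain ⟨O, hO, mO⟩ := exists_odd_part (H := centralizer ({ρ, e1} : Set X)) (z := z)
    ((mW _).2 ⟨zρ, za⟩) hz hz1 fun x hx h k hk => by
      have h6 : x ^ 6 = 1 := by
        rw [show 6 = 3 + 3 from rfl, pow_add]
        rcases hW x h ((mW _).1 hx).1 ((mW _).1 hx).2 with h1 | h1 <;> simp [h1, hz]
      have h2 : x ^ 2 = 1 := by
        have h3 := pow_gcd_eq_one.2 ⟨h6, hk⟩
        rw [show 6 = 3 * 2 from rfl, Nat.Coprime.gcd_mul_left_cancel _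
          (Nat.Coprime.pow_right k (by norm_num))] at h3
        exact orderOf_dvd_iff_pow_eq_one.1 ((orderOf_dvd_of_pow_eq_one h3).trans
          (Nat.gcd_dvd_left _ _))
      simpa [pow_succ, ← pow_two, h2] using hW x h ((mW _).1 hx).1 ((mW _).1 hx).2
  simp only [mW] at mO
  have nO : ∀ g : X, (g * ρ * g⁻¹ = ρ ∨ g * ρ * g⁻¹ = ρ⁻¹) →
      (g * e1 * g⁻¹ = e1 ∨ g * e1 * g⁻¹ = e1⁻¹) → ∀ x ∈ O, g * x * g⁻¹ ∈ O := fun g h1 h2 x hx => by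
    have k : ∀ {u : X}, (g * u * g⁻¹ = u ∨ g * u * g⁻¹ = u⁻¹) → x * u = u * x →
        g * x * g⁻¹ * u = u * (g * x * g⁻¹) := fun {u} h3 h4 => by
      have h5 : Commute (g * x * g⁻¹) (g * u * g⁻¹) := by
        rw [Commute, SemiconjBy, conj_mul, conj_mul, h4]
      rcases h3 with h3 | h3 <;> rw [h3] at h5
      exacts [h5, Commute.inv_right_iff.1 h5]
    obtain ⟨⟨h3, h4⟩, h5⟩ := (mO x).1 hx
    exact (mO _).2 ⟨⟨k h1 h3, k h2 h4⟩, by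
      rwa [← MulAut.conj_apply, MulEquiv.orderOf_eq]⟩
  have nz := nO z (.inl (by rw [zρ.eq]; group)) (.inl (by rw [za.eq]; group))
  have nt := nO t (.inl (by rw [tρ.eq]; group)) (.inr ta)
  have nj := nO j (.inr jρ) (.inl ja)
  have genB : ∀ {H : Subgroup X}, ρ ∈ H → e1 ∈ H → e2 ∈ H → e3 ∈ H → B ≤ H :=
    fun h1 h2 h3 h4 x hx => by
      obtain ⟨i, j, k, l, rfl⟩ := (hB x).1 hx
      exact mul_mem (mul_mem (pow_mem h1 _) (pow_mem h2 _)) (mul_mem (pow_mem h3 _) (pow_mem h4 _))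
  have ρO : ρ ∈ O := (mO _).2 ⟨⟨rfl, ρa⟩, odd_of_cube ρ3⟩
  have BO : B ≤ O := genB ρO ((mO _).2 ⟨⟨ρa.symm, rfl⟩, odd_of_cube a3⟩)
    ((mO _).2 ⟨⟨ρb.symm, ab.symm⟩, odd_of_cube b3⟩) ((mO _).2 ⟨⟨ρc.symm, ac.symm⟩, odd_of_cube c3⟩)
  have γO : γ ∈ O := (mO _).2 ⟨⟨γρ, γa⟩, odd_of_cube γ3⟩
  have ρB : ρ ∈ B := (hB _).2 ⟨1, 0, 0, 0, by simp⟩
  have aB : e1 ∈ B := (hB _).2 ⟨0, 1, 0, 0, by simp⟩
  have bB : e2 ∈ B := (hB _).2 ⟨0, 0, 1, 0, by simp⟩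
  have cB : e3 ∈ B := (hB _).2 ⟨0, 0, 0, 1, by simp⟩
  have cube : ∀ i j k : ℕ, (γ ^ k * (ρ ^ i * e1 ^ j)) ^ 3 = 1 := fun i j k => by
    rw [((γρ.pow_pow _ _).mul_right (γa.pow_pow _ _)).mul_pow, (ρa.pow_pow _ _).mul_pow]
    simp [pow_right_comm _ _ 3, γ3, ρ3, a3]
  have D1 : ∀ x ∈ O ⊓ centralizer {z}, ∃ i < 3, ∃ j < 3, ∃ k < 3, x = γ ^ k * (ρ ^ i * e1 ^ j) :=
    fun x hx => hρ x (H4.mem_cent.1 hx.2) ((mO x).1 hx.1).1.1 ((mO x).1 hx.1).2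
  have D2 : ∀ x ∈ O ⊓ centralizer {t}, ∃ i < 3, ∃ j < 3, ∃ k < 3,
      x = σ * (γ ^ k * (ρ ^ i * e1 ^ j)) * σ⁻¹ := fun x hx => by
    obtain ⟨i, hi, j, hj, k, hk, h⟩ := hρ (σ⁻¹ * x * σ) (by
      calc _ = σ⁻¹ * (x * (σ * z * σ⁻¹)) * σ := by group
        _ = _ := by rw [σz, H4.mem_cent.1 hx.2, ← σz]; group) (by
      calc _ = σ⁻¹ * (x * (σ * ρ * σ⁻¹)) * σ := by group
        _ = σ⁻¹ * ((σ * ρ * σ⁻¹) * x) * σ := by rw [σρ, ((mO x).1 hx.1).1.1]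
        _ = _ := by group) (by
      rw [← MulAut.conj_symm_apply, MulEquiv.orderOf_eq]; exact ((mO x).1 hx.1).2)
    exact ⟨i, hi, j, hj, k, hk, by rw [← h]; group⟩
  have D3 : ∀ x ∈ O ⊓ centralizer {z * t}, j * x * j⁻¹ ∈ O ⊓ centralizer {t} := fun x hx =>
    ⟨nj x hx.1, H4.mem_cent.2 (by rw [← jt, conj_mul, conj_mul, H4.mem_cent.1 hx.2])⟩
  have pg : ∀ D : Subgroup X, (∀ x ∈ D, x ^ 3 = 1) → ∃ m, Nat.card D = 3 ^ m := fun D h =>
    IsPGroup.iff_card.1 fun x => ⟨1, Subtype.ext (by simpa using h x.1 x.2)⟩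
  have F := four_formula hO hz ht htz hz1 ht1 htz1 nz nt
  obtain ⟨m1, h1⟩ := pg _ fun x hx => by
    obtain ⟨i, -, j, -, k, -, rfl⟩ := D1 x hx; exact cube i j k
  have cube2 : ∀ x ∈ O ⊓ centralizer {t}, x ^ 3 = 1 := fun x hx => by
    obtain ⟨i, -, j, -, k, -, rfl⟩ := D2 x hx; rw [conj_pow, cube]; group
  obtain ⟨m2, h2⟩ := pg _ cube2
  obtain ⟨m3, h3⟩ := pg (O ⊓ centralizer {z * t}) fun x hx => by
    simpa [conj_pow] using cube2 _ (D3 x hx)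
  obtain ⟨m, -, hm⟩ := (Nat.dvd_prime_pow Nat.prime_three).1
    (show Nat.card O ∣ 3 ^ (m1 + m2 + m3) from ⟨_, by rw [F, h1, h2, h3, pow_add, pow_add]⟩)
  have h4 : 3 ≤ Nat.card (O ⊓ centralizer {z, t} : Subgroup X) := by
    rw [← orderOf_eq_prime ρ3 ρ1, ← Nat.card_zpowers]
    exact card_le_of_le (zpowers_le.2 ⟨ρO, by simp [mem_centralizer_iff, zρ.eq, tρ.eq]⟩)
  have h5 : Nat.card (O ⊓ centralizer {z} : Subgroup X) ≤ 27 :=
    card_le_of_forms (fun a : Fin 3 × Fin 3 × Fin 3 => γ ^ a.1.1 * (ρ ^ a.2.1.1 * e1 ^ a.2.2.1))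
      fun x hx => by
        obtain ⟨i, hi, j, hj, k, hk, h⟩ := D1 x hx
        exact ⟨(⟨k, hk⟩, ⟨i, hi⟩, ⟨j, hj⟩), h⟩
  have h6 : Nat.card (O ⊓ centralizer {z * t} : Subgroup X) ≤
      Nat.card (O ⊓ centralizer {t} : Subgroup X) :=
    Nat.card_le_card_of_injective (fun x => ⟨_, D3 x.1 x.2⟩) fun a b h => by
      exact Subtype.ext (mul_left_cancel (mul_right_cancel (congrArg Subtype.val h)))
  have bound : ∀ n, Nat.card (O ⊓ centralizer {t} : Subgroup X) ≤ n →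
      Nat.card O * 9 ≤ 27 * n * n := fun n hn =>
    ((Nat.mul_le_mul_left _ (Nat.pow_le_pow_left h4 2)).trans F.le).trans
      (Nat.mul_le_mul (Nat.mul_le_mul h5 hn) (h6.trans hn))
  have split : ∀ {x : X} {i j k l : ℕ}, x = ρ ^ i * e1 ^ j * (e2 ^ k * e3 ^ l) →
      z * x * z⁻¹ = ρ ^ i * e1 ^ j * (e2 ^ k * e3 ^ l)⁻¹ := fun {x i j k l} h => by
    rw [h, ← conj_mul, ← conj_mul (a := e2 ^ k), ← conj_pow, ← conj_pow, zb, zc,
      ((zρ.pow_right i).mul_right (za.pow_right j)).eq, mul_inv_cancel_right, mul_inv_rev, inv_pow,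
      inv_pow, (bc.pow_pow _ _).inv_inv.eq]
  have γb : γ * e2 * γ⁻¹ = e2 := by
    by_cases hA : σ * γ * σ⁻¹ * e1 = e1 * (σ * γ * σ⁻¹)
    · rw [← σc, conj_mul, conj_mul, mul_left_inj, mul_right_inj] at hA
      have h7 := congrArg (fun u => j * u * j⁻¹) hA
      simp only [← conj_mul, jγ, jc] at h7
      rw [mul_assoc, ← h7]; group
    have h7 := bound 9 (card_le_of_forms (fun a : Fin 3 × Fin 3 => ρ ^ a.1.1 * e2 ^ a.2.1)
      fun x hx => by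
        obtain ⟨i, hi, j, hj, k, hk, h⟩ := D2 x hx
        rw [← conj_mul, ← conj_mul (a := ρ ^ i), ← conj_pow, ← conj_pow, ← conj_pow, σρ, σa] at h
        have h8 : Commute ((σ * γ * σ⁻¹) ^ k) e1 := by
          rw [eq_mul_inv_of_mul_eq h.symm]
          exact Commute.mul_left ((mO x).1 hx.1).1.2
            ((ρa.pow_left i).mul_left (ab.symm.pow_left j)).inv_left
        interval_cases k
        · exact ⟨(⟨i, hi⟩, ⟨j, hj⟩), by simpa using h⟩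
        · exact absurd (by simpa using h8.eq) hA
        · rw [← inv_eq_sq (by rw [conj_pow, γ3]; group), Commute.inv_left_iff] at h8
          exact absurd h8.eq hA)
    have h8 := relIndex_pow (k := 1) BO le_rfl hm (by omega)
    have h9 : (B.subgroupOf O).Normal := by
      rcases (Nat.dvd_prime Nat.prime_three).1 h8 with h9 | h9
      · exact normal_of_index_eq_one h9
      · refine normal_of_index_eq_minFac_card (h9.trans ?_)
        have := card_le_of_le BO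
        rw [hm, Nat.Prime.pow_minFac Nat.prime_three (by rintro rfl; omega)]
    obtain ⟨i, j', k, l, h10⟩ := (hB _).1 (h9.conj_mem ⟨e2, BO bB⟩ bB ⟨γ, γO⟩)
    change γ * e2 * γ⁻¹ = _ at h10
    have h11 := split h10
    rw [← conj_mul, ← conj_mul, zb, ← conj_inv, ← γz.eq, mul_inv_cancel_right, ← conj_inv, h10,
      mul_inv_rev, ← (((ρb.pow_pow _ _).mul_right (ρc.pow_pow _ _)).mul_left
        ((ab.pow_pow _ _).mul_right (ac.pow_pow _ _))).inv_inv.eq, mul_left_inj] at h11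
    rw [eq_one_of_sq_cube (x := ρ ^ i * e1 ^ j') (by nth_rw 1 [← h11]; simp)
      (by simpa using cube i j' 0), one_mul] at h10
    exact comm_of_act γ3 b3 c3 b1 c1 bc tb tc tγ jb jc jγ h10
  have γc : γ * e3 = e3 * γ := by
    have h7 := congrArg (fun u => j * u * j⁻¹) γb
    simp only [← conj_mul, ← conj_inv, jγ, jb] at h7
    nth_rw 1 [← h7]; group
  have cB' : ∀ x, x * ρ = ρ * x → x * e1 = e1 * x → x * e2 = e2 * x → x * e3 = e3 * x →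
      x ∈ centralizer (B : Set X) := fun x h1 h2 h3 h4 =>
    by
        intro y hy
        obtain ⟨i, j, k, l, rfl⟩ := (hB y).1 hy
        exact ((((show Commute x ρ from h1).pow_right i).mul_right
          ((show Commute x e1 from h2).pow_right j)).mul_right
          (((show Commute x e2 from h3).pow_right k).mul_right
          ((show Commute x e3 from h4).pow_right l))).symm
  have BQ : B ≤ centralizer (B : Set X) ⊓ O := le_inf (genB (cB' _ rfl ρa ρb ρc)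
    (cB' _ ρa.symm rfl ab ac) (cB' _ ρb.symm ab.symm rfl bc) (cB' _ ρc.symm ac.symm bc.symm rfl)) BO
  have γQ : γ ∈ centralizer (B : Set X) ⊓ O :=
    ⟨cB' _ γρ γa (mul_inv_eq_iff_eq_mul.1 γb) γc, γO⟩
  have h7 := bound 27 (card_le_of_forms (fun a : Fin 3 × Fin 3 × Fin 3 =>
    σ * (γ ^ a.1.1 * (ρ ^ a.2.1.1 * e1 ^ a.2.2.1)) * σ⁻¹) fun x hx => by
      obtain ⟨i, hi, j, hj, k, hk, h⟩ := D2 x hx
      exact ⟨(⟨k, hk⟩, ⟨i, hi⟩, ⟨j, hj⟩), h⟩)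
  have h8 := relIndex_pow (k := 3) BQ inf_le_right hm (by omega)
  have key : ∀ f : X, f ^ 5 = 1 → (∀ x ∈ [ρ, e1, e2, e3], f * x * f⁻¹ ∈ B) →
      (∀ b ∈ B, f * b * f⁻¹ ∈ B) ∧ γ⁻¹ * (f * γ * f⁻¹) ∈ B := fun f h5 hf => by
    have nf : ∀ b ∈ B, f * b * f⁻¹ ∈ B := genB (H := B.comap (MulAut.conj f).toMonoidHom)
      (hf _ (by simp)) (hf _ (by simp)) (hf _ (by simp)) (hf _ (by simp))
    have nf' := H4.mem_normalizer_of nf
    refine ⟨nf, conj_triv BQ (fun q hq b hb => by rwa [← hq.1 b hb, mul_inv_cancel_right]) h8 h5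
      (fun q hq => ?_) nf γQ⟩
    have h9 : f * q * f⁻¹ ∈ centralizer (B : Set X) := fun b hb => by
      have := hq.1 _ (H4.conj_mem_of_normalizer (inv_mem nf') hb)
      calc _ = f * (f⁻¹ * b * f⁻¹⁻¹ * q) * f⁻¹ := by group
        _ = _ := by rw [this]; group
    exact ⟨h9, (mO _).2 ⟨⟨(h9 _ ρB).symm, (h9 _ aB).symm⟩, by
      rw [← MulAut.conj_apply, MulEquiv.orderOf_eq]; exact ((mO q).1 hq.2).2⟩⟩
  have h9 : γ⁻¹ * (t * γ * t⁻¹) ∈ B := by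
    have := mul_mem (key f1 f15 n1).2 ((key f1 f15 n1).1 _ (key f2 f25 n2).2)
    convert this using 1
    rw [htf, mul_assoc _ β, γQ.1 β hβ]; group
  rw [tγ, ← pow_two, inv_pow, inv_eq_sq (by rw [← pow_mul, mul_comm, pow_mul, γ3, one_pow]),
    ← pow_mul, show 2 * 2 = 3 + 1 from rfl, pow_add, γ3, one_mul, pow_one] at h9
  obtain ⟨i, j, k, l, h10⟩ := (hB _).1 h9
  have h11 := split h10
  rw [← γz.eq, mul_inv_cancel_right] at h11
  have h12 : e2 ^ k * e3 ^ l = 1 := eq_one_of_sq_cube (by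
      nth_rw 1 [mul_left_cancel (h10.symm.trans h11)]; simp) (by
      rw [(bc.pow_pow _ _).mul_pow]; simp [pow_right_comm _ _ 3, b3, c3])
  exact hγ i j (by rw [h10, h12, mul_one])

end H5
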