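import Mathlib
import Cfsg.Agent.H5.McP

/-!
# Computing in a group generated by the letters of `McL`
-/

set_option autoImplicit false
set_option maxRecDepth 100000

namespace H5.McP

open H29 H9.MX

/-- The letters satisfy the relators of `McL`. -/
structure Ok {G : Type} [Group G] (e : ℕ → G) : Prop where
  iv : IvOK e (ivOf ivl)
  rel : ∀ r ∈ RA, ev e r = 1
  y : e 11 = 1
  z : e 8 ≠ 1

/-- The words use the thirteen letters. -/
noncomputable def inC (R : List (List ℕ)) : Bool := allL R fun w => allL w fun c => memL c cols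

theorem inC_spec {R : List (List ℕ)} (h : inC R = true) : ∀ w ∈ R, ∀ c ∈ w, c ∈ cols :=
  fun w hw c hc => memL_true.1 (allL_true.1 (allL_true.1 h w hw) c hc)

/-- The words are trivial on the 275 points. -/
noncomputable def chkR (R : List (List ℕ)) : Bool :=
  and2 (inC R) (allN 9 (chkRelP 275 9 (nth Net.nil MS.nl) (ivOf MS.ivl) R))

theorem rels_of_chkR {G : Type} [Group G] {e : ℕ → G} (h1 : IvOK e (ivOf ivl))
    (h2 : ∀ r ∈ RA, ev e r = 1) (h3 : e 11 = 1) {R : List (List ℕ)} (hc : chkR R = true) :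
    ∀ r ∈ R, ev e r = 1 := fun r hr =>
  trP h1 h2 h3 r (inC_spec (and2_true.1 hc).1 r hr)
    (rels_of_chk (k := 9) MS.hn (by decide) MS.hiv (allN_true.1 (and2_true.1 hc).2) r hr)

namespace Ok

variable {G : Type} [Group G] {e : ℕ → G} (h : Ok e)
include h

theorem rels {R : List (List ℕ)} (hc : chkR R = true) : ∀ r ∈ R, ev e r = 1 :=
  rels_of_chkR h.iv h.rel h.y hc

theorem eq (u v : List ℕ) (hc : chkR [u ++ invW (ivOf ivl) v] = true) : ev e u = ev e v := by
  have := h.rels hc _ (List.mem_singleton_self _)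
  rwa [ev_append, ev_invW h.iv, mul_inv_eq_one] at this

theorem emb : ∃ f : S →* G, Function.Injective f ∧ f.range = gen e cols ∧
    ∀ w : List ℕ, (∀ c ∈ w, c ∈ cols) → f (ev (pe MS.nl) w) = ev e w := by
  obtain ⟨f, h1, h2, h3⟩ := exists_emb h.iv h.rel h.y h.z
  exact ⟨f, h1, h2, fun w hw => by rw [map_ev, ev_congr fun c hc => h3 c (hw c hc)]⟩

theorem ne (w : List ℕ) (p : ℕ) (hc : and2 (inC [w])
    (Bool.not (Nat.testBit (pullW (nth Net.nil MS.nl) w (bit p)) p)) = true) : ev e w ≠ 1 := by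
  obtain ⟨f, h1, -, h3⟩ := h.emb
  obtain ⟨h4, h5⟩ := and2_true.1 hc
  rw [← h3 w (inC_spec h4 w (by simp)), Ne, map_eq_one_iff f h1]
  intro h6
  have h7 := congrArg (PG MS.nl).subtype h6
  rw [map_ev_sg fun c _ => pe_rho _ c, map_one] at h7
  rw [testBit_pullW MS.hn, h7, testBit_bit] at h5
  simp at h5

theorem card_le {wl : List (List ℕ)} (hw : inC wl = true) {ch : List (ℕ × ℕ × ℕ × List ℕ)}
    {L : List ℕ} (hc : chkChain 275 9 (wNets (nth Net.nil MS.nl) wl) ch L = true) :
    (ch.map fun a => a.2.2.1).prod ≤ Nat.card (gen (wE e wl) L) := by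
  obtain ⟨f, h1, -, h3⟩ := h.emb
  have : Finite S := Nat.finite_of_card_ne_zero (by rw [card.1]; norm_num)
  have h4 := le_card_gen_of_chain (e := wE (pe MS.nl) wl) (MS.hn.wNets wl) card.2
    (fun c _ => map_wE (pe_rho _) wl c) hc
  rw [← Subgroup.card_map_of_injective h1, map_gen] at h4
  rwa [gen_congr (e := wE e wl) (e' := fun c => f (wE (pe MS.nl) wl c)) fun c _ => (h3 _
    (nth_forall (p := fun w : List ℕ => ∀ c ∈ w, c ∈ cols) (by simp) (inC_spec hw) c)).symm]

theorem card_gen : Nat.card (gen e cols) = 898128000 := by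
  obtain ⟨f, h1, h2, -⟩ := h.emb
  rw [← h2, ← card.1, ← Subgroup.card_top (G := S), MonoidHom.range_eq_map,
    Subgroup.card_map_of_injective h1]

end Ok

end H5.McP
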