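import Mathlib
import Cfsg.Agent.H5.LyI
import Cfsg.Agent.H5.LyN
import Cfsg.Agent.H5.McQ

/-!
# Degrees nine and ten do not occur
-/

set_option autoImplicit false
set_option maxRecDepth 100000

namespace H5.McP.Ok

open H29

variable {G : Type} [Group G] {e : ℕ → G} (h : Ok e)
include h

theorem conj (u v w : List ℕ) (hc : chkR [u ++ v ++ invW (ivOf ivl) (w ++ u)] = true) :
    ev e u * ev e v * (ev e u)⁻¹ = ev e w := by
  have := h.eq _ _ hc
  rw [ev_append, ev_append] at this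
  rw [this, mul_inv_cancel_right]

theorem conjI (u v w : List ℕ) (hc : chkR [u ++ v ++ invW (ivOf ivl) u ++ w] = true) :
    ev e u * ev e v * (ev e u)⁻¹ = (ev e w)⁻¹ := by
  have := h.rels hc _ (List.mem_singleton_self _)
  rw [ev_append, ev_append, ev_append, ev_invW h.iv] at this
  exact eq_inv_of_mul_eq_one_left this

theorem comm (u v : List ℕ) (hc : chkR [u ++ v ++ invW (ivOf ivl) (v ++ u)] = true) :
    Commute (ev e u) (ev e v) := mul_inv_eq_iff_eq_mul.1 (h.conj u v v hc)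

theorem pow (u : List ℕ) (k : ℕ) (hc : chkR [powW k u] = true) : ev e u ^ k = 1 := by
  rw [← ev_powW]; exact h.rels hc _ (List.mem_singleton_self _)

end H5.McP.Ok

namespace H5.Ly

open Equiv Equiv.Perm H29

theorem supp_card {s : ℕ} (hs : Val 10 s) :
    (pr (ec s)).support.card = (Finset.univ.filter fun i : Fin 11 => appA 10 s i.1 ≠ i.1).card := by
  refine congrArg Finset.card (Finset.ext fun i => ?_)
  rw [mem_support, Finset.mem_filter, Ne, Fin.ext_iff, app_ec hs]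
  exact ⟨fun h => ⟨Finset.mem_univ _, h⟩, fun h => h.2⟩

theorem no_eleven {u : PP 11} (hu : u ∈ Mn 11 10) (h : u ^ 11 = 1) : u = 1 := by
  have : Fact (Nat.Prime 11) := ⟨by norm_num⟩
  have h1 : pr u = 1 := by
    by_contra h1
    have ho : orderOf (pr u) = 11 := orderOf_eq_prime (by rw [← map_pow, h, map_one]) h1
    obtain ⟨k, hk⟩ := cycleType_prime_order (σ := pr u) (by rw [ho]; exact this.out)
    have h3 := sum_cycleType (pr u)
    rw [hk, ho] at h3
    have h4 : (pr u).support.card ≤ (Finset.univ.erase (10 : Fin 11)).card :=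
      Finset.card_le_card fun i hi => by
        have := lt_of_moved hu (mem_support.1 hi)
        simp [Fin.ext_iff]; omega
    simp at h3 h4
    omega
  rcases pr_eq_one h1 with h2 | h2
  · exact h2
  · rw [h2, show 11 = 2 * 5 + 1 from rfl, pow_succ, pow_mul, zz_pow_two, one_pow, one_mul] at h
    exact absurd h zz_ne

namespace Cf

section
variable {X : Type*} [Group X] {n : ℕ} (c : Cf X n)

/-- The letters with additional elements of the centraliser. -/
noncomputable def gx (L : List ℕ) (k : ℕ) : X := c.lf (lE (lc ++ L) k)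

theorem gx_lt (L : List ℕ) {k : ℕ} (hk : k < 10) : c.gx L k = c.g k := by
  rw [gx, g, l0, lE, lE, nth_eq, nth_eq, List.getD_append _ _ _ _ hk]

theorem ev_gx_lt (L : List ℕ) {w : List ℕ} (h : ∀ k ∈ w, k < 10) : ev (c.gx L) w = ev c.g w :=
  ev_congr fun k hk => c.gx_lt L (h k hk)

theorem lE_mem {m : ℕ} {L : List ℕ} (hL : allL L (inM m) = true) (k : ℕ) : lE L k ∈ Mn 11 m :=
  nth_forall (p := fun c => ec c ∈ Mn 11 m) (ec_c1 ▸ one_mem _)
    (fun c hc => inM_mem (allL_true.1 hL c hc)) k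

theorem val_of_inM {m : ℕ} {L : List ℕ} (hL : allL L (inM m) = true) :
    allL L (valA 10) = true := allL_true.2 fun a ha => (and2_true.1 (allL_true.1 hL a ha)).1

theorem ev_gx {L : List ℕ} (hL : allL (lc ++ L) (inM n) = true) : ∀ w : List ℕ,
    ev (c.gx L) w = c.lf (ev (lE (lc ++ L)) w)
  | [] => by simp [lf_one]
  | k :: w => by
    rw [ev_cons, ev_cons, c.lf_mul (lE_mem hL k) (ev_mem fun k _ => lE_mem hL k), ev_gx hL w, gx]

theorem eqx {L : List ℕ} (hL : allL (lc ++ L) (inM n) = true) (u v : List ℕ)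
    (h : evC (lc ++ L) u c1 = evC (lc ++ L) v c1) : ev (c.gx L) u = ev (c.gx L) v := by
  rw [c.ev_gx hL, c.ev_gx hL, ev_lE (val_of_inM hL), ev_lE (val_of_inM hL), h]

theorem nex {L : List ℕ} (hL : allL (lc ++ L) (inM n) = true) (u v : List ℕ)
    (h : evC (lc ++ L) u c1 ≠ evC (lc ++ L) v c1) : ev (c.gx L) u ≠ ev (c.gx L) v := fun h1 => by
  rw [c.ev_gx hL, c.ev_gx hL] at h1
  have := c.lf_inj (ev_mem fun k _ => lE_mem hL k) (ev_mem fun k _ => lE_mem hL k) h1
  rw [ev_lE (val_of_inM hL), ev_lE (val_of_inM hL)] at this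
  exact h (ec_inj (evC_spec (val_of_inM hL) u _ val_c1).1 (evC_spec (val_of_inM hL) v _ val_c1).1
    this)

theorem Y_eq_one (h : n ≤ 10) : c.Y = 1 := c.lf_not fun h1 => by
  have h2 := congrArg Fin.val (h1.2 10 h)
  rw [yy, app_ec val_cy] at h2
  exact absurd h2 (by decide +kernel)

theorem lf_orderOf {u : PP 11} (hu : u ∈ Mn 11 n) : orderOf (c.lf u) = orderOf u := by
  rw [c.lf_eq hu, orderOf_injective _ c.inj, Subgroup.orderOf_mk]

theorem g_ne_one : c.g 8 ≠ 1 := c.g_eight ▸ c.z_ne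

end

variable {X : Type} [Group X] {n : ℕ} {c : Cf X n}

theorem Act.ok {e : ℕ} {b : X} (h : Act c e b) (hb : b * b = 1) (hY : c.Y ^ e = 1) :
    McP.Ok (c.EE e b) :=
  ⟨c.EE_iv e hb, h.rels hb, (c.EE_11 e b).trans hY, by
    rw [c.EE_lt e b (by decide)]; exact c.g_ne_one⟩

theorem not_ten (c : Cf X 10) {σ : X} (hσ : c.Np σ) : False := by
  obtain ⟨e, -, b, h⟩ := step4 hσ
  obtain ⟨b, h, hb⟩ := step5 h
  have ok := h.ok hb (by rw [c.Y_eq_one le_rfl, one_pow])
  obtain ⟨s, hs, h1⟩ := h.exists_I le_rfl hb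
  have key : ∀ s ∈ [ci, ciz], inM 10 s = true ∧ mul s s = c1 ∧
    (Finset.univ.filter fun i : Fin 11 => appA 10 s i.1 ≠ i.1).card = 8 := by decide +kernel
  obtain ⟨k1, k2, k3⟩ := key s hs
  have hv := inM_val k1
  obtain ⟨x, hx, h2⟩ := conj_t (n := 10) (by decide) (by decide) (inM_mem k1)
    (by rw [← ec_mul hv hv, k2, ec_c1]) ((supp_card hv).trans k3)
  have h3 : c.lf x * c.lf (ec s) * (c.lf x)⁻¹ = σ * c.g 8 * σ⁻¹ := by
    rw [hσ.1, g, ← h2, c.lf_mul (mul_mem hx (inM_mem k1)) (inv_mem hx), c.lf_mul hx (inM_mem k1),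
      c.lf_inv hx]
  have h4 := conj_subW (w := [4, 5, 6, 10, 4, 5, 10, 7, 4, 5, 4, 5, 6, 10])
    fun k hk => h1 k (by revert k; decide)
  rw [ok.eq (subW _ _) [4, 5, 6, 10, 4, 5, 10, 7, 4, 5, 4, 5, 6, 10] (by decide +kernel)] at h4
  have h5 := ok.pow [4, 5, 6, 10, 4, 5, 10, 7, 4, 5, 4, 5, 6, 10] 11 (by decide +kernel)
  have h6 := ok.ne [4, 5, 6, 10, 4, 5, 10, 7, 4, 5, 4, 5, 6, 10] 0 (by decide +kernel)
  generalize ev (c.EE e b) _ = f at h4 h5 h6
  generalize c.lf (ec s) = I at h3 h4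
  obtain ⟨u, hu, h7⟩ := c.cen1 (x := σ⁻¹ * c.lf x * f * (σ⁻¹ * c.lf x)⁻¹) (by
    have h8 : c.g 8 = σ⁻¹ * c.lf x * I * (σ⁻¹ * c.lf x)⁻¹ := by
      calc _ = σ⁻¹ * (σ * c.g 8 * σ⁻¹) * σ := by group
        _ = _ := by rw [← h3]; group
    rw [h8, conj_mul, conj_mul, mul_inv_eq_iff_eq_mul.1 h4])
  rw [no_eleven hu (c.pow_lf hu (by rw [← h7, conj_pow, h5]; group)), lf_one] at h7
  exact h6 (conj_eq_one_iff.1 h7)

/-- The word of `e₂`. -/
def w2 : List ℕ := [4, 10] ++ w1 ++ [10, 4]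
/-- The word of `e₃`. -/
def w3 : List ℕ := [10, 4] ++ w1 ++ [4, 10]
/-- A word in the group of order 81. -/
noncomputable def wB (i j k l : ℕ) : List ℕ :=
  powW i [4, 5] ++ powW j w1 ++ (powW k w2 ++ powW l w3)

theorem not_nine [Finite X] (c : Cf X 9) {σ : X} (hσ : c.Np σ) : False := by
  obtain ⟨e, -, b, h⟩ := step4 hσ
  obtain ⟨b, h, hb⟩ := step5 h
  have ok := h.ok hb (by rw [c.Y_eq_one (by decide), one_pow])
  have hL : allL (lc ++ [cg]) (inM 9) = true := by decide +kernel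
  have tr : ∀ w : List ℕ, (∀ k ∈ w, k < 10) → ev (c.EE e b) w = ev (c.gx [cg]) w := fun w hw => by
    rw [c.ev_EE e b hw, c.ev_gx_lt _ hw]
  have eg : ev (c.gx [cg]) [10] = c.lf (ec cg) := by simp [gx, lE, nth_eq, lc]
  have cm : ∀ w : List ℕ, (∀ k ∈ w, k < 10) →
      evC (lc ++ [cg]) ([10] ++ w) c1 = evC (lc ++ [cg]) (w ++ [10]) c1 →
      Commute (c.lf (ec cg)) (ev (c.EE e b) w) := fun w hw h => by
    have := c.eqx hL _ _ h
    rwa [ev_append, ev_append, eg, ← tr w hw] at this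
  have iv : ∀ w : List ℕ, (∀ k ∈ w, k < 10) →
      evC (lc ++ [cg]) ([10] ++ w ++ [10]) c1 = evC (lc ++ [cg]) w c1 →
      ev (c.EE e b) w * c.lf (ec cg) * (ev (c.EE e b) w)⁻¹ = (c.lf (ec cg))⁻¹ := fun w hw h => by
    have := c.eqx hL _ _ h
    rw [ev_append, ev_append, eg, ← tr w hw] at this
    rw [eq_inv_iff_mul_eq_one, mul_inv_eq_iff_eq_mul.2 (eq_inv_mul_iff_mul_eq.2
      ((mul_assoc _ _ _).symm.trans this)), inv_mul_cancel]
  have ρ3 := ok.pow [4, 5] 3 (by decide +kernel)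
  have a3 := ok.pow w1 3 (by decide +kernel)
  have b3 := ok.pow w2 3 (by decide +kernel)
  have c3 := ok.pow w3 3 (by decide +kernel)
  have ρa := ok.comm [4, 5] w1 (by decide +kernel)
  have ρb := ok.comm [4, 5] w2 (by decide +kernel)
  have ρc := ok.comm [4, 5] w3 (by decide +kernel)
  have ab := ok.comm w1 w2 (by decide +kernel)
  have ac := ok.comm w1 w3 (by decide +kernel)
  have bc := ok.comm w2 w3 (by decide +kernel)
  have mB : ∀ i j k l, ev (c.EE e b) (wB i j k l) ∈ B4 _ _ _ _ ρ3 a3 b3 c3 ρa ρb ρc ab ac bc :=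
    fun i j k l => ⟨i, j, k, l, by simp only [wB, ev_append, ev_powW]⟩
  have cB : ∀ (u v : List ℕ) i j k l,
      McP.chkR [u ++ v ++ invW (ivOf McP.ivl) (wB i j k l ++ u)] = true →
      ev (c.EE e b) u * ev (c.EE e b) v * (ev (c.EE e b) u)⁻¹ ∈
        B4 _ _ _ _ ρ3 a3 b3 c3 ρa ρb ρc ab ac bc := fun u v i j k l h => by
    rw [ok.conj u v _ h]; exact mB _ _ _ _
  have cz : ∀ {x}, x * ev (c.EE e b) [8] = ev (c.EE e b) [8] * x → ∃ u ∈ Mn 11 9, x = c.lf u :=
    fun h => c.cen1 (by simpa [c.EE_lt e b (show 8 < 10 by decide)] using h)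
  have cw : ∀ {u} (w : List ℕ), u ∈ Mn 11 9 → (∀ k ∈ w, k < 10) →
      c.lf u * ev (c.EE e b) w = ev (c.EE e b) w * c.lf u → u * ev l0 w = ev l0 w * u :=
    fun w hu hw h => c.comm_lf hu (c.mem_ev w) (by rwa [← ev_g, ← c.ev_EE e b hw])
  refine nine_abs (z := ev (c.EE e b) [8]) (t := ev (c.EE e b) [9]) (σ := ev (c.EE e b) [4, 10])
    (j := ev (c.EE e b) [4]) (γ := c.lf (ec cg))
    (f1 := ev (c.EE e b) [0, 3, 6, 10, 7, 10, 8, 6, 7, 10, 3, 6])
    (f2 := ev (c.EE e b) [0, 7, 5, 10, 6, 7, 5, 3, 6, 10, 5, 7, 1])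
    (β := ev (c.EE e b) (wB 0 2 2 2)) (B := B4 _ _ _ _ ρ3 a3 b3 c3 ρa ρb ρc ab ac bc)
    (fun _ => Iff.rfl) (by rw [← pow_two]; exact ok.pow _ 2 (by decide +kernel))
    (by rw [← pow_two]; exact ok.pow _ 2 (by decide +kernel)) (ok.comm _ _ (by decide +kernel))
    (by simpa using ok.z) (by rw [c.ev_EE e b (by decide)]; exact c.new _ [] (by decide +kernel))
    (by rw [c.ev_EE e b (by decide), c.ev_EE e b (by decide)]; exact c.new _ _ (by decide +kernel))
    ρ3 a3 b3 c3 (by rw [← eg, ← ev_powW]; exact c.eqx hL _ [] (by decide +kernel))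
    (ok.ne _ 0 (by decide +kernel)) (ok.ne _ 0 (by decide +kernel)) (ok.ne _ 0 (by decide +kernel))
    ρa ρb ρc ab ac bc (cm _ (by decide) (by decide +kernel)) (cm _ (by decide) (by decide +kernel))
    (cm _ (by decide) (by decide +kernel)) (ok.comm _ _ (by decide +kernel))
    (ok.comm _ _ (by decide +kernel)) (ok.conjI _ _ _ (by decide +kernel))
    (ok.conjI _ _ _ (by decide +kernel)) (ok.comm _ _ (by decide +kernel))
    (ok.conjI _ _ _ (by decide +kernel)) (ok.conj _ _ _ (by decide +kernel))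
    (ok.conjI _ _ _ (by decide +kernel)) (iv _ (by decide) (by decide +kernel))
    (ok.conjI _ _ _ (by decide +kernel)) (ok.conj _ _ _ (by decide +kernel))
    (ok.conj _ _ _ (by decide +kernel)) (ok.conj _ _ _ (by decide +kernel))
    (iv _ (by decide) (by decide +kernel))
    (by rw [← ev_append]; exact ok.conj _ _ _ (by decide +kernel))
    (ok.conj _ _ _ (by decide +kernel)) (ok.conj _ _ _ (by decide +kernel))
    (ok.conj _ _ _ (by decide +kernel)) (ok.conj _ _ _ (by decide +kernel))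
    (fun x h1 h2 h3 => ?_) (fun x h1 h2 h3 => ?_) ?_ (ok.pow _ _ (by decide +kernel))
    (ok.pow _ _ (by decide +kernel)) ?_ ?_ (mB _ _ _ _)
    (by rw [← ev_append, ← ev_append]; exact ok.eq _ _ (by decide +kernel)) fun i j h => ?_
  · obtain ⟨u, hu, rfl⟩ := cz h1
    obtain ⟨i, hi, j, hj, k, hk, rfl⟩ := cen_rho hu (cw _ hu (by decide) h2)
      (by rwa [c.lf_orderOf hu] at h3)
    have m : ec cg ∈ Mn 11 9 := inM_mem (by decide +kernel)
    refine ⟨i, hi, j, hj, k, hk, ?_⟩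
    rw [c.lf_mul (pow_mem m _) (mul_mem (pow_mem (c.mem_ev _) _) (pow_mem (c.mem_ev _) _)),
      c.lf_mul (pow_mem (c.mem_ev _) _) (pow_mem (c.mem_ev _) _), c.lf_pow m,
      c.lf_pow (c.mem_ev _), c.lf_pow (c.mem_ev _), c.ev_EE e b (by decide),
      c.ev_EE e b (by decide), ev_g, ev_g]
  · obtain ⟨u, hu, rfl⟩ := cz h1
    have h4 := cw _ hu (by decide) h2
    have h5 := cw _ hu (by decide) h3
    rw [ev_l0] at h4
    obtain ⟨d, hd, rfl, h6⟩ := chain_all (n := 9) (a := 1) (b := 8) (by decide)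
      (val_evC [4, 5] val_c1)
      [(2, [0x123456789a, 0x22446689a, 0x123252789a, 0x23423489a, 0x123254789a, 0x23355289a]),
        (3, [0x123456789a, 0x123436389a, 0x123436589a]),
        (0, [0x123456789a, 0x23456709a, 0x23456719a])]
      (f := fun d => imp (Nat.beq (evC lc w1 d) (mul (evC lc w1 c1) d))
        (or2 (Nat.beq (pwC d 3) c1) (Nat.beq (pwC d 3) Ly.cz)))
      (by decide +kernel) (by decide +kernel) (XG.of_comm hu h4)
    rw [← c.lf_pow hu, ← (pwC_spec hd 3).2]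
    rcases or2_true.1 (imp_true h6 (comm_chk hd h5)) with h7 | h7
    · rw [H29.beq_true.1 h7, ec_c1, lf_one]; exact .inl rfl
    · rw [H29.beq_true.1 h7, c.ev_EE e b (by decide), ev_cons, ev_nil, mul_one]; exact .inr rfl
  · refine (ok.card_le (wl := [[4, 5], w1, w2, w3]) (by decide +kernel) (ch := [(0, 2, 81, [])])
      (L := [0, 1, 2, 3]) (by decide +kernel)).trans (Subgroup.card_le_of_le (gen_le.2 ?_))
    simp only [List.forall_mem_cons, List.not_mem_nil, false_imp_iff, implies_true, and_true]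
    exact ⟨⟨1, 0, 0, 0, by simp [wE, nth_eq]⟩, ⟨0, 1, 0, 0, by simp [wE, nth_eq]⟩,
      ⟨0, 0, 1, 0, by simp [wE, nth_eq]⟩, ⟨0, 0, 0, 1, by simp [wE, nth_eq]⟩⟩
  · simp only [List.forall_mem_cons, List.not_mem_nil, false_imp_iff, implies_true, and_true]
    exact ⟨cB _ _ 0 0 1 2 (by decide +kernel),
      cB _ _ 1 0 1 1 (by decide +kernel),
      cB _ _ 1 0 2 2 (by decide +kernel),
      cB _ _ 0 1 0 0 (by decide +kernel)⟩
  · simp only [List.forall_mem_cons, List.not_mem_nil, false_imp_iff, implies_true, and_true]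
    exact ⟨cB _ _ 0 2 2 0 (by decide +kernel),
      cB _ _ 0 0 0 2 (by decide +kernel),
      cB _ _ 2 1 2 0 (by decide +kernel),
      cB _ _ 2 2 1 0 (by decide +kernel)⟩
  · rw [c.ev_EE e b (by decide), c.ev_EE e b (by decide), ← ev_powW, ← ev_powW, ← ev_append,
      ev_g] at h
    have h1 := c.lf_inj (inM_mem (by decide +kernel)) (c.mem_ev _) h
    have h2 := congrArg Fin.val ((ev_mem (H := Mn 11 8) (w := powW i [4, 5] ++ powW j w1)
      fun k _ => l0_mem k).2 8 le_rfl)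
    rw [← h1, app_ec val_cg] at h2
    exact absurd h2 (by decide +kernel)

end Cf

end H5.Ly
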