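import Mathlib
import Cfsg.Agent.H5.LyD
import Cfsg.Agent.H6.DoubleCover
import Cfsg.Agent.H17.ZStar

/-!
# Entering the configuration
-/

set_option autoImplicit false

namespace H5.Ly

open Subgroup

theorem not_isolated {G K : Type*} [Group G] [Finite G] [IsSimpleGroup G] [Group K] {z : G}
    (hz : orderOf z = 2) (hcov : Cfsg.IsNonsplitDoubleCover (centralizer ({z} : Set G)) K) :
    ∃ g, g * z * g⁻¹ * z = z * (g * z * g⁻¹) ∧ g * z * g⁻¹ ≠ z := by
  by_contra h
  push Not at h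
  have hO : Cfsg.pPrimeCore 2 G = ⊥ := by
    refine (IsSimpleGroup.eq_bot_or_eq_top_of_normal _ inferInstance).resolve_right fun h1 => ?_
    have h2 := H17.odd_card_pPrimeCore (G := G)
    rw [h1, card_top] at h2
    exact (Nat.not_even_iff_odd.2 h2) (even_iff_two_dvd.2 (hz ▸ orderOf_dvd_natCard z))
  have hc : z ∈ center G := mem_center_iff.2 fun g =>
    (H17.zstar_central hO ⟨hz, fun g hg => h g hg.symm⟩ g).symm
  have h1 : center G = ⊤ := (IsSimpleGroup.eq_bot_or_eq_top_of_normal _ inferInstance).resolve_left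
    fun h1 => by rw [h1, mem_bot] at hc; simp [hc] at hz
  refine hcov.2.2 ⊥ ?_
  rw [show center (centralizer ({z} : Set G)) = ⊤ from eq_top_iff.2 fun x _ => mem_center_iff.2
    fun y => Subtype.ext (mem_center_iff.1 (h1 ▸ mem_top x.1) y.1)]
  exact isComplement'_top_bot

/-- Transport along an isomorphism. -/
noncomputable def Cfg.map {X Y : Type*} [Group X] [Group Y] {N n : ℕ} (c : Cfg X N n) (φ : X ≃* Y) :
    Cfg Y N n where
  ψ := φ.toMonoidHom.comp c.ψ
  inj := φ.injective.comp c.inj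
  rng g h := by
    obtain ⟨x, hx⟩ := c.rng (φ.symm g) (φ.injective (by simpa using h))
    exact ⟨x, by simp [hx]⟩

theorem exists_cf {G : Type*} [Group G] [Finite G] {n : ℕ} (hn : 5 ≤ n) {z : G}
    (hz : orderOf z = 2)
    (hcov : Cfsg.IsNonsplitDoubleCover (centralizer ({z} : Set G)) (alternatingGroup (Fin n)))
    {g : G} (h1 : g * z * g⁻¹ * z = z * (g * z * g⁻¹)) (h2 : g * z * g⁻¹ ≠ z) :
    ∃ (X : Type) (_ : Group X) (_ : Finite X) (φ : G ≃* X) (c : Cf X n),
      c.z = φ z ∧ ∃ σ, c.Np σ := by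
  have hz1 : z ≠ 1 := by rintro rfl; simp at hz
  have h8 : 8 ≤ n := by
    by_contra h8
    refine h2 (congrArg Subtype.val (H6.double_cover_unique_involution (by omega) hcov
      ⟨_, mem_centralizer_singleton_iff.2 h1⟩ ⟨z, mem_centralizer_singleton_iff.2 rfl⟩ ?_ ?_))
    · rw [orderOf_mk, ← MulAut.conj_apply, MulEquiv.orderOf_eq, hz]
    · rw [orderOf_mk, hz]
  have h11 : n ≤ 11 := by
    obtain ⟨c, rfl⟩ := exists_cfg hz1 h8 le_rfl hcov
    obtain ⟨t, ht⟩ := c.rng _ h1
    exact c.deg_le le_rfl ht.symm (ht ▸ h2)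
  obtain ⟨c, rfl⟩ := exists_cfg hz1 h8 h11 hcov
  let φ : G ≃* Shrink.{0} G := Shrink.mulEquiv.symm
  refine ⟨Shrink.{0} G, inferInstance, Finite.of_equiv _ φ.toEquiv, φ, ⟨c.map φ, h8, h11⟩, rfl,
    Cf.exists_np _ (x := φ g) ?_ ?_⟩
  · have := congrArg φ h1
    simp only [map_mul, map_inv] at this
    exact this
  · exact fun h => h2 (φ.injective (by simp only [map_mul, map_inv]; exact h))

theorem eight_or_eleven {G : Type*} [Group G] [Finite G] {n : ℕ} (hn : 5 ≤ n) {z : G}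
    (hz : orderOf z = 2)
    (hcov : Cfsg.IsNonsplitDoubleCover (centralizer ({z} : Set G)) (alternatingGroup (Fin n)))
    {g : G} (h1 : g * z * g⁻¹ * z = z * (g * z * g⁻¹)) (h2 : g * z * g⁻¹ ≠ z) : n = 8 ∨ n = 11 := by
  obtain ⟨X, _, _, -, c, -, σ, hσ⟩ := exists_cf hn hz hcov h1 h2
  have h8 := c.h8
  have h11 := c.h11
  interval_cases n
  · exact .inl rfl
  · exact (c.not_nine hσ).elim
  · exact (c.not_ten hσ).elim
  · exact .inr rfl

end H5.Ly
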