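import Mathlib
import Cfsg.Agent.H23.T1
import Cfsg.Agent.H7.SyG
import Cfsg.Agent.H24.AltMult

/-!
# Standard alternating subgroups: vocabulary

`Fr φ A` : `φ` restricted to the even permutations is an isomorphism onto `A`.
`Act φ x σ` : conjugation by `x` induces conjugation by `σ`.
`Geo α P` : `P` is a conjugacy class of standard subgroups ("points").
-/

set_option autoImplicit false
set_option linter.unusedSectionVars false
set_option linter.unusedVariables false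

namespace H5.SA

open Cfsg H24 H26 H26.Gold Subgroup Equiv Equiv.Perm
open H23.TC (R2)

universe u

section perm
variable {α : Type} [Fintype α] [DecidableEq α] {a b c d : α} {σ τ ρ : Perm α}

/-- even permutation -/
def Ev (σ : Perm α) : Prop := sign σ = 1

/-- the product of two transpositions -/
def dd (a b c d : α) : Perm α := swap a b * swap c d

/-- the `3`-cycle `a ↦ i ↦ b ↦ a` -/
def cy (a b i : α) : Perm α := swap a b * swap a i

theorem Ev.one : Ev (1 : Perm α) := by simp [Ev]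
theorem Ev.mul (h : Ev σ) (h' : Ev τ) : Ev (σ * τ) := by simp_all [Ev]
theorem Ev.inv (h : Ev σ) : Ev σ⁻¹ := by simp_all [Ev]
theorem Ev.pow (h : Ev σ) (n : ℕ) : Ev (σ ^ n) := by simp_all [Ev]
theorem Ev.conj (h : Ev τ) (σ : Perm α) : Ev (σ * τ * σ⁻¹) := by
  simp only [Ev, Perm.sign_mul, sign_inv] at *
  rw [h, mul_one, Int.units_mul_self]
theorem Ev.conj' (h : Ev τ) (σ : Perm α) : Ev (σ⁻¹ * τ * σ) := by
  simpa using h.conj σ⁻¹
theorem ev_sq (σ : Perm α) : Ev (σ * σ) := by simp [Ev]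
theorem ev_comm (σ τ : Perm α) : Ev (σ * τ * σ⁻¹ * τ⁻¹) := by
  simp only [Ev, Perm.sign_mul, sign_inv]
  rcases Int.units_eq_one_or (sign σ) with h | h <;>
    rcases Int.units_eq_one_or (sign τ) with h' | h' <;> simp [h, h']
theorem ev_odd (h : ¬ Ev σ) (h' : ¬ Ev τ) : Ev (σ * τ) := by
  simp only [Ev, Perm.sign_mul] at *
  rw [(Int.units_eq_one_or _).resolve_left h, (Int.units_eq_one_or _).resolve_left h']; simp
theorem Ev.odd (h : Ev σ) (h' : ¬ Ev τ) : ¬ Ev (σ * τ) := by simp_all [Ev]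
theorem Ev.odd' (h : Ev σ) (h' : ¬ Ev τ) : ¬ Ev (τ * σ) := by simp_all [Ev]
theorem odd_swap (h : a ≠ b) : ¬ Ev (swap a b) := by simp [Ev, h]
theorem ev_dd (h : a ≠ b) (h' : c ≠ d) : Ev (dd a b c d) := ev_odd (odd_swap h) (odd_swap h')
theorem ev_cy (h : a ≠ b) (h' : a ≠ c) : Ev (cy a b c) := ev_odd (odd_swap h) (odd_swap h')
theorem ev_of_odd_order {n : ℕ} (hn : Odd n) (h : σ ^ n = 1) : Ev σ := by
  have := congrArg sign h
  rw [map_pow, map_one] at this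
  rcases Int.units_eq_one_or (sign σ) with h1 | h1
  · exact h1
  · rw [h1, hn.neg_one_pow] at this; exact absurd this (by decide)
theorem ev_iff : Ev σ ↔ σ ∈ alternatingGroup α := Iff.rfl

theorem conj_swap (σ : Perm α) (a b : α) : σ * swap a b * σ⁻¹ = swap (σ a) (σ b) :=
  (swap_apply_apply σ a b).symm
theorem conj_dd (σ : Perm α) (a b c d : α) :
    σ * dd a b c d * σ⁻¹ = dd (σ a) (σ b) (σ c) (σ d) := by
  simp only [dd, ← conj_swap]; group
theorem conj_cy (σ : Perm α) (a b c : α) : σ * cy a b c * σ⁻¹ = cy (σ a) (σ b) (σ c) := by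
  simp only [cy, ← conj_swap]; group

theorem sq_apply (h : σ * σ = 1) (x : α) : σ (σ x) = x := by
  rw [← Perm.mul_apply, h]; rfl
theorem comm_apply (h : σ * τ = τ * σ) (x : α) : σ (τ x) = τ (σ x) := by
  rw [← Perm.mul_apply, h]; rfl

/-- `σ` is a product of two disjoint transpositions. -/
def T22 (σ : Perm α) : Prop := ∃ a b c d, [a, b, c, d].Nodup ∧ σ = dd a b c d
/-- `σ` is a transposition. -/
def Tr (σ : Perm α) : Prop := ∃ a b, a ≠ b ∧ σ = swap a b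
/-- `σ` is a `3`-cycle. -/
def T3 (σ : Perm α) : Prop := ∃ a b c, [a, b, c].Nodup ∧ σ = cy a b c

theorem T22.ev (h : T22 σ) : Ev σ := by
  obtain ⟨a, b, c, d, h, rfl⟩ := h; exact ev_dd (by grind) (by grind)
theorem T22.conj (h : T22 σ) (τ : Perm α) : T22 (τ * σ * τ⁻¹) := by
  obtain ⟨a, b, c, d, h, rfl⟩ := h
  exact ⟨_, _, _, _, by simpa using h.map τ.injective, conj_dd ..⟩
theorem T3.conj (h : T3 σ) (τ : Perm α) : T3 (τ * σ * τ⁻¹) := by
  obtain ⟨a, b, c, h, rfl⟩ := h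
  exact ⟨_, _, _, by simpa using h.map τ.injective, conj_cy ..⟩
theorem T3.ev (h : T3 σ) : Ev σ := by
  obtain ⟨a, b, c, h, rfl⟩ := h; exact ev_cy (by grind) (by grind)

theorem dd_sq (h : [a, b, c, d].Nodup) : dd a b c d * dd a b c d = 1 := by
  ext x; simp only [dd, Perm.mul_apply, swap_apply_def, Perm.one_apply]; grind
theorem dd_ne (h : [a, b, c, d].Nodup) : dd a b c d ≠ 1 := fun e => by
  have := congrArg (· a) e
  simp only [dd, Perm.mul_apply, swap_apply_def, Perm.one_apply] at this; grind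
theorem cy_cube (h : [a, b, c].Nodup) : cy a b c * cy a b c * cy a b c = 1 := by
  ext x; simp only [cy, Perm.mul_apply, swap_apply_def, Perm.one_apply]; grind
theorem cy_ne (h : [a, b, c].Nodup) : cy a b c ≠ 1 := fun e => by
  have := congrArg (· a) e
  simp only [cy, Perm.mul_apply, swap_apply_def, Perm.one_apply] at this; grind

/-- fresh points -/
theorem fresh (l : List α) (h : l.length < Fintype.card α) : ∃ x, x ∉ l := by
  by_contra hc
  push Not at hc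
  have : (Finset.univ : Finset α) ⊆ l.toFinset := fun x _ => by simpa using hc x
  have h1 := Finset.card_le_card this
  have h2 := List.toFinset_card_le l
  rw [Finset.card_univ] at h1; omega

/-- no more points -/
theorem mem_of_card {l : List α} (hl : l.Nodup) (h : Fintype.card α ≤ l.length) (x : α) :
    x ∈ l := by
  by_contra hx
  have := (List.nodup_cons.2 ⟨hx, hl⟩).length_le_card
  simp at this; omega

/-- the `3`-cycles through two points generate the alternating group -/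
theorem gen3 {H : Subgroup (Perm α)} (hab : a ≠ b) (h : ∀ i, i ≠ a → i ≠ b → cy a b i ∈ H)
    (hσ : Ev σ) : σ ∈ H := by
  refine (closure_le H).2 ?_ (H24.AltMult.closure_c hab σ hσ)
  rintro _ ⟨i, hi, rfl⟩
  simp only [Finset.coe_filter, Finset.mem_univ, true_and, Set.mem_ofPred_eq] at hi
  exact h i hi.1 hi.2

end perm

variable {G : Type u} [Group G] [Finite G] {α : Type} [Fintype α] [DecidableEq α]
  {φ ψ : Perm α → G} {A B C : Subgroup G} {g x y u v w : G} {σ τ ρ : Perm α} {a b c d : α}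

/-- a frame of `A`. -/
structure Fr (φ : Perm α → G) (A : Subgroup G) : Prop where
  mul : ∀ {σ τ}, Ev σ → Ev τ → φ (σ * τ) = φ σ * φ τ
  inj : ∀ {σ τ}, Ev σ → Ev τ → φ σ = φ τ → σ = τ
  mem : ∀ {σ}, Ev σ → φ σ ∈ A
  surj : ∀ {x}, x ∈ A → ∃ σ, Ev σ ∧ φ σ = x

/-- `x` acts as `σ`. -/
def Act (φ : Perm α → G) (x : G) (σ : Perm α) : Prop :=
  ∀ τ, Ev τ → x * φ τ * x⁻¹ = φ (σ * τ * σ⁻¹)

namespace Fr

theorem one (h : Fr φ A) : φ 1 = 1 := by
  have := h.mul Ev.one Ev.one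
  rw [mul_one] at this; exact mul_eq_left.1 this.symm
theorem inv (h : Fr φ A) (hσ : Ev σ) : φ σ⁻¹ = (φ σ)⁻¹ := by
  rw [eq_inv_iff_mul_eq_one, ← h.mul hσ.inv hσ, inv_mul_cancel, h.one]
theorem pow (h : Fr φ A) (hσ : Ev σ) (n : ℕ) : φ (σ ^ n) = φ σ ^ n := by
  induction n with
  | zero => simp [h.one]
  | succ n ih => rw [pow_succ, h.mul (hσ.pow n) hσ, ih, pow_succ]
theorem eq_one (h : Fr φ A) (hσ : Ev σ) (e : φ σ = 1) : σ = 1 :=
  h.inj hσ Ev.one (e.trans h.one.symm)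
theorem ne_one (h : Fr φ A) (hσ : Ev σ) (e : σ ≠ 1) : φ σ ≠ 1 := fun e' => e (h.eq_one hσ e')
theorem ne (h : Fr φ A) (hσ : Ev σ) (hτ : Ev τ) (e : σ ≠ τ) : φ σ ≠ φ τ :=
  fun e' => e (h.inj hσ hτ e')
theorem sq (h : Fr φ A) (hσ : Ev σ) (e : σ * σ = 1) : φ σ * φ σ = 1 := by
  rw [← h.mul hσ hσ, e, h.one]
theorem sq' (h : Fr φ A) (hσ : Ev σ) (e : φ σ * φ σ = 1) : σ * σ = 1 :=
  h.eq_one (ev_sq σ) (by rw [h.mul hσ hσ, e])
theorem comm (h : Fr φ A) (hσ : Ev σ) (hτ : Ev τ) (e : σ * τ = τ * σ) :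
    φ σ * φ τ = φ τ * φ σ := by rw [← h.mul hσ hτ, e, h.mul hτ hσ]
theorem comm' (h : Fr φ A) (hσ : Ev σ) (hτ : Ev τ) (e : φ σ * φ τ = φ τ * φ σ) :
    σ * τ = τ * σ := h.inj (hσ.mul hτ) (hτ.mul hσ) (by rw [h.mul hσ hτ, e, h.mul hτ hσ])
theorem act (h : Fr φ A) (hσ : Ev σ) : Act φ (φ σ) σ := fun τ hτ => by
  rw [h.mul (hσ.mul hτ) hσ.inv, h.mul hσ hτ, h.inv hσ]
theorem conj (h : Fr φ A) (hσ : Ev σ) (hτ : Ev τ) : φ σ * φ τ * (φ σ)⁻¹ = φ (σ * τ * σ⁻¹) :=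
  h.act hσ τ hτ

/-- conjugate frame -/
theorem cj (h : Fr φ A) (g : G) : Fr (fun σ => g * φ σ * g⁻¹) (H24.cj g A) where
  mul h1 h2 := by rw [h.mul h1 h2]; group
  inj h1 h2 e := h.inj h1 h2 (by simpa using e)
  mem h1 := conj_mem_cj g (h.mem h1)
  surj hx := by
    obtain ⟨y, hy, rfl⟩ := mem_cj'.1 hx
    obtain ⟨σ, h1, rfl⟩ := h.surj hy
    exact ⟨σ, h1, rfl⟩

/-- relabelled frame -/
theorem relabel (h : Fr φ A) (ρ : Perm α) : Fr (fun σ => φ (ρ * σ * ρ⁻¹)) A where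
  mul h1 h2 := by
    rw [← h.mul (h1.conj ρ) (h2.conj ρ)]; congr 1; group
  inj h1 h2 e := by simpa using h.inj (h1.conj ρ) (h2.conj ρ) e
  mem h1 := h.mem (h1.conj ρ)
  surj hx := by
    obtain ⟨σ, h1, rfl⟩ := h.surj hx
    exact ⟨ρ⁻¹ * σ * ρ, h1.conj' ρ, by congr 1; group⟩

/-- the even permutations whose image lies in `Y`. -/
def pb (h : Fr φ A) (Y : Subgroup G) : Subgroup (Perm α) where
  carrier := {σ | Ev σ ∧ φ σ ∈ Y}
  one_mem' := ⟨Ev.one, by rw [h.one]; exact Y.one_mem⟩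
  mul_mem' h1 h2 := ⟨h1.1.mul h2.1, by rw [h.mul h1.1 h2.1]; exact Y.mul_mem h1.2 h2.2⟩
  inv_mem' h1 := ⟨h1.1.inv, by rw [h.inv h1.1]; exact Y.inv_mem h1.2⟩

theorem mem_pb (h : Fr φ A) {Y : Subgroup G} : σ ∈ h.pb Y ↔ Ev σ ∧ φ σ ∈ Y := Iff.rfl

theorem le_of_cy (h : Fr φ A) {Y : Subgroup G} (hab : a ≠ b)
    (hY : ∀ i, i ≠ a → i ≠ b → φ (cy a b i) ∈ Y) : A ≤ Y := fun x hx => by
  obtain ⟨σ, h1, rfl⟩ := h.surj hx
  exact (gen3 (H := h.pb Y) hab (fun i h2 h3 => ⟨ev_cy hab h2.symm, hY i h2 h3⟩) h1).2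

/-- the frame as a homomorphism -/
def hom (h : Fr φ A) : alternatingGroup α →* G :=
  MonoidHom.mk' (fun σ => φ σ) fun σ τ => h.mul σ.2 τ.2

theorem hom_range (h : Fr φ A) : h.hom.range = A := by
  ext x
  constructor
  · rintro ⟨σ, rfl⟩; exact h.mem σ.2
  · intro hx
    obtain ⟨σ, h1, rfl⟩ := h.surj hx
    exact ⟨⟨σ, h1⟩, rfl⟩

theorem hom_inj (h : Fr φ A) : Function.Injective h.hom := fun σ τ e =>
  Subtype.ext (h.inj σ.2 τ.2 e)

theorem equiv (h : Fr φ A) : Nonempty (A ≃* alternatingGroup α) :=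
  ⟨((MonoidHom.ofInjective h.hom_inj).trans (MulEquiv.subgroupCongr h.hom_range)).symm⟩

theorem card (h : Fr φ A) : ♯A = Nat.card (alternatingGroup α) :=
  Nat.card_congr h.equiv.some.toEquiv

end Fr

theorem fr_of_hom (f : alternatingGroup α →* G) (hf : Function.Injective f) :
    ∃ φ : Perm α → G, Fr φ f.range ∧ ∀ σ (h : Ev σ), φ σ = f ⟨σ, h⟩ := by
  classical
  refine ⟨fun σ => if h : Ev σ then f ⟨σ, h⟩ else 1, ⟨fun {σ τ} h1 h2 => ?_,
    fun {σ τ} h1 h2 e => ?_, fun {σ} h1 => ?_, ?_⟩, fun σ h => by simp [h]⟩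
  · simp only [h1, h2, h1.mul h2, dif_pos, ← map_mul]; rfl
  · simp only [h1, h2, dif_pos] at e; exact congrArg Subtype.val (hf e)
  · simp only [h1, dif_pos]; exact ⟨_, rfl⟩
  · rintro _ ⟨σ, rfl⟩
    exact ⟨σ, σ.2, by simp only [show Ev σ.1 from σ.2, dif_pos]⟩

theorem fr_of_equiv (e : A ≃* alternatingGroup α) : ∃ φ : Perm α → G, Fr φ A := by
  obtain ⟨φ, h, -⟩ := fr_of_hom (A.subtype.comp e.symm.toMonoidHom)
    (A.subtype_injective.comp e.symm.injective)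
  refine ⟨φ, ?_⟩
  convert h
  rw [MonoidHom.range_comp, MonoidHom.range_eq_top.2 e.symm.surjective, ← MonoidHom.range_eq_map,
    range_subtype]

namespace Act

theorem mul (h : Act φ x σ) (h' : Act φ y τ) : Act φ (x * y) (σ * τ) := fun ρ hρ => by
  rw [show x * y * φ ρ * (x * y)⁻¹ = x * (y * φ ρ * y⁻¹) * x⁻¹ by group, h' ρ hρ,
    h _ (hρ.conj τ)]
  exact congrArg φ (by group)
theorem inv (h : Act φ x σ) : Act φ x⁻¹ σ⁻¹ := fun ρ hρ => by
  have := h _ (hρ.conj σ⁻¹)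
  rw [show σ * (σ⁻¹ * ρ * σ⁻¹⁻¹) * σ⁻¹ = ρ by group] at this
  rw [← this]; group
theorem one : Act φ 1 1 := fun ρ hρ => by simp
theorem pow (h : Act φ x σ) (n : ℕ) : Act φ (x ^ n) (σ ^ n) := by
  induction n with
  | zero => simpa using Act.one
  | succ n ih => rw [pow_succ, pow_succ]; exact ih.mul h
theorem conj (h : Act φ x σ) (h' : Act φ y τ) : Act φ (x * y * x⁻¹) (σ * τ * σ⁻¹) :=
  (h.mul h').mul h.inv
theorem mem_N (hφ : Fr φ A) (h : Act φ x σ) : x ∈ N[A] := mem_N_of_finite fun y hy => by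
  obtain ⟨τ, h1, rfl⟩ := hφ.surj hy
  rw [h τ h1]; exact hφ.mem (h1.conj σ)
theorem mem_C (hφ : Fr φ A) (h : Act φ x 1) : x ∈ C[A] := mem_C'.2 fun y hy => by
  obtain ⟨τ, h1, rfl⟩ := hφ.surj hy
  have := h τ h1
  rw [one_mul, inv_one, mul_one] at this
  exact mul_inv_eq_iff_eq_mul.1 this
theorem of_mem_C (hφ : Fr φ A) (h : x ∈ C[A]) : Act φ x 1 := fun τ hτ => by
  rw [conj_eq_of_mem_C h (hφ.mem hτ)]; simp
theorem comm (h : Act φ x σ) (hτ : Ev τ) (e : σ * τ = τ * σ) : x * φ τ = φ τ * x := by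
  have := h τ hτ
  rw [e, mul_inv_cancel_right] at this
  exact mul_inv_eq_iff_eq_mul.1 this
theorem comm' (hφ : Fr φ A) (h : Act φ x σ) (hτ : Ev τ) (e : x * φ τ = φ τ * x) :
    σ * τ = τ * σ := by
  have := h τ hτ
  rw [e, mul_inv_cancel_right] at this
  exact mul_inv_eq_iff_eq_mul.1 (hφ.inj hτ (hτ.conj σ) this).symm
theorem cj (h : Act φ x σ) (g : G) : Act (fun σ => g * φ σ * g⁻¹) (g * x * g⁻¹) σ :=
  fun τ hτ => by simp only [← h τ hτ]; group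

end Act

theorem eq_one_of_comm (h4 : 4 ≤ Fintype.card α) (h : ∀ τ, Ev τ → σ * τ = τ * σ) : σ = 1 := by
  ext x
  by_contra hx
  obtain ⟨y, hy⟩ := fresh [x, σ x] (by simp; omega)
  obtain ⟨z, hz⟩ := fresh [x, σ x, y] (by simp; omega)
  have := comm_apply (h (cy (σ x) y z) (ev_cy (by grind) (by grind))) x
  simp only [cy, Perm.mul_apply, swap_apply_def, Perm.one_apply] at this hx; grind

theorem Act.eq_one (hφ : Fr φ A) (h4 : 4 ≤ Fintype.card α) (h : Act φ x σ) (hx : x ∈ C[A]) :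
    σ = 1 := eq_one_of_comm h4 fun τ hτ => h.comm' hφ hτ (mem_C'.1 hx _ (hφ.mem hτ))

theorem Act.uniq (hφ : Fr φ A) (h4 : 4 ≤ Fintype.card α) (h : Act φ x σ) (h' : Act φ x τ) :
    σ = τ := by
  have := (h.mul h'.inv).eq_one hφ h4 (by rw [mul_inv_cancel]; exact one_mem _)
  exact mul_inv_eq_one.1 this

theorem Act.sq (hφ : Fr φ A) (h4 : 4 ≤ Fintype.card α) (h : Act φ x σ) (e : x * x ∈ C[A]) :
    σ * σ = 1 := (h.mul h).eq_one hφ h4 e

theorem Act.comm2 (hφ : Fr φ A) (h4 : 4 ≤ Fintype.card α) (h : Act φ x σ) (h' : Act φ y τ)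
    (e : x * y = y * x) : σ * τ = τ * σ := (h.mul h').uniq hφ h4 (e ▸ h'.mul h)

theorem Act.mem_C' (hφ : Fr φ A) (h : Act φ x σ) (h' : Act φ y σ) : x * y⁻¹ ∈ C[A] :=
  Act.mem_C hφ (by simpa using h.mul h'.inv)

theorem Fr.inf_C (hφ : Fr φ A) (h4 : 4 ≤ Fintype.card α) (hx : x ∈ A) (hc : x ∈ C[A]) : x = 1 := by
  obtain ⟨σ, h1, rfl⟩ := hφ.surj hx
  rw [(hφ.act h1).eq_one hφ h4 hc, hφ.one]

/-- A conjugacy class of standard alternating subgroups with centralisers of rank `≥ 2`. -/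
structure Geo (α : Type) [Fintype α] [DecidableEq α] (P : Subgroup G → Prop) : Prop where
  cj : ∀ g B, P B → P (H24.cj g B)
  tr : ∀ B C, P B → P C → ∃ g, H24.cj g B = C
  te : ∀ B C u, P B → P C → u ∈ C[B] → u ∈ C[C] → u * u = 1 → u ≠ 1 → B = C
  nc : ∀ B C, P B → P C → ¬ B ≤ C[C]
  r2 : ∀ B, P B → R2 C[B]
  fr : ∀ B, P B → ∃ φ : Perm α → G, Fr φ B
  n5 : 5 ≤ Fintype.card α

/-- the involutions centralising a point -/
def DD (P : Subgroup G → Prop) (u : G) : Prop := u * u = 1 ∧ u ≠ 1 ∧ ∃ B, P B ∧ u ∈ C[B]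

variable {P : Subgroup G → Prop}

theorem DD.conj (h : Geo α P) (hu : DD P u) (g : G) : DD P (g * u * g⁻¹) := by
  obtain ⟨h1, h2, B, hB, h3⟩ := hu
  exact ⟨H7.SJ.conj_sq h1 g, H23.TC.conj_ne h2 g, _, h.cj g B hB,
    by rw [← cj_C]; exact conj_mem_cj g h3⟩

namespace Geo

theorem n4 (h : Geo α P) : 4 ≤ Fintype.card α := by have := h.n5; omega

theorem te1 (h : Geo α P) (hB : P B) (hC : P C) (hne : B ≠ C) (h1 : u ∈ C[B]) (h2 : u ∈ C[C])
    (u2 : u * u = 1) : u = 1 := by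
  by_contra u1; exact hne (h.te B C u hB hC h1 h2 u2 u1)

theorem two (h : Geo α P) (hB : P B) (hC : P C) (hne : B ≠ C) (h1 : u ∈ C[B]) (h2 : u ∈ C[C])
    (u2 : TwoE u) : u = 1 := by
  by_contra u1
  obtain ⟨y, hy, y1, y2⟩ := H23.TC.exists_zp_inv u2 u1
  exact y1 (h.te1 hB hC hne (zpowers_le.2 h1 hy) (zpowers_le.2 h2 hy) y2)

theorem cjN (h : Geo α P) (hB : P B) (h1 : u ∈ C[B]) (u2 : u * u = 1) (u1 : u ≠ 1)
    (h2 : g * u * g⁻¹ ∈ C[B]) : g ∈ N[B] :=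
  mem_N_iff_cj.2 (h.te _ _ _ (h.cj g B hB) hB (by rw [← cj_C]; exact conj_mem_cj g h1) h2
    (H7.SJ.conj_sq u2 g) (H23.TC.conj_ne u1 g))

theorem cN (h : Geo α P) (hB : P B) (h1 : u ∈ C[B]) (u2 : u * u = 1) (u1 : u ≠ 1)
    (h2 : g * u = u * g) : g ∈ N[B] :=
  h.cjN hB h1 u2 u1 (by rw [h2, mul_inv_cancel_right]; exact h1)

theorem cN' (h : Geo α P) (hB : P B) (h1 : u ∈ C[B]) (u2 : u * u = 1) (u1 : u ≠ 1)
    (h2 : u * g = g * u) : g ∈ N[B] := h.cN hB h1 u2 u1 h2.symm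

theorem inf_C (h : Geo α P) (hB : P B) (hx : x ∈ B) (hc : x ∈ C[B]) : x = 1 := by
  obtain ⟨φ, hφ⟩ := h.fr B hB
  exact hφ.inf_C h.n4 hx hc

end Geo

theorem cC (hg : g ∈ N[B]) (hx : x ∈ C[B]) : g * x * g⁻¹ ∈ C[B] := conj_mem (N_le_NC B hg) hx

end H5.SA
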