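import Mathlib
import Cfsg.Agent.H5.SA0

/-!
# Automorphisms of alternating groups, Carmichael's presentation
-/

set_option autoImplicit false
set_option linter.unusedSectionVars false
set_option linter.unusedVariables false

namespace H5.SA

open Cfsg H24 H26 H26.Gold Subgroup Equiv Equiv.Perm

universe u

section lists
variable {β : Type}

@[grind =] theorem nd2 (a b : β) : [a, b].Nodup ↔
    a ≠ b := by
  simp [and_assoc]
@[grind =] theorem nd3 (a b c : β) : [a, b, c].Nodup ↔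
    a ≠ b ∧ a ≠ c ∧ b ≠ c := by
  simp [and_assoc]
@[grind =] theorem nd4 (a b c d : β) : [a, b, c, d].Nodup ↔
    a ≠ b ∧ a ≠ c ∧ a ≠ d ∧ b ≠ c ∧ b ≠ d ∧ c ≠ d := by
  simp [and_assoc]
@[grind =] theorem nd5 (a b c d e : β) : [a, b, c, d, e].Nodup ↔
    a ≠ b ∧ a ≠ c ∧ a ≠ d ∧ a ≠ e ∧ b ≠ c ∧ b ≠ d ∧ b ≠ e ∧ c ≠ d ∧ c ≠ e ∧ d ≠ e := by
  simp [and_assoc]
@[grind =] theorem nd6 (a b c d e f : β) : [a, b, c, d, e, f].Nodup ↔
    a ≠ b ∧ a ≠ c ∧ a ≠ d ∧ a ≠ e ∧ a ≠ f ∧ b ≠ c ∧ b ≠ d ∧ b ≠ e ∧ b ≠ f ∧ c ≠ d ∧ c ≠ e ∧ c ≠ f ∧ d ≠ e ∧ d ≠ f ∧ e ≠ f := by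
  simp [and_assoc]
@[grind =] theorem nd7 (a b c d e f g : β) : [a, b, c, d, e, f, g].Nodup ↔
    a ≠ b ∧ a ≠ c ∧ a ≠ d ∧ a ≠ e ∧ a ≠ f ∧ a ≠ g ∧ b ≠ c ∧ b ≠ d ∧ b ≠ e ∧ b ≠ f ∧ b ≠ g ∧ c ≠ d ∧ c ≠ e ∧ c ≠ f ∧ c ≠ g ∧ d ≠ e ∧ d ≠ f ∧ d ≠ g ∧ e ≠ f ∧ e ≠ g ∧ f ≠ g := by
  simp [and_assoc]
@[grind =] theorem nd8 (a b c d e f g h : β) : [a, b, c, d, e, f, g, h].Nodup ↔
    a ≠ b ∧ a ≠ c ∧ a ≠ d ∧ a ≠ e ∧ a ≠ f ∧ a ≠ g ∧ a ≠ h ∧ b ≠ c ∧ b ≠ d ∧ b ≠ e ∧ b ≠ f ∧ b ≠ g ∧ b ≠ h ∧ c ≠ d ∧ c ≠ e ∧ c ≠ f ∧ c ≠ g ∧ c ≠ h ∧ d ≠ e ∧ d ≠ f ∧ d ≠ g ∧ d ≠ h ∧ e ≠ f ∧ e ≠ g ∧ e ≠ h ∧ f ≠ g ∧ f ≠ h ∧ g ≠ h := by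
  simp [and_assoc]
@[grind =] theorem ml1 (x a : β) : x ∈ [a] ↔
    x = a := by
  simp
@[grind =] theorem ml2 (x a b : β) : x ∈ [a, b] ↔
    x = a ∨ x = b := by
  simp
@[grind =] theorem ml3 (x a b c : β) : x ∈ [a, b, c] ↔
    x = a ∨ x = b ∨ x = c := by
  simp
@[grind =] theorem ml4 (x a b c d : β) : x ∈ [a, b, c, d] ↔
    x = a ∨ x = b ∨ x = c ∨ x = d := by
  simp
@[grind =] theorem ml5 (x a b c d e : β) : x ∈ [a, b, c, d, e] ↔
    x = a ∨ x = b ∨ x = c ∨ x = d ∨ x = e := by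
  simp
@[grind =] theorem ml6 (x a b c d e f : β) : x ∈ [a, b, c, d, e, f] ↔
    x = a ∨ x = b ∨ x = c ∨ x = d ∨ x = e ∨ x = f := by
  simp
@[grind =] theorem ml7 (x a b c d e f g : β) : x ∈ [a, b, c, d, e, f, g] ↔
    x = a ∨ x = b ∨ x = c ∨ x = d ∨ x = e ∨ x = f ∨ x = g := by
  simp
@[grind =] theorem ml8 (x a b c d e f g h : β) : x ∈ [a, b, c, d, e, f, g, h] ↔
    x = a ∨ x = b ∨ x = c ∨ x = d ∨ x = e ∨ x = f ∨ x = g ∨ x = h := by
  simp
@[grind =] theorem ml9 (x a b c d e f g h i : β) : x ∈ [a, b, c, d, e, f, g, h, i] ↔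
    x = a ∨ x = b ∨ x = c ∨ x = d ∨ x = e ∨ x = f ∨ x = g ∨ x = h ∨ x = i := by
  simp

end lists

section perm
variable {α : Type} [Fintype α] [DecidableEq α] {a b c d e f i j p q r s : α} {σ τ ρ : Perm α}

theorem exists_perm {l l' : List α} (h : l.Nodup) (h' : l'.Nodup) (hl : l.length = l'.length) :
    ∃ σ : Perm α, l.map σ = l' := by
  obtain ⟨σ, hσ⟩ := Equiv.Perm.exists_extending_pair (f := fun i : Fin l.length => l.get i)
    (g := fun i : Fin l.length => l'.get (i.cast hl)) (List.nodup_iff_injective_get.1 h)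
    ((List.nodup_iff_injective_get.1 h').comp (Fin.cast_injective hl))
  refine ⟨σ, List.ext_get (by simpa) fun n h1 h2 => ?_⟩
  simpa using hσ ⟨n, by simpa using h1⟩

theorem exists_ev {l l' : List α} (h : l.Nodup) (h' : l'.Nodup) (hl : l.length = l'.length)
    (hc : l.length + 2 ≤ Fintype.card α) : ∃ σ : Perm α, Ev σ ∧ l.map σ = l' := by
  obtain ⟨σ, hσ⟩ := exists_perm h h' hl
  by_cases he : Ev σ
  · exact ⟨σ, he, hσ⟩
  obtain ⟨x, hx⟩ := fresh l (by omega)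
  obtain ⟨y, hy⟩ := fresh (x :: l) (by simp; omega)
  refine ⟨σ * swap x y, ev_odd he (odd_swap (by grind)), ?_⟩
  rw [← hσ]
  refine List.map_congr_left fun z hz => ?_
  rw [Perm.mul_apply, swap_apply_of_ne_of_ne] <;> grind

theorem T3.conj_ev (h5 : 5 ≤ Fintype.card α) (h : T3 σ) (h' : T3 τ) :
    ∃ ρ, Ev ρ ∧ ρ * σ * ρ⁻¹ = τ := by
  obtain ⟨a, b, c, h, rfl⟩ := h
  obtain ⟨p, q, r, h', rfl⟩ := h'
  obtain ⟨ρ, h1, h2⟩ := exists_ev h h' rfl (by simpa)
  simp only [List.map_cons, List.map_nil, List.cons.injEq, and_true] at h2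
  exact ⟨ρ, h1, by rw [conj_cy, h2.1, h2.2.1, h2.2.2]⟩

theorem dd_swap (a b c d : α) : dd b a c d = dd a b c d := by rw [dd, dd, swap_comm]
theorem dd_swap' (a b c d : α) : dd a b d c = dd a b c d := by rw [dd, dd, swap_comm d]
theorem dd_comm (h : [a, b, c, d].Nodup) : dd c d a b = dd a b c d := by
  ext x; simp only [dd, Perm.mul_apply, swap_apply_def]; grind

theorem dd_conj_ev (h : [a, b, c, d].Nodup) (h' : [p, q, r, s].Nodup) :
    ∃ ρ, Ev ρ ∧ ρ c = r ∧ ρ d = s ∧ (ρ a = p ∧ ρ b = q ∨ ρ a = q ∧ ρ b = p) := by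
  obtain ⟨ρ, h2⟩ := exists_perm h h' rfl
  simp only [List.map_cons, List.map_nil, List.cons.injEq, and_true] at h2
  by_cases he : Ev ρ
  · exact ⟨ρ, he, by grind⟩
  · refine ⟨ρ * swap a b, ev_odd he (odd_swap (by grind)), ?_⟩
    simp only [Perm.mul_apply, swap_apply_def]; grind

theorem T22.conj_ev (h : T22 σ) (h' : T22 τ) : ∃ ρ, Ev ρ ∧ ρ * σ * ρ⁻¹ = τ := by
  obtain ⟨a, b, c, d, h, rfl⟩ := h
  obtain ⟨p, q, r, s, h', rfl⟩ := h'
  obtain ⟨ρ, h1, h2, h3, h4 | h4⟩ := dd_conj_ev h h'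
  · exact ⟨ρ, h1, by rw [conj_dd, h2, h3, h4.1, h4.2]⟩
  · exact ⟨ρ, h1, by rw [conj_dd, h2, h3, h4.1, h4.2, dd_swap]⟩

theorem T3.inv (h : T3 σ) : T3 σ⁻¹ := by
  obtain ⟨a, b, c, h, rfl⟩ := h
  refine ⟨a, c, b, by grind, ?_⟩
  simp only [cy, mul_inv_rev, swap_inv]

theorem T3.cube (h : T3 σ) : σ * σ * σ = 1 := by
  obtain ⟨a, b, c, h, rfl⟩ := h; exact cy_cube h
theorem T3.ne (h : T3 σ) : σ ≠ 1 := by
  obtain ⟨a, b, c, h, rfl⟩ := h; exact cy_ne h

theorem cube_apply (h : σ * σ * σ = 1) (x : α) : σ (σ (σ x)) = x := by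
  rw [← Perm.mul_apply, ← Perm.mul_apply, h]; rfl

/-- two cycles of length three -/
def Two3 (σ : Perm α) : Prop := ∃ a b c d e f, [a, b, c, d, e, f].Nodup ∧ σ a = b ∧ σ b = c ∧
  σ c = a ∧ σ d = e ∧ σ e = f ∧ σ f = d

theorem T3_or (h : σ * σ * σ = 1) (h1 : σ ≠ 1) : T3 σ ∨ Two3 σ := by
  have h3 := cube_apply h
  have hi := σ.injective
  obtain ⟨a, ha⟩ : ∃ a, σ a ≠ a := by
    by_contra hc; push Not at hc; exact h1 (Equiv.ext hc)
  have := h3 a
  have := h3 (σ a)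
  by_cases hd : ∀ d, d ≠ a → d ≠ σ a → d ≠ σ (σ a) → σ d = d
  · refine .inl ⟨a, σ (σ a), σ a, by grind, ?_⟩
    ext x; simp only [cy, Perm.mul_apply, swap_apply_def]; grind
  · push Not at hd
    obtain ⟨d, h1, h2, h4, h5⟩ := hd
    have := h3 d
    have := h3 (σ d)
    refine .inr ⟨a, σ a, σ (σ a), d, σ d, σ (σ d), ?_, rfl, rfl, h3 a, rfl, rfl, h3 d⟩
    simp only [List.nodup_cons, List.mem_cons, List.not_mem_nil, List.nodup_nil, not_or]
    grind

theorem small_order (he : Ev σ) (hs : σ.support.card ≤ 5) :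
    σ ^ 2 = 1 ∨ σ ^ 3 = 1 ∨ σ ^ 5 = 1 := by
  simp only [← orderOf_dvd_iff_pow_eq_one, ← lcm_cycleType]
  rw [← sum_cycleType] at hs
  rw [Ev, sign_of_cycleType] at he
  have h2 : ∀ x ∈ σ.cycleType, 2 ≤ x := fun x hx => two_le_of_mem_cycleType hx
  generalize σ.cycleType = m at *
  have he' : Even (m.sum + m.card) := by
    by_contra hc
    rw [(Nat.not_even_iff_odd.1 hc).neg_one_pow] at he; exact absurd he (by decide)
  have hc : m.card * 2 ≤ m.sum := by simpa using Multiset.card_nsmul_le_sum h2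
  obtain h0 | h0 | h0 : m.card = 0 ∨ m.card = 1 ∨ m.card = 2 := by omega
  · rw [Multiset.card_eq_zero.1 h0]; simp
  · obtain ⟨x, rfl⟩ := Multiset.card_eq_one.1 h0
    have := h2 x (by simp)
    simp only [Multiset.sum_singleton, Multiset.card_singleton] at *
    interval_cases x <;> first | decide | exact absurd he' (by decide)
  · obtain ⟨x, y, rfl⟩ := Multiset.card_eq_two.1 h0
    have := h2 x (by simp)
    have := h2 y (by simp)
    simp only [Multiset.insert_eq_cons, Multiset.sum_cons, Multiset.sum_singleton,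
      Multiset.card_cons, Multiset.card_singleton] at *
    have : x ≤ 3 := by omega
    have : y ≤ 3 := by omega
    interval_cases x <;> interval_cases y <;>
      first | omega | decide | exact absurd he' (by decide)

theorem small_order' (l : List α) (hl : l.length ≤ 5) (he : Ev σ) (h : ∀ x, x ∉ l → σ x = x) :
    σ ^ 2 = 1 ∨ σ ^ 3 = 1 ∨ σ ^ 5 = 1 := by
  refine small_order he (le_trans (Finset.card_le_card (t := l.toFinset) fun x hx => ?_)
    ((List.toFinset_card_le l).trans hl))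
  by_contra hc
  exact mem_support.1 hx (h x (by simpa using hc))

theorem T3.mul_order (h : T3 σ) (h' : T3 τ) :
    (σ * τ) ^ 2 = 1 ∨ (σ * τ) ^ 3 = 1 ∨ (σ * τ) ^ 5 = 1 := by
  have he := h.ev.mul h'.ev
  have k1 := h.cube
  have k2 := h'.cube
  obtain ⟨a, b, c, h, rfl⟩ := h
  obtain ⟨p, q, r, h', rfl⟩ := h'
  by_cases h1 : p ∈ [a, b, c]
  · refine small_order' [a, b, c, q, r] le_rfl he fun x hx => ?_
    simp only [cy, Perm.mul_apply, swap_apply_def]; grind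
  by_cases h2 : q ∈ [a, b, c]
  · refine small_order' [a, b, c, p, r] le_rfl he fun x hx => ?_
    simp only [cy, Perm.mul_apply, swap_apply_def]; grind
  by_cases h3 : r ∈ [a, b, c]
  · refine small_order' [a, b, c, p, q] le_rfl he fun x hx => ?_
    simp only [cy, Perm.mul_apply, swap_apply_def]; grind
  have hc : Commute (cy a b c) (cy p q r) := by
    ext x; simp only [cy, Perm.mul_apply, swap_apply_def]; grind
  refine .inr (.inl ?_)
  rw [hc.mul_pow, pow_three', pow_three', k1, k2, mul_one]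

theorem Two3.wit (h6 : Fintype.card α ≠ 6) (h3 : σ * σ * σ = 1) (h : Two3 σ) :
    ∃ y, Ev y ∧ ¬ ((σ * (y * σ⁻¹ * y⁻¹)) ^ 2 = 1 ∨ (σ * (y * σ⁻¹ * y⁻¹)) ^ 3 = 1 ∨
      (σ * (y * σ⁻¹ * y⁻¹)) ^ 5 = 1) := by
  obtain ⟨a, b, c, d, e, f, h, k1, k2, k3, k4, k5, k6⟩ := h
  have := h.length_le_card
  obtain ⟨p, hp⟩ := fresh [a, b, c, d, e, f] (by simp at *; omega)
  have hi := σ.injective
  have hn : [a, d, b, p].Nodup := by grind
  refine ⟨dd a d b p, ev_dd (by grind) (by grind), ?_⟩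
  have e1 : σ * (dd a d b p * σ⁻¹ * (dd a d b p)⁻¹) = dd b e c (σ p) * dd a d b p := by
    rw [inv_eq_of_mul_eq_one_right (dd_sq hn), ← mul_assoc, ← mul_assoc, conj_dd, k1, k2, k4]
  rw [e1]
  have p1 : σ p ≠ a := fun e => hp (by simp [hi (e.trans k3.symm)])
  have p2 : σ p ≠ b := fun e => hp (by simp [hi (e.trans k1.symm)])
  have p3 : σ p ≠ c := fun e => hp (by simp [hi (e.trans k2.symm)])
  have p4 : σ p ≠ d := fun e => hp (by simp [hi (e.trans k6.symm)])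
  have p5 : σ p ≠ e := fun e => hp (by simp [hi (e.trans k4.symm)])
  generalize σ p = q at *
  generalize hz : dd b e c q * dd a d b p = z
  have z1 : z a = d := by simp only [← hz, dd, Perm.mul_apply, swap_apply_def]; grind
  have z2 : z d = a := by simp only [← hz, dd, Perm.mul_apply, swap_apply_def]; grind
  have z3 : z (z b) ≠ b := by simp only [← hz, dd, Perm.mul_apply, swap_apply_def]; grind
  rintro (h | h | h)
  · exact z3 (by rw [← Perm.mul_apply, ← pow_two, h]; rfl)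
  · have := congrArg (· a) h
    simp only [pow_succ, pow_zero, Perm.mul_apply, Perm.one_apply, z1, z2] at this; grind
  · have := congrArg (· a) h
    simp only [pow_succ, pow_zero, Perm.mul_apply, Perm.one_apply, z1, z2] at this; grind

theorem cy_rot (h : [a, b, c].Nodup) : cy c a b = cy a b c := by
  ext x; simp only [cy, Perm.mul_apply, swap_apply_def]; grind

theorem edge1 (h : [a, b, c].Nodup) (h' : [p, q, r].Nodup)
    (h2 : cy a b c * cy p q r * (cy a b c * cy p q r) = 1) (h1 : cy a b c * cy p q r ≠ 1)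
    (hp : p ∉ [a, b, c]) : q = a ∧ r = b ∨ q = b ∧ r = c ∨ q = c ∧ r = a := by
  have k := sq_apply h2
  have k1 := k p
  have k2 := k q
  have k3 := k r
  simp only [cy, Perm.mul_apply] at k1 k2 k3
  grind

theorem T3.edge (h : T3 σ) (h' : T3 τ) (h2 : σ * τ * (σ * τ) = 1) (h1 : σ * τ ≠ 1) :
    ∃ a b i j, [a, b, i, j].Nodup ∧ σ = cy a b i ∧ τ = cy a b j := by
  have key : ∀ a b c p q r : α, [a, b, c].Nodup → [p, q, r].Nodup →
      cy a b c * cy p q r * (cy a b c * cy p q r) = 1 → cy a b c * cy p q r ≠ 1 →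
      p ∉ [a, b, c] → ∃ a' b' i j, [a', b', i, j].Nodup ∧ cy a b c = cy a' b' i ∧
        cy p q r = cy a' b' j := by
    intro a b c p q r h h' h2 h1 hp
    rcases edge1 h h' h2 h1 hp with ⟨rfl, rfl⟩ | ⟨rfl, rfl⟩ | ⟨rfl, rfl⟩
    · exact ⟨q, r, c, p, by grind, rfl, cy_rot (by grind)⟩
    · exact ⟨q, r, a, p, by grind, cy_rot (by grind), cy_rot (by grind)⟩
    · exact ⟨q, r, b, p, by grind, (cy_rot (by grind)).symm, cy_rot (by grind)⟩
  obtain ⟨a, b, c, h, rfl⟩ := h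
  obtain ⟨p, q, r, h', rfl⟩ := h'
  by_cases hp : p ∉ [a, b, c]
  · exact key _ _ _ _ _ _ h h' h2 h1 hp
  by_cases hr : r ∉ [a, b, c]
  · rw [← cy_rot h'] at *
    exact key _ _ _ _ _ _ h (by grind) h2 h1 hr
  by_cases hq : q ∉ [a, b, c]
  · rw [← cy_rot h', ← cy_rot (a := r) (by grind)] at *
    exact key _ _ _ _ _ _ h (by grind) h2 h1 hq
  exfalso
  clear key
  have k := sq_apply h2 a
  apply h1
  clear h1 h2
  simp only [List.mem_cons, List.not_mem_nil, or_false, not_not] at hp hq hr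
  ext x
  simp only [cy, Perm.mul_apply, Perm.one_apply] at k ⊢
  rcases hp with rfl | rfl | rfl <;> rcases hq with rfl | rfl | rfl <;> grind

theorem T3.third (h : [a, b, i, j].Nodup) (h' : T3 τ) (h2 : cy a b i * τ * (cy a b i * τ) = 1)
    (h1 : cy a b i * τ ≠ 1) (h3 : cy a b j * τ * (cy a b j * τ) = 1) (h4 : cy a b j * τ ≠ 1) :
    ∃ k, [a, b, i, j, k].Nodup ∧ τ = cy a b k := by
  obtain ⟨a', b', i', k, n1, e1, rfl⟩ := T3.edge ⟨a, b, i, by grind, rfl⟩ h' h2 h1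
  have k1 := congrArg (· a) e1
  have k2 := congrArg (· b) e1
  have k3 := congrArg (· i) e1
  have k4 := congrArg (· a') e1
  have k5 := congrArg (· b') e1
  have k6 := sq_apply h3 a
  have k7 := sq_apply h3 b
  have k8 := sq_apply h3 j
  have k9 : j ≠ k ∨ a ≠ a' := by
    by_contra hc
    push Not at hc
    obtain ⟨rfl, rfl⟩ := hc
    simp only [cy, Perm.mul_apply] at k1 k2 k3 k4 k5 k6 k7 k8
    grind
  have : a' = a ∧ b' = b ∧ i' = i := by
    simp only [cy, Perm.mul_apply] at k1 k2 k3 k4 k5 k6 k7 k8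
    grind
  obtain ⟨rfl, rfl, rfl⟩ := this
  exact ⟨_, by grind, rfl⟩

theorem Two3.not (h : Two3 σ) : ¬ T3 σ := by
  rintro ⟨p, q, r, h', rfl⟩
  obtain ⟨a, b, c, d, e, f, h, k1, k2, k3, k4, k5, k6⟩ := h
  simp only [cy, Perm.mul_apply] at *
  grind

theorem Two3.fpf (h6 : Fintype.card α = 6) (h : Two3 σ) (x : α) : σ x ≠ x := by
  obtain ⟨a, b, c, d, e, f, h, k1, k2, k3, k4, k5, k6⟩ := h
  have := mem_of_card h (by simp [h6]) x
  grind

theorem Two3.conj_ev (h6 : Fintype.card α = 6) (h : Two3 σ) (h' : Two3 τ) :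
    ∃ ρ, Ev ρ ∧ ρ * σ * ρ⁻¹ = τ := by
  obtain ⟨a, b, c, d, e, f, h, k1, k2, k3, k4, k5, k6⟩ := h
  obtain ⟨a', b', c', d', e', f', h', l1, l2, l3, l4, l5, l6⟩ := h'
  obtain ⟨ρ, h2⟩ := exists_perm h h' rfl
  simp only [List.map_cons, List.map_nil, List.cons.injEq, and_true] at h2
  have hm := mem_of_card h (by simp [h6])
  have e1 : ρ * σ = τ * ρ := by
    ext x
    have := hm x
    simp only [Perm.mul_apply]; grind (splits := 40)
  by_cases he : Ev ρ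
  · exact ⟨ρ, he, by rw [e1, mul_inv_cancel_right]⟩
  have e2 : swap a d * dd b e c f * σ = σ * (swap a d * dd b e c f) := by
    ext x
    have := hm x
    simp only [dd, Perm.mul_apply]; grind (splits := 40)
  refine ⟨ρ * (swap a d * dd b e c f),
    ev_odd he ((ev_dd (by grind) (by grind)).odd' (odd_swap (by grind))), ?_⟩
  rw [mul_assoc ρ, e2, ← mul_assoc, e1]; group

end perm

variable {G : Type u} [Group G] [Finite G] {α : Type} [Fintype α] [DecidableEq α]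
  {φ ψ : Perm α → G} {A B C : Subgroup G} {g x y u v w : G} {σ τ ρ : Perm α}
  {a b c d p q r s : α}

theorem Fr.im (hφ : Fr φ A) (hx : x ∈ N[A]) (hσ : Ev σ) : ∃ τ, Ev τ ∧ x * φ σ * x⁻¹ = φ τ := by
  obtain ⟨τ, h1, h2⟩ := hφ.surj (conj_mem hx (hφ.mem hσ))
  exact ⟨τ, h1, h2.symm⟩

theorem Fr.im_mul (hφ : Fr φ A) {σ' τ' : Perm α} (h1 : Ev σ) (h2 : Ev σ') (h3 : Ev τ)
    (h4 : Ev τ') (e1 : x * φ σ * x⁻¹ = φ τ) (e2 : x * φ σ' * x⁻¹ = φ τ') :
    x * φ (σ * σ') * x⁻¹ = φ (τ * τ') := by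
  rw [hφ.mul h1 h2, hφ.mul h3 h4, ← e1, ← e2]; group

theorem Fr.im_one (hφ : Fr φ A) (h1 : Ev σ) (h3 : Ev τ) (e1 : x * φ σ * x⁻¹ = φ τ) :
    σ = 1 ↔ τ = 1 := by
  constructor
  · rintro rfl
    exact hφ.eq_one h3 (by rw [← e1, hφ.one]; group)
  · rintro rfl
    rw [hφ.one] at e1
    exact hφ.eq_one h1 (by simpa using e1)

theorem Fr.im_pow (hφ : Fr φ A) (h1 : Ev σ) (h3 : Ev τ) (e1 : x * φ σ * x⁻¹ = φ τ) (n : ℕ) :
    σ ^ n = 1 ↔ τ ^ n = 1 :=
  hφ.im_one (x := x) (h1.pow n) (h3.pow n) (by rw [hφ.pow h1, hφ.pow h3, ← e1, conj_pow])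

theorem Fr.im_conj (hφ : Fr φ A) {σ' τ' : Perm α} (h1 : Ev σ) (h2 : Ev σ') (h3 : Ev τ)
    (h4 : Ev τ') (e1 : x * φ σ * x⁻¹ = φ τ) (e2 : x * φ σ' * x⁻¹ = φ τ') :
    x * φ (σ * σ' * σ⁻¹) * x⁻¹ = φ (τ * τ' * τ⁻¹) := by
  rw [← hφ.conj h1 h2, ← hφ.conj h3 h4, ← e1, ← e2]; group

theorem Fr.act_of_T3 (hφ : Fr φ A) (h5 : 5 ≤ Fintype.card α)
    (h : ∀ σ, T3 σ → ∃ τ, T3 τ ∧ x * φ σ * x⁻¹ = φ τ) : ∃ ρ, Act φ x ρ := by
  classical
  obtain ⟨a, -⟩ := fresh ([] : List α) (by simp; omega)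
  obtain ⟨b, hb⟩ := fresh [a] (by simp; omega)
  obtain ⟨i, hi⟩ := fresh [a, b] (by simp; omega)
  obtain ⟨j, hj⟩ := fresh [a, b, i] (by simp; omega)
  have key : ∀ {k l : α} {τ τ' : Perm α}, [a, b, k, l].Nodup → T3 τ → T3 τ' →
      x * φ (cy a b k) * x⁻¹ = φ τ → x * φ (cy a b l) * x⁻¹ = φ τ' →
      τ * τ' * (τ * τ') = 1 ∧ τ * τ' ≠ 1 := by
    intro k l τ τ' hn t1 t2 e1 e2
    have v1 : Ev (cy a b k) := ev_cy (by grind) (by grind)
    have v2 : Ev (cy a b l) := ev_cy (by grind) (by grind)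
    have e3 := hφ.im_mul v1 v2 t1.ev t2.ev e1 e2
    have e4 : cy a b k * cy a b l = dd a l b k := by
      ext x; simp only [dd, cy, Perm.mul_apply]; grind (splits := 40)
    have n2 : [a, l, b, k].Nodup := by grind
    refine ⟨?_, fun e => dd_ne n2 ?_⟩
    · rw [← pow_two, ← hφ.im_pow (v1.mul v2) (t1.ev.mul t2.ev) e3, e4, pow_two, dd_sq n2]
    · rw [← e4, hφ.im_one (v1.mul v2) (t1.ev.mul t2.ev) e3, e]
  obtain ⟨τi, ti, ei⟩ := h _ ⟨a, b, i, by grind, rfl⟩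
  obtain ⟨τj, tj, ej⟩ := h _ ⟨a, b, j, by grind, rfl⟩
  obtain ⟨k1, k2⟩ := key (by grind) ti tj ei ej
  obtain ⟨a', b', i', j', n', rfl, rfl⟩ := ti.edge tj k1 k2
  have all : ∀ k, ∃ k', k ≠ a → k ≠ b →
      [a', b', k'].Nodup ∧ x * φ (cy a b k) * x⁻¹ = φ (cy a' b' k') := by
    intro k
    by_cases h1 : k = i
    · exact ⟨i', fun _ _ => ⟨by grind, h1 ▸ ei⟩⟩
    by_cases h2 : k = j
    · exact ⟨j', fun _ _ => ⟨by grind, h2 ▸ ej⟩⟩
    by_cases h3 : k = a ∨ k = b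
    · exact ⟨a, fun _ _ => by grind⟩
    obtain ⟨τ, t, e⟩ := h _ ⟨a, b, k, by grind, rfl⟩
    obtain ⟨k3, k4⟩ := key (by grind) ti t ei e
    obtain ⟨k5, k6⟩ := key (by grind) tj t ej e
    obtain ⟨k', n2, rfl⟩ := T3.third n' t k3 k4 k5 k6
    exact ⟨k', fun _ _ => ⟨by grind, e⟩⟩
  choose f hf using all
  let F : α → α := fun k => if k = a then a' else if k = b then b' else f k
  have hF : Function.Injective F := by
    intro k l e
    have m1 := fun h1 h2 => (hf k h1 h2).1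
    have m2 := fun h1 h2 => (hf l h1 h2).1
    simp only [F] at e
    by_cases h1 : k = a ∨ k = b ∨ l = a ∨ l = b
    · clear * - m1 m2 e h1 hb n'; grind
    push Not at h1
    obtain ⟨h1, h2, h3, h4⟩ := h1
    simp only [h1, h2, h3, h4, if_false] at e
    have e2 : φ (cy a b k) = φ (cy a b l) := by
      have := (hf k h1 h2).2
      rw [e, ← (hf l h3 h4).2] at this
      simpa using this
    have hab : a ≠ b := by clear * - hb; grind
    have := congrArg (· a) (hφ.inj (ev_cy hab (Ne.symm h1)) (ev_cy hab (Ne.symm h3)) e2)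
    simp only [cy, Perm.mul_apply] at this
    clear * - this h1 h2 h3 h4 hab; grind
  let ρ : Perm α := Equiv.ofBijective F (Finite.injective_iff_bijective.1 hF)
  let H : Subgroup (Perm α) :=
    { carrier := {τ | Ev τ ∧ x * φ τ * x⁻¹ = φ (ρ * τ * ρ⁻¹)}
      one_mem' := ⟨Ev.one, by simp [hφ.one]⟩
      mul_mem' := fun {s t} h1 h2 => ⟨h1.1.mul h2.1, by
        rw [hφ.im_mul h1.1 h2.1 (h1.1.conj ρ) (h2.1.conj ρ) h1.2 h2.2]
        exact congrArg φ (by group)⟩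
      inv_mem' := fun {s} h1 => ⟨h1.1.inv, by
        rw [hφ.inv h1.1, show ρ * s⁻¹ * ρ⁻¹ = (ρ * s * ρ⁻¹)⁻¹ by group, hφ.inv (h1.1.conj ρ),
          ← h1.2]; group⟩ }
  refine ⟨ρ, fun τ hτ => (gen3 (H := H) (a := a) (b := b) (by grind) (fun k h1 h2 =>
    ⟨ev_cy (by grind) h1.symm, ?_⟩) hτ).2⟩
  rw [(hf k h1 h2).2, conj_cy]
  have r1 : ρ a = a' := by simp [ρ, F]
  have r2 : ρ b = b' := by
    have : b ≠ a := by grind
    simp [ρ, F, this]
  have r3 : ρ k = f k := by simp [ρ, F, h1, h2]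
  rw [r1, r2, r3]

/-- `x` induces an automorphism moving the class of `3`-cycles. -/
def Sw (φ : Perm α → G) (x : G) : Prop :=
  ∀ σ, T3 σ → ∃ τ, Ev τ ∧ Two3 τ ∧ τ * τ * τ = 1 ∧ x * φ σ * x⁻¹ = φ τ

theorem Fr.act_or_sw (hφ : Fr φ A) (h5 : 5 ≤ Fintype.card α) (hx : x ∈ N[A]) :
    (∃ ρ, Act φ x ρ) ∨ Sw φ x := by
  refine or_iff_not_imp_left.2 fun h σ hσ => ?_
  obtain ⟨τ, h1, h2⟩ := hφ.im hx hσ.ev
  have h3 : τ * τ * τ = 1 := by
    rw [← pow_three', ← hφ.im_pow hσ.ev h1 h2, pow_three', hσ.cube]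
  refine ⟨τ, h1, (T3_or h3 fun e => hσ.ne ((hφ.im_one hσ.ev h1 h2).2 e)).resolve_left
    fun t => h (hφ.act_of_T3 h5 fun σ' hσ' => ?_), h3, h2⟩
  obtain ⟨ρ, r1, rfl⟩ := hσ.conj_ev h5 hσ'
  obtain ⟨ρ', r2, r3⟩ := hφ.im hx r1
  exact ⟨_, t.conj ρ', hφ.im_conj r1 hσ.ev r2 h1 r3 h2⟩

theorem exists_T3 (h5 : 5 ≤ Fintype.card α) : ∃ σ : Perm α, T3 σ := by
  obtain ⟨a, -⟩ := fresh ([] : List α) (by simp; omega)
  obtain ⟨b, hb⟩ := fresh [a] (by simp; omega)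
  obtain ⟨i, hi⟩ := fresh [a, b] (by simp; omega)
  exact ⟨_, a, b, i, by grind, rfl⟩

theorem Sw.six (hφ : Fr φ A) (h5 : 5 ≤ Fintype.card α) (hx : x ∈ N[A]) (h : Sw φ x) :
    Fintype.card α = 6 := by
  by_contra h6
  obtain ⟨σ, hσ⟩ := exists_T3 h5
  obtain ⟨τ, h1, h2, h3, h4⟩ := h σ hσ
  obtain ⟨y, y1, y2⟩ := h2.wit h6 h3
  obtain ⟨z, z1, z2⟩ := hφ.im (inv_mem hx) y1
  have z3 : x * φ z * x⁻¹ = φ y := by rw [← z2]; group
  have h7 : x * φ σ⁻¹ * x⁻¹ = φ τ⁻¹ := by rw [hφ.inv hσ.ev, hφ.inv h1, ← h4]; group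
  have e := hφ.im_mul hσ.ev (hσ.ev.inv.conj z) h1 (h1.inv.conj y) h4
    (hφ.im_conj z1 hσ.ev.inv y1 h1.inv z3 h7)
  have k := hφ.im_pow (hσ.ev.mul (hσ.ev.inv.conj z)) (h1.mul (h1.inv.conj y)) e
  rw [← k, ← k, ← k] at y2
  exact y2 (hσ.mul_order (hσ.inv.conj z))

theorem Fr.exists_act (hφ : Fr φ A) (h5 : 5 ≤ Fintype.card α) (h6 : Fintype.card α ≠ 6)
    (hx : x ∈ N[A]) : ∃ ρ, Act φ x ρ :=
  (hφ.act_or_sw h5 hx).resolve_right fun h => h6 (h.six hφ h5 hx)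

theorem Sw.not_act (hφ : Fr φ A) (h5 : 5 ≤ Fintype.card α) (h : Sw φ x) (h' : Act φ x ρ) :
    False := by
  obtain ⟨σ, hσ⟩ := exists_T3 h5
  obtain ⟨τ, h1, h2, h3, h4⟩ := h σ hσ
  rw [h' σ hσ.ev] at h4
  exact h2.not (hφ.inj (hσ.ev.conj ρ) h1 h4 ▸ hσ.conj ρ)

theorem Sw.inv (hφ : Fr φ A) (h5 : 5 ≤ Fintype.card α) (hx : x ∈ N[A]) (h : Sw φ x) :
    Sw φ x⁻¹ := (hφ.act_or_sw h5 (inv_mem hx)).resolve_left fun ⟨ρ, h'⟩ =>
  h.not_act hφ h5 (by simpa using h'.inv)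

theorem Sw.two3 (hφ : Fr φ A) (h5 : 5 ≤ Fintype.card α) (hx : x ∈ N[A]) (h : Sw φ x)
    (he : Ev σ) (hσ : Two3 σ) : ∃ τ, T3 τ ∧ x * φ σ * x⁻¹ = φ τ := by
  obtain ⟨σ0, h0⟩ := exists_T3 h5
  obtain ⟨τ, h1, h2, h3, h4⟩ := h.inv hφ h5 hx σ0 h0
  obtain ⟨ρ, r1, rfl⟩ := h2.conj_ev (h.six hφ h5 hx) hσ
  obtain ⟨ρ', r2, r3⟩ := hφ.im hx r1
  exact ⟨_, h0.conj ρ', hφ.im_conj r1 h1 r2 h0.ev r3 (by rw [← h4]; group)⟩

theorem Sw.mul (hφ : Fr φ A) (h5 : 5 ≤ Fintype.card α) (hx : x ∈ N[A]) (h : Sw φ x)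
    (h' : Sw φ y) : ∃ ρ, Act φ (x * y) ρ := hφ.act_of_T3 h5 fun σ hσ => by
  obtain ⟨τ, h1, h2, h3, h4⟩ := h' σ hσ
  obtain ⟨τ', h6, h7⟩ := h.two3 hφ h5 hx h1 h2
  exact ⟨τ', h6, by rw [← h7, ← h4]; group⟩

theorem Sw.vtype (hφ : Fr φ A) (h5 : 5 ≤ Fintype.card α) (hx : x ∈ N[A]) (h : Sw φ x)
    (n1 : [a, b, c, d].Nodup) (n2 : [p, q, r, s].Nodup)
    (e1 : x * φ (dd a b c d) * x⁻¹ = φ (dd p q r s))
    (e2 : x * φ (dd a c b d) * x⁻¹ = φ (dd p r q s)) : False := by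
  have h6 := h.six hφ h5 hx
  have t : T3 (cy b d c) := ⟨_, _, _, by grind, rfl⟩
  obtain ⟨τ, h1, h2, h3, h4⟩ := h _ t
  have e3 := hφ.im_conj t.ev (ev_dd (by grind) (by grind)) h1 (ev_dd (by grind) (by grind)) h4 e1
  have e4 : cy b d c * dd a b c d * (cy b d c)⁻¹ = dd a c b d := by
    rw [conj_dd]
    ext x; simp only [dd, cy, Perm.mul_apply]; grind (splits := 40)
  rw [e4, e2] at e3
  have e5 := hφ.inj (ev_dd (by grind) (by grind)) ((ev_dd (by grind) (by grind)).conj τ) e3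
  rw [eq_mul_inv_iff_mul_eq] at e5
  have e6 : ∀ z, z ∉ [p, q, r, s] → τ z ∉ [p, q, r, s] := fun z hz => by
    have := congrArg (· z) e5
    simp only [dd, Perm.mul_apply] at this; grind
  obtain ⟨z, hz⟩ := fresh [p, q, r, s] (by simp [h6])
  have f1 := h2.fpf h6 z
  have f2 := h2.fpf h6 (τ z)
  have f3 := cube_apply h3 z
  have f4 := e6 z hz
  have f5 := e6 _ f4
  have : [p, q, r, s, z, τ z, τ (τ z)].Nodup := by
    simp only [List.nodup_cons, List.mem_cons, List.not_mem_nil, List.nodup_nil, not_or] at *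
    grind
  have := this.length_le_card
  simp [h6] at this

theorem Sw.odd (hφ : Fr φ A) (h5 : 5 ≤ Fintype.card α) (hx : x ∈ N[A]) (h : Sw φ x)
    (hy : Act φ y σ) (h2 : σ * σ = 1) (hc : x * y = y * x) : Ev σ := by
  by_contra ho
  have h6 := h.six hφ h5 hx
  have key : ∀ {g τ}, Ev g → Ev τ → σ * g = g * σ → x * φ g * x⁻¹ = φ τ → σ * τ = τ * σ := by
    intro g τ v1 v2 e1 e2
    refine hy.comm' hφ v2 ?_
    rw [← e2]
    calc y * (x * φ g * x⁻¹) = x * (y * φ g) * x⁻¹ := by rw [← mul_assoc, ← mul_assoc, ← hc]; group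
      _ = x * φ g * x⁻¹ * (x * y * x⁻¹) := by rw [hy.comm v1 e1]; group
      _ = _ := by rw [hc]; group
  have s2 := sq_apply h2
  obtain ⟨a, ha⟩ : ∃ a, σ a ≠ a := by
    by_contra hc; push Not at hc; exact ho ((show σ = 1 from Equiv.ext hc) ▸ Ev.one)
  have := s2 a
  obtain ⟨c, hc1⟩ := fresh [a, σ a] (by simp [h6])
  by_cases k1 : ∀ z, z ∉ [a, σ a] → σ z = z
  · obtain ⟨d, hd⟩ := fresh [a, σ a, c] (by simp [h6])
    obtain ⟨e, he⟩ := fresh [a, σ a, c, d] (by simp [h6])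
    have t : T3 (cy c d e) := ⟨_, _, _, by grind, rfl⟩
    obtain ⟨τ, h1, h3, h4, h7⟩ := h _ t
    have e1 := comm_apply (key t.ev h1 (by
      ext z
      have := k1 z
      have := k1 c
      have := k1 d
      have := k1 e
      simp only [cy, Perm.mul_apply]; grind (splits := 40)) h7)
    have := e1 a
    have := e1 (σ a)
    have := k1 (τ a)
    have := h3.fpf h6 a
    have := h3.fpf h6 (σ a)
    have := cube_apply h4 a
    have := τ.injective
    grind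
  push Not at k1
  obtain ⟨c, c1, c2⟩ := k1
  have := s2 c
  by_cases k2 : ∀ z, z ∉ [a, σ a, c, σ c] → σ z = z
  · refine ho ((show σ = dd a (σ a) c (σ c) from ?_) ▸ ev_dd (by grind) (by grind))
    ext z
    have := k2 z
    simp only [dd, Perm.mul_apply]; grind (splits := 40)
  push Not at k2
  obtain ⟨e, e1, e2⟩ := k2
  have := s2 e
  have n : [a, c, e, σ a, σ c, σ e].Nodup := by
    simp only [List.nodup_cons, List.mem_cons, List.not_mem_nil, List.nodup_nil, not_or] at *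
    grind
  have hm := mem_of_card n (by simp [h6])
  have v : Ev (cy a e c * cy (σ a) (σ e) (σ c)) :=
    (ev_cy (by grind) (by grind)).mul (ev_cy (by grind) (by grind))
  obtain ⟨τ, ⟨p, q, r, n', rfl⟩, h7⟩ := h.two3 hφ h5 hx v ⟨a, c, e, σ a, σ c, σ e, n, by
    simp only [cy, Perm.mul_apply]; grind (splits := 40)⟩
  have e3 := comm_apply (key v (ev_cy (by grind) (by grind)) (by
    ext z
    have := hm z
    simp only [cy, Perm.mul_apply]; grind (splits := 40)) h7)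
  have f : ∀ z, σ z ≠ z := fun z => by have := hm z; grind
  have := e3 p
  have := e3 q
  have := e3 r
  have := f p
  have := f q
  have := f r
  have := s2 p
  have := s2 q
  have := s2 r
  simp only [cy, Perm.mul_apply] at *
  grind

theorem carm (hab : a ≠ b) (x : α → G) (h3 : ∀ i, i ≠ a → i ≠ b → x i ^ 3 = 1)
    (h2 : ∀ i, i ≠ a → i ≠ b → ∀ j, j ≠ a → j ≠ b → i ≠ j → (x i * x j) ^ 2 = 1) :
    ∃ f : alternatingGroup α →* G, ∀ i (h1 : i ≠ a) (h2 : i ≠ b),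
      f ⟨cy a b i, ev_cy hab h1.symm⟩ = x i := by
  classical
  let s : Finset α := Finset.univ.filter fun i => i ≠ a ∧ i ≠ b
  have hs : ∀ i, i ∈ s ↔ i ≠ a ∧ i ≠ b := by simp [s]
  let y : α → G × Perm α := fun i => (x i, cy a b i)
  have hc := H24.carmichael y s (fun i hi => by
      rw [hs] at hi
      refine Prod.ext (h3 i hi.1 hi.2) ?_
      show cy a b i ^ 3 = 1
      rw [pow_three', cy_cube (by grind)])
    (fun i hi j hj hij => by
      rw [hs] at hi hj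
      refine Prod.ext (h2 i hi.1 hi.2 j hj.1 hj.2 hij) ?_
      show (cy a b i * cy a b j) ^ 2 = 1
      ext z; simp only [pow_two, cy, Perm.mul_apply, Perm.one_apply]; grind (splits := 40))
  have hcard : s.card + 2 = Fintype.card α := by
    have : s = (Finset.univ.erase a).erase b := by ext i; simp [hs, and_comm]
    have : Nontrivial α := ⟨a, b, hab⟩
    have := Fintype.one_lt_card (α := α)
    rw [‹s = _›, Finset.card_erase_of_mem (by simp [hab.symm]), Finset.card_erase_of_mem (by simp),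
      Finset.card_univ]; omega
  set Γ := closure (y '' s)
  have hle : ∀ g ∈ Γ, g.2 ∈ alternatingGroup α := fun g hg => by
    refine (closure_le ((alternatingGroup α).comap (MonoidHom.snd G (Perm α)))).2 ?_ hg
    rintro _ ⟨i, hi, rfl⟩
    exact ev_cy hab ((hs i).1 hi).1.symm
  let π : Γ →* alternatingGroup α :=
    ((MonoidHom.snd G (Perm α)).comp Γ.subtype).codRestrict _ fun g => hle g g.2
  have hsurj : Function.Surjective π := by
    rintro ⟨σ, hσ⟩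
    obtain ⟨g, hg, rfl⟩ := gen3 (H := Γ.map (MonoidHom.snd G (Perm α))) hab (fun i h1 h2 =>
      ⟨y i, subset_closure ⟨i, (hs i).2 ⟨h1, h2⟩, rfl⟩, rfl⟩) hσ
    exact ⟨⟨g, hg⟩, rfl⟩
  have hbij : Function.Bijective π := by
    refine hsurj.bijective_of_nat_card_le ?_
    have : Nontrivial α := ⟨a, b, hab⟩
    have := two_mul_nat_card_alternatingGroup (α := α)
    rw [Nat.card_perm, Nat.card_eq_fintype_card (α := α), ← hcard] at this
    omega
  refine ⟨((MonoidHom.fst G (Perm α)).comp Γ.subtype).comp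
    (MulEquiv.ofBijective π hbij).symm.toMonoidHom, fun i h1 h2 => ?_⟩
  have : (MulEquiv.ofBijective π hbij).symm ⟨cy a b i, ev_cy hab h1.symm⟩ =
      ⟨y i, subset_closure ⟨i, (hs i).2 ⟨h1, h2⟩, rfl⟩⟩ := by
    rw [MulEquiv.symm_apply_eq]; rfl
  simp [this, y]

theorem carm_fr (h5 : 5 ≤ Fintype.card α) (hab : a ≠ b) (x : α → G)
    (h3 : ∀ i, i ≠ a → i ≠ b → x i ^ 3 = 1)
    (h2 : ∀ i, i ≠ a → i ≠ b → ∀ j, j ≠ a → j ≠ b → i ≠ j → (x i * x j) ^ 2 = 1)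
    (h1 : ∃ i, i ≠ a ∧ i ≠ b ∧ x i ≠ 1) :
    ∃ φ A, Fr φ A ∧ ∀ i, i ≠ a → i ≠ b → φ (cy a b i) = x i := by
  obtain ⟨f, hf⟩ := carm hab x h3 h2
  have := alternatingGroup.isSimpleGroup (α := α) (by rwa [Nat.card_eq_fintype_card])
  have hi : Function.Injective f := by
    rw [← MonoidHom.ker_eq_bot_iff]
    refine (IsSimpleGroup.eq_bot_or_eq_top_of_normal f.ker inferInstance).resolve_right fun e => ?_
    obtain ⟨i, i1, i2, i3⟩ := h1
    exact i3 (hf i i1 i2 ▸ (show _ ∈ f.ker from e ▸ mem_top _))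
  obtain ⟨φ, h, e⟩ := fr_of_hom f hi
  exact ⟨φ, _, h, fun i i1 i2 => by rw [e _ (ev_cy hab i1.symm), hf i i1 i2]⟩

theorem om_cube {a b c d e f : α} (n : [a, b, c, d, e, f].Nodup) :
    (cy a b c * cy d e f) ^ 3 = 1 := by
  have hc : Commute (cy a b c) (cy d e f) := by
    ext x; simp only [cy, Perm.mul_apply]; grind (splits := 40)
  rw [hc.mul_pow, pow_three', pow_three', cy_cube (by grind), cy_cube (by grind), mul_one]

theorem sq_of_dd {a b c d : α} (n : [a, b, c, d].Nodup) (e : σ * τ = dd a b c d) :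
    (σ * τ) ^ 2 = 1 ∧ (τ * σ) ^ 2 = 1 := by
  have h : (σ * τ) ^ 2 = 1 := by rw [e, pow_two, dd_sq n]
  exact ⟨h, by rw [show τ * σ = τ * (σ * τ) * τ⁻¹ by group, conj_pow, h]; group⟩

theorem om_uv {p q u v x y : α} (n : [p, q, u, v, x, y].Nodup) :
    cy p x u * cy q y v * (cy p u y * cy q v x) = dd p q x y := by
  ext z; simp only [dd, cy, Perm.mul_apply]; grind (splits := 40)
theorem om_ux {p q u v x y : α} (n : [p, q, u, v, x, y].Nodup) :
    cy p x u * cy q y v * (cy p y q * cy u x v) = dd p v u y := by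
  ext z; simp only [dd, cy, Perm.mul_apply]; grind (splits := 40)
theorem om_uy {p q u v x y : α} (n : [p, q, u, v, x, y].Nodup) :
    cy p x u * cy q y v * (cy p q x * cy u v y) = dd q u v x := by
  ext z; simp only [dd, cy, Perm.mul_apply]; grind (splits := 40)
theorem om_vx {p q u v x y : α} (n : [p, q, u, v, x, y].Nodup) :
    cy p u y * cy q v x * (cy p y q * cy u x v) = dd p x q u := by
  ext z; simp only [dd, cy, Perm.mul_apply]; grind (splits := 40)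
theorem om_vy {p q u v x y : α} (n : [p, q, u, v, x, y].Nodup) :
    cy p u y * cy q v x * (cy p q x * cy u v y) = dd p v q y := by
  ext z; simp only [dd, cy, Perm.mul_apply]; grind (splits := 40)
theorem om_xy {p q u v x y : α} (n : [p, q, u, v, x, y].Nodup) :
    cy p y q * cy u x v * (cy p q x * cy u v y) = dd p u x y := by
  ext z; simp only [dd, cy, Perm.mul_apply]; grind (splits := 40)

/-- in degree six a twisted four-group is a natural one in another frame -/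
theorem Fr.reframe (hφ : Fr φ A) (h6 : Fintype.card α = 6) {p q u v x y : α}
    (n : [p, q, u, v, x, y].Nodup) : ∃ φ', Fr φ' A ∧ φ' (dd p q u v) = φ (dd p q u v) ∧
      φ' (dd p v q u) = φ (dd p q x y) := by
  classical
  have hm := mem_of_card n (by simp [h6])
  let w : α → Perm α := fun i => if i = u then cy p x u * cy q y v else
    if i = v then cy p u y * cy q v x else if i = x then cy p y q * cy u x v else cy p q x * cy u v y
  have w1 : w u = cy p x u * cy q y v := by simp [w]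
  have w2 : w v = cy p u y * cy q v x := by simp only [w]; grind
  have w3 : w x = cy p y q * cy u x v := by simp only [w]; grind
  have w4 : w y = cy p q x * cy u v y := by simp only [w]; grind
  have ev : ∀ i, Ev (w i) := fun i => by
    simp only [w]; split_ifs <;> exact (ev_cy (by grind) (by grind)).mul (ev_cy (by grind) (by grind))
  clear_value w
  have k : ∀ i, i ≠ p → i ≠ q → i = u ∨ i = v ∨ i = x ∨ i = y := fun i => by
    have := hm i; grind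
  obtain ⟨o1, o2⟩ := sq_of_dd (by grind) (om_uv n)
  obtain ⟨o3, o4⟩ := sq_of_dd (by grind) (om_ux n)
  obtain ⟨o5, o6⟩ := sq_of_dd (by grind) (om_uy n)
  obtain ⟨o7, o8⟩ := sq_of_dd (by grind) (om_vx n)
  obtain ⟨o9, o10⟩ := sq_of_dd (by grind) (om_vy n)
  obtain ⟨o11, o12⟩ := sq_of_dd (by grind) (om_xy n)
  obtain ⟨φ', A', h1, h2⟩ := carm_fr (a := p) (b := q) (by omega) (by grind) (fun i => φ (w i))
    (fun i i1 i2 => by
      rw [← hφ.pow (ev i), ← hφ.one]; congr 1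
      rcases k i i1 i2 with rfl | rfl | rfl | rfl <;> simp only [w1, w2, w3, w4] <;>
        exact om_cube (by clear * - n; grind))
    (fun i i1 i2 j j1 j2 ij => by
      rw [← hφ.mul (ev i) (ev j), ← hφ.pow ((ev i).mul (ev j)), ← hφ.one]; congr 1
      rcases k i i1 i2 with rfl | rfl | rfl | rfl <;>
        rcases k j j1 j2 with rfl | rfl | rfl | rfl <;>
        first
        | exact absurd rfl ij
        | (simp only [w1, w2, w3, w4]; assumption))
    ⟨u, by grind, by grind, hφ.ne_one (ev u) fun e => by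
      have := congrArg (· p) e
      simp only [w1, cy, Perm.mul_apply, Perm.one_apply] at this; grind⟩
  have hA : A' = A := eq_of_le_of_card_ge (h1.le_of_cy (a := p) (b := q) (by grind)
    fun i i1 i2 => h2 i i1 i2 ▸ hφ.mem (ev i)) (by rw [h1.card, hφ.card])
  subst hA
  have u1 := h2 u (by grind) (by grind)
  have v1 := h2 v (by grind) (by grind)
  have a1 : Ev (cy p q u) := ev_cy (by grind) (by grind)
  have a2 : Ev (cy p q v) := ev_cy (by grind) (by grind)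
  refine ⟨φ', h1, ?_, ?_⟩
  · rw [congrArg φ' <| show dd p q u v = cy p q u * cy p q v * (cy p q v * cy p q u) by
      clear * - n; ext z; simp only [dd, cy, Perm.mul_apply]; grind (splits := 40), h1.mul (a1.mul a2) (a2.mul a1),
      h1.mul a1 a2, h1.mul a2 a1, u1, v1, ← hφ.mul (ev u) (ev v), ← hφ.mul (ev v) (ev u),
      ← hφ.mul ((ev u).mul (ev v)) ((ev v).mul (ev u))]
    congr 1
    have : w v * w u = dd u v x y := by
      clear * - n w1 w2
      ext z; simp only [w1, w2, dd, cy, Perm.mul_apply]; grind (splits := 40)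
    rw [this, w1, w2, om_uv n]
    clear * - n
    ext z; simp only [dd, Perm.mul_apply]; grind (splits := 40)
  · rw [show dd p v q u = cy p q u * cy p q v by
      clear * - n; ext z; simp only [dd, cy, Perm.mul_apply]; grind (splits := 40), h1.mul a1 a2, u1, v1,
      ← hφ.mul (ev u) (ev v), w1, w2, om_uv n]

end H5.SA
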