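import Mathlib
import Cfsg.Agent.H5.MCA

/-! # Automorphisms of `M₁₂`, elements of order `5` -/

set_option autoImplicit false
set_option linter.unusedSectionVars false
set_option linter.unusedVariables false
set_option maxRecDepth 100000

namespace H5.MC

open H9 Cfsg H24 Subgroup
open scoped Pointwise

namespace B

def cy : ℕ := 983435072843990828779021698901151808
def cw : ℕ := 974380510768821363662145534143076928
def cp : ℕ := 1795248432537898728475572672376535
def cu : ℕ := 651245563028962197159478659450418563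
def ch : ℕ := 974376600527264783270359736839586051

theorem y12 : pm cy ∈ Spor.M12 := mem12 (by decide +kernel)
theorem w12 : pm cw ∈ Spor.M12 := mem12 (by decide +kernel)
theorem u12 : pm cu ∈ Spor.M12 := mem12 (by decide +kernel)
theorem h12 : pm ch ∈ Spor.M12 := mem12 (by decide +kernel)
theorem pAM : pm cp ∈ AM := (out12_spec (by decide +kernel)).1

theorem pm_eq_of {c d : ℕ} (h : Nat.beq c d = true) : pm c = pm d := by rw [(beq_iff _ _).1 h]

theorem pm_ne {c d : ℕ} (i : ℕ) (h : (validP c && validP d && Nat.ble i 23 && !Nat.beq (dig c i) (dig d i)) = true) :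
    pm c ≠ pm d := fun e => by
  simp only [Bool.and_eq_true, Bool.not_eq_true', ble_iff] at h
  have := (beq_iff _ _).2 (pm_inj h.1.1.1 h.1.1.2 e (Nat.lt_succ_of_le h.1.2))
  rw [this] at h
  exact absurd h.2 (by decide)

theorem ord_pm {c r : ℕ} (hr : r.Prime)
    (h : (validP c && Nat.beq (powP c r) idP && !Nat.beq (dig c 1) 1) = true) : orderOf (pm c) = r := by
  simp only [Bool.and_eq_true, Bool.not_eq_true', beq_iff] at h
  have := Fact.mk hr
  refine orderOf_eq_prime (pm_pow_eq_one h.1.1 h.1.2) fun e => ?_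
  have := pm_inj h.1.1 validP_idP (e.trans pm_idP.symm) (i := 1) (by decide)
  rw [this] at h
  exact absurd h.2 (by decide +kernel)

theorem oy : orderOf (pm cy) = 11 := ord_pm (by decide) (by decide +kernel)
theorem ow : orderOf (pm cw) = 5 := ord_pm (by decide) (by decide +kernel)

/-- an element of `AM` fixing five points of the dodecad is trivial -/
theorem fix5 {g : PG} (hg : g ∈ AM) (xs : List GolayPt) (h1 : xs.Nodup) (h2 : xs.length = 5)
    (h3 : ∀ x ∈ xs, x ∈ ofMask dod0) (h : ∀ x ∈ xs, g x = x) : g = 1 := by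
  have g12 : g ∈ Stab [] [dod0] := M12_eq ▸ mem_M12.2 ⟨hg.1, hg.2.resolve_right fun e => by
    obtain ⟨x, hx⟩ := List.exists_mem_of_length_pos (l := xs) (by omega)
    have : g • x ∈ g • ofMask dod0 := Finset.smul_mem_smul_finset (h3 x hx)
    rw [e, Equiv.Perm.smul_def, h x hx] at this
    exact Finset.mem_compl.1 this (h3 x hx)⟩
  obtain ⟨k, hk, e⟩ := dtr0 xs h1 h2 h3
  have m : k⁻¹ * g * k ∈ Stab [] [dod0] := mul_mem (mul_mem (inv_mem hk) g12) hk
  have : k⁻¹ * g * k ∈ Stab [4, 3, 2, 1, 0] [dod0] := ⟨m.1, fun i hi => by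
    have : k (pt i) ∈ xs := by
      rw [← e]
      exact List.mem_map.2 ⟨pt i, by revert i; decide, rfl⟩
    rw [Equiv.Perm.mul_apply, Equiv.Perm.mul_apply, h _ this, Equiv.Perm.inv_eq_iff_eq], m.2.2⟩
  rw [d5_bot, mem_bot] at this
  rw [show g = k * (k⁻¹ * g * k) * k⁻¹ by group, this, mul_one, mul_inv_cancel]

/-- an element commuting with `c` is determined by the image of the point `1` -/
theorem cent_eq {c : ℕ} (hc : validP c = true) (h1 : ((List.range 5).map fun k => pt (dig (powP c k) 1)).Nodup)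
    (h2 : ∀ x ∈ (List.range 5).map fun k => pt (dig (powP c k) 1), x ∈ ofMask dod0) {g a : PG} (hg : g ∈ AM)
    (ha : a ∈ AM) (cg : Commute g (pm c)) (ca : Commute a (pm c)) (e : g (pt 1) = a (pt 1)) : g = a := by
  refine (inv_mul_eq_one.1 (fix5 (mul_mem (inv_mem ha) hg) _ h1 (by simp) h2 fun x hx => ?_)).symm
  obtain ⟨k, -, rfl⟩ := List.mem_map.1 hx
  rw [← pm_pt (powP_spec hc k).1 (by decide), (powP_spec hc k).2, ← Equiv.Perm.mul_apply,
    ((ca.inv_left.mul_left cg).pow_right k).eq, Equiv.Perm.mul_apply, Equiv.Perm.mul_apply, e,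
    Equiv.Perm.inv_eq_iff_eq.2 rfl]

theorem moved {c : ℕ} (hc : validP c = true) (h : pt (dig c 1) ≠ pt 1) {g : PG} (cg : Commute g (pm c)) :
    pt (dig c (ix (g (pt 1)))) ≠ g (pt 1) := fun e => by
  rw [← pm_apply hc, ← Equiv.Perm.mul_apply, ← cg.eq, Equiv.Perm.mul_apply, g.injective.eq_iff,
    pm_pt hc (by decide)] at e
  exact h e

theorem cent_y {g : PG} (hg : g ∈ Spor.M12) (cg : Commute g (pm cy)) : ∃ j < 11, g = pm cy ^ j := by
  have v : validP cy = true := by decide +kernel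
  obtain ⟨j, hj, e⟩ := (by decide +kernel : ∀ p ∈ ofMask dod0, pt (dig cy (ix p)) ≠ p →
    ∃ j < 11, p = pt (dig (powP cy j) 1)) (g (pt 1)) (by
      rw [← (mem_M12.1 hg).2]
      exact Finset.smul_mem_smul_finset (a := g) (by decide)) (moved v (by decide +kernel) cg)
  exact ⟨j, hj, cent_eq v (by decide +kernel) (by decide +kernel) (M12_le hg) (M12_le (pow_mem y12 j)) cg
    ((Commute.refl _).pow_left j) (by rw [e, ← (powP_spec v j).2, pm_pt (powP_spec v j).1 (by decide)])⟩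

/-- the centralizer of `cw` -/
def LW : List ℕ := [984818244535754528103549039458486304, 969952412052033243847481939299780672,
  977864963184960973661438897150854272, 136542990408605229321938416058476719, 980275914351787324191492553553580224,
  141579465442925377046235363692761327, 649627416822804807467683621454750979, 630364906925707957862923809354432803,
  145549432566391581484831767573288271, 3135081975744421648290540234979703, 651245563028962197159478659450418563,
  632632848996055423897373917581418915, 23710197571682727821368729684921815, 636760719830047613080164743515222531,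
  5858540332732579364789734734289463, 974380510768821363662145534143076928, 8168847651348769536358300724479607,
  135735443934644301720347253929645711, 140255779635515492312832132057374383, 1795248432537898728475572672376535]

theorem LW_ok : ∀ a ∈ LW, validP a = true ∧ (in12 a = true ∨ out12 a = true) ∧ mulP a cw = mulP cw a ∧
    powP a 10 = idP := by decide +kernel

theorem cent_w {g : PG} (hg : g ∈ AM) (cg : Commute g (pm cw)) : ∃ a ∈ LW, g = pm a := by
  have v : validP cw = true := by decide +kernel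
  obtain ⟨a, ha, e⟩ := (by decide +kernel : ∀ p, pt (dig cw (ix p)) ≠ p → ∃ a ∈ LW, p = pt (dig a 1)) (g (pt 1))
    (moved v (by decide +kernel) cg)
  obtain ⟨va, h1, h2, -⟩ := LW_ok a ha
  exact ⟨a, ha, cent_eq v (by decide +kernel) (by decide +kernel) hg
    (h1.elim (fun h => M12_le (mem12 h)) fun h => (out12_spec h).1) cg
    (by rw [Commute, SemiconjBy, ← pm_mulP va v, h2, pm_mulP v va]) (by rw [e, pm_pt va (by decide)])⟩

theorem dig_eq {a b c d : ℕ} (va : validP a = true) (vb : validP b = true) (vc : validP c = true)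
    (vd : validP d = true) (e : pm a * pm b = pm c * pm d) : ∀ i < 24, dig (mulP a b) i = dig (mulP c d) i :=
  fun i hi => pm_inj (validP_mulP va vb) (validP_mulP vc vd) (by rwa [pm_mulP va vb, pm_mulP vc vd]) hi

/-- the involutions commuting with `cw` -/
theorem cent_w2 {g : PG} (hg : g ∈ AM) (cg : Commute g (pm cw)) (h1 : g ≠ 1) (h2 : g * g = 1) :
    g = pm cu ∨ g = pm cp ∨ g = pm (mulP cu cp) := by
  obtain ⟨a, ha, rfl⟩ := cent_w hg cg
  have va := (LW_ok a ha).1
  rcases (by decide +kernel : ∀ a ∈ LW, (∀ i < 24, dig (mulP a a) i = dig (mulP idP idP) i) →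
    a = idP ∨ a = cu ∨ a = cp ∨ a = mulP cu cp) a ha
    (dig_eq va va validP_idP validP_idP (by rw [h2, pm_idP, mul_one])) with rfl | rfl | rfl | e
  · exact absurd pm_idP h1
  · exact Or.inl rfl
  · exact Or.inr (Or.inl rfl)
  · exact Or.inr (Or.inr (congrArg pm e))

theorem rel_pm {u c k : ℕ} (h : (validP u && validP c && Nat.beq (mulP u (powP c k)) (mulP c u)) = true) :
    pm u * pm c ^ k * (pm u)⁻¹ = pm c := by
  simp only [Bool.and_eq_true, beq_iff] at h
  rw [mul_inv_eq_iff_eq_mul, ← pm_mulP h.1.2 h.1.1, ← h.2, pm_mulP h.1.1 (powP_spec h.1.2 k).1,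
    (powP_spec h.1.2 k).2]

/-- elements of prime order `p` are conjugate into a given subgroup of order `p` -/
theorem conj_syl {G : Type*} [Group G] [Finite G] {M : Subgroup G} {p : ℕ} (hp : p.Prime) {x y : G} (hx : x ∈ M)
    (hy : y ∈ M) (ox : orderOf x = p) (oy : orderOf y = p) (h : ¬ p * p ∣ Nat.card M) :
    ∃ g ∈ M, ∃ k < p, k ≠ 0 ∧ g * x * g⁻¹ = y ^ k := by
  classical
  have s : Syl p M (zpowers y) := Syl.mk' hp (zpowers_le.2 hy) (isPi_of_card_prime hp (by rw [card_zpowers', oy]))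
    fun d => h (by
      rw [← card_mul_relIndex (zpowers_le.2 hy), card_zpowers', oy]
      exact Nat.mul_dvd_mul_left p d)
  obtain ⟨g, hg, e⟩ := Sylow_Jsub hp s (isPi_of_card_prime hp (by rw [card_zpowers', ox])) (zpowers_le.2 hx)
  obtain ⟨k, hk, e⟩ := Finset.mem_image.1 (mem_zpowers_iff_mem_range_orderOf.1 (e (conj_mem_cj g (mem_zpowers x))))
  refine ⟨g, hg, k, oy ▸ Finset.mem_range.1 hk, ?_, e.symm⟩
  rintro rfl
  rw [pow_zero, eq_comm, conj_eq_one_iff] at e
  rw [e, orderOf_one] at ox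
  exact hp.one_lt.ne ox

theorem conj_y {x : PG} (hx : x ∈ AM) (o : orderOf x = 11) : ∃ g ∈ AM, g * x * g⁻¹ = pm cy := by
  obtain ⟨g, hg, k, hk, h0, e⟩ := conj_syl (by decide) hx (M12_le y12) o oy (by rw [card_AM]; decide)
  obtain ⟨a, ha, h⟩ := (by decide +kernel : ∀ k < 11, k ≠ 0 → ∃ a ∈ LW,
    (validP a && validP cy && Nat.beq (mulP a (powP cy k)) (mulP cy a)) = true) k hk h0
  refine ⟨pm a * g, mul_mem ((LW_ok a ha).2.1.elim (fun h => M12_le (mem12 h)) fun h => (out12_spec h).1) hg, ?_⟩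
  rw [← rel_pm h, ← e]; group

theorem conj_w {x : PG} (hx : x ∈ AM) (o : orderOf x = 5) : ∃ g ∈ AM, g * x * g⁻¹ = pm cw := by
  obtain ⟨g, hg, k, hk, h0, e⟩ := conj_syl (by decide) hx (M12_le w12) o ow (by rw [card_AM]; decide)
  obtain ⟨i, -, h⟩ := (by decide +kernel : ∀ k < 5, k ≠ 0 → ∃ i < 4,
    (validP (powP ch i) && validP cw && Nat.beq (mulP (powP ch i) (powP cw k)) (mulP cw (powP ch i))) = true) k hk h0
  refine ⟨pm (powP ch i) * g, mul_mem ?_ hg, ?_⟩
  · rw [(powP_spec (by decide +kernel) i).2]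
    exact pow_mem (M12_le h12) i
  · rw [← rel_pm h, ← e]; group

theorem gen : cl [cy, cw, cu] = Spor.M12 := by
  have h : GensIn [cy, cw, cu] (Stab [] [dod0]) := gensIn_Stab (by decide +kernel)
  rw [M12_eq]
  exact le_antisymm h.cl_le (cl_g12.ge.trans (h.self.of_words [[2, 0, 0, 2, 0, 1, 1, 1, 2, 0, 0, 2, 0, 2],
    [0, 1, 1, 0, 1, 2, 0, 0, 1, 1, 2, 0, 2, 0, 2]] (by decide +kernel)).cl_le)

theorem rel_pm' {u c k : ℕ} (h : (validP u && validP c && Nat.beq (mulP u c) (mulP (powP c k) u)) = true) :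
    pm u * pm c * (pm u)⁻¹ = pm c ^ k := by
  simp only [Bool.and_eq_true, beq_iff] at h
  rw [mul_inv_eq_iff_eq_mul, ← pm_mulP h.1.1 h.1.2, h.2, pm_mulP (powP_spec h.1.2 k).1 h.1.1,
    (powP_spec h.1.2 k).2]

theorem r_wy : pm cw * pm cy * (pm cw)⁻¹ = pm cy ^ 3 := rel_pm' (by decide +kernel)
theorem r_hw : pm ch * pm cw * (pm ch)⁻¹ = pm cw ^ 2 := rel_pm' (by decide +kernel)

theorem comm_of_conj {G : Type*} [Group G] {a b x : G} (h : a * x * a⁻¹ = b * x * b⁻¹) : Commute (a⁻¹ * b) x := by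
  rw [Commute, SemiconjBy, show a⁻¹ * b * x = a⁻¹ * (b * x * b⁻¹) * b by group, ← h]; group

theorem step3 (F : Spor.M12 →* PG) (hi : Function.Injective F) (hm : ∀ x, F x ∈ Spor.M12)
    (hy : F ⟨_, y12⟩ = pm cy) (hw : F ⟨_, w12⟩ = pm cw) (x : Spor.M12) : F x = x := by
  have hu : F ⟨_, u12⟩ = pm cu := by
    have c : Commute (⟨_, u12⟩ : Spor.M12) ⟨_, w12⟩ := Subtype.ext (A.comm_pm (by decide +kernel))
    have s : (⟨_, u12⟩ * ⟨_, u12⟩ : Spor.M12) = 1 := Subtype.ext (by
      change pm cu * pm cu = 1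
      rw [← sq]; exact pm_pow_eq_one (by decide +kernel) (by decide +kernel))
    rcases cent_w2 (M12_le (hm ⟨_, u12⟩)) (hw ▸ c.map F) (by
      rw [Ne, map_eq_one_iff F hi]
      exact fun e => pm_ne (c := cu) (d := idP) 1 (by decide +kernel) ((congrArg Subtype.val e).trans pm_idP.symm))
      (by rw [← map_mul, s, map_one]) with e | e | e
    · exact e
    · exact absurd (e ▸ hm _) (out12_spec (by decide +kernel)).2
    · exact absurd (e ▸ hm _) (out12_spec (by decide +kernel)).2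
  have : cl [cy, cw, cu] ≤ (F.eqLocus Spor.M12.subtype).map Spor.M12.subtype := (closure_le _).2 (by
    rintro _ ⟨c, hc, rfl⟩
    simp only [List.mem_cons, List.not_mem_nil, or_false] at hc
    rcases hc with rfl | rfl | rfl
    · exact ⟨_, hy, rfl⟩
    · exact ⟨_, hw, rfl⟩
    · exact ⟨_, hu, rfl⟩)
  obtain ⟨x', h, e⟩ := this (gen.ge x.2)
  rwa [show x' = x from Subtype.ext e] at h

theorem step2 (F : Spor.M12 →* PG) (hi : Function.Injective F) (hm : ∀ x, F x ∈ Spor.M12)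
    (hy : F ⟨_, y12⟩ = pm cy) : ∃ g ∈ AM, ∀ x, g * F x * g⁻¹ = x := by
  have vy : validP cy = true := by decide +kernel
  have vw : validP cw = true := by decide +kernel
  have e : F ⟨_, w12⟩ * pm cy * (F ⟨_, w12⟩)⁻¹ = pm cy ^ 3 := by
    rw [← hy, ← map_inv, ← map_mul, ← map_mul, ← map_pow]
    exact congrArg F (Subtype.ext r_wy)
  obtain ⟨j, hj, e⟩ := cent_y (mul_mem (inv_mem w12) (hm _)) (comm_of_conj (r_wy.trans e.symm))
  obtain ⟨i, -, h⟩ := (by decide +kernel : ∀ j < 11, ∃ i < 11,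
    mulP (powP cy i) (mulP cw (powP cy j)) = mulP cw (powP cy i)) j hj
  have h := congrArg pm h
  rw [pm_mulP (powP_spec vy i).1 (validP_mulP vw (powP_spec vy j).1), pm_mulP vw (powP_spec vy j).1,
    pm_mulP vw (powP_spec vy i).1, (powP_spec vy i).2, (powP_spec vy j).2, ← e, mul_inv_cancel_left] at h
  have m := M12_le (pow_mem y12 i)
  exact ⟨_, m, step3 ((MulAut.conj (pm cy ^ i)).toMonoidHom.comp F) ((MulAut.conj _).injective.comp hi)
    (fun x => A.conj12 m (hm x)) (by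
      change _ * F _ * _ = _
      rw [hy, ((Commute.refl _).pow_left i).eq, mul_inv_cancel_right]) (mul_inv_eq_iff_eq_mul.2 h)⟩

theorem five0 {h x : PG} (hh : h ∈ AM) (e : h * pm cw * h⁻¹ = pm cw ^ 2) (hx : x ∈ AM) (h1 : x ≠ 1) {n : ℕ}
    (h2 : x ^ 2 ^ n = 1) (c1 : Commute x (pm cw)) (c2 : Commute x h) : x = pm cu := by
  have s : x * x = 1 := by
    obtain ⟨a, ha, rfl⟩ := cent_w hx c1
    have a1 := orderOf_dvd_of_pow_eq_one (pm_pow_eq_one (LW_ok a ha).1 (LW_ok a ha).2.2.2)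
    have a2 : (orderOf (pm a)).Coprime 5 :=
      Nat.Coprime.coprime_dvd_left (orderOf_dvd_of_pow_eq_one h2) (Nat.Coprime.pow_left n (by decide))
    rw [← sq]
    exact orderOf_dvd_iff_pow_eq_one.1 (a2.dvd_of_dvd_mul_right a1)
  obtain ⟨b, hb, e⟩ := cent_w (mul_mem (inv_mem (M12_le h12)) hh) (comm_of_conj (r_hw.trans e.symm))
  have vb : validP (mulP ch b) = true := validP_mulP (by decide +kernel) (LW_ok b hb).1
  rw [inv_mul_eq_iff_eq_mul, ← pm_mulP (by decide +kernel) (LW_ok b hb).1] at e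
  have k := (by decide +kernel : ∀ b ∈ LW, ∀ a ∈ [cp, mulP cu cp],
    ¬ ∀ i < 24, dig (mulP a (mulP ch b)) i = dig (mulP (mulP ch b) a) i) b hb
  rw [e] at c2
  rcases cent_w2 hx c1 h1 s with rfl | rfl | rfl
  · rfl
  · exact (k _ (by simp) (dig_eq (by decide +kernel) vb vb (by decide +kernel) c2)).elim
  · exact (k _ (by simp) (dig_eq (by decide +kernel) vb vb (by decide +kernel) c2)).elim

/-- a `2`-element with a large centralizer is conjugate to `z1` -/
theorem big1 {Y : Subgroup PG} (hY : Y ≤ AM) (hc : 192 ∣ Nat.card Y) {x : PG} (hx : x ∈ AM) (h1 : x ≠ 1) {n : ℕ}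
    (h2 : x ^ 2 ^ n = 1) (c : Y ≤ C{x}) : ∃ g ∈ Spor.M12, g * x * g⁻¹ = emb z1 := by
  obtain ⟨T, hT⟩ := Sylow.exists_subgroup_card_pow_prime (G := Y) 2 (n := 6) (Dvd.dvd.trans (by decide) hc)
  have hT' : Nat.card (T.map Y.subtype) = 2 ^ 6 := by rw [card_map_of_injective Y.subtype_injective, hT]
  have p1 : IsPi {2} (zpowers x) := by
    obtain ⟨k, -, e⟩ := (Nat.dvd_prime_pow Nat.prime_two).1 (orderOf_dvd_of_pow_eq_one h2)
    exact isPi_of_card Nat.prime_two ((card_zpowers' x).trans e)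
  have cT : T.map Y.subtype ≤ C{x} := (map_subtype_le T).trans c
  obtain ⟨g, hg, e⟩ := syl ((p1.sup (isPi_of_card Nat.prime_two hT') (norm_zpowers_of_cent cT)).isPGroup
    Nat.prime_two) (sup_le (zpowers_le.2 hx) ((map_subtype_le T).trans hY))
  obtain ⟨s, hs⟩ := e (conj_mem_cj g (mem_sup_left (mem_zpowers x)))
  have s1 : s ≠ 1 := by
    rintro rfl
    rw [map_one, eq_comm, conj_eq_one_iff] at hs
    exact h1 hs
  have b : 64 ≤ Nat.card C{s} := by
    rw [← card_map_of_injective emb_inj, show 64 = 2 ^ 6 from rfl, ← hT', ← card_cj g]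
    refine card_le fun y hy => ?_
    obtain ⟨u, rfl⟩ := e (cj_mono g le_sup_right hy)
    have := cj_mono g cT hy
    rw [cj_C1, ← hs, mem_C1, ← map_mul, ← map_mul] at this
    exact ⟨u, mem_C1.2 (emb_inj this), rfl⟩
  have b' : 64 ≤ (Finset.univ.filter fun u : Ph => u * s = s * u).card := by
    rw [← Nat.card_eq_finsetCard]
    exact b.trans_eq (Nat.card_congr (Equiv.subtypeEquivRight fun u => by simp [mem_C1]))
  obtain ⟨k, hk, e⟩ := zc_conj ((by decide +kernel : ∀ s : Ph, s ≠ 1 →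
    64 ≤ (Finset.univ.filter fun u : Ph => u * s = s * u).card → s.zc) s s1 b')
  exact ⟨k⁻¹ * g, mul_mem (inv_mem hk) hg, by
    rw [show k⁻¹ * g * x * (k⁻¹ * g)⁻¹ = k⁻¹ * (g * x * g⁻¹) * k by group, ← hs, ← e]; group⟩

theorem big2 {Y : Subgroup PG} (hY : Y ≤ AM) (hc : 192 ∣ Nat.card Y) (c : Y ≤ C{emb z1}) {x : PG} (hx : x ∈ AM)
    (h1 : x ≠ 1) (c' : Y ≤ C{x}) : x = emb z1 := by
  have r : Y ≤ (NX.emb : N1 →* PG).range := fun y hy => cent_z (hY hy) (mem_C1.1 (c hy))
  have e : Nat.card (Y.comap (NX.emb : N1 →* PG)) = Nat.card Y := by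
    rw [← card_map_of_injective NX.emb_inj, map_comap_eq_self r]
  have i := (Y.comap (NX.emb : N1 →* PG)).card_mul_index
  rw [e, NX.card] at i
  have k : ∀ m : N1, NX.emb (m * m) ∈ Y := fun m => by
    obtain ⟨d, hd⟩ := hc
    have : d * (Y.comap (NX.emb : N1 →* PG)).index = 2 := by rw [hd, mul_assoc] at i; omega
    rcases (Nat.dvd_prime Nat.prime_two).1 (Dvd.intro_left d this) with h | h
    · exact (index_eq_one.1 h).ge (mem_top _)
    · exact mul_self_mem_of_index_two h m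
  obtain ⟨n, rfl⟩ := cent_z hx (by
    rw [← NX.emb_of (X := X1), show (NX.of z1 : N1) = NX.of j1 * NX.of j1 by decide +kernel]
    exact (mem_C1.1 (c' (k _))).symm)
  have k' : ∀ m : N1, m * m * n = n * (m * m) := fun m =>
    NX.emb_inj (by rw [map_mul _ _ n, map_mul _ n]; exact mem_C1.1 (c' (k m)))
  rcases (by decide +kernel : ∀ n : N1, (∀ m ∈ [(NX.r : N1), NX.of j2 * NX.r * NX.of j2⁻¹,
    NX.of j1 * NX.r * NX.of j1⁻¹, NX.of sg * NX.r * NX.of sg⁻¹], m * m * n = n * (m * m)) → n = 1 ∨ n = NX.of z1)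
    n fun m _ => k' m with rfl | rfl
  · exact absurd (map_one _) h1
  · exact NX.emb_of _

end B

open B

theorem aut12 (α : MulAut Spor.M12) : ∃ g ∈ AM, ∀ x : Spor.M12, ((α x : Spor.M12) : PG) = g * x * g⁻¹ := by
  obtain ⟨g, hg, e⟩ := conj_y (M12_le (α ⟨_, y12⟩).2) (by
    rw [orderOf_coe, MulEquiv.orderOf_eq, orderOf_mk, oy])
  obtain ⟨k, hk, h⟩ := step2 ((MulAut.conj g).toMonoidHom.comp (Spor.M12.subtype.comp α.toMonoidHom))
    ((MulAut.conj g).injective.comp (Subtype.val_injective.comp α.injective)) (fun x => A.conj12 hg (α x).2) e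
  refine ⟨(k * g)⁻¹, inv_mem (mul_mem hk hg), fun x => ?_⟩
  rw [← h x]
  change _ = _ * (k * (g * (α x : PG) * g⁻¹) * k⁻¹) * _
  group

theorem kap {G : Type*} [Group G] (l : Spor.M12 →* G) (hl : Function.Injective l) :
    ∃ κ : N[l.range] →* PG, (∀ g, κ g ∈ AM) ∧
      ∀ (g : N[l.range]) (x y : Spor.M12), g.1 * l x * g.1⁻¹ = l y ↔ κ g * x * (κ g)⁻¹ = y := by
  have ex : ∀ g : N[l.range], ∃ k ∈ AM, ∀ x y : Spor.M12, g.1 * l x * g.1⁻¹ = l y ↔ k * x * k⁻¹ = y := fun g => by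
    let α : MulAut Spor.M12 := (MonoidHom.ofInjective hl).trans
      ((l.range.normalizerMonoidHom g).trans (MonoidHom.ofInjective hl).symm)
    have a : ∀ x, l (α x) = g.1 * l x * g.1⁻¹ := fun x => MonoidHom.apply_ofInjective_symm hl _
    obtain ⟨k, hk, h⟩ := aut12 α
    exact ⟨k, hk, fun x y => by rw [← a, ← h, hl.eq_iff, Subtype.val_inj]⟩
  choose κ h1 h2 using ex
  refine ⟨MonoidHom.mk' κ fun a b => ?_, h1, h2⟩
  refine (inv_mul_eq_one.1 (cent12 (mul_mem (inv_mem (mul_mem (h1 a) (h1 b))) (h1 _)) fun x hx =>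
    comm_of_conj ?_)).symm
  obtain ⟨y, hy⟩ := conj_mem b.2 ⟨⟨x, hx⟩, rfl⟩
  obtain ⟨z, hz⟩ := conj_mem a.2 ⟨y, rfl⟩
  rw [(h2 (a * b) ⟨x, hx⟩ z).1 (by rw [hz, hy, coe_mul]; group), ← (h2 a y z).1 hz.symm,
    ← (h2 b ⟨x, hx⟩ y).1 hy.symm]
  group

theorem big {Y : Subgroup PG} (hY : Y ≤ AM) (hc : 192 ∣ Nat.card Y) {x x' : PG} (hx : x ∈ AM) (hx' : x' ∈ AM)
    (h1 : x ≠ 1) (h1' : x' ≠ 1) {n : ℕ} (h2 : x ^ 2 ^ n = 1) (h2' : x' ^ 2 ^ n = 1) (c : Y ≤ C{x}) (c' : Y ≤ C{x'}) :
    x = x' := by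
  obtain ⟨g, hg, e⟩ := big1 hY hc hx h1 h2 c
  have := big2 (Y := cj g Y) (cj_le_of_mem hY (M12_le hg)) (by rwa [card_cj]) (by rw [← e, ← cj_C1]; exact cj_mono g c)
    (x := g * x' * g⁻¹) (mul_mem (mul_mem (M12_le hg) hx') (inv_mem (M12_le hg))) (mt conj_eq_one_iff.1 h1')
    (by rw [← cj_C1]; exact cj_mono g c')
  exact mul_left_cancel (mul_right_cancel (e.trans this.symm))

theorem five {y h x x' : PG} (hy : y ∈ AM) (hh : h ∈ AM) (o : orderOf y = 5) (e : h * y * h⁻¹ = y ^ 2)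
    (hx : x ∈ AM) (hx' : x' ∈ AM) (h1 : x ≠ 1) (h1' : x' ≠ 1) {n : ℕ} (h2 : x ^ 2 ^ n = 1) (h2' : x' ^ 2 ^ n = 1)
    (c1 : Commute x y) (c2 : Commute x h) (c1' : Commute x' y) (c2' : Commute x' h) : x = x' := by
  obtain ⟨g, hg, a⟩ := conj_w hy o
  have m : ∀ {u}, u ∈ AM → g * u * g⁻¹ ∈ AM := fun hu => mul_mem (mul_mem hg hu) (inv_mem hg)
  have k : ∀ {x}, x ∈ AM → x ≠ 1 → x ^ 2 ^ n = 1 → Commute x y → Commute x h → g * x * g⁻¹ = pm cu :=
    fun hx h1 h2 c1 c2 => five0 (m hh) (by rw [← a, conj_pow, ← e]; group) (m hx) (mt conj_eq_one_iff.1 h1) (n := n)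
      (by rw [conj_pow, h2, mul_one, mul_inv_cancel]) (by rw [← a]; exact c1.conj g) (c2.conj g)
  exact mul_left_cancel (mul_right_cancel ((k hx h1 h2 c1 c2).trans (k hx' h1' h2' c1' c2').symm))

theorem exists_five : ∃ y ∈ Spor.M12, ∃ h ∈ Spor.M12, orderOf y = 5 ∧ h * y * h⁻¹ = y ^ 2 ∧ Commute y (emb i0) ∧
    Commute h (emb i0) ∧ ∃ g ∈ Spor.M12, Commute g (emb i0) ∧ ∃ k : ℕ, y * (g * y ^ k * g⁻¹) = emb z1 := by
  refine ⟨pm 859920346806634015306089797970332160, mem12 (by decide +kernel), pm 422504712466236795416381451232938080,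
    mem12 (by decide +kernel), ord_pm (by decide) (by decide +kernel), rel_pm' (by decide +kernel),
    A.comm_pm (d := cd i0) (by decide +kernel), A.comm_pm (d := cd i0) (by decide +kernel),
    pm 817187951441983086647870363816723880, mem12 (by decide +kernel), A.comm_pm (d := cd i0) (by decide +kernel),
    3, ?_⟩
  have v1 : validP 859920346806634015306089797970332160 = true := by decide +kernel
  have v2 : validP 817187951441983086647870363816723880 = true := by decide +kernel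
  rw [← mul_assoc, mul_inv_eq_iff_eq_mul, ← (powP_spec v1 3).2, ← pm_mulP v2 (powP_spec v1 3).1,
    ← pm_mulP v1 (validP_mulP v2 (powP_spec v1 3).1)]
  exact (pm_eq_of (by decide +kernel)).trans (pm_mulP (cd_AM z1).1 v2)

end H5.MC
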