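import Mathlib
import Cfsg.Prelude.Def_Characters
import Cfsg.Agent.H3.PNil
import Cfsg.Agent.H5.Misc
import Cfsg.Agent.H5.RingFun
import Cfsg.Agent.S0873

/-! Solomon's, Brauer's and Artin's induction theorems. -/

set_option autoImplicit false
open Cfsg H4
open scoped ComplexConjugate

namespace H5

universe u

variable {G : Type*} [Group G]

theorem exists_coeff_of_mem_closure {ι A : Type*} [Fintype ι] [AddCommGroup A] [Module ℂ A]
    (F : ι → A) (P : ι → Prop) {f : A} (hf : f ∈ AddSubgroup.closure {g | ∃ i, P i ∧ g = F i}) :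
    ∃ a : ι → ℤ, (∀ i, a i ≠ 0 → P i) ∧ f = ∑ i, (a i : ℂ) • F i := by
  classical
  induction hf using AddSubgroup.closure_induction with
  | mem x hx =>
    obtain ⟨i, hi, rfl⟩ := hx
    refine ⟨Pi.single i 1, fun j hj => ?_, ?_⟩
    · by_cases h : j = i
      · exact h ▸ hi
      · exact absurd (Pi.single_eq_of_ne h _) hj
    · rw [Finset.sum_eq_single i (fun j _ hj => by simp [Pi.single_eq_of_ne hj]) (by simp)]
      simp
  | zero => exact ⟨0, by simp, by simp⟩
  | add x y _ _ hx hy =>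
    obtain ⟨a, ha, rfl⟩ := hx
    obtain ⟨b, hb, rfl⟩ := hy
    refine ⟨a + b, fun i hi => ?_, by simp [add_smul, Finset.sum_add_distrib]⟩
    by_cases h : a i = 0
    · exact hb i (by simpa [h] using hi)
    · exact ha i h
  | neg x _ hx =>
    obtain ⟨a, ha, rfl⟩ := hx
    exact ⟨-a, fun i hi => ha i (by simpa using hi), by simp⟩

theorem exists_list_of_mem_closure {ι A : Type*} {B : ι → Type*} [AddCommGroup A] [Module ℂ A]
    (F : ∀ i, B i → A) (P : ∀ i, B i → Prop) {f : A}
    (hf : f ∈ AddSubgroup.closure {g | ∃ i b, P i b ∧ g = F i b}) :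
    ∃ l : List ((i : ι) × (B i × ℤ)), (∀ t ∈ l, P t.1 t.2.1) ∧
      f = (l.map fun t => (t.2.2 : ℂ) • F t.1 t.2.1).sum := by
  induction hf using AddSubgroup.closure_induction with
  | mem x hx =>
    obtain ⟨i, b, hi, rfl⟩ := hx
    exact ⟨[⟨i, b, 1⟩], by simpa using hi, by simp⟩
  | zero => exact ⟨[], by simp, by simp⟩
  | add x y _ _ hx hy =>
    obtain ⟨a, ha, rfl⟩ := hx
    obtain ⟨b, hb, rfl⟩ := hy
    refine ⟨a ++ b, fun t ht => (List.mem_append.mp ht).elim (ha t) (hb t), by simp⟩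
  | neg x hx' hx =>
    clear hx'
    obtain ⟨a, ha, rfl⟩ := hx
    refine ⟨a.map fun t => ⟨t.1, t.2.1, -t.2.2⟩, fun t ht => ?_, ?_⟩
    · obtain ⟨s, hs, rfl⟩ := List.mem_map.mp ht
      exact ha s hs
    · clear ha
      induction a with
      | nil => simp
      | cons t a ih =>
        simp only [List.map_cons, List.sum_cons, ← ih]
        simp [add_comm]

theorem mul_mem_closure_of_mul {A : Type*} [Ring A] {S : Set A}
    (h : ∀ f ∈ S, ∀ g ∈ S, f * g ∈ AddSubgroup.closure S) :
    ∀ f ∈ AddSubgroup.closure S, ∀ g ∈ AddSubgroup.closure S, f * g ∈ AddSubgroup.closure S := by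
  intro f hf g hg
  induction hf, hg using AddSubgroup.closure_induction₂ with
  | mem x y hx hy => exact h x hx y hy
  | zero_left => simp
  | zero_right => simp
  | add_left x y z _ _ _ h1 h2 => rw [add_mul]; exact add_mem h1 h2
  | add_right x y z _ _ _ h1 h2 => rw [mul_add]; exact add_mem h1 h2
  | neg_left x y _ _ h1 => rw [neg_mul]; exact neg_mem h1
  | neg_right x y _ _ h1 => rw [mul_neg]; exact neg_mem h1

theorem indFun_one_mul_indFun_one [Fintype G] (H K : Subgroup G)
    [Fintype (MulAction.orbitRel.Quotient H (G ⧸ K))] :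
    indFun H (fun _ => 1) * indFun K (fun _ => 1) =
      ∑ ω : MulAction.orbitRel.Quotient H (G ⧸ K),
        indFun ((MulAction.stabilizer H (Quotient.out ω)).map H.subtype) (fun _ => 1) := by
  classical
  rw [← indFun_mul_res H _ (indFun_isClassFunction K _)]
  have h1 : (fun h : H => 1 * indFun K (fun _ => 1) h) = ∑ ω : MulAction.orbitRel.Quotient H (G ⧸ K),
      indFun (MulAction.stabilizer H (Quotient.out ω)) (fun _ => 1) := by
    funext h
    rw [one_mul, indFun_one_eq_card_fixedBy, Finset.sum_apply, ← card_fixedBy_eq_sum_orbits]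
    rfl
  rw [h1, H5.indFun_sum]
  exact Finset.sum_congr rfl fun ω _ => H5.indFun_indFun_map H _ _

/-- `H` is `p`-quasi-elementary (extrinsic form). -/
def QE (p : ℕ) (H : Subgroup G) : Prop :=
  ∃ C : Subgroup G, C ≤ H ∧ H ≤ Subgroup.normalizer (C : Set G) ∧ IsCyclic C ∧
    Nat.Coprime (Nat.card C) p ∧ ∃ k : ℕ, C.relIndex H = p ^ k

theorem QE.of_le [Finite G] {p : ℕ} (hp : p.Prime) {H U : Subgroup G} (h : QE p H) (hU : U ≤ H) :
    QE p U := by
  obtain ⟨C, h1, h2, h3, h4, k, h5⟩ := h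
  refine ⟨C ⊓ U, inf_le_right, ?_, Subgroup.isCyclic_of_le inf_le_left,
    h4.coprime_dvd_left (Subgroup.card_dvd_of_le inf_le_left), ?_⟩
  · exact (le_inf (hU.trans h2) Subgroup.le_normalizer).trans Subgroup.inf_normalizer_le_normalizer_inf
  · rw [Subgroup.inf_relIndex_right]
    have : (C.subgroupOf H).Normal := Subgroup.normal_subgroupOf_of_le_normalizer h2
    have h6 : C.relIndex U ∣ C.relIndex H := by
      rw [← Subgroup.relIndex_subgroupOf hU]
      exact Subgroup.relIndex_dvd_index_of_normal _ _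
    obtain ⟨j, -, hj⟩ := (Nat.dvd_prime_pow hp).mp (h5 ▸ h6)
    exact ⟨j, hj⟩

theorem card_fixedBy_pow_modEq (X : Type*) [MulAction G X] [Finite X] (x : G) {p : ℕ}
    (hp : p.Prime) (k : ℕ) : Nat.card (MulAction.fixedBy X (x ^ p ^ k)) ≡
      Nat.card (MulAction.fixedBy X x) [MOD p] := by
  classical
  have := Fact.mk hp
  have := Fintype.ofFinite X
  let f : Function.End (MulAction.fixedBy X (x ^ p ^ k)) := fun y => ⟨x • y.1, by
    have := y.2
    rw [MulAction.mem_fixedBy] at this ⊢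
    rw [smul_smul, ← pow_succ, pow_succ', mul_smul, this]⟩
  have hf : ∀ (n : ℕ) y, ((f ^ n) y).1 = x ^ n • y.1 := by
    intro n
    induction n with
    | zero => intro y; rw [pow_zero, pow_zero, one_smul]; rfl
    | succ n ih => intro y; rw [pow_succ', pow_succ', mul_smul, ← ih]; rfl
  have h := Equiv.Perm.card_fixedPoints_modEq (f := f) (p := p) (n := k)
    (funext fun y => Subtype.ext ((hf _ y).trans y.2))
  rw [← Nat.card_eq_fintype_card, ← Nat.card_eq_fintype_card] at h
  refine h.trans ?_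
  rw [Nat.card_congr (β := MulAction.fixedBy X x)
   
    { toFun := fun y => ⟨y.1.1, congrArg Subtype.val y.2⟩
      invFun := fun y => ⟨⟨y.1, by
          simpa only [zpow_natCast] using
            MulAction.fixedBy_subset_fixedBy_zpow X x (p ^ k : ℕ) y.2⟩,
        Subtype.ext y.2⟩
      left_inv := fun _ => rfl
      right_inv := fun _ => rfl }]

theorem exists_QE_not_dvd [Fintype G] (x : G) {p : ℕ} (hp : p.Prime) :
    ∃ H : Subgroup G, QE p H ∧ ∃ n : ℕ, indFun H (fun _ => 1) x = (n : ℂ) ∧ ¬ p ∣ n := by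
  classical
  have := Fact.mk hp
  obtain ⟨k, hk⟩ := H3.exists_pow_orderOf_coprime p x
  set y := x ^ p ^ k with hy
  set C := Subgroup.zpowers y with hC
  set N := Subgroup.normalizer (C : Set G) with hN
  obtain ⟨Q⟩ : Nonempty (Sylow p (N ⧸ C.subgroupOf N)) := inferInstance
  let H' := (Q : Subgroup (N ⧸ C.subgroupOf N)).comap (QuotientGroup.mk' _)
  let H := H'.map N.subtype
  have hHN : H ≤ N := Subgroup.map_subtype_le _
  have hCH : C ≤ H := fun c hc =>
    ⟨⟨c, Subgroup.le_normalizer hc⟩, H2.le_comap_mk' _ _ hc, rfl⟩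
  obtain ⟨j, hj⟩ := IsPGroup.iff_card.mp Q.isPGroup'
  have h1 : C.relIndex H = p ^ j := by
    have h2 := H2.card_mul_relIndex hCH
    rw [H2.card_map_subtype, H2.card_comap_mk', H2.card_subgroupOf_of_le Subgroup.le_normalizer,
      hj] at h2
    exact Nat.eq_of_mul_eq_mul_left Nat.card_pos h2
  have h2 : ¬ p ∣ H'.index := by
    rw [Subgroup.index_comap_of_surjective _ (QuotientGroup.mk'_surjective _)]
    exact Q.not_dvd_index
  refine ⟨H, ⟨C, hCH, hHN, inferInstance, by rwa [Nat.card_zpowers], j, h1⟩,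
    _, indFun_one_eq_card_fixedBy H x, fun hd => h2 ?_⟩
  have h3 : (Nat.card (MulAction.fixedBy (G ⧸ H) y) : ℂ) = H'.index := by
    rw [← indFun_one_eq_card_fixedBy, indFun_one_apply, H2.card_map_subtype,
      inv_mul_eq_iff_eq_mul₀ (card_ne_zero _), ← Nat.cast_mul, Subgroup.card_mul_index,
      Nat.card_eq_fintype_card, Fintype.card_subtype]
    congr 2
    refine Finset.filter_congr fun g _ => ⟨fun hg => ?_, fun hg => hCH ?_⟩
    · have hn : (C.subgroupOf H).Normal := Subgroup.normal_subgroupOf_of_le_normalizer hHN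
      have h4 : (g⁻¹ * y * g) ^ p ^ j ∈ C := by
        rw [← h1]
        exact Subgroup.pow_index_mem (H := C.subgroupOf H) ⟨_, hg⟩
      have h5 : g⁻¹ * y * g ∈ C := H3.mem_of_pow_mem_of_coprime h4 (by
        have : orderOf (g⁻¹ * y * g) = orderOf y := by
          simpa using (MulAut.conj g⁻¹).orderOf_eq y
        rw [this]; exact hk.pow_right j)
      rw [← inv_mem_iff]
      refine Subgroup.mem_normalizer_fintype fun c hc => ?_
      obtain ⟨i, rfl⟩ := Subgroup.mem_zpowers_iff.mp hc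
      rw [← conj_zpow, inv_inv]
      exact zpow_mem h5 i
    · simpa using (Subgroup.mem_normalizer_iff.mp (inv_mem hg) y).mp (Subgroup.mem_zpowers y)
  rw [← Nat.cast_injective h3]
  exact (Nat.ModEq.dvd_iff (card_fixedBy_pow_modEq (G ⧸ H) x hp k) dvd_rfl).mpr hd

/-- Solomon's induction theorem. -/
theorem solomon [Fintype G] {p : ℕ} (hp : p.Prime) : ∃ m : ℤ, ¬ (p : ℤ) ∣ m ∧
    (fun _ : G => (m : ℂ)) ∈
      AddSubgroup.closure {g | ∃ H : Subgroup G, QE p H ∧ g = indFun H (fun _ => 1)} := by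
  classical
  choose H hH n hn hn' using fun x : G => exists_QE_not_dvd x hp
  refine ⟨∏ x, (n x : ℤ), ?_, const_prod_mem_of_mul_closed _ (mul_mem_closure_of_mul ?_)
    (fun x => n x) (fun x => indFun (H x) fun _ => 1)
    (fun x => AddSubgroup.subset_closure ⟨H x, hH x, rfl⟩) (fun x => by simpa using hn x)⟩
  · rw [(Nat.prime_iff_prime_int.mp hp).dvd_finsetProd_iff]
    rintro ⟨x, -, hx⟩
    exact hn' x (by exact_mod_cast hx)
  · rintro _ ⟨U, hU, rfl⟩ _ ⟨K, -, rfl⟩
    have := Fintype.ofFinite (MulAction.orbitRel.Quotient U (G ⧸ K))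
    rw [indFun_one_mul_indFun_one]
    exact sum_mem fun ω _ => AddSubgroup.subset_closure
      ⟨_, hU.of_le hp (Subgroup.map_subtype_le _), rfl⟩

/-- The span of the characters induced from the subgroups of a family. -/
def IndSpan [Fintype G] (𝓔 : Subgroup G → Prop) : AddSubgroup (G → ℂ) :=
  AddSubgroup.closure {g | ∃ (E : Subgroup G) (φ : E → ℂ), (𝓔 E ∧ IsCharacter E φ) ∧ g = indFun E φ}

theorem indFun_mem_indSpan [Fintype G] {𝓔 : Subgroup G → Prop} {E : Subgroup G} (hE : 𝓔 E)
    {φ : E → ℂ} (hφ : IsGeneralizedCharacter E φ) : indFun E φ ∈ IndSpan 𝓔 := by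
  obtain ⟨a, b, ha, hb, rfl⟩ := hφ
  rw [H5.indFun_sub]
  exact sub_mem (AddSubgroup.subset_closure ⟨E, a, ⟨hE, ha⟩, rfl⟩)
    (AddSubgroup.subset_closure ⟨E, b, ⟨hE, hb⟩, rfl⟩)

theorem indSpan_induction [Fintype G] {𝓔 : Subgroup G → Prop} (R : AddSubgroup (G → ℂ))
    (h : ∀ (E : Subgroup G) (φ : E → ℂ), 𝓔 E → IsCharacter E φ → indFun E φ ∈ R) :
    IndSpan 𝓔 ≤ R := by
  rw [IndSpan, AddSubgroup.closure_le]
  rintro _ ⟨E, φ, ⟨h1, h2⟩, rfl⟩
  exact h E φ h1 h2

theorem indSpan_mono [Fintype G] {𝓔 𝓕 : Subgroup G → Prop} (h : ∀ E, 𝓔 E → 𝓕 E) :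
    IndSpan 𝓔 ≤ IndSpan 𝓕 :=
  indSpan_induction _ fun E _ h1 h2 => indFun_mem_indSpan (h E h1) h2.isGen

theorem mul_mem_of_mem_indSpan [Fintype G] {𝓔 : Subgroup G → Prop} (R : AddSubgroup (G → ℂ))
    {χ : G → ℂ} (hχ : IsClassFunction G χ)
    (h : ∀ (E : Subgroup G) (φ : E → ℂ), 𝓔 E → IsCharacter E φ →
      indFun E (fun x : E => χ x * φ x) ∈ R) {f : G → ℂ} (hf : f ∈ IndSpan 𝓔) : χ * f ∈ R :=
  indSpan_induction (R.comap (AddMonoidHom.mulLeft χ)) (fun E φ h1 h2 => by
    change χ * _ ∈ R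
    rw [← indFun_res_mul E φ hχ]
    exact h E φ h1 h2) hf

theorem mul_mem_indSpan [Fintype G] {𝓔 : Subgroup G → Prop} {χ : G → ℂ}
    (hχ : IsGeneralizedCharacter G χ) {f : G → ℂ} (hf : f ∈ IndSpan 𝓔) : χ * f ∈ IndSpan 𝓔 :=
  mul_mem_of_mem_indSpan _ hχ.classFun
    (fun E _ h1 h2 => indFun_mem_indSpan h1 ((hχ.restrict E).mul h2.isGen)) hf

theorem indFun_mem_indSpan_of_mem [Fintype G] {𝓔 : Subgroup G → Prop} (T : Subgroup G) [Fintype T]
    {𝓕 : Subgroup T → Prop} (h : ∀ E, 𝓕 E → 𝓔 (E.map T.subtype)) {f : T → ℂ}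
    (hf : f ∈ IndSpan 𝓕) : indFun T f ∈ IndSpan 𝓔 :=
  indSpan_induction ((IndSpan 𝓔).comap (H5.indL T).toAddMonoidHom) (fun E φ h1 h2 => by
    change indFun T (indFun E φ) ∈ IndSpan 𝓔
    rw [H5.indFun_indFun_map]
    exact indFun_mem_indSpan (h E h1)
      (h2.comp (E.equivMapOfInjective T.subtype T.subtype_injective).symm.toMonoidHom).isGen) hf

theorem isGen_of_mem_indSpan [Fintype G] {𝓔 : Subgroup G → Prop} {f : G → ℂ}
    (hf : f ∈ IndSpan 𝓔) : IsGeneralizedCharacter G f := by
  rw [isGen_iff_mem_span]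
  exact indSpan_induction (Submodule.span ℤ _).toAddSubgroup
    (fun E φ _ h2 => isGen_iff_mem_span.mp h2.indFun.isGen) hf

theorem isElementary_of_equiv {p : ℕ} {E F : Type*} [Group E] [Group F] (e : E ≃* F)
    (h : IsElementary p E) : IsElementary p F := by
  obtain ⟨x, h1, h2, k, h3⟩ := h
  refine ⟨e x, ?_, by rwa [e.orderOf_eq], k, ?_⟩
  · rw [Subgroup.mem_center_iff] at h1 ⊢
    intro y
    obtain ⟨z, rfl⟩ := e.surjective y
    rw [← map_mul, h1, map_mul]
  · rw [← h3, ← Subgroup.index_map_equiv (Subgroup.zpowers x) e, MonoidHom.map_zpowers]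
    rfl

theorem isElementary_map_subtype {p : ℕ} {T : Subgroup G} {E : Subgroup T}
    (h : IsElementary p E) : IsElementary p (E.map T.subtype) :=
  isElementary_of_equiv (E.equivMapOfInjective T.subtype T.subtype_injective) h

theorem isNilpotent_of_isElementary [Finite G] {p : ℕ} (hp : p.Prime) (h : IsElementary p G) :
    Group.IsNilpotent G := by
  obtain ⟨x, h1, -, k, h3⟩ := h
  have := Fact.mk hp
  have h4 : Subgroup.zpowers x ≤ Subgroup.center G := by rwa [Subgroup.zpowers_le]
  have := H2.normal_of_le_center h4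
  have h5 : IsPGroup p (G ⧸ Subgroup.zpowers x) := IsPGroup.of_card h3
  have := h5.isNilpotent
  exact Subgroup.isNilpotent_of_ker_le_center (QuotientGroup.mk' (Subgroup.zpowers x))
    (by rwa [QuotientGroup.ker_mk'])

theorem QE.top {p : ℕ} {H : Subgroup G} (h : QE p H) : QE p (⊤ : Subgroup H) := by
  obtain ⟨C, h1, h2, h3, h4, k, h5⟩ := h
  have := Subgroup.normal_subgroupOf_of_le_normalizer h2
  refine ⟨C.subgroupOf H, le_top, by rw [Subgroup.normalizer_eq_top],
    isCyclic_of_injective (Subgroup.subgroupOfEquivOfLe h1).toMonoidHom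
      (Subgroup.subgroupOfEquivOfLe h1).injective,
    by rwa [H2.card_subgroupOf_of_le h1], k, by rwa [Subgroup.relIndex_top_right]⟩

theorem isElementary_sup [Finite G] {p : ℕ} (hp : p.Prime) {P Z : Subgroup G} (hP : IsPGroup p P)
    (hZ : IsCyclic Z) (hcop : (Nat.card Z).Coprime p) (hc : Z ≤ Subgroup.centralizer (P : Set G)) :
    IsElementary p ↥(P ⊔ Z) := by
  have := Fact.mk hp
  obtain ⟨z, hz⟩ := (Subgroup.isCyclic_iff_exists_zpowers_eq_top Z).mp hZ
  have hzZ : z ∈ Z := hz ▸ Subgroup.mem_zpowers z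
  refine ⟨⟨z, Subgroup.mem_sup_right hzZ⟩, ?_, ?_, ?_⟩
  · rw [Subgroup.mem_center_iff]
    intro y
    have : P ⊔ Z ≤ Subgroup.centralizer {z} := sup_le
      (fun a ha => Subgroup.mem_centralizer_singleton_iff.mpr (hc hzZ a ha))
      (by rw [← hz, Subgroup.zpowers_le, Subgroup.mem_centralizer_singleton_iff])
    exact Subtype.ext (Subgroup.mem_centralizer_singleton_iff.mp (this y.2))
  · rwa [Subgroup.orderOf_mk, ← Nat.card_zpowers, hz]
  · have h1 : Subgroup.zpowers (⟨z, Subgroup.mem_sup_right hzZ⟩ : ↥(P ⊔ Z)) = Z.subgroupOf _ := by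
      apply Subgroup.map_injective (P ⊔ Z).subtype_injective
      rw [MonoidHom.map_zpowers, Subgroup.subgroupOf_map_subtype, inf_eq_left.mpr le_sup_right]
      exact hz
    rw [h1]
    change ∃ k, Z.relIndex (P ⊔ Z) = p ^ k
    rw [H2.relIndex_sup_of_le_normalizer
      ((Subgroup.le_centralizer_iff.mp hc).trans (Subgroup.centralizer_le_normalizer _))]
    obtain ⟨k, hk⟩ := IsPGroup.iff_card.mp hP
    obtain ⟨j, -, hj⟩ := (Nat.dvd_prime_pow hp).mp (hk ▸ Subgroup.relIndex_dvd_card Z P)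
    exact ⟨j, hj⟩

theorem one_mem_indSpan_aux {p : ℕ} (hp : p.Prime) (n : ℕ) : ∀ (G : Type u) [Group G] [Fintype G],
    Nat.card G = n → QE p (⊤ : Subgroup G) →
      (fun _ => 1) ∈ IndSpan (fun E : Subgroup G => IsElementary p E) := by
  induction n using Nat.strong_induction_on with
  | _ n ih =>
  intro G _ _ hn hG
  classical
  have := Fact.mk hp
  obtain ⟨C, -, h2, h3, h4, k, h5⟩ := id hG
  have hC : C.Normal := Subgroup.normalizer_eq_top_iff.mp (top_le_iff.mp h2)
  rw [Subgroup.relIndex_top_right] at h5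
  obtain ⟨P⟩ : Nonempty (Sylow p G) := inferInstance
  have hCP : C ⊔ P = ⊤ := by
    rw [← Subgroup.index_eq_one]
    exact Nat.eq_one_of_dvd_coprimes ((H3.sylow_index_coprime P).pow_right k)
      (Subgroup.index_dvd_of_le le_sup_right) (h5 ▸ Subgroup.index_dvd_of_le le_sup_left)
  have hdec := exists_mul_of_sup_eq_top' (H := P) (K := C) (by rw [sup_comm, hCP])
  have hcomm : ∀ a b : C, a * b = b * a := fun a b => mul_comm' a b
  set Z := C ⊓ Subgroup.centralizer (P : Set G) with hZ
  have hZn : Z.Normal := normal_of_mul_eq_top hdec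
    (fun c hc z hz => by
      have : c * z = z * c := congrArg Subtype.val (hcomm ⟨c, hc⟩ ⟨z, hz.1⟩)
      rwa [this, mul_inv_cancel_right])
    (fun c hc z hz => by rwa [hz.2 c hc, mul_inv_cancel_right])
  set E := (P : Subgroup G) ⊔ Z with hE
  have hEe : IsElementary p E := isElementary_sup hp P.isPGroup'
    (Subgroup.isCyclic_of_le inf_le_left)
    (h4.coprime_dvd_left (Subgroup.card_dvd_of_le inf_le_left)) inf_le_right
  have hπ := isCharacter_indFun E (isCharacter_one (G := E))
  have h6 : (fun _ : G => (1 : ℂ)) = indFun E (fun _ => 1) - ∑ ξ ∈ Finset.univ.erase (irrOne G),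
      classInner (indFun E fun _ => 1) ξ • (ξ : G → ℂ) := by
    rw [eq_sub_iff_add_eq]
    conv_rhs => rw [hπ.classFun.eq_sum, ← Finset.add_sum_erase _ _ (Finset.mem_univ (irrOne G))]
    rw [irrOne_coe, H5.classInner_indFun_left E _ (isClassFunction_const 1), classInner_one_one,
      one_smul]
  rw [h6]
  refine sub_mem (indFun_mem_indSpan hEe isGen_one) (sum_mem fun ξ hξ => ?_)
  obtain ⟨m, hm⟩ := hπ.inner_nat ξ.2.isCharacter
  by_cases h0 : classInner (indFun E fun _ => 1) ξ = 0
  · rw [h0, zero_smul]; exact zero_mem _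
  rw [hm, Nat.cast_smul_eq_nsmul]
  refine nsmul_mem ?_ _
  obtain ⟨T, ψ, -, hT, hψ, h7⟩ := exists_indFun_of_not_homogeneous C ξ.2 (by
    rintro ⟨lam, e, hlam, he⟩
    have he1 := congrFun he 1
    have hl1 := hlam.apply_one_of_comm hcomm
    simp only [OneMemClass.coe_one, Pi.smul_apply, hl1, smul_eq_mul, mul_one] at he1
    have he0 : (e : ℂ) ≠ 0 := he1 ▸ ξ.2.apply_one_ne_zero
    have hZk : Z ≤ charKer ξ := by
      refine le_trans (fun z hz => ?_) (charKer_le_of_inner_ne_zero hπ ξ.2 h0)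
      rw [mem_charKer_iff hπ]
      exact indFun_apply_of_ker E fun x =>
        ⟨Subgroup.mem_sup_right (by simpa using hZn.conj_mem z hz x⁻¹), rfl⟩
    have h8 := Cfsg.Agent.S0873.result p C P P.isPGroup' h4 hCP lam ⟨hlam.isCharacter, hl1⟩
      ((forall_cj_iff C).mp (invariant_of_res_eq_smul C ξ.2.classFun he0 he)) (fun c hc => by
        have h9 := congrFun he c
        rw [apply_of_mem_charKer (hZk ⟨c.2, hc⟩), he1] at h9
        exact (mul_eq_left₀ he0).mp h9.symm)
    have hCk : C ≤ charKer ξ := (le_charKer_iff ξ.2.isCharacter).mpr fun c hc => by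
      have h9 := congrFun he ⟨c, hc⟩
      simp only [h8, Pi.smul_apply, smul_eq_mul, mul_one] at h9
      rw [h9, he1]
    have h9 := isIrr_comp_of_charCenter E.subtype ξ.2 fun g => by
      obtain ⟨c, hc, x, hx, rfl⟩ := hdec g
      exact ⟨c, charKer_le_charCenter _ (hCk hc), ⟨x, Subgroup.mem_sup_left hx⟩, rfl⟩
    rw [H5.classInner_indFun_left E _ ξ.2.classFun] at h0
    have h10 := isIrrCharacter_one.eq_of_inner_ne_zero h9 h0
    refine (Finset.mem_erase.mp hξ).1 (Subtype.ext (funext fun g => ?_))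
    obtain ⟨c, hc, x, hx, rfl⟩ := hdec g
    rw [hCk hc]
    exact (congrFun h10 ⟨x, Subgroup.mem_sup_left hx⟩).symm)
  rw [← h7]
  refine indFun_mem_indSpan_of_mem T (fun E h => isElementary_map_subtype h) ?_
  have := mul_mem_indSpan hψ.isGen
    (ih _ (hn ▸ H2.card_lt_of_ne_top hT) T rfl (hG.of_le hp le_top).top)
  convert this using 1
  funext x; simp

theorem exists_const_mem_indSpan (G : Type*) [Group G] [Fintype G] {p : ℕ} (hp : p.Prime) :
    ∃ m : ℤ, ¬ (p : ℤ) ∣ m ∧
      (fun _ : G => (m : ℂ)) ∈ IndSpan (fun E : Subgroup G => IsElementary p E) := by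
  classical
  obtain ⟨m, h1, h2⟩ := solomon (G := G) hp
  refine ⟨m, h1, (AddSubgroup.closure_le _).mpr ?_ h2⟩
  rintro _ ⟨H, hH, rfl⟩
  exact indFun_mem_indSpan_of_mem H (fun E h => isElementary_map_subtype h)
    (one_mem_indSpan_aux hp _ H rfl hH.top)

/-- Elementary for some prime. -/
abbrev Elem (E : Subgroup G) : Prop := ∃ p : ℕ, p.Prime ∧ IsElementary p E

theorem one_mem_indSpan (G : Type*) [Group G] [Fintype G] :
    (fun _ => 1) ∈ IndSpan (fun E : Subgroup G => Elem E) := by
  have := one_mem_of_forall_prime ((IndSpan (fun E : Subgroup G => Elem E)).comap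
    (Int.castAddHom (G → ℂ))) fun p hp => by
      obtain ⟨m, h1, h2⟩ := exists_const_mem_indSpan G hp
      exact ⟨m, indSpan_mono (fun E hE => ⟨p, hp, hE⟩) h2, h1⟩
  rw [AddSubgroup.mem_comap, Int.coe_castAddHom] at this
  simp only [Int.cast_one] at this
  exact this

/-- Brauer's induction theorem. -/
theorem mem_indSpan_elem [Fintype G] {χ : G → ℂ} (hχ : IsGeneralizedCharacter G χ) :
    χ ∈ IndSpan (fun E : Subgroup G => Elem E) := by
  have := mul_mem_indSpan hχ (one_mem_indSpan G)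
  convert this using 1
  funext x; simp

/-- Brauer's characterization of characters, with coefficients in an additive subgroup. -/
theorem inner_mem_of_elem [Fintype G] (R : AddSubgroup ℂ) {θ : G → ℂ} (hθ : IsClassFunction G θ)
    (h : ∀ (E : Subgroup G) [Fintype E], Elem E → ∀ ψ : E → ℂ, IsIrrCharacter E ψ →
      classInner (fun x : E => θ x) ψ ∈ R) {χ : G → ℂ} (hχ : IsGeneralizedCharacter G χ) :
    classInner θ χ ∈ R := by
  classical
  let f : (G → ℂ) →+ ℂ := AddMonoidHom.mk' (classInner θ) (classInner_add_right θ)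
  refine indSpan_induction (R.comap f) (fun E φ hE hφ => ?_) (mem_indSpan_elem hχ)
  change classInner θ _ ∈ R
  rw [H5.classInner_indFun_right E φ hθ]
  refine hφ.induction (P := fun φ => classInner (fun x : E => θ x) φ ∈ R) ?_ (h E hE) ?_
  · rw [classInner_zero_right]; exact zero_mem _
  · intro a b _ _ ha hb
    rw [classInner_add_right]; exact add_mem ha hb

/-- Brauer's characterization of characters. -/
theorem isGen_of_elem [Finite G] {θ : G → ℂ} (hθ : IsClassFunction G θ)
    (h : ∀ E : Subgroup G, Elem E → IsGeneralizedCharacter E (fun x : E => θ x)) :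
    IsGeneralizedCharacter G θ := by
  have := Fintype.ofFinite G
  refine hθ.isGen_of_inner_int fun χ hχ => ?_
  obtain ⟨n, hn⟩ := inner_mem_of_elem (Int.castAddHom ℂ).range hθ (fun E _ hE ψ hψ => by
    obtain ⟨n, hn⟩ := (h E hE).inner_int hψ.isGen
    exact ⟨n, hn.symm⟩) hχ.isGen
  exact ⟨n, hn.symm⟩

theorem isElementary_of_le [Finite G] {p : ℕ} (hp : p.Prime) (h : IsElementary p G)
    (H : Subgroup G) : IsElementary p H := by
  obtain ⟨x, h1, h2, k, h3⟩ := h
  have h4 : Subgroup.zpowers x ≤ Subgroup.center G := by rwa [Subgroup.zpowers_le]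
  have := H2.normal_of_le_center h4
  have h5 : IsCyclic ((Subgroup.zpowers x).subgroupOf H) :=
    isCyclic_of_injective ((H.subtype.comp (Subgroup.subtype _)).codRestrict (Subgroup.zpowers x)
      fun y => y.2) fun a b hab => by
        have := congrArg Subtype.val hab
        exact Subtype.ext (Subtype.ext this)
  obtain ⟨y, hy⟩ := (Subgroup.isCyclic_iff_exists_zpowers_eq_top _).mp h5
  have hy' : (y : G) ∈ Subgroup.zpowers x := by
    have : y ∈ (Subgroup.zpowers x).subgroupOf H := hy ▸ Subgroup.mem_zpowers y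
    exact this
  refine ⟨y, Subgroup.mem_center_iff.mpr fun z =>
    Subtype.ext (Subgroup.mem_center_iff.mp (h4 hy') z), ?_, ?_⟩
  · rw [← Subgroup.orderOf_coe]
    exact h2.coprime_dvd_left (orderOf_dvd_of_mem_zpowers hy')
  · rw [hy]
    obtain ⟨j, -, hj⟩ := (Nat.dvd_prime_pow hp).mp
      (h3 ▸ Subgroup.relIndex_dvd_index_of_normal (Subgroup.zpowers x) H)
    exact ⟨j, hj⟩

/-- Brauer's induction theorem with linear characters. -/
theorem mem_closure_linear_elem [Fintype G] {χ : G → ℂ} (hχ : IsGeneralizedCharacter G χ) :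
    χ ∈ AddSubgroup.closure {g | ∃ (E : Subgroup G) (lam : E →* ℂˣ), Elem E ∧
      g = indFun E (fun e => (lam e : ℂ))} := by
  classical
  refine indSpan_induction _ (fun E φ hE hφ => ?_) (mem_indSpan_elem hχ)
  obtain ⟨p, hp, hE⟩ := hE
  have := isNilpotent_of_isElementary hp hE
  refine hφ.induction (P := fun φ => indFun E φ ∈ _) ?_ (fun ψ hψ => ?_) ?_
  · rw [H5.indFun_zero]; exact zero_mem _
  · obtain ⟨U, lam, rfl⟩ := monomial_of_nilpotent hψ
    exact AddSubgroup.subset_closure ⟨U.map E.subtype, lam.comp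
      (U.equivMapOfInjective E.subtype E.subtype_injective).symm.toMonoidHom,
      ⟨p, hp, isElementary_map_subtype (isElementary_of_le hp hE U)⟩, H5.indFun_indFun_map E U _⟩
  · intro a b _ _ ha hb
    rw [H5.indFun_add]; exact add_mem ha hb

open Classical in
/-- Artin's function: `|A|` on generators of `A`, zero elsewhere. -/
noncomputable def artinFun (A : Type*) [Group A] : A → ℂ :=
  fun a => if Subgroup.zpowers a = ⊤ then Nat.card A else 0

theorem sum_indFun_artinFun (G : Type*) [Group G] [Fintype G] :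
    ∑ B : Subgroup G, indFun B (artinFun B) = fun _ => (Nat.card G : ℂ) := by
  classical
  funext g
  have h1 : ∀ (B : Subgroup G) (y : G), (Nat.card B : ℂ)⁻¹ * extendByZero B (artinFun B) y
      = if Subgroup.zpowers y = B then 1 else 0 := by
    intro B y
    by_cases hy : y ∈ B
    · rw [ext0_mem _ _ hy, artinFun]
      have : Subgroup.zpowers (⟨y, hy⟩ : B) = ⊤ ↔ Subgroup.zpowers y = B := by
        rw [← (Subgroup.map_injective B.subtype_injective).eq_iff, MonoidHom.map_zpowers,
          ← MonoidHom.range_eq_map, Subgroup.range_subtype]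
        rfl
      simp only [this]
      split_ifs
      · exact inv_mul_cancel₀ (card_ne_zero B)
      · exact mul_zero _
    · rw [ext0_not_mem _ _ hy, mul_zero, if_neg]
      rintro rfl
      exact hy (Subgroup.mem_zpowers y)
  simp only [Finset.sum_apply, H5.indFun_apply, Finset.mul_sum, h1]
  rw [Finset.sum_comm]
  simp

theorem isGen_artinFun_aux (n : ℕ) : ∀ (G : Type u) [Group G] [Finite G], Nat.card G = n →
    IsGeneralizedCharacter G (artinFun G) := by
  induction n using Nat.strong_induction_on with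
  | _ n ih =>
  intro G _ _ hn
  classical
  have := Fintype.ofFinite G
  have h1 := sum_indFun_artinFun G
  rw [← Finset.add_sum_erase _ _ (Finset.mem_univ ⊤)] at h1
  have h2 : indFun (⊤ : Subgroup G) (artinFun _) = artinFun G := by
    by_cases hc : ∀ a b : G, a * b = b * a
    · funext g
      rw [H5.indFun_top _ (isClassFunction_of_comm (fun a b => Subtype.ext (hc a b)) _), artinFun,
        artinFun, Subgroup.card_top]
      congr 1
      rw [← (Subgroup.map_injective (Subgroup.subtype_injective ⊤)).eq_iff, MonoidHom.map_zpowers,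
          ← MonoidHom.range_eq_map, Subgroup.range_subtype]
      rfl
    · have h3 : ∀ (A : Type u) [Group A], (¬ ∀ a b : A, a * b = b * a) → artinFun A = 0 := by
        intro A _ hA
        funext a
        rw [artinFun, if_neg, Pi.zero_apply]
        intro h
        have : IsCyclic A := isCyclic_iff_exists_zpowers_eq_top.mpr ⟨a, h⟩
        exact hA fun a b => mul_comm' a b
      rw [h3 G hc, h3 (⊤ : Subgroup G) fun h => hc fun a b =>
        congrArg Subtype.val (h ⟨a, trivial⟩ ⟨b, trivial⟩),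
        H5.indFun_zero]
  rw [h2, ← eq_sub_iff_add_eq] at h1
  rw [h1]
  refine H4.Cfsg.IsGeneralizedCharacter.sub ?_ (isGen_sum _ _ fun B hB => (ih _
    (hn ▸ H2.card_lt_of_ne_top (Finset.mem_erase.mp hB).1) B rfl).indFun)
  convert (isGen_one (G := G)).natCast_smul (Nat.card G) using 1
  funext x; simp

/-- Artin's induction theorem. -/
theorem artin [Fintype G] {χ : G → ℂ} (hχ : IsGeneralizedCharacter G χ) :
    (Nat.card G : ℂ) • χ ∈ AddSubgroup.closure {g | ∃ (A : Subgroup G) (lam : A →* ℂˣ),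
      IsCyclic A ∧ g = indFun A (fun e => (lam e : ℂ))} := by
  classical
  have h1 : (Nat.card G : ℂ) • χ = ∑ B : Subgroup G, indFun B (fun b : B => χ b * artinFun B b) := by
    simp only [indFun_res_mul _ _ hχ.classFun, ← Finset.mul_sum, sum_indFun_artinFun]
    funext x; simp [mul_comm]
  rw [h1]
  refine sum_mem fun B _ => ?_
  by_cases hB : IsCyclic B
  · obtain ⟨n, hn⟩ := ((hχ.restrict B).mul (isGen_artinFun_aux _ B rfl)).exists_eq_sum_int
    change indFun B ((fun b : B => χ b) * artinFun B) ∈ _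
    rw [hn, H5.indFun_sum]
    refine sum_mem fun ψ _ => ?_
    rw [Int.cast_smul_eq_zsmul, H5.indFun_zsmul]
    obtain ⟨lam, hl⟩ := ψ.2.isCharacter.exists_linear
      (ψ.2.apply_one_of_comm fun a b => mul_comm' a b)
    refine zsmul_mem (AddSubgroup.subset_closure ?_) _
    exact ⟨B, lam, hB, by rw [hl]⟩
  · have : (fun b : B => χ b * artinFun B b) = 0 := by
      funext b
      rw [artinFun, if_neg, mul_zero, Pi.zero_apply]
      exact fun h => hB (isCyclic_iff_exists_zpowers_eq_top.mpr ⟨b, h⟩)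
    rw [this, H5.indFun_zero]; exact zero_mem _

end H5
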