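import Mathlib
import Cfsg.Agent.H26.WId0

/-! Central extensions of `PGL₂(q)`: construction of the data `H4.GD`. -/

set_option autoImplicit false
set_option linter.unusedSectionVars false
set_option linter.unusedVariables false

namespace H5.QI

open Cfsg H24 Subgroup H4 H26.WI

variable {G Γ : Type*} [Group G] [Finite G] [Group Γ] [Finite Γ]

/-- `H` is a central extension of `Γ` by `Z`, of order prime to `p` -/
structure CE (H Z : Subgroup G) (κ : H →* Γ) (p : ℕ) : Prop where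
  surj : Function.Surjective κ
  ker : ∀ g ∈ H, ap κ g = 1 ↔ g ∈ Z
  Z_le : Z ≤ H
  cen : ∀ z ∈ Z, ∀ h ∈ H, z * h = h * z
  hp : p.Prime
  cop : (♯Z).Coprime p

namespace CE

variable {H Z : Subgroup G} {κ : H →* Γ} {p : ℕ} (E : CE H Z κ p)
include E

theorem pre_bot : pre κ ⊥ = Z := by
  ext g
  rw [mem_pre_bot]
  exact ⟨fun h => (E.ker _ h.1).1 h.2, fun h => ⟨E.Z_le h, (E.ker _ (E.Z_le h)).2 h⟩⟩

theorem Z_le_pre (A : Subgroup Γ) : Z ≤ pre κ A := E.pre_bot ▸ ker_le_pre _ _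

theorem card_pre' (A : Subgroup Γ) : ♯(pre κ A) = ♯Z * ♯A := by
  rw [card_pre (by rw [MonoidHom.range_eq_top.2 E.surj]; exact le_top), E.pre_bot]

theorem lift (γ : Γ) : ∃ g ∈ H, ap κ g = γ := by
  obtain ⟨g, rfl⟩ := E.surj γ
  exact ⟨g, g.2, ap_coe _ _⟩

theorem eq_mod {g g' : G} (hg : g ∈ H) (hg' : g' ∈ H) (e : ap κ g = ap κ g') :
    ∃ z ∈ Z, g = g' * z :=
  ⟨g'⁻¹ * g, (E.ker _ (mul_mem (inv_mem hg') hg)).1 (by
    rw [ap_mul _ (inv_mem hg') hg, ap_inv _ hg', e, inv_mul_cancel]), by group⟩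

section Tor

variable {A : Subgroup Γ} {k : ℕ} {w : G} (hw : w ∈ H) (h : Tor A k (ap κ w))
include hw h

theorem pre_cyc : ∃ τ ∈ pre κ A, ∀ y ∈ pre κ A, ∃ j : ℕ, ∃ z ∈ Z, y = τ ^ j * z := by
  obtain ⟨τ, h2, h3⟩ := h.cyc
  obtain ⟨τ, hτ, rfl⟩ := E.lift τ
  refine ⟨τ, mem_pre.2 ⟨hτ, h2⟩, fun y hy => ?_⟩
  obtain ⟨j, e⟩ := h3 _ (mem_pre.1 hy).2
  exact ⟨j, E.eq_mod (mem_pre.1 hy).1 (pow_mem hτ j) (by rw [e, ap_pow _ hτ])⟩

theorem pre_comm {a b : G} (ha : a ∈ pre κ A) (hb : b ∈ pre κ A) : a * b = b * a := by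
  obtain ⟨τ, hτ, h2⟩ := E.pre_cyc hw h
  have hτ' := (mem_pre.1 hτ).1
  obtain ⟨i, z, hz, rfl⟩ := h2 a ha
  obtain ⟨j, z', hz', rfl⟩ := h2 b hb
  have c1 : ∀ i, Commute z (τ ^ i) := fun i => E.cen _ hz _ (pow_mem hτ' i)
  have c2 : ∀ i, Commute z' (τ ^ i) := fun i => E.cen _ hz' _ (pow_mem hτ' i)
  exact ((Commute.pow_pow_self τ i j).mul_right (c2 i).symm).mul_left
    ((c1 j).mul_right (E.cen _ hz _ (E.Z_le hz')))

theorem pre_inv (y : G) (hy : y ∈ pre κ A) : y * (w * y * w) ∈ Z := by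
  obtain ⟨h2, h3⟩ := mem_pre.1 hy
  rw [← E.ker _ (mul_mem h2 (mul_mem (mul_mem hw h2) hw)), ap_mul _ h2 (mul_mem (mul_mem hw h2) hw),
    ap_mul _ (mul_mem hw h2) hw, ap_mul _ hw h2]
  exact h.inv _ h3

theorem pre_norm' (g : G) (hg : g ∈ H) (y : G) (hy : y ∈ pre κ A) (h2 : y ∉ Z)
    (e : g * y * g⁻¹ ∈ pre κ A) : g ∈ pre κ A ∨ g * w ∈ pre κ A := by
  obtain ⟨h3, h4⟩ := mem_pre.1 hy
  have := h.norm (ap κ g) _ h4 (fun e => h2 ((E.ker _ h3).1 e))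
    (by rw [← ap_conj _ hg h3]; exact (mem_pre.1 e).2)
  exact this.imp (fun h => mem_pre.2 ⟨hg, h⟩) fun h =>
    mem_pre.2 ⟨mul_mem hg hw, by rw [ap_mul _ hg hw]; exact h⟩

theorem pre_cent {y₀ : G} (h0 : y₀ ∈ pre κ A) (h0' : ap κ y₀ ≠ 1)
    (h0'' : ap κ y₀ * ap κ y₀ = 1) (hne : w * y₀ ≠ y₀ * w) (y : G) (hy : y ∈ pre κ A)
    (h2 : y ∉ Z) (g : G) (hg : g ∈ H) (e : g * y = y * g) : g ∈ pre κ A := by
  refine (E.pre_norm' hw h g hg y hy h2 (by rw [e]; simpa using hy)).resolve_right fun h3 => ?_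
  obtain ⟨h4, h5⟩ := mem_pre.1 hy
  have h6 : w * y = y * w := by
    have := E.pre_comm hw h h3 hy
    calc w * y = g⁻¹ * (g * w * y) := by group
      _ = g⁻¹ * (y * g) * w := by rw [this]; group
      _ = _ := by rw [← e]; group
  have h7 : ap κ y * ap κ y = 1 := by
    have := h.inv _ h5
    rwa [← ap_mul _ hw h4, h6, ap_mul _ h4 hw, mul_assoc, h.w_sq, mul_one] at this
  obtain ⟨z, hz, rfl⟩ := E.eq_mod h4 (mem_pre.1 h0).1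
    (h.uniq h5 (mem_pre.1 h0).2 (fun e => h2 ((E.ker _ h4).1 e)) h0' h7 h0'')
  apply hne
  have := E.cen _ hz _ hw
  calc w * y₀ = w * (y₀ * z) * z⁻¹ := by group
    _ = y₀ * (z * w) * z⁻¹ := by rw [h6]; group
    _ = _ := by rw [this]; group

end Tor

omit E in
theorem pow_C {z : G} (hz : z ∈ Z) : z ^ ♯Z = 1 :=
  congrArg Subtype.val (pow_card_eq_one' (G := Z) (x := ⟨z, hz⟩))

theorem eq_of_p {g g' : G} (hg : g ∈ H) (hg' : g' ∈ H) (hp : g ^ p = 1)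
    (hp' : g' ^ p = 1) (e : ap κ g = ap κ g') : g = g' := by
  obtain ⟨z, hz, rfl⟩ := E.eq_mod hg hg' e
  rw [(show Commute g' z from (E.cen _ hz _ hg').symm).mul_pow, hp', one_mul] at hp
  have := Nat.dvd_gcd (orderOf_dvd_of_pow_eq_one (pow_C hz)) (orderOf_dvd_of_pow_eq_one hp)
  rw [E.cop.gcd_eq_one, Nat.dvd_one, orderOf_eq_one_iff] at this
  rw [this, mul_one]

theorem lift_p {γ : Γ} (h : γ ^ p = 1) : ∃ g ∈ H, ap κ g = γ ∧ g ^ p = 1 := by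
  obtain ⟨g, hg, rfl⟩ := E.lift γ
  obtain ⟨a, -, ha⟩ := Nat.exists_mul_mod_eq_one_of_coprime E.cop E.hp.one_lt
  refine ⟨g ^ (♯Z * a), pow_mem hg _, ?_, ?_⟩
  · rw [ap_pow _ hg, ← Nat.div_add_mod (♯Z * a) p, ha, pow_add, pow_mul, h]; simp
  · rw [← pow_mul, mul_comm, pow_mul, pow_mul, pow_C ((E.ker _ (pow_mem hg _)).1
      (by rw [ap_pow _ hg, h])), one_pow]

theorem conj_p {g x y : G} (hg : g ∈ H) (hx : x ∈ H) (hy : y ∈ H) (hp : x ^ p = 1)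
    (hp' : y ^ p = 1) (e : ap κ g * ap κ x * (ap κ g)⁻¹ = ap κ y) :
    g * x * g⁻¹ = y :=
  E.eq_of_p (mul_mem (mul_mem hg hx) (inv_mem hg)) hy (by rw [conj_pow, hp]; group) hp'
    (by rw [ap_conj _ hg hx, e])

theorem exists_X {A X : Subgroup Γ} {q : ℕ} (h : XD A X p q) :
    ∃ Y : Subgroup G, (∀ g, g ∈ Y ↔ g ∈ H ∧ ap κ g ∈ X ∧ g ^ p = 1) ∧ ♯Y = q ∧
      ∀ x ∈ Y, ∀ y ∈ Y, x * y = y * x := by
  have hc : ∀ x y : G, x ∈ H ∧ ap κ x ∈ X ∧ x ^ p = 1 →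
      y ∈ H ∧ ap κ y ∈ X ∧ y ^ p = 1 → x * y = y * x := fun x y hx hy => by
    rw [← mul_inv_eq_iff_eq_mul]
    exact E.conj_p hx.1 hy.1 hy.1 hy.2.2 hy.2.2 (by rw [h.comm _ hx.2.1 _ hy.2.1]; group)
  let Y : Subgroup G :=
    { carrier := {g | g ∈ H ∧ ap κ g ∈ X ∧ g ^ p = 1}
      one_mem' := ⟨one_mem _, by simp, one_pow _⟩
      mul_mem' := fun {x y} hx hy => ⟨mul_mem hx.1 hy.1,
        by rw [ap_mul _ hx.1 hy.1]; exact mul_mem hx.2.1 hy.2.1,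
        by rw [(show Commute x y from hc x y hx hy).mul_pow, hx.2.2, hy.2.2, one_mul]⟩
      inv_mem' := fun {x} hx => ⟨inv_mem hx.1, by rw [ap_inv _ hx.1]; exact inv_mem hx.2.1,
        by rw [inv_pow, hx.2.2, inv_one]⟩ }
  refine ⟨Y, fun g => Iff.rfl, ?_, fun x hx y hy => hc x y hx hy⟩
  rw [← h.card]
  refine Nat.card_eq_of_bijective (fun y => ⟨ap κ y, y.2.2.1⟩) ⟨fun x y e => ?_, fun x => ?_⟩
  · exact Subtype.ext (E.eq_of_p x.2.1 y.2.1 x.2.2.2 y.2.2.2 (congrArg Subtype.val e))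
  · obtain ⟨g, hg, e, hp⟩ := E.lift_p (h.pow _ x.2)
    exact ⟨⟨g, hg, e ▸ x.2, hp⟩, Subtype.ext e⟩

end CE

theorem CE.exists_GD {N : NP} {H Z : Subgroup G} {κ : H →* Γ} (E : CE H Z κ N.p)
    {T W X S : Subgroup Γ} {t u w v y₀ : G} (hΓ : Nat.card Γ = N.q * N.m * N.n)
    (cZ : ∃ d, Odd d ∧ d * ♯Z = N.m) (ht : t ∈ Z) (ht1 : t ≠ 1) (ht2 : t * t = 1)
    (hw : w ∈ H) (hw2 : w * w = 1) (hT : Tor T N.m (ap κ w))
    (hv : v ∈ H) (hv2 : v * v = 1) (hW : Tor W N.n (ap κ v))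
    (hu : u ∈ pre κ T) (hu1 : ap κ u ≠ 1) (hu2 : u * u = 1) (hwu : w * u ≠ u * w)
    (h0 : y₀ ∈ pre κ W) (h0' : ap κ y₀ ≠ 1) (h0'' : ap κ y₀ * ap κ y₀ = 1) (hvy : v * y₀ ≠ y₀ * v)
    (cycW : ∃ ω ∈ pre κ W, ∀ y ∈ pre κ W, ∃ k : ℕ, y = ω ^ k)
    (w_onto : ∀ z ∈ Z, ∃ y ∈ pre κ T, y * (w * y * w) = z)
    (v_onto : ∀ z ∈ Z, ∃ y ∈ pre κ W, y * (v * y * v) = z)
    (hS : (N.ε = 1 ∧ S = T) ∨ (N.ε = -1 ∧ S = W)) (hX : XD S X N.p N.q) :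
    ∃ D : GD G N, D.H = H ∧ D.t = t ∧ D.T = pre κ T ∧ D.w = w ∧
      ∀ g, g ∈ D.X ↔ g ∈ H ∧ ap κ g ∈ X ∧ g ^ N.p = 1 := by
  obtain ⟨Y, hY, cY, hYc⟩ := E.exists_X hX
  have huH := (mem_pre.1 hu).1
  have hSp : (N.ε = 1 ∧ pre κ S = pre κ T) ∨ (N.ε = -1 ∧ pre κ S = pre κ W) :=
    hS.imp (fun h => ⟨h.1, by rw [h.2]⟩) fun h => ⟨h.1, by rw [h.2]⟩
  have hne : ∀ x ∈ Y, x ≠ 1 → ap κ x ≠ 1 := fun x hx hx1 e => hx1
    (E.eq_of_p ((hY x).1 hx).1 (one_mem _) ((hY x).1 hx).2.2 (one_pow _) (by rw [e, ap_one]))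
  have hup : ∀ γ ∈ X, ∃ x ∈ Y, ap κ x = γ := fun γ hγ => by
    obtain ⟨g, hg, e, hp⟩ := E.lift_p (hX.pow _ hγ)
    exact ⟨g, (hY g).2 ⟨hg, e ▸ hγ, hp⟩, e⟩
  exact ⟨{
    H := H, Z := Z, T := pre κ T, W := pre κ W, X := Y, S := pre κ S
    t := t, u := u, w := w, v := v
    hS := hSp
    cZ := cZ
    cT := by rw [E.card_pre', hT.card]
    cW := by rw [E.card_pre', hW.card]
    cX := cY
    cH := by rw [← hΓ, ← card_top (G := Γ), ← E.card_pre', pre_top]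
    Z_le_T := E.Z_le_pre _
    Z_le_W := E.Z_le_pre _
    T_le := pre_le _ _
    W_le := pre_le _ _
    X_le := fun x hx => ((hY x).1 hx).1
    Z_comm := E.cen
    t_mem := ht
    t_ne := ht1
    t_sq := ht2
    cycT := E.pre_cyc hw hT
    cycW := cycW
    X_comm := hYc
    X_pow := fun x hx => ((hY x).1 hx).2.2
    cent_T := E.pre_cent hw hT hu hu1 (by rw [← ap_mul _ huH huH, hu2, ap_one]) hwu
    cent_W := E.pre_cent hv hW h0 h0' h0'' hvy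
    cent_X := fun x hx hx1 g hg e => by
      obtain ⟨x', hx', e'⟩ := hup _ (hX.cent _ ((hY x).1 hx).2.1 (hne x hx hx1) (ap κ g)
        (by rw [← ap_mul _ hg ((hY x).1 hx).1, e, ap_mul _ ((hY x).1 hx).1 hg]))
      obtain ⟨z, hz, rfl⟩ := E.eq_mod hg ((hY x').1 hx').1 e'.symm
      exact ⟨z, hz, x', hx', (E.cen _ hz _ ((hY x').1 hx').1).symm⟩
    u_mem := hu
    u_not := fun e => hu1 ((E.ker _ huH).2 e)
    u_sq := hu2
    w_mem := hw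
    w_not := fun e => hT.w_not (mem_pre.1 e).2
    w_sq := hw2
    w_inv := E.pre_inv hw hT
    w_onto := w_onto
    norm_T := E.pre_norm' hw hT
    v_mem := hv
    v_not := fun e => hW.w_not (mem_pre.1 e).2
    v_sq := hv2
    v_inv := E.pre_inv hv hW
    v_onto := v_onto
    norm_W := E.pre_norm' hv hW
    S_norm := fun s hs x hx => by
      obtain ⟨a1, a2, a3⟩ := (hY x).1 hx
      obtain ⟨b1, b2⟩ := mem_pre.1 hs
      exact (hY _).2 ⟨mul_mem (mul_mem b1 a1) (inv_mem b1),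
        by rw [ap_conj _ b1 a1]; exact hX.snorm _ b2 _ a2, by rw [conj_pow, a3]; group⟩
    norm_X := fun g hg x hx hx1 e => by
      obtain ⟨x', hx', s, hs, e'⟩ := hX.norm (ap κ g) _ ((hY x).1 hx).2.1 (hne x hx hx1)
        (by rw [← ap_conj _ hg ((hY x).1 hx).1]; exact ((hY _).1 e).2.1)
      obtain ⟨x', hx'', rfl⟩ := hup _ hx'
      have a1 := ((hY x').1 hx'').1
      exact ⟨x', hx'', x'⁻¹ * g, mem_pre.2 ⟨mul_mem (inv_mem a1) hg,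
        by rw [ap_mul _ (inv_mem a1) hg, ap_inv _ a1, e', inv_mul_cancel_left]; exact hs⟩, by group⟩ },
    rfl, rfl, rfl, rfl, hY⟩

theorem CE.exists_P {N : NP} {H Z : Subgroup G} {κ : H →* Γ} (E : CE H Z κ N.p) {D : GD G N}
    {T X : Subgroup Γ} (hT : D.T = pre κ T) (hw : D.w ∈ H)
    (hX : ∀ g, g ∈ D.X ↔ g ∈ H ∧ ap κ g ∈ X ∧ g ^ N.p = 1) (hp : ∀ x ∈ X, x ^ N.p = 1)
    {F : Type*} [Field F] {x : F → Γ} (h : RD T X (ap κ D.w) x) : Nonempty (GL2P D F) := by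
  choose y hy ey py using fun a => E.lift_p (hp (x a) ((h.mem _).2 ⟨a, rfl⟩))
  have hyX : ∀ a, y a ∈ D.X := fun a => (hX _).2 ⟨hy a, ey a ▸ (h.mem _).2 ⟨a, rfl⟩, py a⟩
  have add : ∀ a b, y (a + b) = y a * y b := fun a b =>
    E.eq_of_p (hy _) (mul_mem (hy a) (hy b)) (py _) (D.X_pow _ (mul_mem (hyX a) (hyX b)))
      (by rw [ap_mul _ (hy a) (hy b), ey, ey, ey, h.add])
  have zero : y 0 = 1 := by simpa using add 0 0
  have neg : ∀ a, y (-a) = (y a)⁻¹ := fun a =>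
    eq_inv_of_mul_eq_one_left (by rw [← add, neg_add_cancel, zero])
  have hz : ∀ a, D.w * y a * D.w ∈ H := fun a => mul_mem (mul_mem hw (hy a)) hw
  have ez : ∀ a, ap κ (D.w * y a * D.w) = ap κ D.w * x a * ap κ D.w := fun a => by
    rw [ap_mul _ (mul_mem hw (hy a)) hw, ap_mul _ hw (hy a), ey]
  have pz : ∀ a, (D.w * y a * D.w) ^ N.p = 1 := fun a => by
    have := conj_pow (a := D.w) (b := y a) (i := N.p)
    rw [py, D.w_inv'] at this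
    rw [this, mul_one, D.w_sq]
  have act : ∀ τ ∈ H, ∀ k : F, (∀ a, ap κ τ * x a * (ap κ τ)⁻¹ = x (k * a)) →
      (∀ a, ap κ τ * (ap κ D.w * x a * ap κ D.w) * (ap κ τ)⁻¹ =
        ap κ D.w * x (k⁻¹ * a) * ap κ D.w) → (∀ a, τ * y a * τ⁻¹ = y (k * a)) ∧
      ∀ a, τ * (D.w * y a * D.w) * τ⁻¹ = D.w * y (k⁻¹ * a) * D.w := fun τ hτ k a1 a2 =>
    ⟨fun a => E.conj_p hτ (hy _) (hy _) (py _) (py _) (by rw [ey, ey, a1]),
      fun a => E.conj_p hτ (hz _) (hz _) (pz _) (pz _) (by rw [ez, ez, a2])⟩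
  set n : F → G := fun r => y r * (D.w * y (-r⁻¹) * D.w) * y r with hn
  have n_mem : ∀ r, r ≠ 0 → n r * D.w ∈ D.T := fun r hr => by
    rw [hT]
    refine mem_pre.2 ⟨mul_mem (mul_mem (mul_mem (hy _) (hz _)) (hy _)) hw, ?_⟩
    rw [ap_mul _ (mul_mem (mul_mem (hy _) (hz _)) (hy _)) hw, ap_mul _ (mul_mem (hy _) (hz _)) (hy _),
      ap_mul _ (hy _) (hz _), ez, ey]
    exact h.n_mem r hr
  have n_neg : ∀ r, n (-r) = (n r)⁻¹ := fun r => by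
    simp only [hn, inv_neg, neg_neg, neg, mul_inv_rev, inv_inv, D.w_inv', mul_assoc]
  have key : ∀ r s, r ≠ 0 → s ≠ 0 → n r * (n 1)⁻¹ * (n s * (n 1)⁻¹) = n (r * s) * (n 1)⁻¹ := by
    intro r s hr hs
    obtain ⟨τ, hτ, a1, a2⟩ := h.surj s hs
    obtain ⟨τ, hτH, rfl⟩ := E.lift τ
    obtain ⟨b1, b2⟩ := act τ hτH s a1 a2
    have b3 : ∀ a, τ * n a * τ⁻¹ = n (s * a) := fun a => by
      calc τ * n a * τ⁻¹ = τ * y a * τ⁻¹ * (τ * (D.w * y (-a⁻¹) * D.w) * τ⁻¹) * (τ * y a * τ⁻¹) := by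
            simp only [hn]; group
        _ = _ := by rw [b1, b2, mul_neg, ← mul_inv]
    have b4 : n r * (n 1)⁻¹ ∈ D.T := by
      simpa [mul_assoc] using mul_mem (n_mem r hr) (inv_mem (n_mem 1 one_ne_zero))
    have b5 := D.T_comm τ (hT ▸ mem_pre.2 ⟨hτH, hτ⟩) _ b4
    have b6 : n r * (n 1)⁻¹ = n (s * r) * (n (s * 1))⁻¹ := by
      rw [← b3, ← b3]
      calc n r * (n 1)⁻¹ = τ * (n r * (n 1)⁻¹) * τ⁻¹ := by rw [b5]; group
        _ = _ := by group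
    rw [b6, mul_one, mul_comm s r]; group
  have n1 : y (-1) * (D.w * y 1 * D.w) * y (-1) = (n 1)⁻¹ := by
    rw [← n_neg]; simp [hn]
  refine ⟨⟨y, add, fun g => ⟨fun hg => ?_, ?_⟩, fun a e => h.inj a (by rw [← ey, e, ap_one]), n_mem,
    fun r s hr hs => ?_, fun τ hτ => ?_⟩⟩
  · obtain ⟨a1, a2, a3⟩ := (hX g).1 hg
    obtain ⟨a, e⟩ := (h.mem _).1 a2
    exact ⟨a, E.eq_of_p a1 (hy a) a3 (py a) (by rw [e, ey])⟩
  · rintro ⟨a, rfl⟩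
    exact hyX a
  · rw [n1]; exact key r s hr hs
  · rw [hT] at hτ
    obtain ⟨k, hk, a1, a2⟩ := h.act _ (mem_pre.1 hτ).2
    exact ⟨k, hk, act τ (mem_pre.1 hτ).1 k a1 a2⟩

end H5.QI
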