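import Mathlib
import Cfsg.Agent.H5.QI0
import Cfsg.Agent.H2.QB2

/-! Quasi-dihedral case: `C(t)` a central extension of `PGL₂(q)` gives the data `H4.GD`. -/

set_option autoImplicit false
set_option linter.unusedSectionVars false
set_option linter.unusedVariables false

universe u

namespace H5.QI

open Cfsg H24 Subgroup H4 H26.WI H2.QD

variable {G : Type u} [Group G] [Finite G] {c : QC G} (M : Mod c)

theorem ω_H (c : QC G) : c.ω ∈ c.H := c.S_le_H c.ω_mem_S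
theorem s_H (c : QC G) : c.s ∈ c.H := c.S_le_H c.s_mem_S
theorem t_H (c : QC G) : c.t ∈ c.H := mem_C1.2 rfl
theorem s_sq (c : QC G) : c.s * c.s = 1 := by rw [← pow_two, ← c.ord_s, pow_orderOf_eq_one]
theorem t_sq (c : QC G) : c.t * c.t = 1 := sq_of_orderOf_two c.four.ht
theorem t_ne (c : QC G) : c.t ≠ 1 := ne_one_of_orderOf c.four.ht (by norm_num)

theorem ωs_sq (c : QC G) : c.ω * (c.s * c.ω * c.s) = c.t := by
  have h := c.rel
  rw [inv_eq_of_mul_eq_one_right (s_sq c)] at h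
  rw [h, ← pow_succ', QC.t]
  congr 1
  have : 0 < 2 ^ (c.a - 1) := by positivity
  omega

theorem r_inv : M.e * ap M.κ c.ω * M.e = (ap M.κ c.ω)⁻¹ := by
  refine eq_inv_of_mul_eq_one_right ?_
  rw [Mod.e, ← ap_mul _ (s_H c) (ω_H c), ← ap_mul _ (mul_mem (s_H c) (ω_H c)) (s_H c),
    ← ap_mul _ (ω_H c) (mul_mem (mul_mem (s_H c) (ω_H c)) (s_H c)), ωs_sq, M.κ_t]

theorem σ_eq : M.σ = ap M.κ c.ω ^ 2 ^ (c.a - 2) := by rw [Mod.σ, QC.i, ap_pow _ (ω_H c)]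

theorem e_sq : M.e * M.e = 1 := sq_of_orderOf_two M.four_eσ.ht
theorem σ_sq : M.σ * M.σ = 1 := sq_of_orderOf_two M.four_eσ.hs
theorem σ_ne : M.σ ≠ 1 := ne_one_of_orderOf M.four_eσ.hs (by norm_num)

theorem r_pow_ne {k : ℕ} (hk : ¬ 4 ∣ k) (hk' : 2 ∣ k) : ap M.κ c.ω ^ k ≠ 1 := fun h => by
  have h3 := c.ha
  obtain ⟨j, rfl⟩ := hk'
  have hj : Odd j := Nat.not_even_iff_odd.1 fun ⟨a, ha⟩ => hk ⟨a, by rw [ha]; ring⟩
  have e : 2 ^ (c.a - 2) = 2 * 2 ^ (c.a - 3) := by rw [← pow_succ']; congr 1; omega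
  have h1 : M.σ ^ j = 1 := by
    rw [σ_eq, ← pow_mul, e, mul_right_comm, pow_mul, h, one_pow]
  obtain ⟨i, rfl⟩ := hj
  rw [pow_succ, pow_mul, pow_two, σ_sq, one_pow, one_mul] at h1
  exact σ_ne M h1

theorem lift_out {γ : M.Γ} (h : orderOf γ = 2) (hγ : γ ∉ M.L) :
    ∃ x ∈ c.H, ap M.κ x = γ ∧ x * x = 1 := by
  obtain ⟨g, -, e⟩ := M.invol_out h hγ
  obtain ⟨g, hg, rfl⟩ := M.exists_ap g
  refine ⟨g⁻¹ * c.s * g⁻¹⁻¹, mul_mem (mul_mem (inv_mem hg) (s_H c)) (inv_mem (inv_mem hg)), ?_, ?_⟩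
  · rw [ap_conj _ (inv_mem hg) (s_H c), ap_inv _ hg, ← Mod.e, ← e]; group
  · calc _ = g⁻¹ * (c.s * c.s) * g := by group
      _ = 1 := by rw [s_sq]; group

/-- the involution of a torus of order `m` is outer -/
theorem inv_out {A : Subgroup M.Γ} {w : M.Γ} (h : Tor A M.N.m w) :
    ∃ j ∈ A, orderOf j = 2 ∧ j ∉ M.L := by
  obtain ⟨j, hj, ho⟩ := h.exists_order (d := 2) (even_iff_two_dvd.1 M.N.m_even)
  refine ⟨j, hj, ho, fun hL => ?_⟩
  obtain ⟨g, -, e⟩ := M.invol_in ho hL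
  have hm := M.m_mod
  have key : ∀ k, ¬ 4 ∣ k → 2 ∣ k → (g⁻¹ * ap M.κ c.ω * g⁻¹⁻¹) ^ k ≠ 1 := fun k a b e' =>
    r_pow_ne M a b (by rwa [conj_pow, conj_eq_one_iff] at e')
  rcases h.cent_cases (g := g⁻¹ * ap M.κ c.ω * g⁻¹⁻¹) hj (by rintro rfl; simp at ho) (by
    have : j = g⁻¹ * ap M.κ c.ω ^ 2 ^ (c.a - 2) * g := by rw [← σ_eq, ← e]; group
    rw [this]; group) with h3 | h3
  · exact key _ (by omega) (by omega) (h.pow_k h3)
  · exact key 2 (by omega) dvd_rfl (by rw [pow_two, h3])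

variable (h0 : M.L0 = ⊤)
include h0

theorem card_Γ : Nat.card M.Γ = M.N.q * M.N.m * M.N.n := by rw [← M.card_L0, h0, card_top]

theorem L_index : M.L.index = 2 := by
  have h1 := M.L.card_mul_index
  rw [card_Γ M h0, ← M.card_L, mul_comm] at h1
  exact Nat.eq_of_mul_eq_mul_right Nat.card_pos h1

theorem align_W {B : Subgroup M.Γ} {v : M.Γ} (h : Tor B M.N.n v) :
    ∃ g : M.Γ, ap M.κ c.ω ∈ B.map (MulAut.conj g).toMonoidHom := by
  obtain ⟨β, hβ, ho⟩ := h.exists_order (d := 4) M.four_dvd_n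
  have h2 : orderOf (β ^ 2) = 2 := by rw [orderOf_pow_of_dvd two_ne_zero (by rw [ho]; norm_num), ho]
  obtain ⟨g, -, e⟩ := M.invol_in h2 (sq_mem_of_index_two (L_index M h0) β)
  rcases h.cent_cases (g := g⁻¹ * ap M.κ c.ω * g⁻¹⁻¹) (pow_mem hβ 2)
    (fun e => by rw [e] at h2; simp at h2) (by
    have : β ^ 2 = g⁻¹ * ap M.κ c.ω ^ 2 ^ (c.a - 2) * g := by rw [← σ_eq, ← e]; group
    rw [this]; group) with h3 | h3
  · exact ⟨g, _, h3, by simp [mul_assoc]⟩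
  · refine absurd ?_ (r_pow_ne M (k := 2) (by omega) dvd_rfl)
    rwa [← pow_two, conj_pow, conj_eq_one_iff] at h3

omit h0 in
theorem tor_e {B : Subgroup M.Γ} {v : M.Γ} (h : Tor B M.N.n v) (hr : ap M.κ c.ω ∈ B) :
    Tor B M.N.n M.e := by
  have h2 := r_pow_ne M (k := 2) (by omega) dvd_rfl
  have he : M.e ∉ B := fun he => h2 (by
    have := r_inv M
    rw [h.comm he hr, mul_assoc, e_sq, mul_one] at this
    rw [pow_two]; nth_rw 1 [this]; group)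
  refine h.change he ((h.norm _ _ hr (fun e => h2 (by rw [e, one_pow])) ?_).resolve_left he)
  rw [inv_eq_of_mul_eq_one_right (e_sq M), r_inv]
  exact inv_mem hr

theorem align : ∃ (T W X : Subgroup M.Γ) (w : M.Γ), Tor T M.N.m w ∧ w ∉ M.L ∧
    Tor W M.N.n M.e ∧ ap M.κ c.ω ∈ W ∧
    ((M.N.ε = 1 ∧ XD T X M.N.p M.N.q ∧ ∃ x : M.F → M.Γ, RD T X w x) ∨
      (M.N.ε = -1 ∧ XD W X M.N.p M.N.q)) := by
  let _ : Fintype M.F := Fintype.ofFinite _
  have hF : Fintype.card M.F = M.N.q := by rw [M.hq, Nat.card_eq_fintype_card]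
  obtain ⟨N, D, hε, hq, hH, hZ, ⟨P⟩⟩ := exists_GD_gl (F := M.F) (hF ▸ M.N.q_odd)
  let π : GL (Fin 2) M.F →* M.Γ := M.E.ι.comp Matrix.ProjGenLinGroup.mk
  have hs : Function.Surjective π := fun γ => by
    obtain ⟨y, rfl⟩ : γ ∈ M.L0 := h0 ▸ mem_top γ
    obtain ⟨g, rfl⟩ := Matrix.ProjGenLinGroup.mk_surjective y
    exact ⟨g, rfl⟩
  have hk : ∀ g, π g = 1 ↔ g ∈ D.Z := fun g => by
    rw [hZ, MonoidHom.comp_apply, ← map_one M.E.ι, M.E.ι_inj.eq_iff]; simp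
  have hs' : ∀ g : M.Γ, Function.Surjective ((MulAut.conj g).toMonoidHom.comp π) := fun g =>
    (MulAut.conj g).surjective.comp hs
  have hk' : ∀ (g : M.Γ) x, ((MulAut.conj g).toMonoidHom.comp π) x = 1 ↔ x ∈ D.Z := fun g x => by
    simp [← hk]
  have hq' : N.q = M.N.q := hq.trans hF
  have hp : N.p = M.N.p := M.N.eq_p_of_dvd N.hp (hq' ▸ N.p_dvd_q)
  have hS : D.S = D.T := D.hS.elim (·.2) fun h => absurd (hε ▸ h.1) (by norm_num)
  obtain ⟨-, hm, hn'⟩ := N.cases.resolve_right fun h => absurd (hε ▸ h.1) (by norm_num)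
  rcases M.N.cases with ⟨h1, h2, h3⟩ | ⟨h1, h2, h3⟩
  · have em : N.m = M.N.m := by omega
    have en : N.n = M.N.n := by omega
    obtain ⟨g', hg'⟩ := align_W M h0 (en ▸ tor_W D hH π hs hk)
    rw [map_map] at hg'
    have hT := tor_T D hH _ hs hk
    have hX := xd D hH _ hs hk
    have hR := rd D hH _ hs hk P hε hq
    rw [hS, hp, hq'] at hX
    rw [em] at hT
    refine ⟨_, _, _, _, hT, fun hL => ?_, tor_e M (en ▸ tor_W D hH _ (hs' g') (hk' g')) hg', hg',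
      Or.inl ⟨h1, hX, _, hR⟩⟩
    obtain ⟨a, -, e⟩ := M.invol_in (orderOf_eq_prime (by rw [pow_two, hT.w_sq])
      fun e => hT.w_not (by rw [e]; exact one_mem _)) hL
    refine not_conj D hH _ (hs' g') (hk' g') (a * g'⁻¹) ?_
    convert pow_mem hg' (2 ^ (c.a - 2)) using 1
    rw [← σ_eq, ← e]; simp [mul_assoc]
  · have em : N.n = M.N.m := by omega
    have en : N.m = M.N.n := by omega
    obtain ⟨g', hg'⟩ := align_W M h0 (en ▸ tor_T D hH π hs hk)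
    rw [map_map] at hg'
    have hT := tor_W D hH _ hs hk
    have hX := xd D hH _ (hs' g') (hk' g')
    rw [em] at hT
    rw [hS, hp, hq'] at hX
    have hW := tor_e M (en ▸ tor_T D hH _ (hs' g') (hk' g')) hg'
    by_cases hL : π D.v ∈ M.L
    · obtain ⟨j, hj, -, hj'⟩ := inv_out M hT
      exact ⟨_, _, _, j * π D.v, hT.change (fun h => hT.w_not ((mul_mem_cancel_left hj).1 h))
        (by rw [mul_assoc, hT.w_sq, mul_one]; exact hj),
        fun h => hj' ((mul_mem_cancel_right hL).1 h), hW, hg', Or.inr ⟨h1, hX⟩⟩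
    · exact ⟨_, _, _, _, hT, hL, hW, hg', Or.inr ⟨h1, hX⟩⟩

omit h0

theorem Z_le_H (c : QC G) : c.U ⊔ zpowers c.t ≤ c.H := sup_le c.U_le_H (zpowers_le.2 (t_H c))

theorem t_not_U (c : QC G) : c.t ∉ c.U := fun h => t_ne c (GD.eq_one_of_odd c.odd_U h (t_sq c))

theorem mem_Z {z : G} (hz : z ∈ c.U ⊔ zpowers c.t) : z ∈ c.U ∨ ∃ o ∈ c.U, z = o * c.t := by
  obtain ⟨o, ho, y, hy, rfl⟩ := (mem_sup_of_norm (zpowers_le.2 (c.U_nml.2 (t_H c)))).1 hz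
  obtain ⟨k, rfl⟩ := hy
  have h2 : c.t ^ (2 : ℤ) = 1 := by rw [zpow_two, t_sq]
  rcases Int.even_or_odd' k with ⟨j, rfl | rfl⟩
  · left; simpa [zpow_mul, h2] using ho
  · right; exact ⟨o, ho, by simp [zpow_add, zpow_mul, h2]⟩

theorem card_Z (c : QC G) : ♯(c.U ⊔ zpowers c.t) = ♯c.U * 2 := by
  rw [card_sup_of_inf (zpowers_le.2 (c.U_nml.2 (t_H c))), Nat.card_zpowers,
    orderOf_eq_prime (by rw [pow_two, t_sq]) (t_ne c)]
  rw [eq_bot_iff]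
  rintro z ⟨h2, k, rfl⟩
  refine GD.eq_one_of_odd c.odd_U h2 ?_
  show c.t ^ k * c.t ^ k = 1
  rw [← (Commute.refl c.t).mul_zpow, t_sq, one_zpow]

theorem sqrt_U {o : G} (ho : o ∈ c.U) : ∃ o' ∈ c.U, o' * o' = o := by
  obtain ⟨k, hk⟩ : Odd (orderOf o) := c.odd_U.of_dvd_nat (c.U.orderOf_dvd_natCard ho)
  refine ⟨o ^ (k + 1), pow_mem ho _, ?_⟩
  rw [← pow_add, show k + 1 + (k + 1) = 2 * k + 1 + 1 by ring, ← hk, pow_succ, pow_orderOf_eq_one,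
    one_mul]

variable (h1 : c.U ≤ C[c.H])
include h1

omit M in
theorem cen {z h : G} (hz : z ∈ c.U ⊔ zpowers c.t) (hh : h ∈ c.H) : z * h = h * z :=
  (mem_centralizer_iff.1 (sup_le h1 (zpowers_le.2 (mem_centralizer_iff.2 fun h hh => mem_C1.1 hh))
    hz) h hh).symm

omit M in
theorem onto_aux {K : Subgroup G} {w y : G} (hw : w ∈ c.H) (hw2 : w * w = 1)
    (hK : c.U ⊔ zpowers c.t ≤ K) (hy : y ∈ K) (hy' : y ∈ c.H) (e : y * (w * y * w) = c.t) (z : G)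
    (hz : z ∈ c.U ⊔ zpowers c.t) : ∃ y ∈ K, y * (w * y * w) = z := by
  have c1 : ∀ o ∈ c.U, ∀ g ∈ c.H, g * o = o * g := fun o ho g hg => (cen h1 (mem_sup_left ho) hg).symm
  rcases mem_Z hz with ho | ⟨o, ho, rfl⟩
  · obtain ⟨o, ho', rfl⟩ := sqrt_U ho
    exact ⟨o, hK (mem_sup_left ho'), by rw [c1 o ho' w hw, mul_assoc o w w, hw2, mul_one]⟩
  · obtain ⟨o, ho', rfl⟩ := sqrt_U ho
    refine ⟨o * y, mul_mem (hK (mem_sup_left ho')) hy, ?_⟩
    rw [← e]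
    calc o * y * (w * (o * y) * w) = o * (y * w * o) * y * w := by group
      _ = _ := by rw [c1 o ho' _ (mul_mem hy' hw)]; group

variable (h3 : ♯c.U ∣ M.N.m)
include h3

theorem cZ : ∃ d, Odd d ∧ d * ♯(c.U ⊔ zpowers c.t) = M.N.m := by
  obtain ⟨d, hd⟩ := h3
  have hm := M.m_mod
  obtain ⟨k, hk⟩ := c.odd_U
  obtain ⟨d, rfl⟩ : 2 ∣ d := ((Nat.coprime_two_left.2 c.odd_U).dvd_mul_left).1
    (hd ▸ even_iff_two_dvd.1 M.N.m_even)
  refine ⟨d, Nat.not_even_iff_odd.1 fun ⟨a, ha⟩ => ?_, by rw [card_Z, hd]; ring⟩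
  have : 4 ∣ M.N.m := ⟨♯c.U * a, by rw [hd, ha]; ring⟩
  omega

theorem ce : CE c.H (c.U ⊔ zpowers c.t) M.κ M.N.p :=
  ⟨M.surj, fun g hg => M.mem_ker hg, Z_le_H c, fun z hz h hh => cen h1 hz hh, M.N.hp, by
    obtain ⟨d, -, hd⟩ := cZ M h1 h3
    exact ((Nat.Prime.coprime_iff_not_dvd M.N.hp).2 fun h =>
      M.N.p_not_dvd_m (hd ▸ h.mul_left d)).symm⟩

theorem cyc_W (h2 : Cyc c.U) {W : Subgroup M.Γ} (h : Tor W M.N.n (ap M.κ c.s))
    (he : ap M.κ c.ω ∈ W) : ∃ ω ∈ pre M.κ W, ∀ y ∈ pre M.κ W, ∃ k : ℕ, y = ω ^ k := by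
  have E := ce M h1 h3
  have hs := s_H c
  have hω : c.ω ∈ pre M.κ W := mem_pre.2 ⟨ω_H c, he⟩
  obtain ⟨o, ho, eo⟩ := h2.exists_gen
  have ho' : orderOf o = ♯c.U := by rw [← eo, Nat.card_zpowers]
  have hoW := E.Z_le_pre W (mem_sup_left ho)
  obtain ⟨n', hodd, hn'⟩ := M.hn
  have hcop : (♯(c.U ⊔ zpowers c.t)).Coprime n' := by
    obtain ⟨d, -, hd⟩ := cZ M h1 h3
    refine Nat.coprime_of_dvd fun r hr a b => ?_
    have := M.N.eq_two_of_dvd hr (hd ▸ a.mul_left d) (hn' ▸ b.mul_left _)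
    subst this
    exact hodd.not_two_dvd_nat b
  obtain ⟨β, hβ, hβo⟩ := h.exists_order (d := n') (hn' ▸ dvd_mul_left _ _)
  obtain ⟨β, hb, rfl⟩ := E.lift β
  have hγ : β ^ ♯(c.U ⊔ zpowers c.t) ∈ pre M.κ W := pow_mem (mem_pre.2 ⟨hb, hβ⟩) _
  have hγo : orderOf (β ^ ♯(c.U ⊔ zpowers c.t)) = n' := by
    refine Nat.dvd_antisymm (orderOf_dvd_of_pow_eq_one ?_) ?_
    · rw [← pow_mul, mul_comm, pow_mul]
      exact CE.pow_C ((E.ker _ (pow_mem hb _)).1 (by rw [ap_pow _ hb, ← hβo, pow_orderOf_eq_one]))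
    · have := orderOf_ap_dvd M.κ (pow_mem hb ♯(c.U ⊔ zpowers c.t))
      rwa [ap_pow _ hb, Nat.Coprime.orderOf_pow (hβo ▸ hcop.symm), hβo] at this
  have e1 : orderOf (c.ω * o) = 2 ^ c.a * ♯c.U := by
    rw [(show Commute _ o from E.pre_comm hs h hω hoW).orderOf_mul_eq_mul_orderOf_of_coprime,
      c.ord_ω, ho']
    rw [c.ord_ω, ho']
    exact (Nat.coprime_two_left.2 c.odd_U).pow_left _
  have hζ := mul_mem (mul_mem hω hoW) hγ
  have e3 : 2 ^ c.a = 2 * 2 ^ (c.a - 1) := by rw [← pow_succ']; congr 1; have := c.ha; omega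
  have e2 : zpowers (c.ω * o * β ^ ♯(c.U ⊔ zpowers c.t)) = pre M.κ W := by
    refine eq_of_le_of_card_ge (zpowers_le.2 hζ) (le_of_eq ?_)
    rw [Nat.card_zpowers, (show Commute _ _ from E.pre_comm hs h (mul_mem hω hoW)
      hγ).orderOf_mul_eq_mul_orderOf_of_coprime, e1, hγo, E.card_pre', h.card, card_Z, hn', e3]
    · ring
    · rw [e1, hγo]
      rw [card_Z] at hcop
      exact Nat.Coprime.mul_left ((Nat.coprime_two_left.2 hodd).pow_left _)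
        (Nat.Coprime.coprime_mul_right hcop)
  refine ⟨_, hζ, fun y hy => ?_⟩
  rw [← e2, ← mem_powers_iff_mem_zpowers] at hy
  obtain ⟨k, rfl⟩ := hy
  exact ⟨k, rfl⟩

theorem concl (h0 : M.L0 = ⊤) (h2 : Cyc c.U) : Concl G := by
  have E := ce M h1 h3
  obtain ⟨T, W, X, w, hT, hwL, hW, hr, h⟩ := align M h0
  obtain ⟨j, hj, ho, hjL⟩ := inv_out M hT
  obtain ⟨u, hu, rfl, hu2⟩ := lift_out M ho hjL
  obtain ⟨w, hw, rfl, hw2⟩ := lift_out M (orderOf_eq_prime (by rw [pow_two, hT.w_sq])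
    fun e => hT.w_not (by rw [e]; exact one_mem _)) hwL
  have huT : u ∈ pre M.κ T := mem_pre.2 ⟨hu, hj⟩
  have hwu : w * u ≠ u * w := fun e => by
    have a1 : u * w ∈ M.Lt := M.mem_Lt.2 ⟨mul_mem hu hw, by
      rw [ap_mul _ hu hw, mul_mem_iff_of_index_two (L_index M h0)]; tauto⟩
    have a2 : ap M.κ (u * w) = 1 := by
      rcases M.invol_Lt a1 (by
        calc u * w * (u * w) = u * (w * u) * w := by group
          _ = u * u * (w * w) := by rw [e]; group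
          _ = 1 := by rw [hu2, hw2, one_mul]) with a | a
      · rw [a, ap_one]
      · rw [a, M.κ_t]
    rw [ap_mul _ hu hw] at a2
    exact hT.w_not (eq_inv_of_mul_eq_one_right a2 ▸ inv_mem hj)
  have hut : u * (w * u * w) = c.t := by
    have a1 := E.pre_inv hw hT u huT
    have a2 := E.cen _ a1 w hw
    have a3 : u * (w * u * w) ∈ M.Lt := M.mem_Lt.2 ⟨E.Z_le a1, by
      rw [(E.ker _ (E.Z_le a1)).2 a1]; exact one_mem _⟩
    have ww : ∀ g, w * (w * g) = g := fun g => by rw [← mul_assoc, hw2, one_mul]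
    have uu : ∀ g, u * (u * g) = g := fun g => by rw [← mul_assoc, hu2, one_mul]
    refine (M.invol_Lt a3 ?_).resolve_left fun e => hwu ?_
    · calc u * (w * u * w) * (u * (w * u * w)) = u * (w * (u * (w * u * w))) * (w * (w * u * w)) := by
            simp only [mul_assoc, ww]
        _ = 1 := by rw [← a2]; simp only [mul_assoc, ww, uu, hw2, hu2, mul_one]
    · calc w * u = u * (u * (w * u * w)) * w := by simp only [mul_assoc, ww, uu, hw2, mul_one]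
        _ = u * w := by rw [e, mul_one]
  have hi : c.i ∈ pre M.κ W := mem_pre.2 ⟨c.i_mem_H, by
    rw [← Mod.σ, σ_eq]; exact pow_mem hr _⟩
  have hsi : c.s * c.i ≠ c.i * c.s := fun e => t_ne c (by
    have := c.i_s
    rw [← e, mul_inv_cancel_right] at this
    exact (right_eq_mul.1 this))
  have hω : c.ω ∈ pre M.κ W := mem_pre.2 ⟨ω_H c, hr⟩
  have key : ∀ S : Subgroup M.Γ, (M.N.ε = 1 ∧ S = T) ∨ (M.N.ε = -1 ∧ S = W) →
      XD S X M.N.p M.N.q → _ := fun S hS hX =>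
    E.exists_GD (card_Γ M h0) (cZ M h1 h3) (mem_sup_right (mem_zpowers _)) (t_ne c) (t_sq c)
      hw hw2 hT (s_H c) (s_sq c) hW huT (fun e => by rw [e] at ho; simp at ho) hu2 hwu hi (σ_ne M)
      (σ_sq M) hsi (cyc_W M h1 h3 h2 hW hr) (onto_aux h1 hw hw2 (E.Z_le_pre _) huT hu hut)
      (onto_aux h1 (s_H c) (s_sq c) (E.Z_le_pre _) hω (ω_H c) (ωs_sq c)) hS hX
  rcases h with ⟨hε, hX, x, hR⟩ | ⟨hε, hX⟩
  · obtain ⟨D, a1, a2, a3, a4, a5⟩ := key _ (Or.inl ⟨hε, rfl⟩) hX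
    exact ⟨M.N, D, fun g hg => a1 ▸ mem_C1.2 (a2 ▸ hg), M.four_dvd_n, fun _ =>
      ⟨M.F, inferInstance, Fintype.ofFinite _, by rw [M.hq, @Nat.card_eq_fintype_card _ (Fintype.ofFinite _)],
        E.exists_P a3 (a4 ▸ hw) a5 hX.pow (a4 ▸ hR)⟩⟩
  · obtain ⟨D, a1, a2, -⟩ := key _ (Or.inr ⟨hε, rfl⟩) hX
    exact ⟨M.N, D, fun g hg => a1 ▸ mem_C1.2 (a2 ▸ hg), M.four_dvd_n, fun h =>
      absurd (hε ▸ h) (by norm_num)⟩

end H5.QI
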