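import Mathlib
import Cfsg.Agent.H4.GD13

/-! The index of `C(t)` in a simple group with the data `H4.GD`. -/

set_option autoImplicit false
set_option linter.unusedSectionVars false
set_option linter.unusedVariables false

namespace H5.QI

open Subgroup H24 H17.GU H4 H4.GD

theorem index_uni {G : Type*} [Group G] [Finite G] [IsSimpleGroup G] {N : NP} {D : GD G N} (h : D.Cfg)
    (hε : N.ε = -1) (hd : N.m ∣ 3 * Nat.card D.Z)
    (hW : ∀ y ∈ D.W, y ≠ 1 → ∀ g, g * y = y * g → g ∈ D.H)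
    (hg : (D.H.index : ℤ) = N.q ^ 2 * (N.q ^ 2 - N.q + 1) ∨
      (D.H.index : ℤ) = N.q * (N.q ^ 2 - N.q - 1) * (N.q - 2) ∨
      (N.q = 5 ∧ (D.H.index = 45 ∨ D.H.index = 357 ∨ D.H.index = 621 ∨ D.H.index = 1365))) :
    (D.H.index : ℤ) = N.q ^ 2 * (N.q ^ 2 - N.q + 1) := by
  obtain ⟨L, P, a, i, c, PM, MP, XP, hC, cP, hi, hig, hc, hL, cL, cM⟩ := exists_P h hε hW
  obtain ⟨d, hd2, hd1⟩ := D.cZ
  have d3 : d ∣ 3 := Nat.dvd_of_mul_dvd_mul_right D.Z_pos (hd1 ▸ hd)
  have dW : d * ♯D.W + 1 = N.q ^ 2 := by rw [D.cW, ← mul_assoc, hd1, N.m_mul_n]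
  obtain ⟨hm, hn⟩ : N.m = N.q + 1 ∧ N.n + 1 = N.q := (N.cases.resolve_left (by simp [hε])).2
  have cG : Nat.card G = D.H.index * (♯D.W * N.m * N.q) := by
    rw [← D.H.card_mul_index, D.cH, D.cW]; ring
  have q3 := N.three_le_q
  have pq : (N.p : ℤ) ∣ N.q := Int.natCast_dvd_natCast.2 N.p_dvd_q
  have key : ∀ (j : ℕ) (r : ℤ), 0 < j → j ≤ 2 → (D.H.index : ℤ) = N.q ^ j * r → ¬ (N.p : ℤ) ∣ r →
      N.p ^ i = N.q ^ 2 ∧ j = 2 := fun j r j0 j2 e hr => by
    have a1 : N.p ^ i ≤ N.q ^ j := Nat.le_of_dvd (by positivity) (Int.natCast_dvd_natCast.1 (by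
      push_cast
      exact (((Nat.prime_iff_prime_int.1 N.hp).coprime_iff_not_dvd.2 hr).pow_left).dvd_of_dvd_mul_right
        (e ▸ by exact_mod_cast hig)))
    have a2 := arith N.hp N.p_ne N.p_dvd_q d3 dW hi (hc (Int.natCast_dvd_natCast.1
      (e ▸ (pq.trans (dvd_pow_self _ j0.ne')).mul_right r))) (a1.trans (Nat.pow_le_pow_right (by omega) j2))
    exact ⟨a2, le_antisymm j2 ((Nat.pow_le_pow_iff_right (by omega)).1 (a2 ▸ a1))⟩
  have p1 : ¬ (N.p : ℤ) ∣ 1 := by exact_mod_cast N.hp.not_dvd_one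
  rcases hg with hg | hg | ⟨q5, hg⟩
  · exact hg
  · refine absurd (key 1 _ one_pos one_le_two (by rw [hg, pow_one, mul_assoc]) fun e => ?_).2 (by omega)
    rcases (Nat.prime_iff_prime_int.1 N.hp).dvd_or_dvd e with e | e
    · exact p1 (by simpa using dvd_sub (dvd_sub (pq.trans (dvd_pow_self _ two_ne_zero)) pq) e)
    · exact N.p_ne ((Nat.prime_dvd_prime_iff_eq N.hp Nat.prime_two).1 (by
        exact_mod_cast (by simpa using dvd_sub pq e : (N.p : ℤ) ∣ 2)))
  have p5 : N.p = 5 := (N.eq_p_of_dvd (by norm_num) (by rw [q5])).symm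
  have W8 : ♯D.W = 8 ∨ ♯D.W = 24 := by
    rw [q5] at dW
    rcases (Nat.dvd_prime Nat.prime_three).1 d3 with rfl | rfl <;> omega
  rw [hm, q5] at cG
  rcases hg with hg | hg | hg | hg
  · exact absurd (key 1 9 one_pos one_le_two (by simp [hg, q5]) (by norm_num [p5])).2 (by omega)
  · have i0 : i = 0 := by
      rw [hg, p5] at hig
      exact by_contra fun e => by simpa using (dvd_pow_self 5 e).trans hig
    rw [← eq_of_card_eq XP (by simp [cP, D.cX, i0]), p5] at PM
    have X5 := PM.of_norm_le (by norm_num) le_top inf_le_right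
    have a1 := syl_count (by norm_num) X5
    have a2 := N[D.X].card_mul_index
    rw [relIndex_top_right] at a1
    rw [cM, cL, cG, hg, q5] at a2
    obtain ⟨a3, a4⟩ : 1 + a * ♯D.W = 17 ∧ N[D.X].index = 126 := by
      have a5 : (1 + a * ♯D.W) * N[D.X].index = 2142 :=
        Nat.eq_of_mul_eq_mul_right (show 0 < 5 * ♯D.W from Nat.mul_pos (by norm_num) (card_pos _))
          (by linarith)
      have a6 : (1 + a * ♯D.W) % 8 = 1 := by rcases W8 with e | e <;> rw [e] <;> omega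
      generalize 1 + a * ♯D.W = b at a5 a6
      have : b ∈ Nat.divisors 2142 := Nat.mem_divisors.2 ⟨Dvd.intro _ a5, by norm_num⟩
      rw [show Nat.divisors 2142 = {1, 2, 3, 6, 7, 9, 14, 17, 18, 21, 34, 42, 51, 63, 102, 119, 126, 153,
        238, 306, 357, 714, 1071, 2142} by decide +kernel] at this
      simp only [Finset.mem_insert, Finset.mem_singleton] at this
      rcases this with h | h | h | h | h | h | h | h | h | h | h | h | h | h | h | h | h | h | h | h | h |
        h | h | h <;> subst h <;> omega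
    rw [a3, q5] at cL
    obtain ⟨S, hS⟩ := Sylow_exists (p := 17) (by norm_num) L
    have b1 : L ≤ N[S] := relIndex_eq_one.1 ((by decide +kernel : ∀ x ∈ Nat.divisors (17 * 5),
      x % 17 = 1 → x = 1) _ (Nat.mem_divisors.2 ⟨cL ▸ relIndex_dvd_card _ _, by norm_num⟩)
      (syl_count (by norm_num) hS))
    have b2 := hL.norm.trans (hS.norm_le_norm_of_nml b1)
    have b3 := syl_count (by norm_num) (X5.of_le ((norm_self _).trans b2) le_top)
    have b4 := syl_count (by norm_num) (Hall.of_idx hS le_top ((piNat_compl_singleton (by norm_num)).2 (by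
      have := L.card_mul_index
      rw [cL, cG, hg] at this
      rw [relIndex_top_right]; omega)))
    have b5 := relIndex_mul_index b2
    rw [relIndex_top_right] at b4
    have b6 := (by decide +kernel : ∀ x ∈ Nat.divisors 126, x % 17 = 1 → x = 1 ∨ x = 18) _
      (Nat.mem_divisors.2 ⟨Dvd.intro_left _ (b5.trans a4), by norm_num⟩) b4
    rcases (normalizer_eq_top_iff.1 (index_eq_one.1 (b6.resolve_right fun e => by
      rw [e] at b5; omega))).eq_bot_or_eq_top with e | e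
    · exact absurd e (hS.ne_bot (by norm_num) rfl (by rw [cL]; norm_num))
    · rw [show N[D.X] = ⊤ from top_le_iff.1 (e ▸ hS.le.trans hL.le)] at a4; simp at a4
  · rcases W8 with e | e <;> rw [hg, e] at cG
    · exact absurd cG (H18.Sv.card_ne 700 (by norm_num) (by decide +kernel))
    · exact absurd cG (H18.Sv.card_ne 700 (by norm_num) (by decide +kernel))
  · exact absurd (key 1 273 one_pos one_le_two (by simp [hg, q5]) (by norm_num [p5])).2 (by omega)


theorem index_eq {G : Type*} [Group G] [Finite G] [IsSimpleGroup G] {N : NP} {D : GD G N}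
    (h : D.Full) (h4 : 4 ∣ N.n) (hq : 5 ≤ N.q) :
    (D.H.index : ℤ) = N.q ^ 2 * (N.q ^ 2 + N.ε * N.q + 1) := by
  have hg := h.cfg.g_list h.cfg.dvd_three
  rcases N.cases with ⟨hε, h1, h2⟩ | ⟨hε, h1, h2⟩
  · rw [hε] at hg ⊢
    have hg' : (D.H.index : ℤ) = N.q ^ 2 * (N.q ^ 2 + N.q + 1) ∨
        (D.H.index : ℤ) = N.q * (N.q ^ 2 + N.q - 1) * (N.q + 2) := by simpa using hg
    rcases h.cfg.hex_or hε hg' with e | ⟨-, -, e⟩
    · exfalso
      have a1 := D.H.card_mul_index
      have a2 : 2 ≤ ♯D.Z := Nat.le_of_dvd D.Z_pos D.two_dvd_Z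
      have a3 : 7 ≤ N.q := by omega
      have a4 : 2 * (7 * 6 * 8) ≤ ♯D.H := by
        rw [D.cH]
        exact Nat.mul_le_mul a2 (Nat.mul_le_mul (Nat.mul_le_mul a3 (by omega)) (by omega))
      have a5 : (7 : ℤ) ≤ N.q := by exact_mod_cast a3
      have a6 : 100 ≤ D.H.index := by
        zify
        rcases hg' with e' | e' <;> rw [e'] <;> nlinarith [mul_nonneg (sub_nonneg.2 a5) (sub_nonneg.2 a5), mul_nonneg (mul_nonneg (sub_nonneg.2 a5) (sub_nonneg.2 a5)) (sub_nonneg.2 a5), mul_nonneg (mul_nonneg (mul_nonneg (sub_nonneg.2 a5) (sub_nonneg.2 a5)) (sub_nonneg.2 a5)) (sub_nonneg.2 a5)]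
      have := Nat.mul_le_mul a4 a6
      omega
    · rw [e]; push_cast; ring
  · rw [hε] at hg ⊢
    rw [index_uni h.cfg hε h.cfg.dvd_three (h.cfg.cent_W' h.cfg.dvd_three)]
    · ring
    rcases hg with e | e | e
    exacts [Or.inl (by rw [e]; ring), Or.inr (Or.inl (by rw [e]; ring)), Or.inr (Or.inr e.2)]

end H5.QI
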