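import Mathlib
import Cfsg.Agent.H5.McQ
import Cfsg.Agent.H10.McR0

/-!
# The amalgam completion is the McLaughlin group of the Leech lattice
-/

set_option autoImplicit false
set_option maxRecDepth 100000

namespace H5.McP

open H29 H9.MX H10

/-- The letters as words in four involutions. -/
def wl10 : List (List ℕ) := [[1, 3, 2, 3, 1, 2, 0, 2, 1, 2, 0, 2, 3, 2, 1, 3, 2, 0, 2, 1],
  [0, 1, 2, 3, 0, 1, 2, 3, 1, 3, 0, 3, 2, 1, 0, 2, 3, 0],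
  [1, 2, 3, 2, 0, 2, 3, 1, 2, 0, 3, 2, 0, 2, 3, 0],
  [2, 3, 0, 3, 2, 1, 0, 3, 0, 3, 0, 1, 2, 3, 0, 3, 2],
  [0, 2, 0, 3, 1, 3, 0, 3, 1, 2, 0, 2, 1, 3, 2, 0], [3, 1, 2, 1, 0, 2, 3, 0, 3, 2, 0, 1, 2, 1, 3],
  [3, 2, 0, 2, 3, 0, 1, 2, 3, 2, 0, 2, 3, 2, 0], [1, 2, 1, 3, 0, 3, 0, 3, 1, 2, 1],
  [0, 3, 2, 3, 2, 1, 0, 3, 0, 3, 1, 2, 3, 0, 2, 0, 3, 0],
  [0, 3, 1, 0, 3, 1, 2, 0, 1, 0, 1, 0, 2, 1, 3, 0, 1, 3, 0],
  [3, 0, 3, 0, 3, 0, 2, 0, 1, 0, 2, 3, 0, 3, 0, 3, 0]]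

theorem iv10 : IvOK (sg (wNets (nth Net.nil McR0.nl) wl10)) (ivOf ivl) := by
  have : wNets (nth Net.nil McR0.nl) wl10 = nth Net.nil (wl10.map (wordNet (nth Net.nil McR0.nl))) :=
    funext fun c => by
      rw [wNets, nth_eq, nth_eq]
      exact (List.getD_map wl10 [] (wordNet (nth Net.nil McR0.nl))).symm
  have hn := McR0.hn.wNets wl10
  rw [this] at hn ⊢
  exact ivOK_of_chk (k := 9) hn (by decide) (n := 13) (by decide) (by decide)
    (allN_true.1 (by decide +kernel))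

theorem rel10 : ∀ r ∈ RA, ev (sg (wNets (nth Net.nil McR0.nl) wl10)) r = 1 :=
  rels_of_chk (k := 9) (McR0.hn.wNets wl10) (by decide) iv10 (allN_true.1 (by decide +kernel))

theorem iso_mcl : Nonempty (S ≃* Cfsg.Spor.McL) := by
  obtain ⟨ρ, -, h0, -⟩ := McR0.exists_rho
  have hρ := map_wE h0 wl10
  have h8 : ρ (wE McR0.e0 wl10 8) ≠ 1 := fun h => by
    have := Net.testBit_pull (McR0.hn.wNets wl10 8) (bit 2) 2
    rw [show (wNets (nth Net.nil McR0.nl) wl10 8).perm = ρ (wE McR0.e0 wl10 8) from (hρ 8).symm, h,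
      testBit_bit] at this
    exact absurd this (by decide +kernel)
  have inj : Function.Injective ρ := by
    rw [← MonoidHom.ker_eq_bot_iff]
    exact (simple_Mc.eq_bot_or_eq_top_of_normal _ inferInstance).resolve_right fun h =>
      h8 (h ▸ Subgroup.mem_top _ : _ ∈ ρ.ker)
  obtain ⟨f, h1, -⟩ := exists_emb (e := wE McR0.e0 wl10)
    (fun c => inj (by rw [map_inv, hρ, hρ, iv10]))
    (fun r hr => inj (by rw [map_ev_sg fun c _ => hρ c, rel10 r hr, map_one])) rfl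
    (fun h => h8 (by rw [h, map_one]))
  have : Finite Mc := Nat.finite_of_card_ne_zero (by rw [card_Mc]; norm_num)
  have f3 : Mc ≃* Cfsg.Spor.McL := (MulEquiv.subgroupCongr (by
    ext g; exact ⟨fun h => ⟨⟨g.2, h.2⟩, h.1⟩, fun h => ⟨h.2, h.1.2⟩⟩)).trans
    (Subgroup.subgroupOfEquivOfLe (show Cfsg.Spor.McL ≤ Cfsg.Co0 from fun g h => h.1.1))
  exact ⟨(MulEquiv.ofBijective f ((Nat.bijective_iff_injective_and_card f).2
    ⟨h1, card.1.trans card_Mc.symm⟩)).trans f3⟩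

end H5.McP
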