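import Mathlib
import Cfsg.Agent.H5.LyE
import Cfsg.Agent.H5.McC
import Cfsg.Agent.H26.B71C
import Cfsg.Prelude.Def_Spor_Conway

/-!
# Subgroups containing the centraliser of `z`, and the recognition of `McL`
-/

set_option autoImplicit false
set_option maxRecDepth 100000

namespace H5.Ly

open Subgroup Equiv Equiv.Perm H29

theorem one_class {G : Type*} [Group G] [Finite G] {H : Subgroup G} {z : G} (hz : z ∈ H)
    (h2 : z * z = 1)
    (hc : ∀ w ∈ H, w * w = 1 → w ≠ 1 → w * z = z * w → ∃ h ∈ H, h * z * h⁻¹ = w)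
    {u : G} (hu : u ∈ H) (hu2 : u * u = 1) (hu1 : u ≠ 1) : ∃ h ∈ H, h * z * h⁻¹ = u := by
  rcases Nat.even_or_odd (orderOf (z * u)) with h | h
  · obtain ⟨a1, a2, a3⟩ := H6.central_involution h2 hu2 h
    have hw : (z * u) ^ (orderOf (z * u) / 2) ∈ H := pow_mem (mul_mem hz hu) _
    generalize (z * u) ^ (orderOf (z * u) / 2) = w at a1 a2 a3 hw
    obtain ⟨h, hh, rfl⟩ := hc w hw (by rw [← sq, ← a1, pow_orderOf_eq_one])
      (by rintro rfl; simp at a1) a2
    obtain ⟨k, hk, e⟩ := hc (h⁻¹ * u * h) (mul_mem (mul_mem (inv_mem hh) hu) hh)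
      (by calc _ = h⁻¹ * (u * u) * h := by group
          _ = 1 := by rw [hu2]; group)
      (fun e => hu1 (by calc u = h * (h⁻¹ * u * h) * h⁻¹ := by group
          _ = 1 := by rw [e]; group))
      (by calc _ = h⁻¹ * (u * (h * z * h⁻¹)) * h := by group
          _ = _ := by rw [← a3.eq]; group)
    exact ⟨h * k, mul_mem hh hk, by
      calc _ = h * (k * z * k⁻¹) * h⁻¹ := by group
        _ = _ := by rw [e]; group⟩
  · obtain ⟨d, hd, e⟩ := H6.exists_conj_of_odd h2 hu2 h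
    refine ⟨d, (closure_le H).2 ?_ hd, e⟩
    rintro x (rfl | rfl)
    exacts [hz, hu]

theorem se_top {G : Type*} [Group G] [Finite G] {H : Subgroup G} {z u v : G} (hz : z ∈ H)
    (h2 : z * z = 1) (hC : ∀ g, g * z = z * g → g ∈ H)
    (hc : ∀ w ∈ H, w * w = 1 → w ≠ 1 → w * z = z * w → ∃ h ∈ H, h * z * h⁻¹ = w)
    (hu : u ∈ H) (hv : v ∈ H) (hu2 : u * u = 1) (hv2 : v * v = 1) (h3 : (u * v) ^ 2 ≠ 1)
    (h4 : (u * v) ^ 4 = 1) : H = ⊤ := by
  by_contra hH
  have key : ∀ g t : G, t ∈ H → t * t = 1 → t ≠ 1 → g * t * g⁻¹ ∈ H → g ∈ H := by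
    intro g t ht t2 t1 hg
    obtain ⟨h, hh, rfl⟩ := one_class hz h2 hc ht t2 t1
    obtain ⟨k, hk, e⟩ := one_class hz h2 hc hg (by rw [conj_mul, t2]; group)
      (fun e => t1 (conj_eq_one_iff.1 e))
    have := hC (k⁻¹ * g * h) (by
      calc _ = k⁻¹ * (g * (h * z * h⁻¹) * g⁻¹) * g * h := by group
        _ = _ := by rw [← e]; group)
    have h5 := mul_mem (mul_mem hk this) (inv_mem hh)
    simpa [mul_assoc] using h5
  have u1 : u ≠ 1 := by rintro rfl; exact h3 (by rw [one_mul, sq, hv2])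
  have v1 : v ≠ 1 := by rintro rfl; exact h3 (by rw [mul_one, sq, hu2])
  have ui := inv_eq_of_mul_eq_one_right hu2
  have vi := inv_eq_of_mul_eq_one_right hv2
  have w2 : (u * v) ^ 2 * (u * v) ^ 2 = 1 := by rw [← pow_add]; exact h4
  have hse : Cfsg.IsStronglyEmbedded H := by
    refine H6.isStronglyEmbedded_iff.2 ⟨hH, ?_, fun g t ht h => key g t ht
      (by rw [← sq, ← h, pow_orderOf_eq_one]) (by rintro rfl; simp at h)⟩
    have : Fact (Nat.Prime 2) := ⟨Nat.prime_two⟩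
    have h5 := orderOf_dvd_natCard (⟨u, hu⟩ : H)
    rw [← Subgroup.orderOf_coe, orderOf_eq_prime (by rw [sq]; exact hu2) u1] at h5
    exact even_iff_two_dvd.2 h5
  have hr : H8.Suz.Rank2 G := by
    refine ⟨u, (u * v) ^ 2, u1, h3, fun e => u1 ?_, hu2, w2, ?_⟩
    · have : v * u * v = 1 := mul_left_cancel (a := u) (by rw [mul_one]; nth_rewrite 3 [e]; rw [sq]; group)
      calc u = v⁻¹ * (v * u * v) * v⁻¹ := by group
        _ = 1 := by rw [this, vi, mul_one, hv2]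
    · have h5 : (u * v) ^ 2 = ((u * v) ^ 2)⁻¹ := eq_inv_of_mul_eq_one_left w2
      calc u * (u * v) ^ 2 = (u * u) * (v * u * v) := by rw [sq]; group
        _ = (v * u * v * u) * u := by rw [hu2, mul_assoc _ u u, hu2, one_mul, mul_one]
        _ = _ := by rw [h5, sq, mul_inv_rev, mul_inv_rev, ui, vi]; group
  obtain ⟨Q, hQ⟩ := H26.BR.ls_top hse hr
  have h5 := hQ.comm u trivial ⟨u1, hu2⟩ (H26.BR.fix_one.2 hu) v
    (hQ.inv_mem v trivial ⟨v1, hv2⟩ (H26.BR.fix_one.2 hv))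
  rw [ui, vi, show u * v * u * v = (u * v) ^ 2 by rw [sq]; group] at h5
  refine hH (eq_top_iff.2 fun y _ => ?_)
  have h6 := h5.2 y⁻¹ trivial
  rw [← mul_smul, ← inv_smul_eq_iff, inv_inv, ← mul_smul] at h6
  refine key y _ (pow_mem (mul_mem hu hv) 2) w2 h3 ?_
  rw [mul_assoc]
  exact H26.BR.fix_one.1 h6

theorem se_le {G : Type*} [Group G] [Finite G] {H Y : Subgroup G} (hY : H ≤ Y) {z u v : G}
    (hz : z ∈ H) (h2 : z * z = 1) (hC : ∀ g ∈ Y, g * z = z * g → g ∈ H)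
    (hc : ∀ w ∈ H, w * w = 1 → w ≠ 1 → w * z = z * w → ∃ h ∈ H, h * z * h⁻¹ = w)
    (hu : u ∈ H) (hv : v ∈ H) (hu2 : u * u = 1) (hv2 : v * v = 1) (h3 : (u * v) ^ 2 ≠ 1)
    (h4 : (u * v) ^ 4 = 1) : Y ≤ H := by
  have := se_top (G := Y) (H := H.subgroupOf Y) (z := ⟨z, hY hz⟩) (u := ⟨u, hY hu⟩)
    (v := ⟨v, hY hv⟩) hz (Subtype.ext h2) (fun g hg => hC g g.2 (congrArg Subtype.val hg))
    (fun w hw a1 a2 a3 => by
      obtain ⟨h, hh, e⟩ := hc w hw (congrArg Subtype.val a1) (fun e => a2 (Subtype.ext e))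
        (congrArg Subtype.val a3)
      exact ⟨⟨h, hY hh⟩, hh, Subtype.ext e⟩) hu hv (Subtype.ext hu2) (Subtype.ext hv2)
    (fun e => h3 (congrArg Subtype.val e)) (Subtype.ext h4)
  exact subgroupOf_eq_top.1 this

theorem supp_inv {s : PP 11} (hs : sign (pr s) = 1) (h2 : s * s = 1) (h1 : pr s ≠ 1) :
    (pr s).support.card = 8 := by
  refine card_supp_eq hs h2 h1 ?_
  have h3 : pr s ^ 2 = 1 := by rw [sq, ← map_mul, h2, map_one]
  have h4 := sign_of_pow_two_eq_one h3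
  have h5 : (pr s).support.card ≤ 11 := by simpa using Finset.card_le_univ (pr s).support
  have h6 : Fintype.card (Function.fixedPoints (pr s)) = 11 - (pr s).support.card := by
    rw [card_fixedPoints, sum_cycleType]; simp
  have h7 := two_dvd_card_support h3
  rw [hs, h6, Fintype.card_fin] at h4
  by_contra h8
  have h9 : (pr s).support.card = 10 := by omega
  rw [h9] at h4
  exact absurd h4 (by decide)

/-- An involution of the double cover is `z` or conjugate to `t`. -/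
theorem inv_cases {n : ℕ} (h8 : 8 ≤ n) (hn : n ≤ 11) {s : PP 11} (hs : s ∈ Mn 11 n) (h2 : s * s = 1)
    (h1 : s ≠ 1) : s = zz ∨ ∃ x ∈ Mn 11 n, x * s * x⁻¹ = l0 9 := by
  by_cases h : pr s = 1
  · exact .inl ((pr_eq_one h).resolve_left h1)
  · exact .inr (conj_t h8 hn hs h2 (supp_inv hs.1 h2 h))

namespace Cf

variable {X : Type*} [Group X] {n : ℕ} (c : Cf X n)

theorem ac_sq : (c.g 0 * c.g 2) ^ 2 = c.g 8 := by
  have := c.eqw [0, 2, 0, 2] [8] (by decide +kernel)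
  simpa [sq, mul_assoc] using this

/-- A subgroup that contains the centraliser of `z` and fuses `z` with `t` is everything. -/
theorem top_of [Finite X] {H : Subgroup X} (hC : ∀ x ∈ Mn 11 n, c.lf x ∈ H) {σ : X} (hσ : σ ∈ H)
    (h : σ * c.g 8 * σ⁻¹ = c.g 9) : H = ⊤ := by
  refine se_top (z := c.g 8) (u := c.g 0) (v := c.g 2) (hC _ (c.mem0 8)) (c.g_mul_self 8)
    (fun g hg => ?_) (fun w _ a1 a2 a3 => ?_) (hC _ (c.mem0 0)) (hC _ (c.mem0 2)) (c.g_mul_self 0)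
    (c.g_mul_self 2) (by rw [ac_sq]; exact c.g_ne_one)
    (by rw [show 4 = 2 * 2 from rfl, pow_mul, ac_sq, sq, c.g_mul_self])
  · obtain ⟨u, hu, rfl⟩ := c.cen1 hg
    exact hC u hu
  · obtain ⟨u, hu, rfl⟩ := c.cen1 a3
    rcases inv_cases c.h8 c.h11 hu (by rw [← sq]; exact c.pow_lf hu (by rw [sq]; exact a1))
      (by rintro rfl; exact a2 c.lf_one) with rfl | ⟨x, hx, e⟩
    · exact ⟨1, one_mem _, by rw [c.g_eight, one_mul, inv_one, mul_one, c.lf_eq (zz_mem n)]; rfl⟩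
    · refine ⟨(c.lf x)⁻¹ * σ, mul_mem (inv_mem (hC x hx)) hσ, ?_⟩
      calc _ = (c.lf x)⁻¹ * (σ * c.g 8 * σ⁻¹) * c.lf x := by group
        _ = _ := by
          rw [h, g, ← e, c.lf_mul (mul_mem hx hu) (inv_mem hx), c.lf_mul hx hu, c.lf_inv hx]; group

variable {c}

theorem Act.fuse {e : ℕ} {b : X} (h : Act c e b) : c.g 4 * b * c.g 8 * (c.g 4 * b)⁻¹ = c.g 9 := by
  have := c.conj_eqw [4] [8, 9] [9] (by decide +kernel)
  simp only [ev_cons, ev_nil, mul_one] at this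
  rw [← this, ← h.a8]; group

theorem lf_mem_gen {e : ℕ} {b : X} {x : PP 11} (hx : x ∈ Mn 11 8) :
    c.lf x ∈ gen (c.EE e b) McP.cols := by
  have h := mem_of_eight (H := ((gen (c.EE e b) McP.cols).comap c.ψ).map (Mn 11 n).subtype)
    (fun k => ⟨⟨_, c.mem0 k⟩, by
      change c.ψ _ ∈ gen _ _
      rw [← c.lf_eq (c.mem0 k)]
      by_cases hk : k < 10
      · rw [← g, ← c.EE_lt e b hk]
        exact mem_gen (by revert k; decide)
      · rw [show l0 k = 1 from (congrArg ec (nth_default _ (by simp [lc]; omega))).trans ec_c1, lf_one]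
        exact one_mem _, rfl⟩) hx
  obtain ⟨y, hy, rfl⟩ := h
  rw [Subgroup.coe_subtype, c.lf_eq y.2]
  exact hy

theorem iso_S {X : Type} [Group X] [Finite X] (c : Cf X 8) {σ : X} (hσ : c.Np σ) :
    Nonempty (McP.S ≃* X) := by
  obtain ⟨e, -, b, h⟩ := step4 hσ
  obtain ⟨b, h, hb⟩ := step5 h
  obtain ⟨f, h1, h2, -⟩ := (h.ok hb (by rw [c.Y_eq_one (by decide), one_pow])).emb
  have h3 := c.top_of (H := gen (c.EE e b) McP.cols) (fun x hx => lf_mem_gen hx)
    (σ := c.g 4 * b) (mul_mem (c.EE_lt e b (k := 4) (by decide) ▸ mem_gen (by decide))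
      (c.EE_10 e b ▸ mem_gen (by decide))) h.fuse
  exact ⟨MulEquiv.ofBijective f ⟨h1, MonoidHom.range_eq_top.1 (h2.trans h3)⟩⟩

end Cf

/-- A finite simple group with an involution whose centraliser is `2·A₈` is `McL`. -/
theorem mcl_of_cent {G : Type*} [Group G] [Finite G] [IsSimpleGroup G] {z : G} (hz : orderOf z = 2)
    (hcov : Cfsg.IsNonsplitDoubleCover (centralizer ({z} : Set G)) (alternatingGroup (Fin 8))) :
    Cfsg.Spor.IsoMcL G := by
  obtain ⟨g, h1, h2⟩ := not_isolated hz hcov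
  obtain ⟨X, _, _, φ, c, -, σ, hσ⟩ := exists_cf (by decide) hz hcov h1 h2
  obtain ⟨f⟩ := c.iso_S hσ
  obtain ⟨f'⟩ := McP.iso_mcl
  exact ⟨(φ.trans f.symm).trans f'⟩

end H5.Ly
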