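import Mathlib
import Cfsg.Agent.H28.ND0
import Cfsg.Agent.H28.NDA

/-! S1739, doubling end: the action on `E / ⟨z⟩`. -/

set_option autoImplicit false
set_option linter.unusedSectionVars false

namespace H28.ND

open Subgroup Equiv Equiv.Perm Cfsg H24 H23 H25.LB H5.Ly H20.So
open scoped commutatorElement

variable {G : Type*} [Group G] [Finite G] {n : ℕ} {t x y g h k : G}
  {K : Subgroup G} {J : G → Subgroup G} {ι : SS →* G} {a b c a' b' : SS}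

namespace NDac

theorem zc : ∀ s : SS, s * zS = zS * s := by decide +kernel
theorem zz : zS * zS = 1 := by decide
theorem E_sq : ∀ s ∈ E₀, s * s = 1 := by decide +kernel
theorem E_comm : ∀ s ∈ E₀, ∀ u ∈ E₀, s * u = u * s := by decide +kernel
theorem E_conj : ∀ u ∈ E₀, ∀ s, s * u * s⁻¹ ∈ E₀ := by decide +kernel
theorem E_gen : ∀ s ∈ E₀, ∃ p ∈ [1, zS], ∃ q ∈ [1, ζS], ∃ r ∈ [1, eS], ∃ u ∈ [1, wS],
    s = p * q * r * u := by decide +kernel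
theorem zE : zS ∈ E₀ := by decide
theorem ζE : ζS ∈ E₀ := by decide
theorem eE : eS ∈ E₀ := by decide
theorem wE : wS ∈ E₀ := by decide

theorem ιzz (ι : SS →* G) : ι zS * ι zS = 1 := by rw [← map_mul, zz, map_one]
theorem ιzc (ι : SS →* G) (s : SS) : ι s * ι zS = ι zS * ι s := by rw [← map_mul, zc, map_mul]

/-- `g` maps `a` to `b` modulo `z` -/
def Ac (ι : SS →* G) (g : G) (a b : SS) : Prop := Md1 (ι zS) (g * ι a * g⁻¹) (ι b)

theorem Ac.of_eq (e : g * ι a * g⁻¹ = ι b) : Ac ι g a b := Or.inl e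

theorem Ac.hom {s : SS} (e : s * a * s⁻¹ = b ∨ s * a * s⁻¹ = b * zS) : Ac ι (ι s) a b := by
  unfold Ac Md1
  rw [← map_inv, ← map_mul, ← map_mul, ← map_mul]
  exact e.imp (congrArg ι) (congrArg ι)

theorem Ac.mul (h1 : Ac ι g a b) (h2 : Ac ι g a' b') : Ac ι g (a * a') (b * b') := by
  unfold Ac Md1 at *
  rw [map_mul, map_mul, ← conj_mul]
  rcases h1 with h1 | h1 <;> rcases h2 with h2 | h2 <;> rw [h1, h2]
  · exact Or.inl rfl
  · exact Or.inr (mul_assoc _ _ _).symm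
  · exact Or.inr (by rw [mul_assoc, ← ιzc, mul_assoc])
  · exact Or.inl (by rw [mul_assoc, ιzc ι b', ← mul_assoc (ι zS), ιzz, one_mul])

theorem Ac.comp (h1 : Ac ι g a b) (h2 : Ac ι h b c) (hz : h ∈ C{ι zS}) : Ac ι (h * g) a c := by
  unfold Ac Md1 at *
  have e : h * g * ι a * (h * g)⁻¹ = h * (g * ι a * g⁻¹) * h⁻¹ := by group
  have ez := mem_C1_iff_conj.1 hz
  rw [e]
  rcases h1 with h1 | h1 <;> rw [h1]
  · exact h2
  · rw [← conj_mul, ez]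
    rcases h2 with h2 | h2 <;> rw [h2]
    · exact Or.inr rfl
    · exact Or.inl (by rw [mul_assoc, ιzz, mul_one])

theorem Ac.inv (h1 : Ac ι g a b) (hz : g ∈ C{ι zS}) : Ac ι g⁻¹ b a := by
  unfold Ac Md1 at *
  have ez := mem_C1_iff_conj.1 (inv_mem hz)
  rcases h1 with h1 | h1
  · exact Or.inl (by rw [← h1]; group)
  · refine Or.inr ?_
    have : ι b = g * ι a * g⁻¹ * ι zS := by rw [h1, mul_assoc, ιzz, mul_one]
    rw [this, ← conj_mul, ez]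
    group

theorem Ac.ex (h1 : Ac ι g a b) (hz : g ∈ C{ι zS}) :
    ∃ a' ∈ [a, a * zS], g * ι a' * g⁻¹ = ι b := by
  rcases h1 with h1 | h1
  · exact ⟨a, by simp, h1⟩
  · refine ⟨a * zS, by simp, ?_⟩
    rw [map_mul, ← conj_mul, h1, mem_C1_iff_conj.1 hz, mul_assoc, ιzz, mul_one]

theorem Ac.all (hz : g ∈ C{ι zS}) (h1 : Ac ι g ζS ζS) (h2 : Ac ι g eS eS) (h3 : Ac ι g wS wS) :
    ∀ e ∈ E₀, Md1 (ι zS) (g * ι e * g⁻¹) (ι e) := fun e he => by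
  obtain ⟨p, hp, q, hq, r, hr, u, hu, rfl⟩ := E_gen e he
  have h0 : Ac ι g 1 1 := Ac.of_eq (by simp)
  have h4 : Ac ι g zS zS := Ac.of_eq (mem_C1_iff_conj.1 hz)
  simp only [List.mem_cons, List.not_mem_nil, or_false] at hp hq hr hu
  refine Ac.mul (Ac.mul (Ac.mul ?_ ?_) ?_) ?_
  · rcases hp with rfl | rfl <;> assumption
  · rcases hq with rfl | rfl <;> assumption
  · rcases hr with rfl | rfl <;> assumption
  · rcases hu with rfl | rfl <;> assumption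

theorem exE (hg : g ∈ N[EE ι]) (ha : a ∈ E₀) : ∃ b ∈ E₀, g * ι a * g⁻¹ = ι b := by
  obtain ⟨b, hb, e⟩ := conj_mem hg (mem_map_of_mem ι ha)
  exact ⟨b, hb, e.symm⟩

theorem ι_N (ι : SS →* G) (s : SS) : ι s ∈ N[EE ι] := mem_N_of_finite (by
  rintro _ ⟨u, hu, rfl⟩
  exact ⟨_, E_conj u hu s, by simp⟩)

theorem ι_Cz (ι : SS →* G) (s : SS) : ι s ∈ C{ι zS} := H24.mem_C1.2 (ιzc ι s)

theorem ι_C (ha : a ∈ E₀) : ι a ∈ C[EE ι] := mem_C.2 (by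
  rintro _ ⟨u, hu, rfl⟩
  rw [← map_mul, E_comm u hu a ha, map_mul])

theorem CE_z (hg : g ∈ C[EE ι]) : g ∈ C{ι zS} := C_le_C1 (mem_map_of_mem ι zE) hg

theorem CE_eq (hg : g ∈ C[EE ι]) (ha : a ∈ E₀) : g * ι a * g⁻¹ = ι a :=
  conj_eq_of_mem_C hg (mem_map_of_mem ι ha)

theorem z2 (m : Md t K J ι) : orderOf (ι zS) = 2 := m.ord zz (by decide)

theorem J_le (m : Md t K J ι) (c : In n t K J) : J (ι zS) ≤ C{t} ⊓ C{ι zS} :=
  le_inf ((c.Jle _ m.zK (z2 m)).trans c.Kle) ((norm_self _).trans (c.nJ_le m.zK (z2 m)))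

theorem ι_Ct (m : Md t K J ι) (c : In n t K J) (s : SS) : ι s ∈ C{t} := c.Kle (m.memK c s)

theorem nJ (m : Md t K J ι) (c : In n t K J) (ht : g ∈ C{t}) (hz : g ∈ C{ι zS}) :
    g ∈ N[J (ι zS)] := c.nJ m.zK (z2 m) hz (Or.inl (mem_C1_iff_conj.1 ht))

/-- `GL₃(2)` inside `J z` -/
theorem gl3 (m : Md t K J ι) {b1 b2 b3 : SS} (hi : Ind b1 b2 b3) :
    ∃ g ∈ J (ι zS) ⊓ N[EE ι], Ac ι g ζS b1 ∧ Ac ι g eS b2 ∧ Ac ι g wS b3 := by
  obtain ⟨M, -, hM, -, hG, -⟩ := m.m0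
  obtain ⟨g, hg, h⟩ := hG b1 b2 b3 hi
  exact ⟨g, hM hg, h⟩

end NDac

end H28.ND
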