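import Mathlib
import Cfsg.Agent.H5.LyS

/-!
# Automorphisms of `2A₈` and `2A₁₁` are induced by permutations
-/

set_option autoImplicit false
set_option maxRecDepth 100000

namespace H5.Ly

open Equiv Equiv.Perm H29

section
variable {α : Type*}

/-- `σ` is the three-cycle `(a b c)`. -/
def T3 (σ : α → α) (a b c : α) : Prop :=
  a ≠ b ∧ a ≠ c ∧ b ≠ c ∧ σ a = b ∧ σ b = c ∧ σ c = a ∧ ∀ p, p ≠ a → p ≠ b → p ≠ c → σ p = p

theorem T3.ext {σ τ : α → α} {a b c : α} (h : T3 σ a b c) (h' : T3 τ a b c) (p : α) :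
    σ p = τ p := by
  obtain ⟨-, -, -, h1, h2, h3, h4⟩ := h
  obtain ⟨-, -, -, k1, k2, k3, k4⟩ := h'
  by_cases e1 : p = a
  · rw [e1, h1, k1]
  by_cases e2 : p = b
  · rw [e2, h2, k2]
  by_cases e3 : p = c
  · rw [e3, h3, k3]
  rw [h4 p e1 e2 e3, k4 p e1 e2 e3]

theorem T3.rot {σ : α → α} {a b c : α} (h : T3 σ a b c) : T3 σ b c a :=
  ⟨h.2.2.1, h.1.symm, h.2.1.symm, h.2.2.2.2.1, h.2.2.2.2.2.1, h.2.2.2.1,
    fun p h1 h2 h3 => h.2.2.2.2.2.2 p h3 h1 h2⟩

theorem T3.edge {x y : α → α} {a b c d e f : α} (hx : T3 x a b c) (hy : T3 y d e f)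
    (h : ∀ p, x (y (x (y p))) = p) (h' : ∃ p, x (y p) ≠ p) :
    ∃ u, x u ≠ u ∧ x u = y u ∧ x (x u) ≠ y (y u) := by
  obtain ⟨x1, x2, x3, x4, x5, x6, x7⟩ := hx
  obtain ⟨y1, y2, y3, y4, y5, y6, y7⟩ := hy
  obtain ⟨p, hp⟩ := h'
  have h1 := h a
  have h2 := h b
  have h3 := h c
  have h4 := h d
  have h5 := h e
  have h6 := h f
  by_contra hh
  push Not at hh
  have k1 := hh a
  have k2 := hh b
  have k3 := hh c
  have l1 := x7 p
  have l2 := y7 p
  have l3 := x7 f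
  have l4 := y7 b
  clear h
  by_cases c1 : d = a <;> by_cases c2 : d = b <;> by_cases c3 : d = c <;>
    by_cases c4 : e = a <;> by_cases c5 : e = b <;> by_cases c6 : e = c <;>
    first
      | grind
      | (by_cases c7 : f = a <;> by_cases c8 : f = b <;> by_cases c9 : f = c <;>
          by_cases c10 : p = a <;> by_cases c11 : p = b <;> by_cases c12 : p = c <;> grind)

theorem T3.at {x : α → α} {a b c u : α} (hx : T3 x a b c) (h : x u ≠ u) :
    T3 x u (x u) (x (x u)) := by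
  have h1 := hx.2.2.2.2.2.2 u
  obtain ⟨-, -, -, h2, h3, h4, -⟩ := id hx
  by_cases e1 : u = a
  · rw [e1, h2, h3]; exact hx
  by_cases e2 : u = b
  · rw [e2, h3, h4]; exact hx.rot
  by_cases e3 : u = c
  · rw [e3, h4, h2]; exact hx.rot.rot
  exact absurd (h1 e1 e2 e3) h

theorem T3.third {x y s : α → α} {u v w w' p q d e f : α} (hx : T3 x u v w) (hy : T3 y u v w')
    (hw : w ≠ w') (hs : T3 s d e f) (h1 : x p ≠ p) (h2 : x p = s p) (h3 : y q ≠ q)
    (h4 : y q = s q) : s u = v := by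
  have k1 := hs.at (h2 ▸ h1)
  have k2 := hs.at (h4 ▸ h3)
  obtain ⟨x1, x2, x3, x4, x5, x6, x7⟩ := hx
  obtain ⟨y1, y2, y3, y4, y5, y6, y7⟩ := hy
  have l1 := x7 p
  have l2 := y7 q
  have l3 := k1.2.2.2.2.2.2 q
  obtain ⟨s1, s2, s3, s4, s5, s6, -⟩ := k1
  obtain ⟨r1, r2, r3, r4, r5, r6, -⟩ := k2
  clear hs x7 y7
  by_cases c1 : p = u <;> by_cases c2 : p = v <;> by_cases c3 : q = u <;> by_cases c4 : q = v <;>
    by_cases c5 : q = p <;> by_cases c6 : q = s p <;> grind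

theorem exists_T3 [Fintype α] [DecidableEq α] {σ : Perm α} (h : σ.support.card = 3)
    (h3 : σ ^ 3 = 1) : ∃ a b c, T3 σ a b c := by
  obtain ⟨a, ha⟩ := Finset.card_pos.1 (show 0 < σ.support.card by omega)
  have h1 := mem_support.1 ha
  have h2 : σ (σ (σ a)) = a := by simpa [pow_succ] using congrArg (fun f : Perm α => f a) h3
  have h4 : σ (σ a) ≠ σ a := σ.injective.ne h1
  have h5 : a ≠ σ (σ a) := fun e => h1 (by rw [← e] at h2; exact h2)
  refine ⟨a, σ a, σ (σ a), h1.symm, h5, h4.symm, rfl, rfl, h2, fun p e1 e2 e3 => ?_⟩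
  by_contra hp
  have : ({p, a, σ a, σ (σ a)} : Finset α) ⊆ σ.support := by
    simp only [Finset.insert_subset_iff, Finset.singleton_subset_iff, mem_support]
    exact ⟨hp, h1, h4, σ.injective.ne h4⟩
  have := Finset.card_le_card this
  rw [Finset.card_insert_of_notMem (by simp [e1, e2, e3]),
    Finset.card_insert_of_notMem (by simp [h1.symm, h5]),
    Finset.card_insert_of_notMem (by simp [h4.symm])] at this
  simp [h] at this

theorem supp_prime [Fintype α] [DecidableEq α] {σ : Perm α} {p : ℕ} (hp : p.Prime)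
    (h : σ ^ p = 1) (h1 : σ ≠ 1) : ∃ k, σ.support.card = (k + 1) * p := by
  have : Fact p.Prime := ⟨hp⟩
  have ho := orderOf_eq_prime h h1
  obtain ⟨k, hk⟩ := cycleType_prime_order (σ := σ) (by rw [ho]; exact hp)
  exact ⟨k, by rw [← sum_cycleType, hk, ho, Multiset.sum_replicate, smul_eq_mul]⟩

theorem supp_three [Fintype α] [DecidableEq α] {y f : Perm α} {S : Finset α} {p : ℕ}
    (hp : p.Prime) (hp3 : p ≠ 3) (hy : y ^ 3 = 1) (hy1 : y ≠ 1) (hf : f ^ p = 1) (hf1 : f ≠ 1)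
    (hc : y * f = f * y) (s1 : y.support ⊆ S) (s2 : f.support ⊆ S) (h1 : S.card < 2 * p)
    (h2 : S.card < p + 6) : y.support.card = 3 := by
  have : Fact p.Prime := ⟨hp⟩
  have ho := orderOf_eq_prime hf hf1
  have hcy := isCycle_of_prime_order (σ := f) (by rw [ho]; exact hp)
    (by rw [ho]; exact (Finset.card_le_card s2).trans_lt h1)
  have hd : Disjoint y.support f.support := Finset.disjoint_left.2 fun a ha hb => by
    rw [mem_support] at ha hb
    have h3 : f (y a) ≠ y a := by rw [← mul_apply, ← hc, mul_apply]; exact y.injective.ne hb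
    obtain ⟨k, hk⟩ := hcy.exists_pow_eq hb h3
    have h4 : ∀ b, y ((f ^ k) b) = (f ^ k) (y b) := fun b => by
      rw [← mul_apply, ((show Commute y f from hc).pow_right k).eq, mul_apply]
    have h5 : (f ^ (k * 3)) a = a := by
      have : y (y (y a)) = a := by simpa [pow_succ] using congrArg (fun f : Perm α => f a) hy
      rw [← hk, h4, ← hk, h4, h4, ← hk] at this
      simpa [pow_mul, pow_succ] using this
    rw [← hcy.pow_eq_one_iff' hb, ← orderOf_dvd_iff_pow_eq_one, ho,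
      ((Nat.coprime_primes hp Nat.prime_three).2 hp3).dvd_mul_right, ← ho,
      orderOf_dvd_iff_pow_eq_one] at h5
    exact ha (by rw [← hk, h5]; rfl)
  have h3 := Finset.card_le_card (Finset.union_subset s1 s2)
  rw [Finset.card_union_of_disjoint hd, ← hcy.orderOf, ho] at h3
  obtain ⟨k, hk⟩ := supp_prime Nat.prime_three hy hy1
  omega

end

/-- The three-cycles `(0 1 i)`. -/
def Lc : List ℕ := [0x123456789a, 0x123456789a, 0x13456789a, 0x21456789a, 0x23156789a,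
  0x23416789a, 0x23451789a, 0x23456189a, 0x23456719a, 0x23456781a, 0x234567891]
/-- Conjugating elements. -/
def Lh : List ℕ := [0x123456789a, 0x123456789a, 0x123456789a, 0x122356789a, 0x1122256789a,
  0x1122426789a, 0x1122452789a, 0x1122456289a, 0x1122456729a, 0x1122456782a, 0x11224567892]

theorem Lc_val : allL Lc (valA 10) = true := by decide +kernel
theorem Lh_val : allL Lh (valA 10) = true := by decide +kernel

theorem mem_of_cyc {n : ℕ} (hn : n = 8 ∨ n = 11) {H : Subgroup (PP 11)} (hz : zz ∈ H)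
    (h : ∀ k < n, lE Lc k ∈ H) {x : PP 11} (hx : x ∈ Mn 11 n) : x ∈ H := by
  have key : ∀ ch : List (ℕ × List (List ℕ)), (∀ l ∈ ch, ∀ w ∈ l.2, ∀ k ∈ w, k < n) →
      ∀ l ∈ chW Lc ch, ∀ w ∈ l.2, ec w ∈ H := fun ch hc l hl w hw => by
    obtain ⟨l, hl', rfl⟩ := List.mem_map.1 hl
    obtain ⟨u, hu, rfl⟩ := List.mem_map.1 hw
    rw [← ev_lE Lc_val]
    exact ev_mem fun k hk => h k (hc l hl' u hu k hk)
  rcases hn with rfl | rfl
  · exact chain_mem (a := 0) (b := 1) (by decide) val_c1 hz (chW Lc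
    [(7, [[7, 7], [7], [7, 7, 2], [7, 7, 3], [7, 7, 4], [7, 7, 5], [7, 7, 6], []]),
    (6, [[6, 6], [6], [6, 6, 2], [6, 6, 3], [6, 6, 4], [6, 6, 5], []]),
    (5, [[5, 5], [5], [5, 5, 2], [5, 5, 3], [5, 5, 4], []]),
    (4, [[4, 4], [4], [4, 4, 2], [4, 4, 3], []]),
    (3, [[3, 3], [3], [3, 3, 2], []]),
    (2, [[2, 2], [2], []])])
      (by decide +kernel) (key _ (by decide)) (XG.of_comm hx (by simp [ec_c1]))
  · exact chain_mem (a := 0) (b := 1) (by decide) val_c1 hz (chW Lc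
    [(10, [[10, 10], [10], [10, 10, 2], [10, 10, 3], [10, 10, 4], [10, 10, 5], [10, 10, 6], [10, 10, 7], [10, 10, 8], [10, 10, 9], []]),
    (9, [[9, 9], [9], [9, 9, 2], [9, 9, 3], [9, 9, 4], [9, 9, 5], [9, 9, 6], [9, 9, 7], [9, 9, 8], []]),
    (8, [[8, 8], [8], [8, 8, 2], [8, 8, 3], [8, 8, 4], [8, 8, 5], [8, 8, 6], [8, 8, 7], []]),
    (7, [[7, 7], [7], [7, 7, 2], [7, 7, 3], [7, 7, 4], [7, 7, 5], [7, 7, 6], []]),
    (6, [[6, 6], [6], [6, 6, 2], [6, 6, 3], [6, 6, 4], [6, 6, 5], []]),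
    (5, [[5, 5], [5], [5, 5, 2], [5, 5, 3], [5, 5, 4], []]),
    (4, [[4, 4], [4], [4, 4, 2], [4, 4, 3], []]),
    (3, [[3, 3], [3], [3, 3, 2], []]),
    (2, [[2, 2], [2], []])])
      (by decide +kernel) (key _ (by decide)) (XG.of_comm hx (by simp [ec_c1]))

theorem eq_of_cube {x y : PP 11} (hx : x ^ 3 = 1) (hy : y ^ 3 = 1) (h : pr x = pr y) : x = y := by
  rcases pr_eq h with h1 | h1
  · exact h1
  · rw [h1, (show Commute zz y from zz_comm y).mul_pow, hy, mul_one, pow_succ, zz_pow_two,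
      one_mul] at hx
    exact absurd hx zz_ne

theorem supp_sub {n : ℕ} {x : PP 11} (hx : x ∈ Mn 11 n) :
    (pr x).support ⊆ Finset.univ.filter fun i : Fin 11 => i.1 < n := fun i hi =>
  Finset.mem_filter.2 ⟨Finset.mem_univ _, lt_of_moved hx (mem_support.1 hi)⟩

theorem aut_conj {n : ℕ} (hn : n = 8 ∨ n = 11) (α : PP 11 → PP 11)
    (hm : ∀ x ∈ Mn 11 n, α x ∈ Mn 11 n) (h1 : ∀ x ∈ Mn 11 n, ∀ y ∈ Mn 11 n, α (x * y) = α x * α y)
    (hi : ∀ x ∈ Mn 11 n, α x = 1 → x = 1) (hz : α zz = zz) :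
    ∃ s : PP 11, (∀ i : Fin 11, n ≤ i.1 → pr s i = i) ∧ ∀ x ∈ Mn 11 n, α x = s * x * s⁻¹ := by
  have a1 : α 1 = 1 := by simpa using h1 1 (one_mem _) 1 (one_mem _)
  have ap : ∀ x ∈ Mn 11 n, ∀ k : ℕ, α (x ^ k) = α x ^ k := fun x hx k => by
    induction k with
    | zero => simpa using a1
    | succ k ih => rw [pow_succ, h1 _ (pow_mem hx k) _ hx, ih, pow_succ]
  have odd1 : ∀ x ∈ Mn 11 n, ∀ k, x ^ (2 * k + 1) = 1 → x ≠ 1 → pr (α x) ≠ 1 := fun x hx k h h' e => by
    rcases pr_eq_one e with e | e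
    · exact h' (hi x hx e)
    · have := ap x hx (2 * k + 1)
      rw [h, a1, e, pow_succ, pow_mul, zz_pow_two, one_pow, one_mul] at this
      exact zz_ne this.symm
  have mc : ∀ k < n, lE Lc k ∈ Mn 11 n ∧ lE Lh k ∈ Mn 11 n := fun k hk =>
    ⟨inM_mem (by revert k; rcases hn with rfl | rfl <;> decide +kernel),
      inM_mem (by revert k; rcases hn with rfl | rfl <;> decide +kernel)⟩
  have vc := val_nth Lc_val
  have c3 : ∀ k, lE Lc k ^ 3 = 1 := fun k => by
    by_cases hk : k < 11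
    · rw [lE, ← (pwC_spec (vc k) 3).2, ← ec_c1]
      exact congrArg ec (by revert k; decide +kernel)
    · rw [lE, nth_default _ (by simp [Lc]; omega), ec_c1, one_pow]
  have h8 : 8 ≤ n := by omega
  have d3 : ∀ k < n, α (lE Lc k) ^ 3 = 1 := fun k hk => by rw [← ap _ (mc k hk).1, c3, a1]
  have t2 : (pr (α (lE Lc 2))).support.card = 3 := by
    obtain ⟨f, p, hp, hp3, k, hk, f1, f2, f3, f4, f5, f6⟩ : ∃ f p : ℕ, p.Prime ∧ p ≠ 3 ∧ ∃ k,
        p = 2 * k + 1 ∧ inM n f = true ∧ pwC f p = c1 ∧ f ≠ c1 ∧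
        mul (nth c1 Lc 2) f = mul f (nth c1 Lc 2) ∧ n < 2 * p ∧ n < p + 6 := by
      rcases hn with rfl | rfl
      · exact ⟨0x1123345689a, 5, by norm_num, by norm_num, 2, by decide +kernel⟩
      · exact ⟨0x1123345678a, 7, by norm_num, by norm_num, 3, by decide +kernel⟩
    have vf := inM_val f1
    have mf := inM_mem f1
    have f7 : ec f ^ p = 1 := by rw [← (pwC_spec vf p).2, f2, ec_c1]
    have m2 := (mc 2 (by omega)).1
    have hS : (Finset.univ.filter fun i : Fin 11 => i.1 < n).card = n := by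
      rcases hn with rfl | rfl <;> rfl
    refine supp_three (f := pr (α (ec f))) hp hp3 (by rw [← map_pow, d3 2 (by omega), map_one])
      (odd1 _ m2 1 (c3 2) fun e => absurd (ec_inj (vc 2) val_c1 (e.trans ec_c1.symm))
        (by decide +kernel)) (by rw [← map_pow, ← ap _ mf, f7, a1, map_one])
      (odd1 _ mf k (hk ▸ f7) fun e => f3 (ec_inj vf val_c1 (e.trans ec_c1.symm))) ?_
      (supp_sub (hm _ m2)) (supp_sub (hm _ mf)) (by omega) (by omega)
    rw [← map_mul, ← map_mul, ← h1 _ m2 _ mf, ← h1 _ mf _ m2, lE, ← ec_mul (vc 2) vf, f4,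
      ec_mul vf (vc 2)]
  have t3 : ∀ k < n, 2 ≤ k → ∃ a b c, T3 (pr (α (lE Lc k))) a b c := fun k hk h2 => by
    refine exists_T3 ?_ (by rw [← map_pow, d3 k hk, map_one])
    have e : lE Lh k * lE Lc 2 = lE Lc k * lE Lh k := by
      rw [lE, lE, lE, ← ec_mul (val_nth Lh_val k) (vc 2), ← ec_mul (vc k) (val_nth Lh_val k)]
      have : k < 11 := by omega
      exact congrArg ec (by clear hk; revert k; decide +kernel)
    have e2 := congrArg (fun x => pr (α x)) e
    simp only [h1 _ (mc k hk).2 _ (mc 2 (by omega)).1, h1 _ (mc k hk).1 _ (mc k hk).2,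
      map_mul] at e2
    rw [← mul_inv_eq_iff_eq_mul.2 e2, card_support_conj, t2]
  have ed : ∀ i < n, 2 ≤ i → ∀ j < n, 2 ≤ j → i ≠ j → ∃ u, pr (α (lE Lc i)) u ≠ u ∧
      pr (α (lE Lc i)) u = pr (α (lE Lc j)) u ∧ pr (α (lE Lc i)) (pr (α (lE Lc i)) u) ≠
        pr (α (lE Lc j)) (pr (α (lE Lc j)) u) := fun i hi' i2 j hj j2 hij => by
    obtain ⟨a, b, c, hx⟩ := t3 i hi' i2
    obtain ⟨d, e, f, hy⟩ := t3 j hj j2
    have m := mul_mem (mc i hi').1 (mc j hj).1
    have e1 : α (lE Lc i) * α (lE Lc j) * (α (lE Lc i) * α (lE Lc j)) = zz := by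
      rw [← h1 _ (mc i hi').1 _ (mc j hj).1, ← h1 _ m _ m, ← hz, lE, lE, ← ec_mul (vc i) (vc j),
        ← ec_mul (mul_val (vc i) (vc j)) (mul_val (vc i) (vc j)), ← ec_cz]
      have : i < 11 ∧ j < 11 := by omega
      have key : ∀ i < 11, 2 ≤ i → ∀ j < 11, 2 ≤ j → i ≠ j → mul (mul (nth c1 Lc i) (nth c1 Lc j))
        (mul (nth c1 Lc i) (nth c1 Lc j)) = cz := by decide +kernel
      rw [key i this.1 i2 j this.2 j2 hij]
    refine hx.edge hy (fun p => ?_) ?_
    · simpa using congrArg (fun x => pr x p) e1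
    · by_contra h
      push Not at h
      rcases pr_eq_one (x := α (lE Lc i) * α (lE Lc j)) (Equiv.ext fun p => by simpa using h p)
        with h | h <;> rw [h] at e1
      · exact zz_ne (by simpa using e1.symm)
      · exact zz_ne (zz_mul_zz.symm.trans e1).symm
  obtain ⟨u, u1, u2, u3⟩ := ed 2 (by omega) le_rfl 3 (by omega) (by omega) (by omega)
  obtain ⟨v, hv⟩ : ∃ v, v = pr (α (lE Lc 2)) u := ⟨_, rfl⟩
  have T2 : T3 (pr (α (lE Lc 2))) u v (pr (α (lE Lc 2)) v) := by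
    obtain ⟨a, b, c, h⟩ := t3 2 (by omega) le_rfl
    exact hv ▸ h.at u1
  have T3' : T3 (pr (α (lE Lc 3))) u v (pr (α (lE Lc 3)) v) := by
    obtain ⟨a, b, c, h⟩ := t3 3 (by omega) (by omega)
    rw [hv, u2]; exact h.at (u2 ▸ u1)
  have Tk : ∀ k < n, 2 ≤ k → T3 (pr (α (lE Lc k))) u v (pr (α (lE Lc k)) v) := fun k hk k2 => by
    by_cases e2 : k = 2
    · exact e2 ▸ T2
    by_cases e3 : k = 3
    · exact e3 ▸ T3'
    obtain ⟨a, b, c, h⟩ := t3 k hk k2
    obtain ⟨p, p1, p2, -⟩ := ed 2 (by omega) le_rfl k hk k2 (Ne.symm e2)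
    obtain ⟨q, q1, q2, -⟩ := ed 3 (by omega) (by omega) k hk k2 (Ne.symm e3)
    have := T2.third T3' (by rw [← u2, ← hv] at u3; exact u3) h p1 p2 q1 q2
    rw [← this]; exact h.at (this ▸ T2.1.symm)
  let φ : Fin 11 → Fin 11 := fun i => if i.1 = 0 then u else if i.1 = 1 then v else
    if i.1 < n then pr (α (lE Lc i.1)) v else i
  have lt : ∀ i : Fin 11, i.1 < n → (φ i).1 < n := fun i hi' => by
    have m := hm _ (mc 2 (by omega)).1
    simp only [φ]
    split_ifs with e0 e1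
    · exact lt_of_moved m u1
    · exact lt_of_moved m T2.2.2.1.symm
    · have T := Tk i.1 hi' (by omega)
      exact lt_of_moved (hm _ (mc i.1 hi').1) (by rw [T.2.2.2.2.2.1]; exact T.2.1)
  have inj : Function.Injective φ := fun i j h => by
    by_contra hij
    have hij' : i.1 ≠ j.1 := fun e => hij (Fin.ext e)
    have li := lt i
    have lj := lt j
    rw [h] at li
    rw [← h] at lj
    simp only [φ] at h li lj
    have w : ∀ i < n, 2 ≤ i → ∀ j < n, 2 ≤ j → i ≠ j →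
        pr (α (lE Lc i)) v ≠ pr (α (lE Lc j)) v := fun i hi' i2 j hj j2 hij e => by
      obtain ⟨p, -, p2, p3⟩ := ed i hi' i2 j hj j2 hij
      have := (Tk i hi' i2).ext (e ▸ Tk j hj j2)
      exact p3 (by rw [this, this])
    have uv := T2.1
    split_ifs at h li lj with a1 a2 a3 a4 a5 a6 a7 a8 a9 a10 a11 a12 a13 a14 a15 <;>
      first
        | omega
        | exact uv h
        | exact uv h.symm
        | exact (Tk _ ‹_› (by omega)).2.1 h
        | exact (Tk _ ‹_› (by omega)).2.1 h.symm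
        | exact (Tk _ ‹_› (by omega)).2.2.1 h
        | exact (Tk _ ‹_› (by omega)).2.2.1 h.symm
        | exact w _ (by omega) (by omega) _ (by omega) (by omega) hij' h
        | exact hij h
  obtain ⟨s, hs⟩ := pr_surj (Equiv.ofBijective φ (Finite.injective_iff_bijective.1 inj))
  have hs' : ∀ i, pr s i = φ i := fun i => by rw [hs]; rfl
  have fx : ∀ i : Fin 11, n ≤ i.1 → pr s i = i := fun i hi' => by
    rw [hs']; simp only [φ]; rw [if_neg (by omega), if_neg (by omega), if_neg (by omega)]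
  refine ⟨s, fx, fun x hx => ?_⟩
  let H : Subgroup (PP 11) :=
    { carrier := {x | x ∈ Mn 11 n ∧ α x = s * x * s⁻¹}
      one_mem' := ⟨one_mem _, by simpa using a1⟩
      mul_mem' := fun {x y} hx hy => ⟨mul_mem hx.1 hy.1, by
        rw [h1 _ hx.1 _ hy.1, hx.2, hy.2, conj_mul]⟩
      inv_mem' := fun {x} hx => ⟨inv_mem hx.1, by
        rw [← conj_inv, ← hx.2, eq_inv_iff_mul_eq_one, ← h1 _ (inv_mem hx.1) _ hx.1,
          inv_mul_cancel, a1]⟩ }
  refine (mem_of_cyc hn (H := H) ⟨zz_mem n, by rw [hz, ← zz_comm, mul_inv_cancel_right]⟩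
    (fun k hk => ⟨(mc k hk).1, ?_⟩) hx).2
  by_cases k2 : k < 2
  · have : lE Lc k = 1 := by interval_cases k <;> exact ec_c1
    simp [this, a1]
  refine eq_of_cube (d3 k hk) (by rw [conj_pow, c3]; group) (Equiv.ext ((Tk k hk (by omega)).ext ?_))
  have k11 : k < 11 := by omega
  have T0 : T3 (pr (lE Lc k)) 0 1 ⟨k, k11⟩ := by
    have key : ∀ k < 11, ¬ k < 2 → ∀ p < 11, appA 10 (nth c1 Lc k) p =
      if p = 0 then 1 else if p = 1 then k else if p = k then 0 else p := by decide +kernel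
    have key2 := fun p : Fin 11 => (app_ec (vc k) p).trans (key k k11 k2 p.1 p.2)
    refine ⟨by decide, by simp [Fin.ext_iff]; omega, by simp [Fin.ext_iff]; omega,
      Fin.ext (key2 0), Fin.ext (key2 1), Fin.ext ((key2 _).trans ?_),
      fun p p1 p2 p3 => Fin.ext ((key2 _).trans ?_)⟩
    · simp only []; rw [if_neg (by omega), if_neg (by omega), if_pos trivial]; rfl
    · rw [if_neg (show ¬ p.1 = 0 from fun e => p1 (Fin.ext e)),
        if_neg (show ¬ p.1 = 1 from fun e => p2 (Fin.ext e)),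
        if_neg (show ¬ p.1 = k from fun e => p3 (Fin.ext e))]
  have e0 : pr s 0 = u := hs' 0
  have e1 : pr s 1 = v := hs' 1
  have e2 : pr s ⟨k, k11⟩ = pr (α (lE Lc k)) v := by
    rw [hs']; simp only [φ]; rw [if_neg (by omega), if_neg (by omega), if_pos hk]
  rw [← e2, ← e0, ← e1]
  obtain ⟨b1, b2, b3, b4, b5, b6, b7⟩ := T0
  refine ⟨(pr s).injective.ne b1, (pr s).injective.ne b2, (pr s).injective.ne b3, by simp [b4],
    by simp [b5], by simp [b6], fun p p1 p2 p3 => ?_⟩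
  obtain ⟨p, rfl⟩ := (pr s).surjective p
  simp [b7 p (fun e => p1 (e ▸ rfl)) (fun e => p2 (e ▸ rfl)) (fun e => p3 (e ▸ rfl))]

end H5.Ly
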