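import Mathlib
import Cfsg.Agent.H5.LyR
import Cfsg.Agent.H19.DCE2

/-!
# Homotopies of paths as certificates of a double coset enumeration

A path `[h₀, h₁, …, hₖ]` of words stands for the element `h₀ τ h₁ τ ⋯ τ hₖ`.
-/

set_option autoImplicit false

namespace H5.LyP

open H29 H19 H5.Ly

/-- Words. -/
abbrev Wd : Type := List ℕ
/-- An operation: type, position, fact, word. -/
abbrev Op : Type := ℕ × ℕ × ℕ × Wd

variable {G : Type*} [Group G] {g : ℕ → G} {τ : G}

/-- The value of a path. -/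
def evL (g : ℕ → G) (τ : G) : List Wd → G
  | [] => 1
  | h :: R => ev g h * evR g τ R

theorem evR_cons (h : Wd) (R : List Wd) : evR g τ (h :: R) = τ * evL g τ (h :: R) := by
  simp [evR, evL, mul_assoc]

/-- `L'` is a failure or has the value of `L`. -/
def Gd (g : ℕ → G) (τ : G) (L L' : List Wd) : Prop :=
  L' ≠ [] → L ≠ [] ∧ evL g τ L = evL g τ L'

theorem Gd.nil (L : List Wd) : Gd g τ L [] := fun h => absurd rfl h

theorem Gd.ite {L L' : List Wd} {b : Bool} (h : b = true → Gd g τ L L') :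
    Gd g τ L (Bool.rec [] L' b) := by
  cases b
  exacts [Gd.nil L, h rfl]

/-- Apply `f` to the path without its first `i` words. -/
noncomputable def atP (f : List Wd → List Wd) (i : ℕ) : List Wd → List Wd :=
  Nat.rec (motive := fun _ => List Wd → List Wd) f (fun _ ih L =>
    List.rec (motive := fun _ => List Wd) [] (fun h R _ =>
      List.rec (motive := fun _ => List Wd) [] (fun a t _ => h :: a :: t) (ih R)) L) i

theorem atP_gd {f : List Wd → List Wd} (hf : ∀ L, Gd g τ L (f L)) :
    ∀ (i : ℕ) (L : List Wd), Gd g τ L (atP f i L)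
  | 0, L => hf L
  | _ + 1, [] => Gd.nil _
  | i + 1, h :: R => by
    have ih := atP_gd hf i R
    rw [show atP f (i + 1) (h :: R) =
      List.rec (motive := fun _ => List Wd) [] (fun a t _ => h :: a :: t) (atP f i R) from rfl]
    generalize atP f i R = L' at ih
    cases L' with
    | nil => exact Gd.nil _
    | cons a t =>
      obtain ⟨h1, h2⟩ := ih (by simp)
      obtain ⟨b, s, rfl⟩ := List.exists_cons_of_ne_nil h1
      exact fun _ => ⟨by simp, by
        change _ * evR g τ (b :: s) = _ * evR g τ (a :: t)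
        rw [evR_cons, evR_cons, h2]⟩

/-- Join a path into another one. -/
noncomputable def glue (y : Wd) (post B : List Wd) : Wd → List Wd :=
  List.rec (motive := fun _ => Wd → List Wd) (fun x => (x ++ y) :: post)
    (fun b _ ih x => x :: ih b) B

theorem glue_spec (y : Wd) (post : List Wd) : ∀ (B : List Wd) (x : Wd), glue y post B x ≠ [] ∧
    evL g τ (glue y post B x) = ev g x * evR g τ B * evL g τ (y :: post)
  | [], x => ⟨List.cons_ne_nil _ _, by
    simp [show glue y post [] x = (x ++ y) :: post from rfl, evL, evR, mul_assoc]⟩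
  | b :: B, x => ⟨List.cons_ne_nil _ _, by
    obtain ⟨h1, h2⟩ := glue_spec y post B b
    rw [show glue y post (b :: B) x = x :: glue y post B b from rfl, evL]
    obtain ⟨c, s, h3⟩ := List.exists_cons_of_ne_nil h1
    rw [h3, evR_cons, ← h3, h2, evR]
    group⟩

/-- Match the inner words of a rule. -/
noncomputable def mtc (k : Wd → Wd → List Wd → List Wd) (A : List Wd) : List Wd → List Wd :=
  List.rec (motive := fun _ => List Wd → List Wd) (fun _ => []) (fun u A' ih R =>
    List.rec (motive := fun _ => List Wd) [] (fun h R' _ =>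
      List.rec (motive := fun _ => List Wd) (k u h R')
        (fun _ _ _ => Bool.rec [] (ih R') (eqL u h)) A') R) A

theorem mtc_spec {k : Wd → Wd → List Wd → List Wd} : ∀ (A R : List Wd), mtc k A R ≠ [] →
    ∃ u h post, mtc k A R = k u h post ∧
      evR g τ R = evR g τ A * (ev g u)⁻¹ * evL g τ (h :: post)
  | [], _, h => absurd rfl h
  | _ :: _, [], h => absurd rfl h
  | [u], h :: R, _ => ⟨u, h, R, rfl, by simp [evR, evL, mul_assoc]⟩
  | u :: v :: A, h :: R, h1 => by
    rw [show mtc k (u :: v :: A) (h :: R) = Bool.rec [] (mtc k (v :: A) R) (eqL u h) from rfl] at h1 ⊢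
    cases h2 : eqL u h with
    | false => rw [h2] at h1; exact absurd rfl h1
    | true =>
      rw [h2] at h1
      obtain ⟨u', h', post, h3, h4⟩ := mtc_spec (v :: A) R h1
      refine ⟨u', h', post, h3, ?_⟩
      rw [evR, h4, eqL_true h2, evR.eq_2 g τ h]
      group

/-- Apply the rule `A = B`. -/
noncomputable def rule (iv : ℕ → ℕ) (A B L : List Wd) : List Wd :=
  List.rec (motive := fun _ => List Wd) [] (fun u A' _ =>
    List.rec (motive := fun _ => List Wd) [] (fun b B' _ =>
      List.rec (motive := fun _ => List Wd) [] (fun h R _ =>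
        mtc (fun v k post => glue (invW iv v ++ k) post B' (h ++ (invW iv u ++ b))) A' R) L) B) A

theorem rule_gd {iv : ℕ → ℕ} (hiv : IvOK g iv) : ∀ {A B : List Wd}, evL g τ A = evL g τ B →
    ∀ L, Gd g τ L (rule iv A B L)
  | [], _, _, _ => Gd.nil _
  | _ :: _, [], _, _ => Gd.nil _
  | _ :: _, _ :: _, _, [] => Gd.nil _
  | u :: A, b :: B, e, h :: R => fun h1 => by
    obtain ⟨v, k, post, h2, h3⟩ := mtc_spec (g := g) (τ := τ) A R h1
    refine ⟨by simp, ?_⟩
    rw [show rule iv (u :: A) (b :: B) (h :: R) = _ from h2, (glue_spec _ _ _ _).2, evL, h3]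
    simp only [evL, ev_append, ev_invW hiv] at e ⊢
    rw [show evR g τ A = (ev g u)⁻¹ * (ev g b * evR g τ B) by rw [← e]; group]
    group

/-- The data of a certificate. -/
structure PD where
  iv : ℕ → ℕ
  al : List Wd
  dl : List ℕ
  eq : Wd → Bool
  F : List (List Wd × List Wd)

/-- The data of a double coset: the path of its representative, generators of the stabiliser,
representatives of its orbits. -/
structure Lv where
  T : List Wd
  gs : List (Wd × List Op)
  ps : List (Wd × List Op)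

/-- Append a word to the last word of a path. -/
noncomputable def apL (s : Wd) (R : List Wd) : Wd → List Wd := glue s [] R

theorem evL_apL (s : Wd) (R : List Wd) : evL g τ (apL s R []) = evR g τ R * ev g s := by
  rw [apL, (glue_spec _ _ _ _).2]
  simp [evL, evR]

theorem evL_snoc : ∀ {L : List Wd}, L ≠ [] → evL g τ (L ++ [[]]) = evL g τ L * τ
  | h :: R, _ => by simp [evL, evR_append, evR, mul_assoc]

/-- Clear the last word. -/
noncomputable def clr (R : List Wd) : List Wd :=
  List.rec (motive := fun _ => List Wd) [] (fun h R' ih =>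
    List.rec (motive := fun _ => List Wd) [[]] (fun _ _ _ => h :: ih) R') R

theorem clr_spec : ∀ R : List Wd, ∃ y, evR g τ R = evR g τ (clr R) * ev g y
  | [] => ⟨[], by simp [show clr [] = [] from rfl]⟩
  | [h] => ⟨h, by simp [show clr [h] = [[]] from rfl, evR]⟩
  | h :: k :: R => by
    obtain ⟨y, hy⟩ := clr_spec (k :: R)
    exact ⟨y, by rw [show clr (h :: k :: R) = h :: clr (k :: R) from rfl, evR, hy, evR]; group⟩

namespace PD

variable (D : PD)

/-- Move a word through `τ`. -/
noncomputable def stE (d : Wd) (L : List Wd) : List Wd :=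
  List.rec (motive := fun _ => List Wd) [] (fun h R _ =>
    List.rec (motive := fun _ => List Wd) [] (fun k R' _ =>
      Bool.rec [] ((h ++ invW D.iv d) :: (subW D.al d ++ k) :: R') (allL d fun c => memL c D.dl)) R) L

/-- Replace a word. -/
noncomputable def stN (w : Wd) (L : List Wd) : List Wd :=
  List.rec (motive := fun _ => List Wd) [] (fun h R _ =>
    Bool.rec [] (w :: R) (D.eq (h ++ invW D.iv w))) L

/-- One operation; the facts below `n` may be used. -/
noncomputable def stp (n : ℕ) (o : Op) : List Wd → List Wd :=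
  atP (Nat.rec (motive := fun _ => List Wd → List Wd) (D.stE o.2.2.2) (fun t _ =>
    Nat.rec (motive := fun _ => List Wd → List Wd) (D.stN o.2.2.2) (fun t _ L =>
      Bool.rec [] (Nat.rec (motive := fun _ => List Wd)
        (rule D.iv (nth ([], []) D.F o.2.2.1).1 (nth ([], []) D.F o.2.2.1).2 L)
        (fun _ _ => rule D.iv (nth ([], []) D.F o.2.2.1).2 (nth ([], []) D.F o.2.2.1).1 L) t)
        (Nat.ble (Nat.succ o.2.2.1) n)) t) o.1) o.2.1

/-- A walk; the test `k` is applied to the head and the tail of the result. -/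
noncomputable def walk (n : ℕ) (k : Wd → List Wd → Bool) (ops : List Op) : List Wd → Bool :=
  List.rec (motive := fun _ => List Wd → Bool)
    (fun L => List.rec (motive := fun _ => Bool) false (fun a t _ => k a t) L)
    (fun o _ ih L => List.rec (motive := fun _ => Bool) false (fun a t _ => ih (a :: t))
      (D.stp n o L)) ops

/-- The test of the facts from number `n` on. -/
noncomputable def chkF (l : List (List Op)) : ℕ → Bool :=
  List.rec (motive := fun _ => ℕ → Bool) (fun _ => true) (fun ops _ ih n =>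
    and2 (D.walk n (fun a t => eqLL (a :: t) (nth ([], []) D.F n).2) ops (nth ([], []) D.F n).1)
      (lit (Nat.succ n) ih)) l

/-- The test of the generators of a stabiliser. -/
noncomputable def chkS (n : ℕ) (a : Lv) : Bool :=
  allL a.gs fun s => D.walk n (fun _ t => eqLL t a.T) s.2 (apL s.1 a.T [])

/-- The test of the neighbours. -/
noncomputable def chkP (n : ℕ) (Ts : List (List Wd)) (T : List Wd) (ps : List (Wd × List Op)) : Bool :=
  allL ps fun p => D.walk n (fun _ t => exL Ts fun T' => eqLL (clr t) T') p.2 (apL p.1 T [] ++ [[]])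

/-- A contradiction. -/
noncomputable def chkX (n : ℕ) (ne : Wd → Bool) (x y : Wd) (ops : List Op) : Bool :=
  D.walk n (fun a t => and2 (eqL a x) (List.rec (motive := fun _ => Bool) false
    (fun b s _ => and2 (eqLL s []) (ne (b ++ invW D.iv y))) t)) ops [x, y]

/-- The standing hypotheses. -/
structure Hyp (g : ℕ → G) (τ : G) : Prop where
  iv : IvOK g D.iv
  sq : τ * τ = 1
  al : ∀ c ∈ D.dl, τ * g c * τ⁻¹ = ev g (nth [] D.al c)
  eq : ∀ w, D.eq w = true → ev g w = 1

/-- The facts below `n` hold. -/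
def Upto (g : ℕ → G) (τ : G) (n : ℕ) : Prop :=
  ∀ f < n, evL g τ (nth ([], []) D.F f).1 = evL g τ (nth ([], []) D.F f).2

variable {D}

theorem stE_gd (h : D.Hyp g τ) (d : Wd) : ∀ L, Gd g τ L (D.stE d L)
  | [] => Gd.nil _
  | [_] => Gd.nil _
  | a :: k :: R => Gd.ite fun h1 _ => ⟨by simp, by
    have := conj_subW (w := d) fun c hc => h.al c (memL_true.1 (allL_true.1 h1 c hc))
    simp only [evL, evR, ev_append, ev_invW h.iv, ← this]
    rw [← mul_assoc τ, ← mul_assoc τ, ← mul_assoc τ, h.sq, ← eq_inv_of_mul_eq_one_left h.sq]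
    group⟩

theorem stN_gd (h : D.Hyp g τ) (w : Wd) : ∀ L, Gd g τ L (D.stN w L)
  | [] => Gd.nil _
  | a :: R => Gd.ite fun h1 _ => ⟨by simp, by
    have := h.eq _ h1
    rw [ev_append, ev_invW h.iv, mul_inv_eq_one] at this
    rw [evL, evL, this]⟩

theorem stp_gd (h : D.Hyp g τ) {n : ℕ} (hu : D.Upto g τ n) (o : Op) :
    ∀ L, Gd g τ L (D.stp n o L) := by
  obtain ⟨t, i, f, w⟩ := o
  refine atP_gd ?_ i
  match t with
  | 0 => exact stE_gd h w
  | 1 => exact stN_gd h w
  | 2 => exact fun L => Gd.ite fun h1 => rule_gd h.iv (hu f (ble_true.1 h1)) L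
  | _ + 3 => exact fun L => Gd.ite fun h1 => rule_gd h.iv (hu f (ble_true.1 h1)).symm L

theorem walk_spec (h : D.Hyp g τ) {n : ℕ} (hu : D.Upto g τ n) {k : Wd → List Wd → Bool} :
    ∀ (ops : List Op) (L : List Wd), D.walk n k ops L = true →
      ∃ a t, k a t = true ∧ evL g τ L = evL g τ (a :: t)
  | [], [], hc => absurd hc (by simp [walk])
  | [], a :: t, hc => ⟨a, t, hc, rfl⟩
  | o :: ops, L, hc => by
    have h1 := stp_gd h hu o L
    rw [show D.walk n k (o :: ops) L = List.rec (motive := fun _ => Bool) false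
      (fun a t _ => D.walk n k ops (a :: t)) (D.stp n o L) from rfl] at hc
    generalize D.stp n o L = L' at h1 hc
    cases L' with
    | nil => exact absurd hc (by simp)
    | cons a t =>
      obtain ⟨b, s, h2, h3⟩ := walk_spec h hu ops _ hc
      exact ⟨b, s, h2, (h1 (by simp)).2.trans h3⟩

theorem Upto.next (h : D.Hyp g τ) : ∀ (l : List (List Op)) {n : ℕ}, D.Upto g τ n →
    D.chkF l n = true → D.Upto g τ (n + l.length)
  | [], _, hu, _ => hu
  | ops :: l, n, hu, hc => by
    change and2 _ (D.chkF l (n + 1)) = true at hc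
    obtain ⟨h1, h2⟩ := and2_true.1 hc
    obtain ⟨a, t, h3, h4⟩ := walk_spec h hu _ _ h1
    have := Upto.next h l (n := n + 1) (lt_step hu (by rw [h4, eqLL_true h3])) h2
    rwa [List.length_cons, ← add_assoc, add_right_comm]

theorem false_of_chkX (h : D.Hyp g τ) {n : ℕ} (hu : D.Upto g τ n) {ne : Wd → Bool}
    (hne : ∀ w, ne w = true → ev g w ≠ 1) {x y : Wd} {ops : List Op}
    (hc : D.chkX n ne x y ops = true) : False := by
  obtain ⟨a, t, h1, h2⟩ := walk_spec h hu _ _ hc
  obtain ⟨h3, h4⟩ := and2_true.1 h1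
  cases t with
  | nil => exact absurd h4 (by simp)
  | cons b s =>
    obtain ⟨h5, h6⟩ := and2_true.1 h4
    rw [eqL_true h3, eqLL_true h5] at h2
    simp only [evL, evR, mul_one, mul_right_inj] at h2
    exact hne _ h6 (by rw [ev_append, ev_invW h.iv, h2, mul_inv_cancel])

variable {K : Type*} [Group K] {σ : ℕ → K} {φ : K →* G}

theorem ev_phi (w : Wd) : ev (fun c => φ (σ c)) w = φ (ev σ w) := (map_ev _ _ _).symm

theorem stab_of_chk (h : D.Hyp (fun c => φ (σ c)) τ) {n : ℕ} (hu : D.Upto (fun c => φ (σ c)) τ n)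
    {a : Lv} (hc : D.chkS n a = true) : ∀ s ∈ genW σ (a.gs.map Prod.fst),
      RC φ.range (evR (fun c => φ (σ c)) τ a.T * φ s) (evR (fun c => φ (σ c)) τ a.T) := by
  intro s hs
  induction hs using Subgroup.closure_induction with
  | mem x hx =>
    obtain ⟨w, hw, rfl⟩ := hx
    obtain ⟨p, hp, rfl⟩ := List.mem_map.1 hw
    obtain ⟨b, t, h1, h2⟩ := walk_spec h hu _ _ (allL_true.1 hc p hp)
    rw [evL_apL, eqLL_true h1, evL, ev_phi, ev_phi] at h2
    rw [h2, RC, mul_inv_cancel_right]
    exact ⟨_, rfl⟩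
  | one => simpa using RC.refl _ _
  | mul x y _ _ hx hy => exact ((hx.mul (φ y)).congr (by simp [mul_assoc]) rfl).trans hy
  | inv x _ hx => exact ((hx.mul (φ x⁻¹)).congr (by simp [mul_assoc]) rfl).symm

theorem through (h : D.Hyp (fun c => φ (σ c)) τ) {d : K} (hd : d ∈ gen σ D.dl) :
    ∃ d', φ d * τ = τ * φ d' := by
  have hi := eq_inv_of_mul_eq_one_left h.sq
  induction hd using Subgroup.closure_induction with
  | mem x hx =>
    obtain ⟨c, hc, rfl⟩ := hx
    refine ⟨ev σ (nth [] D.al c), ?_⟩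
    rw [← ev_phi, ← h.al c hc, ← mul_assoc, ← mul_assoc, h.sq, one_mul, ← hi]
  | one => exact ⟨1, by simp⟩
  | mul x y _ _ hx hy =>
    obtain ⟨a, ha⟩ := hx
    obtain ⟨b, hb⟩ := hy
    exact ⟨a * b, by rw [map_mul, map_mul, mul_assoc, hb, ← mul_assoc, ha, mul_assoc]⟩
  | inv x _ hx =>
    obtain ⟨a, ha⟩ := hx
    exact ⟨a⁻¹, by rw [map_inv, map_inv, inv_mul_eq_iff_eq_mul, ← mul_assoc, ha]; group⟩

theorem dcs [Finite K] (h : D.Hyp (fun c => φ (σ c)) τ) {n : ℕ}
    (hu : D.Upto (fun c => φ (σ c)) τ n) {L : List Lv} (h0 : [] ∈ L.map Lv.T)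
    (hS : ∀ a ∈ L, D.chkS n a = true) (hP : ∀ a ∈ L, D.chkP n (L.map Lv.T) a.T a.ps = true)
    (htop : φ.range ⊔ Subgroup.closure {τ} = ⊤)
    (hcov : ∀ a ∈ L, ∀ x : K, ∃ s ∈ genW σ (a.gs.map Prod.fst), ∃ w ∈ a.ps.map Prod.fst,
      ∃ d ∈ gen σ D.dl, x = s * ev σ w * d) {m : Fin L.length → ℕ}
    (hm : ∀ i, Nat.card K ≤ m i * Nat.card (genW σ ((L.get i).gs.map Prod.fst))) :
    DCS φ (fun i => evR (fun c => φ (σ c)) τ (L.get i).T)
      (fun i => genW σ ((L.get i).gs.map Prod.fst)) m := by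
  refine ⟨‹_›, fun γ => ?_, fun i => stab_of_chk h hu (hS _ (List.get_mem _ _)), hm⟩
  suffices ∃ T ∈ L.map Lv.T, ∃ x, RC φ.range γ (evR (fun c => φ (σ c)) τ T * φ x) by
    obtain ⟨T, hT, x, hx⟩ := this
    obtain ⟨a, ha, rfl⟩ := List.mem_map.1 hT
    obtain ⟨i, rfl⟩ := List.get_of_mem ha
    exact ⟨i, x, hx⟩
  have key : ∀ γ, (∃ T ∈ L.map Lv.T, ∃ x, RC φ.range γ (evR (fun c => φ (σ c)) τ T * φ x)) →
      ∃ T ∈ L.map Lv.T, ∃ x, RC φ.range (γ * τ) (evR (fun c => φ (σ c)) τ T * φ x) := by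
    rintro γ ⟨T, hT, x, hx⟩
    obtain ⟨a, ha, rfl⟩ := List.mem_map.1 hT
    obtain ⟨s, hs, w, hw, d, hd, rfl⟩ := hcov a ha x
    obtain ⟨d', hd'⟩ := through h hd
    obtain ⟨p, hp, rfl⟩ := List.mem_map.1 hw
    obtain ⟨b, t, h1, h2⟩ := walk_spec h hu _ _ (allL_true.1 (hP a ha) p hp)
    obtain ⟨T', hT', h3⟩ := exL_true h1
    obtain ⟨y, hy⟩ := clr_spec (g := fun c => φ (σ c)) (τ := τ) t
    rw [evL_snoc (L := apL _ _ _) (glue_spec (g := fun c => φ (σ c)) (τ := τ) _ _ _ _).1, evL_apL, evL, hy,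
      eqLL_true h3, ev_phi, ev_phi, ev_phi] at h2
    refine ⟨T', hT', ev σ y * d', (hx.mul τ).trans ((((stab_of_chk h hu (hS a ha) s hs).mul
      (φ (ev σ p.1) * (φ d * τ))).congr (by simp [mul_assoc]) rfl).trans ?_)⟩
    rw [hd', ← mul_assoc, ← mul_assoc, h2, RC]
    exact ⟨ev σ b, by simp [mul_assoc]⟩
  have hγ : γ ∈ Subgroup.closure ((φ.range : Set G) ∪ {τ}) := by
    rw [Subgroup.closure_union, Subgroup.closure_eq, htop]; trivial
  induction hγ using Subgroup.closure_induction_right with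
  | one => exact ⟨[], h0, 1, by simpa [evR] using RC.refl _ _⟩
  | mul_right x _ y hy hx =>
    rcases hy with ⟨k, rfl⟩ | rfl
    · obtain ⟨T, hT, z, hz⟩ := hx
      exact ⟨T, hT, z * k, (hz.mul _).congr rfl (by simp [mul_assoc])⟩
    · exact key x hx
  | mul_inv_cancel x _ y hy hx =>
    rcases hy with ⟨k, rfl⟩ | rfl
    · obtain ⟨T, hT, z, hz⟩ := hx
      exact ⟨T, hT, z * k⁻¹, (hz.mul _).congr rfl (by simp [mul_assoc])⟩
    · rw [← eq_inv_of_mul_eq_one_left h.sq]
      exact key x hx

end PD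

end H5.LyP
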