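import Mathlib
import Cfsg.Agent.H5.LyP

/-! The certificate of the double coset enumeration for the Lyons group. -/

set_option autoImplicit false
set_option maxRecDepth 100000

namespace H5.LyM

open H5.LyP

/-- The facts that hold in `2·A₁₁`. -/
def F0 : List (List Wd × List Wd) := [([[], [1], []], [[12, 15, 3, 20, 5], [6]]),
  ([[], [0], [3, 21]], [[20, 4, 7], [0], []]),
  ([[], [0], [1, 5, 4]], [[4, 3, 5], [0], []]),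
  ([[], [0], [5, 16]], [[4, 23, 23, 9], [0], []]),
  ([[], [0, 5], [1, 5]], [[0, 3, 18, 22], [0, 5], []]),
  ([[], [0, 5], [0, 5, 2]], [[4, 3, 5, 13], [0, 5], []]),
  ([[], [0, 5], [9]], [[0, 6, 15, 18, 7], [0, 5], []]),
  ([[], [], []], [[]])]
/-- The derived facts. -/
def F1 : List (List Wd × List Wd) := [([[], [10], []], [[17, 6, 0, 24, 5, 23, 16, 24, 23, 24, 17, 12], [10], [15, 23, 21, 24, 22, 16, 10, 5, 23, 10, 14]]),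
  ([[], [10], []], [[12, 14, 19, 23, 24, 23, 19, 7, 24, 5], [10], [5, 10, 3, 15, 10, 24, 23, 23, 24, 16]]),
  ([[], [10], []], [[10, 18, 20, 24, 0, 16, 21, 21, 24, 23, 20, 24], [10], [12, 16, 21, 21, 24, 20, 19, 2, 24, 21, 10, 24]]),
  ([[], [10], []], [[14, 20, 19, 24, 16, 24, 16, 5, 24, 7, 10], [10], [14, 20, 19, 24, 16, 24, 16, 5, 24, 7, 10]])]
/-- Their proofs. -/
def FP : List (List Op) := [[(0, 0, 0, [24]), (3, 0, 0, []), (0, 1, 0, [14, 23, 16, 24, 21, 17, 24]), (0, 2, 0, [24, 22, 21, 24]), (1, 2, 0, [0, 5]), (2, 1, 6, []), (0, 0, 0, [14, 20, 23, 24, 22, 20, 17, 24]), (0, 1, 0, [15, 16, 23, 18, 24, 18, 21]), (1, 1, 0, [0]), (2, 0, 2, []), (0, 1, 0, [15, 16, 22, 22, 24, 22, 21]), (0, 2, 0, [14, 16, 21, 16, 22, 24, 22]), (1, 2, 0, [0]), (2, 1, 3, []), (0, 0, 0, [14, 11, 23, 20, 24, 18, 23, 17]),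 (0, 1, 0, [21, 24, 19]), (1, 1, 0, [1]), (2, 0, 0, []), (0, 0, 0, [15, 20, 24, 16, 24, 22, 19]), (0, 1, 0, [18, 22, 24, 22, 20, 24]), (1, 1, 0, [10]), (1, 0, 0, [17, 6, 0, 24, 5, 23, 16, 24, 23, 24, 17, 12]), (1, 2, 0, [15, 23, 21, 24, 22, 16, 10, 5, 23, 10, 14])],
  [(2, 0, 8, []), (0, 0, 0, [14]), (0, 1, 0, [11]), (1, 1, 0, [10]), (2, 0, 8, []), (1, 0, 0, [12, 14, 19, 23, 24, 23, 19, 7, 24, 5]), (1, 2, 0, [5, 10, 3, 15, 10, 24, 23, 23, 24, 16])],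
  [(2, 0, 8, []), (0, 0, 0, [14, 22, 24, 18, 21, 16, 24]), (0, 1, 0, [11, 20, 24, 16, 23, 18, 24]), (1, 1, 0, [10]), (2, 0, 8, []), (1, 0, 0, [10, 18, 20, 24, 0, 16, 21, 21, 24, 23, 20, 24]), (1, 2, 0, [12, 16, 21, 21, 24, 20, 19, 2, 24, 21, 10, 24])],
  [(2, 0, 8, []), (0, 0, 0, [14, 22, 24, 18, 21, 16, 24]), (0, 1, 0, [11, 20, 24, 16, 23, 18, 24]), (1, 1, 0, [10]), (2, 0, 9, []), (1, 0, 0, [14, 20, 19, 24, 16, 24, 16, 5, 24, 7, 10]), (1, 2, 0, [14, 20, 19, 24, 16, 24, 16, 5, 24, 7, 10])]]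
/-- The trivial double coset. -/
def v0 : Lv := ⟨[], [([0], []), ([1], []), ([2], []), ([3], []), ([4], []), ([5], []), ([6], []), ([7], []), ([8], []), ([9], []), ([10], []), ([11], []), ([12], []), ([13], [])],
   [([], [])]⟩
/-- Double coset number 1. -/
def v1 : Lv := ⟨[[]], [([11], [(0, 0, 0, [15]), (1, 1, 0, [])]),
    ([14], [(0, 0, 0, [12]), (1, 1, 0, [])]),
    ([16], [(0, 0, 0, [19]), (1, 1, 0, [])]),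
    ([18], [(0, 0, 0, [17]), (1, 1, 0, [])]),
    ([20], [(0, 0, 0, [23]), (1, 1, 0, [])]),
    ([22], [(0, 0, 0, [21]), (1, 1, 0, [])]),
    ([24], [(0, 0, 0, [24]), (1, 1, 0, [])])],
   [([], [(2, 0, 7, [])]),
    ([0], []),
    ([1], [(2, 0, 0, [])]),
    ([10], []),
    ([5, 0], [(0, 0, 0, [12, 19, 21, 22]), (0, 1, 0, [15, 20, 16]), (1, 1, 0, [0, 5])])]⟩
/-- Double coset number 2. -/
def v2 : Lv := ⟨[[0], []], [([14], [(0, 1, 0, [12]), (1, 2, 0, []), (0, 0, 0, [15]), (1, 1, 0, [0])]),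
    ([16, 16], [(0, 1, 0, [18, 18]), (1, 2, 0, []), (0, 0, 0, [18, 18]), (1, 1, 0, [0])]),
    ([16, 23], [(0, 1, 0, [20, 19]), (1, 2, 0, []), (0, 0, 0, [22, 17]), (1, 1, 0, [0])]),
    ([23, 20], [(0, 1, 0, [23, 20]), (1, 2, 0, []), (0, 0, 0, [20, 16, 20, 17]), (1, 1, 0, [0])]),
    ([11, 18, 21], [(0, 1, 0, [14, 22, 17]), (1, 2, 0, []), (0, 0, 0, [11, 19, 21]), (1, 1, 0, [0])]),
    ([5, 16], [(2, 0, 3, []), (1, 2, 0, [])])],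
   [([], [(2, 1, 7, [])]),
    ([0], [(2, 0, 1, []), (0, 1, 0, [12, 16, 23, 21, 16]), (0, 2, 0, [22, 16]), (1, 2, 0, [1]), (2, 1, 0, []), (0, 0, 0, [11, 16, 20, 16]), (0, 1, 0, [14, 20]), (1, 1, 0, [0, 5])]),
    ([10], [(2, 0, 1, []), (0, 1, 0, [23, 24, 19, 23, 24, 21, 16]), (0, 2, 0, [21, 19, 24, 20, 20, 17, 24]), (1, 2, 0, [10]), (2, 1, 9, []), (0, 0, 0, [18, 23, 24, 23, 24, 16]), (0, 1, 0, [24, 23]), (1, 1, 0, [1]), (2, 0, 0, []), (0, 0, 0, [15, 12, 18, 23, 16, 24, 23]), (0, 1, 0, [14, 16, 22, 19, 21]), (1, 1, 0, [10])]),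
    ([24, 5], [(2, 0, 3, []), (0, 1, 0, [24, 18]), (0, 2, 0, [24]), (1, 2, 0, [1]), (2, 1, 0, []), (0, 0, 0, [14, 12, 20, 20, 24, 19, 24, 17]), (0, 1, 0, [21, 23, 16, 24, 21]), (1, 1, 0, [10])]),
    ([24, 1], [(0, 1, 0, [24]), (1, 2, 0, [1]), (2, 1, 0, []), (0, 0, 0, [14, 11, 17, 24, 17, 24]), (0, 1, 0, [24, 16, 22, 24, 16]), (1, 1, 0, [0])]),
    ([24, 10], [(0, 0, 0, [16, 23]), (0, 1, 0, [18, 21]), (1, 1, 0, [0]), (2, 0, 1, []), (0, 1, 0, [23, 24, 21, 24, 22, 20, 16]), (0, 2, 0, [23, 18, 24, 22, 21, 24]), (1, 2, 0, [0, 5]), (2, 1, 6, []), (0, 0, 0, [14, 11, 22, 16, 18, 24, 20, 18]), (0, 1, 0, [21, 24, 21]), (1, 1, 0, [1]), (2, 0, 0, []), (0, 0, 0, [11, 18, 23, 20, 24, 18, 24, 17]), (0, 1, 0, [22, 16, 18, 24, 17]), (1, 1, 0, [10])]),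
    ([24, 10, 0], [(0, 1, 0, [14, 20, 18, 23, 20, 24]), (0, 2, 0, [11, 22, 16, 21, 22]), (1, 2, 0, [10]), (2, 1, 8, []), (0, 0, 0, [18, 22, 24, 20, 18, 24, 23]), (0, 1, 0, [11, 17, 24, 18, 22]), (1, 1, 0, [10]), (2, 0, 9, []), (0, 1, 0, [20, 16, 24, 18, 16]), (0, 2, 0, [24, 23, 19]), (1, 2, 0, [1]), (2, 1, 0, []), (0, 0, 0, [11, 18, 21, 23, 24, 16, 23, 17]), (0, 1, 0, [16, 24, 16, 19, 20]), (1, 1, 0, [0, 5])]),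
    ([2, 24, 10], [(0, 0, 0, [22, 16]), (0, 1, 0, [20, 18]), (1, 1, 0, [0]), (2, 0, 1, []), (0, 1, 0, [15, 18, 17, 23, 24, 19, 21, 22]), (0, 2, 0, [11, 15, 18, 21, 24, 17, 22]), (1, 2, 0, [10]), (2, 1, 11, []), (0, 0, 0, [14, 17, 24, 16, 22, 24, 22]), (0, 1, 0, [21, 18, 24, 23]), (1, 1, 0, [1]), (2, 0, 0, []), (0, 0, 0, [11, 24, 21, 24, 18]), (0, 1, 0, [21, 24, 16, 22, 16]), (1, 1, 0, [0, 5])])]⟩
/-- Double coset number 3. -/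
def v3 : Lv := ⟨[[0, 5], []], [([14], [(0, 1, 0, [12]), (1, 2, 0, []), (0, 0, 0, [15]), (1, 1, 0, [0, 5])]),
    ([16, 16], [(0, 1, 0, [18, 18]), (1, 2, 0, []), (0, 0, 0, [18, 18]), (1, 1, 0, [0, 5])]),
    ([16, 20], [(0, 1, 0, [23, 19]), (1, 2, 0, []), (0, 0, 0, [20, 18, 16, 23]), (1, 1, 0, [0, 5])]),
    ([11, 18, 22], [(0, 1, 0, [14, 21, 17]), (1, 2, 0, []), (0, 0, 0, [22, 18, 20]), (1, 1, 0, [0, 5])]),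
    ([22, 16, 23], [(0, 1, 0, [20, 19, 21]), (1, 2, 0, []), (0, 0, 0, [16, 23, 23, 20]), (1, 1, 0, [0, 5])]),
    ([9], [(2, 0, 6, []), (1, 2, 0, [])])],
   [([], [(2, 1, 7, [])]),
    ([1], [(2, 1, 0, []), (0, 0, 0, [15, 11, 18, 23, 17, 20]), (0, 1, 0, [15, 18, 21]), (1, 1, 0, [0, 5])]),
    ([7], [(0, 1, 0, [23, 23, 19, 20]), (0, 2, 0, [21]), (1, 2, 0, [1]), (2, 1, 0, []), (0, 0, 0, [14, 12, 16, 23, 20]), (0, 1, 0, [21]), (1, 1, 0, [0])]),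
    ([10], [(2, 1, 9, []), (0, 0, 0, [14, 17, 23, 24, 21, 22, 18]), (0, 1, 0, [12, 16, 19, 24, 16, 16, 22]), (1, 1, 0, [10]), (2, 0, 8, []), (0, 1, 0, [23, 20, 24, 17, 22, 24, 23]), (0, 2, 0, [24, 17, 23]), (1, 2, 0, [1]), (2, 1, 0, []), (0, 0, 0, [14, 11, 24, 16, 23, 17, 24, 20]), (0, 1, 0, [16, 23, 24, 18, 23, 19]), (1, 1, 0, [0, 5])]),
    ([6, 10], [(0, 0, 0, [14, 22, 16, 18, 21]), (0, 1, 0, [11, 18, 22]), (1, 1, 0, [0, 5]), (2, 0, 5, []), (0, 1, 0, [14, 18, 17, 24, 22, 17, 20]), (0, 2, 0, [14, 16, 19, 24, 16, 23, 18, 16]), (1, 2, 0, [10]), (2, 1, 9, []), (0, 0, 0, [14, 23, 19, 24, 21, 23]), (0, 1, 0, [24, 23, 19]), (1, 1, 0, [1]), (2, 0, 0, []), (0, 0, 0, [19, 22, 24, 23, 24, 18, 20]), (0, 1, 0, [15, 21, 24, 17, 22]), (1, 1, 0, [10])]),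
    ([10, 6, 5], [(0, 1, 0, [23, 23, 21, 24, 16, 20, 22]), (0, 2, 0, [11, 16, 19, 21, 24, 21, 17, 22]), (1, 2, 0, [0, 5]), (2, 1, 5, []), (0, 0, 0, [12, 17, 20, 20, 24, 20, 22]), (0, 1, 0, [15, 21, 24, 16, 23, 23]), (1, 1, 0, [10]), (2, 0, 9, []), (0, 1, 0, [23, 20, 18, 24, 20, 16, 24]), (0, 2, 0, [24, 20, 23]), (1, 2, 0, [1]), (2, 1, 0, []), (0, 0, 0, [15, 24, 16, 20, 24, 22, 22]), (0, 1, 0, [24, 22, 22, 24]), (1, 1, 0, [0, 5])]),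
    ([24, 1], [(0, 1, 0, [24]), (1, 2, 0, [1]), (2, 1, 0, []), (0, 0, 0, [17, 20, 24, 20, 23]), (0, 1, 0, [16, 23, 23, 24, 19]), (1, 1, 0, [10])]),
    ([10, 20, 6], [(0, 0, 0, [15, 22, 16, 18, 21]), (0, 1, 0, [12, 18, 22]), (1, 1, 0, [0, 5]), (2, 0, 5, []), (0, 1, 0, [15, 11, 18, 18, 24, 18, 21, 17]), (0, 2, 0, [24, 21, 18]), (1, 2, 0, [1]), (2, 1, 0, []), (0, 0, 0, [14, 23, 24, 19, 24, 16, 20]), (0, 1, 0, [16, 24, 16, 16]), (1, 1, 0, [0, 5])]),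
    ([24, 4], [(0, 1, 0, [14, 12, 23, 23, 20, 20, 24]), (0, 2, 0, [11, 15]), (1, 2, 0, [0]), (2, 1, 2, []), (0, 0, 0, [11, 18, 22, 16, 24, 16, 18]), (0, 1, 0, [22, 24, 20, 17]), (1, 1, 0, [1]), (2, 0, 0, []), (0, 0, 0, [14, 12, 16, 23, 23, 24, 21]), (0, 1, 0, [14, 20, 19, 24, 18, 21]), (1, 1, 0, [10])]),
    ([24, 10], [(2, 0, 4, []), (0, 1, 0, [14, 16, 24, 16, 23, 21, 24, 21]), (0, 2, 0, [20, 18, 24, 22, 18, 24, 20]), (1, 2, 0, [10]), (2, 1, 9, []), (0, 0, 0, [15, 23, 24, 22, 16, 24]), (0, 1, 0, [21, 24, 19, 23]), (1, 1, 0, [1]), (2, 0, 0, []), (0, 0, 0, [20, 18, 24, 16, 22, 24, 17]), (0, 1, 0, [19, 23, 24, 18, 22]), (1, 1, 0, [10])]),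
    ([24, 23, 10], [(0, 0, 0, [14, 20, 18, 17, 23]), (0, 1, 0, [11, 23, 18]), (1, 1, 0, [0, 5]), (2, 0, 5, []), (0, 1, 0, [14, 11, 20, 23, 23, 24, 18, 21]), (0, 2, 0, [12, 23, 23, 20, 24, 23]), (1, 2, 0, [10]), (2, 1, 9, []), (0, 0, 0, [15, 18, 16, 19, 24, 22, 16, 19]), (0, 1, 0, [21, 18]), (1, 1, 0, [1]), (2, 0, 0, []), (0, 0, 0, [15, 19, 24, 17, 24, 20, 19, 24]), (0, 1, 0, [15, 24, 16, 19, 23]), (1, 1, 0, [0, 5])]),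
    ([24, 7], [(0, 1, 0, [23, 23, 19, 20, 24]), (0, 2, 0, [21]), (1, 2, 0, [1]), (2, 1, 0, []), (0, 0, 0, [15, 16, 22, 20, 20, 24, 23, 21]), (0, 1, 0, [14, 16, 22, 24, 16, 24]), (1, 1, 0, [10])]),
    ([1, 24, 10], [(0, 1, 0, [15, 11, 18, 21, 19, 24, 17, 23]), (0, 2, 0, [11, 15, 18, 21, 24, 17, 22]), (1, 2, 0, [10]), (2, 1, 9, []), (0, 0, 0, [15, 19, 24, 20, 20, 24, 20, 18]), (0, 1, 0, [14, 24, 23, 24, 20, 22, 16]), (1, 1, 0, [10]), (2, 0, 8, []), (0, 1, 0, [15, 11, 17, 24, 23, 20, 19]), (0, 2, 0, [22, 24, 20, 20]), (1, 2, 0, [1]), (2, 1, 0, []), (0, 0, 0, [23, 24, 23, 16, 24, 18]), (0, 1, 0, [24, 23, 21, 22]), (1, 1, 0, [10])]),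
    ([16, 24, 10], [(2, 0, 4, []), (0, 1, 0, [18, 16, 21, 24, 20, 24, 20]), (0, 2, 0, [11, 15, 18, 21, 24, 17, 22]), (1, 2, 0, [10]), (3, 1, 10, []), (0, 0, 0, [15, 11, 21, 22, 24, 20, 20]), (0, 1, 0, [16]), (1, 1, 0, [1]), (2, 0, 0, []), (0, 0, 0, [15, 12, 16, 20, 17]), (0, 1, 0, [18, 17, 23, 23]), (1, 1, 0, [10])]),
    ([13, 24, 1, 10], [(0, 1, 0, [12, 17, 23, 24, 16, 20, 24, 18]), (0, 2, 0, [14, 16, 19, 24, 16, 20, 16]), (1, 2, 0, [10]), (2, 1, 8, []), (0, 0, 0, [15, 24, 17, 22, 24, 23, 20]), (0, 1, 0, [11, 14, 21, 18, 24, 18]), (1, 1, 0, [10]), (2, 0, 8, []), (0, 1, 0, [15, 12, 23, 18, 24, 18, 20, 24]), (0, 2, 0, [24, 23, 20]), (1, 2, 0, [1]), (2, 1, 0, []), (0, 0, 0, [14, 19, 24, 22, 24, 20, 19]), (0, 1, 0, [22, 24, 16, 21, 17]), (1, 1, 0, [0])]),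
    ([24, 21, 10], [(0, 1, 0, [15, 22, 24]), (0, 2, 0, [12]), (1, 2, 0, [10]), (3, 1, 10, []), (0, 0, 0, [14, 17, 23, 24, 22, 16, 19]), (0, 1, 0, [24, 18, 22]), (1, 1, 0, [1]), (2, 0, 0, []), (0, 0, 0, [14, 11, 24, 18, 23, 24, 20, 17]), (0, 1, 0, [14, 24, 20, 18, 16]), (1, 1, 0, [0])])]⟩
/-- Double coset number 4. -/
def v4 : Lv := ⟨[[10], []], [([14], [(0, 1, 0, [12]), (1, 2, 0, []), (0, 0, 0, [15]), (1, 1, 0, [10])]),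
    ([22, 24, 18, 21, 16, 24], [(0, 1, 0, [20, 24, 16, 23, 18, 24]), (1, 2, 0, []), (0, 0, 0, [22, 24, 18, 21, 16, 24]), (1, 1, 0, [10])]),
    ([11, 16, 21, 24, 19, 24, 22], [(0, 1, 0, [14, 18, 23, 24, 17, 24, 20]), (1, 2, 0, []), (0, 0, 0, [11, 16, 21, 24, 19, 24, 22]), (1, 1, 0, [10])]),
    ([15, 23, 21, 24, 22, 16, 10, 5, 23, 10, 14], [(3, 0, 8, []), (1, 2, 0, [])])],
   [([], [(2, 1, 7, [])]),
    ([0], [(2, 0, 9, []), (0, 1, 0, [15, 19, 22, 24, 16, 23]), (0, 2, 0, [20, 24, 20, 16, 22, 24, 18]), (1, 2, 0, [10]), (2, 1, 9, []), (0, 0, 0, [15, 23, 18, 16, 24, 18, 22]), (0, 1, 0, [24, 23, 20]), (1, 1, 0, [1]), (2, 0, 0, []), (0, 0, 0, [14, 20, 23, 24, 17, 21, 21]), (0, 1, 0, [14, 18, 21, 24, 16, 23]), (1, 1, 0, [10])]),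
    ([1], [(2, 1, 0, []), (0, 0, 0, [14, 21, 21, 22, 22]), (0, 1, 0, [18, 23, 18, 22]), (1, 1, 0, [10])]),
    ([5], [(0, 0, 0, [14]), (0, 1, 0, [11]), (1, 1, 0, [10]), (2, 0, 9, []), (0, 1, 0, [12, 22, 16, 24, 16, 23, 20, 19]), (0, 2, 0, [21, 24]), (1, 2, 0, [1]), (2, 1, 0, []), (0, 0, 0, [14, 24, 19, 21, 24, 21, 21, 16]), (0, 1, 0, [24, 21, 16, 23]), (1, 1, 0, [10])]),
    ([6], [(0, 1, 0, [12, 17, 23, 20]), (0, 2, 0, [16, 18]), (1, 2, 0, [1]), (2, 1, 0, []), (0, 0, 0, [23, 23, 20, 20]), (0, 1, 0, [14, 23, 20]), (1, 1, 0, [10])]),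
    ([7], [(0, 1, 0, [23, 23, 19, 20]), (0, 2, 0, [21]), (1, 2, 0, [1]), (2, 1, 0, []), (0, 0, 0, [15, 18, 20, 23]), (0, 1, 0, [15, 16, 18, 23]), (1, 1, 0, [10])]),
    ([10], [(0, 0, 0, [15]), (0, 1, 0, [12]), (1, 1, 0, [10]), (2, 0, 8, []), (0, 1, 0, [11, 23, 17, 24, 20, 23, 23]), (0, 2, 0, [12, 21, 16, 19]), (1, 2, 0, [10]), (2, 1, 10, []), (0, 0, 0, [11, 21, 24, 18, 21, 22, 17]), (0, 1, 0, [16, 22, 24, 20]), (1, 1, 0, [1]), (2, 0, 0, []), (0, 0, 0, [23, 17, 24, 16, 21, 24]), (0, 1, 0, [14, 19, 24, 20, 23, 23]), (1, 1, 0, [10])]),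
    ([1, 0], [(0, 1, 0, [12, 22, 22, 18]), (0, 2, 0, [22, 16]), (1, 2, 0, [1]), (2, 1, 0, []), (0, 0, 0, [19, 20, 23]), (0, 1, 0, [22, 19, 21]), (1, 1, 0, [10])]),
    ([5, 0], [(0, 0, 0, [15, 22, 24, 18, 21, 16, 24]), (0, 1, 0, [12, 20, 24, 16, 23, 18, 24]), (1, 1, 0, [10]), (2, 0, 9, []), (0, 1, 0, [14, 23, 18, 24, 23, 24, 18, 16]), (0, 2, 0, [11, 24, 21, 24, 20, 20, 24]), (1, 2, 0, [10]), (3, 1, 11, []), (0, 0, 0, [15, 18, 24, 16, 20]), (0, 1, 0, [24, 16]), (1, 1, 0, [1]), (2, 0, 0, []), (0, 0, 0, [14, 11, 22, 20, 24, 22, 16, 18]), (0, 1, 0, [16, 24, 17, 22]), (1, 1, 0, [0, 5])]),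
    ([10, 0], [(0, 1, 0, [14, 20, 18, 23, 20]), (0, 2, 0, [11, 22, 16, 21, 22]), (1, 2, 0, [10]), (2, 1, 11, []), (0, 0, 0, [15, 24, 19, 21, 22, 24, 18]), (0, 1, 0, [24, 21, 21]), (1, 1, 0, [1]), (2, 0, 0, []), (0, 0, 0, [14, 17, 22, 24, 18, 20, 18, 17]), (0, 1, 0, [18, 24, 16, 19]), (1, 1, 0, [10])]),
    ([10, 1], [(0, 0, 0, [15]), (0, 1, 0, [12]), (1, 1, 0, [10]), (2, 0, 10, []), (0, 1, 0, [18, 24, 23, 17, 24]), (0, 2, 0, [12, 18, 22, 24, 20, 19]), (1, 2, 0, [10]), (3, 1, 10, []), (0, 0, 0, [12, 18, 20, 19, 24, 21, 17]), (0, 1, 0, [21, 24, 19, 23]), (1, 1, 0, [1]), (2, 0, 0, []), (0, 0, 0, [20, 18, 24, 16, 22, 24, 17]), (0, 1, 0, [19, 23, 24, 18, 22]), (1, 1, 0, [10])]),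
    ([5, 4], [(0, 0, 0, [15]), (0, 1, 0, [12]), (1, 1, 0, [10]), (2, 0, 8, []), (0, 1, 0, [15, 11, 18, 21, 24, 20, 22, 22]), (0, 2, 0, [14, 16, 16, 24, 17, 20]), (1, 2, 0, [10]), (2, 1, 9, []), (0, 0, 0, [20, 24, 19, 21, 22, 24, 17]), (0, 1, 0, [24, 20, 20]), (1, 1, 0, [1]), (2, 0, 0, []), (0, 0, 0, [12, 16, 21, 24, 19, 24]), (0, 1, 0, [19, 24, 23, 20, 24]), (1, 1, 0, [10])]),
    ([10, 4], [(0, 0, 0, [15]), (0, 1, 0, [12]), (1, 1, 0, [10]), (2, 0, 8, []), (0, 1, 0, [14, 12, 18, 21, 24, 22, 20]), (0, 2, 0, [11, 21, 16, 21]), (1, 2, 0, [10]), (2, 1, 10, []), (0, 0, 0, [14, 17, 20, 23, 24, 23]), (0, 1, 0, [24, 21, 18]), (1, 1, 0, [1]), (2, 0, 0, []), (0, 0, 0, [15, 12, 23, 18, 24, 23, 18, 20]), (0, 1, 0, [24, 20, 17, 24]), (1, 1, 0, [0])]),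
    ([0, 5], [(0, 0, 0, [22, 24, 18, 21, 16, 24]), (0, 1, 0, [20, 24, 16, 23, 18, 24]), (1, 1, 0, [10]), (2, 0, 8, []), (0, 1, 0, [19, 21, 24, 23, 19]), (0, 2, 0, [24, 21, 18]), (1, 2, 0, [1]), (2, 1, 0, []), (0, 0, 0, [24, 16, 24, 21, 19, 24, 22]), (0, 1, 0, [18, 16, 24, 22, 20, 24]), (1, 1, 0, [10])]),
    ([20, 4], [(0, 0, 0, [14]), (0, 1, 0, [11]), (1, 1, 0, [10]), (2, 0, 9, []), (0, 1, 0, [21, 23, 20, 24, 16, 24, 18]), (0, 2, 0, [15, 16, 23, 16, 24, 18, 21]), (1, 2, 0, [10]), (2, 1, 8, []), (0, 0, 0, [23, 23, 20, 24, 21, 24, 23]), (0, 1, 0, [21, 18, 24]), (1, 1, 0, [1]), (2, 0, 0, []), (0, 0, 0, [23, 24, 21, 22, 16, 24]), (0, 1, 0, [24, 22, 16, 18]), (1, 1, 0, [10])]),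
    ([6, 5], [(0, 0, 0, [14, 22, 24, 18, 21, 16, 24]), (0, 1, 0, [11, 20, 24, 16, 23, 18, 24]), (1, 1, 0, [10]), (2, 0, 8, []), (0, 1, 0, [15, 21, 24, 16, 19, 22]), (0, 2, 0, [11, 19, 22, 24, 18, 23]), (1, 2, 0, [10]), (2, 1, 11, []), (0, 0, 0, [14, 12, 20, 23, 24, 21, 23, 20]), (0, 1, 0, [24, 23]), (1, 1, 0, [1]), (2, 0, 0, []), (0, 0, 0, [15, 12, 18, 23, 16, 24, 23]), (0, 1, 0, [14, 16, 22, 19, 21]), (1, 1, 0, [10])]),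
    ([7, 5], [(0, 0, 0, [14, 22, 24, 18, 21, 16, 24]), (0, 1, 0, [11, 20, 24, 16, 23, 18, 24]), (1, 1, 0, [10]), (2, 0, 9, []), (0, 1, 0, [14, 16, 19, 24, 16, 23, 20, 16]), (0, 2, 0, [11, 14, 16, 24, 21]), (1, 2, 0, [10]), (2, 1, 9, []), (0, 0, 0, [15, 17, 24, 20, 24, 16, 23, 19]), (0, 1, 0, [24, 18, 17]), (1, 1, 0, [1]), (2, 0, 0, []), (0, 0, 0, [15, 18, 21, 19, 24, 16, 20]), (0, 1, 0, [14, 22, 24, 16, 23, 24]), (1, 1, 0, [10])]),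
    ([5, 6], [(0, 0, 0, [14]), (0, 1, 0, [11]), (1, 1, 0, [10]), (2, 0, 8, []), (0, 1, 0, [18, 23, 24, 18, 23, 17, 24]), (0, 2, 0, [12, 14, 24, 20, 24, 16, 19]), (1, 2, 0, [0, 5]), (2, 1, 5, []), (0, 0, 0, [16, 24, 18, 21, 16, 19, 24]), (0, 1, 0, [11, 21, 22, 24, 16, 21, 18]), (1, 1, 0, [10]), (2, 0, 8, []), (0, 1, 0, [15, 12, 24, 18, 21, 24, 17]), (0, 2, 0, [23, 24, 20]), (1, 2, 0, [1]), (2, 1, 0, []), (0, 0, 0, [15, 12, 18, 16, 24, 19, 20]), (0, 1, 0, [15, 24, 20, 23, 24, 21]), (1, 1, 0, [0, 5])]),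
    ([10, 7], [(0, 0, 0, [22, 24, 18, 21, 16, 24]), (0, 1, 0, [20, 24, 16, 23, 18, 24]), (1, 1, 0, [10]), (2, 0, 8, []), (0, 1, 0, [12, 19, 21, 21, 24, 20, 16]), (0, 2, 0, [11, 14, 24, 23, 16]), (1, 2, 0, [10]), (3, 1, 10, []), (0, 0, 0, [14, 17, 24, 18, 23, 24, 23]), (0, 1, 0, [24, 23, 18]), (1, 1, 0, [1]), (2, 0, 0, []), (0, 0, 0, [12, 22, 17, 24, 23, 18, 22]), (0, 1, 0, [24, 21, 24, 18]), (1, 1, 0, [0, 5])]),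
    ([1, 10], [(0, 0, 0, [15, 22, 24, 18, 21, 16, 24]), (0, 1, 0, [12, 20, 24, 16, 23, 18, 24]), (1, 1, 0, [10]), (2, 0, 9, []), (0, 1, 0, [14, 12, 16, 20, 23, 24, 20, 19]), (0, 2, 0, [12, 21, 24, 21, 17, 21]), (1, 2, 0, [10]), (2, 1, 8, []), (0, 0, 0, [15, 19, 24, 17, 20, 24]), (0, 1, 0, [21, 21]), (1, 1, 0, [1]), (2, 0, 0, []), (0, 0, 0, [21, 24, 20, 22, 24, 20, 17]), (0, 1, 0, [15, 24, 18, 21]), (1, 1, 0, [0])]),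
    ([7, 10], [(0, 0, 0, [15, 22, 24, 18, 21, 16, 24]), (0, 1, 0, [12, 20, 24, 16, 23, 18, 24]), (1, 1, 0, [10]), (2, 0, 8, []), (0, 1, 0, [15, 24, 16, 24, 21, 22, 22]), (0, 2, 0, [11, 21, 24, 17, 21, 24, 17]), (1, 2, 0, [10]), (2, 1, 9, []), (0, 0, 0, [11, 16, 20, 20, 24, 22, 19]), (0, 1, 0, [24, 18, 21]), (1, 1, 0, [1]), (2, 0, 0, []), (0, 0, 0, [14, 20, 24, 18, 20, 22]), (0, 1, 0, [15, 23, 16, 24, 20]), (1, 1, 0, [10])]),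
    ([4, 10, 0], [(0, 1, 0, [11, 18, 17, 24, 19, 23]), (0, 2, 0, [12, 24, 22, 20, 24, 21, 18]), (1, 2, 0, [10]), (2, 1, 9, []), (0, 0, 0, [17, 21, 24, 23, 24, 22, 18]), (0, 1, 0, [16, 18, 24]), (1, 1, 0, [1]), (2, 0, 0, []), (0, 0, 0, [14, 21, 21, 23, 24, 23, 23]), (0, 1, 0, [15, 18, 21, 24, 17, 22]), (1, 1, 0, [10])]),
    ([23, 1], [(0, 1, 0, [20]), (1, 2, 0, [1]), (2, 1, 0, []), (0, 0, 0, [15, 16, 21, 24, 23, 24, 22]), (0, 1, 0, [18, 20, 24, 16, 22]), (1, 1, 0, [10])]),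
    ([20, 7], [(0, 1, 0, [23, 21, 19]), (0, 2, 0, [21]), (1, 2, 0, [1]), (2, 1, 0, []), (0, 0, 0, [11, 23, 23, 24, 16, 24, 23, 21]), (0, 1, 0, [15, 24, 16, 22, 22]), (1, 1, 0, [0])]),
    ([21, 10], [(0, 0, 0, [15]), (0, 1, 0, [12]), (1, 1, 0, [10]), (3, 0, 10, []), (0, 1, 0, [11, 22, 24, 16, 24, 22, 16]), (0, 2, 0, [23, 16, 24, 22, 24, 18, 24]), (1, 2, 0, [10]), (2, 1, 8, []), (0, 0, 0, [24, 16, 20, 22, 24, 16]), (0, 1, 0, [23, 24, 20]), (1, 1, 0, [1]), (2, 0, 0, []), (0, 0, 0, [12, 18, 18, 24, 16, 21, 16]), (0, 1, 0, [16, 23, 18, 24, 18, 21]), (1, 1, 0, [10])]),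
    ([5, 10, 2], [(0, 0, 0, [14]), (0, 1, 0, [11]), (1, 1, 0, [10]), (3, 0, 11, []), (0, 1, 0, [14, 22, 24, 20, 20, 24, 16]), (0, 2, 0, [24, 20, 20]), (1, 2, 0, [1]), (2, 1, 0, []), (0, 0, 0, [14, 18, 24, 21, 21, 24, 23]), (0, 1, 0, [18, 22, 19, 23, 24]), (1, 1, 0, [10])]),
    ([24, 7], [(0, 1, 0, [23, 23, 19, 20, 24]), (0, 2, 0, [21]), (1, 2, 0, [1]), (2, 1, 0, []), (0, 0, 0, [15, 24, 18, 18, 20, 20]), (0, 1, 0, [21, 24, 16, 19, 22]), (1, 1, 0, [0, 5])]),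
    ([0, 20, 4], [(0, 0, 0, [14]), (0, 1, 0, [11]), (1, 1, 0, [10]), (2, 0, 8, []), (0, 1, 0, [11, 23, 19, 24, 16, 21, 16]), (0, 2, 0, [14, 18, 22, 20, 24, 23, 19]), (1, 2, 0, [0, 5]), (2, 1, 5, []), (0, 0, 0, [14, 11, 19, 24, 22, 18, 20, 17]), (0, 1, 0, [24, 18, 21]), (1, 1, 0, [1]), (2, 0, 0, []), (0, 0, 0, [11, 23, 17, 24, 18, 24, 21]), (0, 1, 0, [14, 18, 21, 24, 22, 16]), (1, 1, 0, [10])]),
    ([20, 6], [(0, 1, 0, [12, 20, 16, 20]), (0, 2, 0, [16, 18]), (1, 2, 0, [1]), (2, 1, 0, []), (0, 0, 0, [20, 24, 19, 24, 18, 17]), (0, 1, 0, [20, 16, 24, 22, 19]), (1, 1, 0, [0, 5])]),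
    ([7, 10, 5], [(0, 0, 0, [14, 22, 24, 18, 21, 16, 24]), (0, 1, 0, [11, 20, 24, 16, 23, 18, 24]), (1, 1, 0, [10]), (2, 0, 8, []), (0, 1, 0, [11, 20, 20, 24, 16, 18, 21]), (0, 2, 0, [24, 23, 20, 24, 22]), (1, 2, 0, [10]), (3, 1, 10, []), (0, 0, 0, [14, 16, 22, 17, 24, 17, 20]), (0, 1, 0, [24, 16, 19]), (1, 1, 0, [1]), (2, 0, 0, []), (0, 0, 0, [16, 20, 22, 24, 18, 23]), (0, 1, 0, [21, 24, 16, 21, 24]), (1, 1, 0, [0, 5])]),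
    ([10, 13, 5], [(0, 0, 0, [22, 24, 18, 21, 16, 24]), (0, 1, 0, [20, 24, 16, 23, 18, 24]), (1, 1, 0, [10]), (2, 0, 9, []), (0, 1, 0, [16, 21, 21, 24, 23, 20, 22]), (0, 2, 0, [17, 24, 18, 24, 20]), (1, 2, 0, [0, 5]), (2, 1, 5, []), (0, 0, 0, [15, 17, 21, 24, 19]), (0, 1, 0, [24, 17, 23]), (1, 1, 0, [1]), (2, 0, 0, []), (0, 0, 0, [18, 23, 21, 16, 24, 20, 24]), (0, 1, 0, [19, 22, 24, 18, 17]), (1, 1, 0, [10])]),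
    ([24, 10], [(0, 0, 0, [14, 22, 24, 18, 21, 16, 24]), (0, 1, 0, [11, 20, 24, 16, 23, 18, 24]), (1, 1, 0, [10]), (2, 0, 8, []), (0, 1, 0, [15, 12, 17, 24, 20, 18, 24, 19]), (0, 2, 0, [22, 17, 20, 24, 21, 23]), (1, 2, 0, [10]), (2, 1, 8, []), (0, 0, 0, [23, 19, 24, 23, 21, 18, 24]), (0, 1, 0, [16, 22]), (1, 1, 0, [1]), (2, 0, 0, []), (0, 0, 0, [15, 22, 24, 18, 24, 22, 19]), (0, 1, 0, [15, 18, 24, 23, 24, 16]), (1, 1, 0, [10])]),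
    ([1, 7, 10], [(2, 0, 9, []), (0, 1, 0, [18, 21, 23, 24, 22, 24, 19]), (0, 2, 0, [22, 24, 20, 20]), (1, 2, 0, [1]), (2, 1, 0, []), (0, 0, 0, [14, 18, 16, 20, 24, 20, 17]), (0, 1, 0, [15, 20, 19, 24, 19, 22]), (1, 1, 0, [10])]),
    ([13, 7, 10], [(0, 1, 0, [15, 11, 18, 23, 17]), (0, 2, 0, [12, 16, 22, 21]), (1, 2, 0, [10]), (3, 1, 10, []), (0, 0, 0, [12, 23, 23, 24, 23, 24]), (0, 1, 0, [23, 24, 21]), (1, 1, 0, [1]), (2, 0, 0, []), (0, 0, 0, [15, 16, 23, 24, 16, 21, 24, 16]), (0, 1, 0, [23, 24, 20, 19, 21]), (1, 1, 0, [10])]),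
    ([3, 20, 2], [(0, 0, 0, [22, 24, 18, 21, 16, 24]), (0, 1, 0, [20, 24, 16, 23, 18, 24]), (1, 1, 0, [10]), (2, 0, 8, []), (0, 1, 0, [21, 22, 24, 18, 20, 19]), (0, 2, 0, [21, 24, 19, 23]), (1, 2, 0, [1]), (2, 1, 0, []), (0, 0, 0, [11, 23, 24, 22, 19, 24, 22]), (0, 1, 0, [15, 21, 22, 24, 16]), (1, 1, 0, [10])]),
    ([20, 17, 10], [(0, 1, 0, [15, 18, 23]), (0, 2, 0, [12]), (1, 2, 0, [10]), (3, 1, 11, []), (0, 0, 0, [15, 22, 20, 19, 24, 23, 21]), (0, 1, 0, [22, 16, 24]), (1, 1, 0, [1]), (2, 0, 0, []), (0, 0, 0, [14, 23, 23, 24, 20, 20, 16, 24]), (0, 1, 0, [16, 22, 24, 16, 24]), (1, 1, 0, [10])]),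
    ([18, 24, 5], [(3, 0, 10, []), (0, 1, 0, [22, 16, 18, 24, 16, 22]), (0, 2, 0, [14, 24, 21, 22, 20, 24, 16]), (1, 2, 0, [10]), (3, 1, 11, []), (0, 0, 0, [18, 20, 19, 21, 24, 16]), (0, 1, 0, [21, 18]), (1, 1, 0, [1]), (2, 0, 0, []), (0, 0, 0, [15, 19, 24, 17, 24, 20, 19, 24]), (0, 1, 0, [15, 24, 16, 19, 23]), (1, 1, 0, [0, 5])]),
    ([18, 24, 6], [(0, 1, 0, [12, 17, 23, 20, 24, 17]), (0, 2, 0, [16, 18]), (1, 2, 0, [1]), (2, 1, 0, []), (0, 0, 0, [18, 20, 16, 21, 22, 24]), (0, 1, 0, [17, 22, 21, 21, 24, 18]), (1, 1, 0, [10])])]⟩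

end H5.LyM
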