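import Mathlib
import Cfsg.Agent.H5.McP
import Cfsg.Agent.H5.LyM.N0
import Cfsg.Agent.H5.LyM.N1
import Cfsg.Agent.H5.LyM.N2

/-!
# A permutation model of `3·McL:2`

The points are: 15400 subgroups of order three, 66825 cosets of `2·S₈`, three copies of 275 points.
-/

set_option autoImplicit false
set_option maxRecDepth 100000
set_option Elab.async false

namespace H5.LyM

open H29

/-- The networks of the fourteen letters. -/
noncomputable def nl : List Net :=
  [n0, n1, n2, n3, n4, n5, n6, n7, n8, n9, n10, n11, n11.rev, n13]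

/-- The relators of the letter `i`. -/
def RI : List (List ℕ) := [[13, 0, 13, 2], [13, 1, 13, 3, 2], [13, 2, 13, 0], [13, 3, 13, 1, 0],
  [13, 4, 13, 4], [13, 5, 13, 4, 5, 4], [13, 6, 13, 7], [13, 7, 13, 6], [13, 8, 13, 8],
  [13, 9, 13, 9], [13, 10, 13, 10, 5, 4, 12], [13, 11, 13, 11], [13, 12, 13, 12]]

theorem hn : NetsOK 83050 (nth Net.nil nl) := netsOK_of_all (by decide +kernel)

theorem hiv : IvOK (sg (nth Net.nil nl)) (ivOf McP.ivl) :=
  ivOK_of_chk (k := 17) hn (by decide) (n := 14) (by decide) (by decide)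
    (allN_true.1 (by decide +kernel))

theorem r0 : chkRelP 83050 17 (nth Net.nil nl) (ivOf McP.ivl) (McP.RA ++ RI) 0 = true := by
  decide +kernel
theorem r1 : chkRelP 83050 17 (nth Net.nil nl) (ivOf McP.ivl) (McP.RA ++ RI) 1 = true := by
  decide +kernel
theorem r2 : chkRelP 83050 17 (nth Net.nil nl) (ivOf McP.ivl) (McP.RA ++ RI) 2 = true := by
  decide +kernel
theorem r3 : chkRelP 83050 17 (nth Net.nil nl) (ivOf McP.ivl) (McP.RA ++ RI) 3 = true := by
  decide +kernel
theorem r4 : chkRelP 83050 17 (nth Net.nil nl) (ivOf McP.ivl) (McP.RA ++ RI) 4 = true := by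
  decide +kernel
theorem r5 : chkRelP 83050 17 (nth Net.nil nl) (ivOf McP.ivl) (McP.RA ++ RI) 5 = true := by
  decide +kernel
theorem r6 : chkRelP 83050 17 (nth Net.nil nl) (ivOf McP.ivl) (McP.RA ++ RI) 6 = true := by
  decide +kernel
theorem r7 : chkRelP 83050 17 (nth Net.nil nl) (ivOf McP.ivl) (McP.RA ++ RI) 7 = true := by
  decide +kernel
theorem r8 : chkRelP 83050 17 (nth Net.nil nl) (ivOf McP.ivl) (McP.RA ++ RI) 8 = true := by
  decide +kernel
theorem r9 : chkRelP 83050 17 (nth Net.nil nl) (ivOf McP.ivl) (McP.RA ++ RI) 9 = true := by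
  decide +kernel
theorem r10 : chkRelP 83050 17 (nth Net.nil nl) (ivOf McP.ivl) (McP.RA ++ RI) 10 = true := by
  decide +kernel
theorem r11 : chkRelP 83050 17 (nth Net.nil nl) (ivOf McP.ivl) (McP.RA ++ RI) 11 = true := by
  decide +kernel
theorem r12 : chkRelP 83050 17 (nth Net.nil nl) (ivOf McP.ivl) (McP.RA ++ RI) 12 = true := by
  decide +kernel
theorem r13 : chkRelP 83050 17 (nth Net.nil nl) (ivOf McP.ivl) (McP.RA ++ RI) 13 = true := by
  decide +kernel
theorem r14 : chkRelP 83050 17 (nth Net.nil nl) (ivOf McP.ivl) (McP.RA ++ RI) 14 = true := by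
  decide +kernel
theorem r15 : chkRelP 83050 17 (nth Net.nil nl) (ivOf McP.ivl) (McP.RA ++ RI) 15 = true := by
  decide +kernel
theorem r16 : chkRelP 83050 17 (nth Net.nil nl) (ivOf McP.ivl) (McP.RA ++ RI) 16 = true := by
  decide +kernel

theorem hR : ∀ r ∈ McP.RA ++ RI, ev (sg (nth Net.nil nl)) r = 1 :=
  rels_of_chk (k := 17) hn (by decide) hiv
    (lt_step (lt_step (lt_step (lt_step (lt_step (lt_step (lt_step (lt_step (lt_step (lt_step (lt_step (lt_step (lt_step (lt_step (lt_step (lt_step (lt_step lt_base r0) r1) r2) r3) r4) r5) r6) r7) r8) r9) r10) r11) r12) r13) r14) r15) r16)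

end H5.LyM

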