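import Mathlib
import Cfsg.Agent.H5.LyM
import Cfsg.Agent.H5.LyM.X
import Cfsg.Agent.H29.Cert

/-! Six more letters for the model of `3·McL:2`. -/

set_option autoImplicit false
set_option maxRecDepth 100000
set_option Elab.async false

namespace H5.LyM

open H29

/-- The new networks. -/
noncomputable def ly : List Net := [x14, x16, x18, x20, x22, x24]
/-- All networks. -/
noncomputable def nx : ℕ → Net := nth Net.nil (nl ++ dbl ly)
/-- The inverses of the letters. -/
def ivx : List ℕ := [0, 1, 2, 3, 4, 5, 6, 7, 8, 9, 10, 12, 11, 13, 15, 14, 17, 16, 19, 18, 21, 20, 23, 22, 25, 24]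
/-- The definitions of the new letters. -/
def defs : List (List ℕ) := [[2, 7, 3, 1, 6], [3, 4, 5, 7, 6, 5, 4], [0, 4, 3, 5, 6, 7, 3, 1, 5, 13], [5, 7, 6, 2, 5, 6, 3, 7, 1], [5, 7, 6, 1, 5, 7, 6, 9], [6, 2, 5, 6, 10, 7, 6, 10, 6, 7, 10, 8, 10, 7, 6, 10, 6, 7, 10, 6, 5, 2, 6]]
theorem hext : chkExt 14 defs McP.ivl ivx = true := by decide +kernel
theorem hnx : NetsOK 83050 nx := netsOK_ext hn (by decide +kernel)
theorem hivx : IvOK (sg nx) (ivOf ivx) := ivOK_ext hiv hext rfl rfl
theorem d0 : chkRelP 83050 17 nx (ivOf ivx) (defRels defs 14) 0 = true := by decide +kernel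
theorem d1 : chkRelP 83050 17 nx (ivOf ivx) (defRels defs 14) 1 = true := by decide +kernel
theorem d2 : chkRelP 83050 17 nx (ivOf ivx) (defRels defs 14) 2 = true := by decide +kernel
theorem d3 : chkRelP 83050 17 nx (ivOf ivx) (defRels defs 14) 3 = true := by decide +kernel
theorem d4 : chkRelP 83050 17 nx (ivOf ivx) (defRels defs 14) 4 = true := by decide +kernel
theorem d5 : chkRelP 83050 17 nx (ivOf ivx) (defRels defs 14) 5 = true := by decide +kernel
theorem d6 : chkRelP 83050 17 nx (ivOf ivx) (defRels defs 14) 6 = true := by decide +kernel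
theorem d7 : chkRelP 83050 17 nx (ivOf ivx) (defRels defs 14) 7 = true := by decide +kernel
theorem d8 : chkRelP 83050 17 nx (ivOf ivx) (defRels defs 14) 8 = true := by decide +kernel
theorem d9 : chkRelP 83050 17 nx (ivOf ivx) (defRels defs 14) 9 = true := by decide +kernel
theorem d10 : chkRelP 83050 17 nx (ivOf ivx) (defRels defs 14) 10 = true := by decide +kernel
theorem d11 : chkRelP 83050 17 nx (ivOf ivx) (defRels defs 14) 11 = true := by decide +kernel
theorem d12 : chkRelP 83050 17 nx (ivOf ivx) (defRels defs 14) 12 = true := by decide +kernel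
theorem d13 : chkRelP 83050 17 nx (ivOf ivx) (defRels defs 14) 13 = true := by decide +kernel
theorem d14 : chkRelP 83050 17 nx (ivOf ivx) (defRels defs 14) 14 = true := by decide +kernel
theorem d15 : chkRelP 83050 17 nx (ivOf ivx) (defRels defs 14) 15 = true := by decide +kernel
theorem d16 : chkRelP 83050 17 nx (ivOf ivx) (defRels defs 14) 16 = true := by decide +kernel

theorem hdef : ∀ r ∈ defRels defs 14, ev (sg nx) r = 1 :=
  rels_of_chk (k := 17) hnx (by decide) hivx
    (lt_step (lt_step (lt_step (lt_step (lt_step (lt_step (lt_step (lt_step (lt_step (lt_step (lt_step (lt_step (lt_step (lt_step (lt_step (lt_step (lt_step lt_base d0) d1) d2) d3) d4) d5) d6) d7) d8) d9) d10) d11) d12) d13) d14) d15) d16)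

end H5.LyM
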