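import Mathlib
import Cfsg.Agent.H5.LyX
import Cfsg.Agent.H5.LyP
import Cfsg.Agent.H19.DCE4

/-! The group `K = 3·McL:2` of the model: order, base, equality test, lower bounds. -/

set_option autoImplicit false
set_option maxRecDepth 100000
set_option Elab.async false

namespace H5.LyM

open H29 H9.MX H19 H5.Ly H5.LyP

theorem chain_F {G : Type*} [Group G] [Finite G] {e : ℕ → G} {ρ : G →* Equiv.Perm ℕ}
    {nets : ℕ → Net} {K N k : ℕ} (hn : NetsOK K nets) (hρ : ∀ c, ρ (e c) = sg nets c)
    {F : Subgroup G} : ∀ (ch : List (ℕ × ℕ × ℕ × List ℕ)) (L : List ℕ),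
      (∀ a ∈ ch, F ≤ stab ρ a.1) → chkChain N k nets ch L = true →
      (ch.map fun a => a.2.2.1).prod * Nat.card F ≤ Nat.card ↥(gen e L ⊔ F)
  | [], L, _, _ => by simpa using Subgroup.card_le_of_le le_sup_right
  | a :: ch, L, hF, h => by
    rw [show chkChain N k nets (a :: ch) L = and2 (and2 (Nat.ble (Nat.succ a.1) N)
      (Nat.ble a.2.2.1 (popc k (orb nets L a.2.1 (bit a.1)))))
      (and2 (allL a.2.2.2 fun c => and2 (memL c L) (sub (bit a.1) ((nets c).pull (bit a.1))))
        (chkChain N k nets ch a.2.2.2)) from rfl] at h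
    simp only [and2_true, ble_true, allL_true, memL_true] at h
    obtain ⟨⟨h1, h2⟩, h3, h4⟩ := h
    have ih := chain_F hn hρ ch a.2.2.2 (fun b hb => hF b (by simp [hb])) h4
    rw [List.map_cons, List.prod_cons, mul_assoc]
    refine (Nat.mul_le_mul_left _ ih).trans (card_mul_le_of_orbit (ρ := ρ) (b := a.1)
      (sup_le_sup_right (gen_mono fun c hc => (h3 c hc).1) _) ?_ (h2.trans ?_))
    · have : gen e a.2.2.2 ⊔ F ≤ stab ρ a.1 := by
        refine sup_le (gen_le.2 fun c hc => ?_) (hF a (by simp))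
        have := sub_true (h3 c hc).2 (i := a.1) (by simp [testBit_bit])
        rw [Net.testBit_pull (hn c), testBit_bit, decide_eq_true_eq] at this
        rw [mem_stab, hρ c]
        exact this.symm
      exact fun g hg => this hg
    · refine popc_le_ncard ?_ fun i hi => ?_
      · exact (Set.finite_range fun g : G => ρ g a.1).subset fun i ⟨g, _, hg⟩ => ⟨g, hg⟩
      · obtain ⟨g, hg, h5⟩ := ((Reach.refl nets L _).orb hn a.2.1).exists_bit (fun c _ => hρ c) hi
        exact ⟨g, Subgroup.mem_sup_left hg, h5⟩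

/-- The fourteen letters. -/
def cols : List ℕ := [0, 1, 2, 3, 4, 5, 6, 7, 8, 9, 10, 11, 12, 13]

theorem conj_I {G : Type*} [Group G] {e : ℕ → G} (h1 : IvOK e (ivOf McP.ivl))
    (h2 : ∀ r ∈ RI, ev e r = 1) {x : G} (hx : x ∈ gen e McP.cols) :
    e 13 * x * (e 13)⁻¹ ∈ gen e McP.cols := by
  have h3 : gen e McP.cols ≤ (gen e McP.cols).comap (MulAut.conj (e 13)).toMonoidHom :=
    gen_le.2 fun c hc => by
      have key : ∀ c ∈ McP.cols, ∃ w ∈ RI.map (List.drop 3), 13 :: c :: 13 :: w ∈ RI ∧
        ∀ k ∈ w, k ∈ McP.cols := by decide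
      obtain ⟨w, -, a1, a2⟩ := key c hc
      have := h2 _ a1
      rw [ev_cons, ev_cons, ev_cons, ← mul_assoc, ← mul_assoc, mul_eq_one_iff_eq_inv] at this
      change e 13 * e c * (e 13)⁻¹ ∈ gen _ _
      rw [← h1 13, show ivOf McP.ivl 13 = 13 from rfl, this]
      exact inv_mem (ev_mem_gen a2)
  exact h3 hx

theorem ubH : UBd (ivOf McP.ivl) (McP.RA ++ RI) cols 5388768000 := by
  intro G _ e h1 h2
  have hI : (e 13)⁻¹ = e 13 := (h1 13).symm
  have hII : e 13 * e 13 = 1 := by nth_rewrite 1 [← hI]; exact inv_mul_cancel _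
  have h3 := fun x => @conj_I G _ e h1 (fun r hr => h2 r (List.mem_append_right _ hr)) x
  refine bd_of_cover (N := 2) (fun j => ((e 13 ^ j : G) : G ⧸ gen e McP.cols)) (fun g hg => ?_)
    (McP.ub3 G e h1 fun r hr => h2 r (List.mem_append_left _ hr))
  suffices g ∈ gen e McP.cols ∨ e 13 * g ∈ gen e McP.cols by
    rcases this with h | h
    · exact ⟨0, by decide, QuotientGroup.eq.2 (by simpa using h)⟩
    · exact ⟨1, by decide, QuotientGroup.eq.2 (by simpa [hI] using inv_mem h)⟩
  induction hg using Subgroup.closure_induction with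
  | mem x hx =>
    obtain ⟨c, hc, rfl⟩ := hx
    have key : ∀ c ∈ cols, c ∈ McP.cols ∨ c = 13 := by decide
    rcases key c hc with h | rfl
    · exact .inl (mem_gen h)
    · exact .inr (hII ▸ one_mem _)
  | one => exact .inl (one_mem _)
  | mul x y _ _ hx hy =>
    rcases hx with hx | hx <;> rcases hy with hy | hy
    · exact .inl (mul_mem hx hy)
    · exact .inr (by simpa [mul_assoc] using mul_mem (h3 x hx) hy)
    · exact .inr (by simpa [mul_assoc] using mul_mem hx hy)
    · refine .inl ?_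
      have := mul_mem (h3 _ hx) hy
      rwa [← mul_assoc (e 13), hII, one_mul, mul_assoc, inv_mul_cancel_left] at this
  | inv x _ hx =>
    rcases hx with hx | hx
    · exact .inl (inv_mem hx)
    · refine .inr ?_
      have := h3 _ (inv_mem hx)
      rwa [mul_inv_rev, hI, mul_assoc, mul_assoc, hII, mul_one] at this

/-- The group of the model. -/
abbrev K : Type := PG nl
/-- Its action. -/
noncomputable abbrev ρ : K →* Equiv.Perm ℕ := (PG nl).subtype
/-- Its letters. -/
noncomputable def σ : ℕ → K := extE (pe nl) 14 defs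

theorem hρ (c : ℕ) : ρ (σ c) = sg nx c := map_ext hext hivx hdef rfl rfl (pe_rho _) c
theorem iv0 : IvOK (pe nl) (ivOf McP.ivl) := ivOK_sub _ hiv
theorem rel0 : ∀ r ∈ McP.RA ++ RI, ev (pe nl) r = 1 := rels_subE _ hR
theorem top0 : gen (pe nl) cols = ⊤ := pe_top (by decide +kernel)
theorem ivσ : IvOK σ (ivOf ivx) := ivOK_extE iv0 hext
theorem top : gen σ cols = ⊤ := (gen_extE _ _ (by decide)).trans top0
theorem bdK : Finite K ∧ Nat.card K ≤ 5388768000 := (ubH _ _ iv0 rel0).of_top top0
instance : Finite K := bdK.1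
theorem ρ_ev (w : Wd) : ρ (ev σ w) = ev (sg nx) w := map_ev_sg fun c _ => hρ c

/-- The letters of the edge stabiliser. -/
def dl : List ℕ := [11, 12, 14, 15, 16, 17, 18, 19, 20, 21, 22, 23, 24]

theorem chain2 {gs ws : List Wd} {ch : List (ℕ × ℕ × ℕ × List ℕ)} {L : List ℕ} {F : Subgroup K}
    (hF : ∀ a ∈ ch, F ≤ stab ρ a.1) (h : chkChain 83050 17 (wNets (wNets nx gs) ws) ch L = true) :
    (ch.map fun a => a.2.2.1).prod * Nat.card F ≤ Nat.card ↥(genW σ gs ⊔ F) := by
  refine (chain_F ((hnx.wNets gs).wNets ws) (map_wE (map_wE hρ gs) ws) ch L hF h).trans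
    (Subgroup.card_le_of_le (sup_le_sup_right ((gen_wE_le _ _ _).trans ?_) _))
  rw [genW, Subgroup.closure_le]
  rintro _ ⟨w, -, rfl⟩
  exact gen_wE_le σ gs w (ev_mem_gen fun _ h => h)

theorem le_card {gs ws : List Wd} {ch : List (ℕ × ℕ × ℕ × List ℕ)} {L : List ℕ}
    (h : chkChain 83050 17 (wNets (wNets nx gs) ws) ch L = true) :
    (ch.map fun a => a.2.2.1).prod ≤ Nat.card (genW σ gs) := by
  simpa using chain2 (F := ⊥) (fun _ _ => bot_le) h

/-- Generators of the edge stabiliser. -/
def g1 : List Wd := [[11], [14], [16], [18], [20], [22], [24]]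

theorem g1_eq : genW σ g1 = gen σ dl := by
  refine le_antisymm ?_ (gen_le_genW ivσ (by decide +kernel))
  rw [genW, Subgroup.closure_le]
  rintro _ ⟨w, hw, rfl⟩
  exact ev_mem_gen (by revert w; decide)

theorem chE : chkChain 83050 17 (wNets (wNets nx ([[16, 20], [18, 22], [22, 16, 23], [20, 19, 21]] ++ g1))
    [[4], [5], [6], [7], [8], [9], [10], [0], [1], [2], [3]])
    [(82226, 2, 270, [0, 6, 7, 8, 9, 10]), (82503, 3, 108, [0, 10]), (82792, 3, 4, [0]),
      (15400, 2, 3, [])] [0, 1, 2, 3, 4, 5, 6, 7, 8, 9, 10] = true := by decide +kernel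

theorem gE_le : genW σ ([[16, 20], [18, 22], [22, 16, 23], [20, 19, 21]] ++ g1) ≤ gen σ dl := by
  rw [genW, Subgroup.closure_le]
  rintro _ ⟨w, hw, rfl⟩
  exact ev_mem_gen (by revert w; decide)

theorem le_E : 349920 ≤ Nat.card (gen σ dl) := (le_card chE).trans (Subgroup.card_le_of_le gE_le)

theorem fix_of_chk {w : Wd} {p q : ℕ} (h : (pullW nx w (bit q)).testBit p = true) :
    ρ (ev σ w) p = q := by
  rw [testBit_pullW hnx, testBit_bit, decide_eq_true_eq] at h
  rw [ρ_ev, h]

theorem cm : CosetModel ρ (gen σ dl) 15400 :=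
  cosetModel_of_card hnx (fun c _ => hρ c) top (by decide) (by decide +kernel)
    (reach_of_chk hnx (r := 4) (by decide +kernel))
    (gen_le.2 fun c hc => by
      have := fix_of_chk (w := [c]) (p := 0) (q := 0) (by revert c; decide +kernel)
      rwa [ev_cons, ev_nil, mul_one] at this)
    (bdK.2.trans (Nat.mul_le_mul_left 15400 le_E))

theorem card_E : Nat.card (gen σ dl) = 349920 ∧ Nat.card K = 5388768000 := by
  have h1 := (gen σ dl).index_mul_card
  have h2 := bdK.2
  have h3 := le_E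
  rw [cm.index_eq] at h1
  omega

theorem base {g : K} (h0 : ρ g 0 = 0) (h1 : ρ g 15400 = 15400) (h2 : ρ g 82226 = 82226)
    (h3 : ρ g 82503 = 82503) (h4 : ρ g 82792 = 82792) : g = 1 := by
  have h5 := chain2 (F := Subgroup.zpowers g) (by
    simp only [List.mem_cons, List.not_mem_nil, or_false, forall_eq_or_imp, forall_eq,
      Subgroup.zpowers_le]
    exact ⟨h2, h3, h4, h1⟩) chE
  have h6 := Subgroup.card_le_of_le (sup_le gE_le (Subgroup.zpowers_le.2 ((cm.mem g).1 h0)))
  rw [card_E.1] at h6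
  have h7 : Nat.card (Subgroup.zpowers g) ≤ 1 := by
    have := h5.trans h6
    simp only [List.map_cons, List.map_nil, List.prod_cons, List.prod_nil] at this
    omega
  exact Subgroup.zpowers_eq_bot.1 (Subgroup.eq_bot_of_card_le _ h7)

/-- The base points. -/
noncomputable def msk : ℕ :=
  Nat.lor (bit 0) (Nat.lor (bit 15400) (Nat.lor (bit 82226) (Nat.lor (bit 82503) (bit 82792))))

theorem testBit_msk (i : ℕ) : msk.testBit i = true ↔
    i = 0 ∨ i = 15400 ∨ i = 82226 ∨ i = 82503 ∨ i = 82792 := by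
  change (bit 0 ||| (bit 15400 ||| (bit 82226 ||| (bit 82503 ||| bit 82792)))).testBit i = true ↔ _
  simp only [Nat.testBit_or, testBit_bit, Bool.or_eq_true, decide_eq_true_eq, @eq_comm _ _ i]

theorem lt_iff {n : ℕ} (h : chkInv nx cols (ones n) = true) (g : K) (i : ℕ) : ρ g i < n ↔ i < n := by
  have := inv_of_chk hnx (fun c _ => hρ c) h (top ▸ Subgroup.mem_top g) i
  simpa [testBit_ones] using this

/-- The word is trivial in `K`. -/
noncomputable def eqK (w : Wd) : Bool := Nat.beq (pullW nx w msk) msk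
/-- The word is not trivial in `K`. -/
noncomputable def neK (w : Wd) : Bool := Bool.not (eqK w)

theorem eqK_spec {w : Wd} (h : eqK w = true) : ev σ w = 1 := by
  have h1 : ∀ i, msk.testBit i = true → msk.testBit (ρ (ev σ w) i) = true := fun i hi => by
    rw [ρ_ev, ← testBit_pullW hnx, H29.beq_true.1 h, hi]
  have a1 := lt_iff (n := 15400) (by decide +kernel) (ev σ w)
  have a2 := lt_iff (n := 82225) (by decide +kernel) (ev σ w)
  have a3 := lt_iff (n := 82500) (by decide +kernel) (ev σ w)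
  have a4 := lt_iff (n := 82775) (by decide +kernel) (ev σ w)
  simp only [testBit_msk] at h1
  refine base ?_ ?_ ?_ ?_ ?_
  · have := h1 0 (by simp); have := a1 0; omega
  · have := h1 15400 (by simp); have := a1 15400; have := a2 15400; omega
  · have := h1 82226 (by simp); have := a2 82226; have := a3 82226; omega
  · have := h1 82503 (by simp); have := a3 82503; have := a4 82503; omega
  · have := h1 82792 (by simp); have := a4 82792; omega

theorem neK_spec {w : Wd} (h : neK w = true) : ev σ w ≠ 1 := fun h1 => by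
  have : pullW nx w msk = msk := Nat.eq_of_testBit_eq fun i => by
    rw [testBit_pullW hnx, ← ρ_ev, h1]; rfl
  rw [neK, eqK, this, H29.beq_true.2 rfl] at h
  exact absurd h (by decide)

theorem eq_of {u v : Wd} (h : eqK (u ++ invW (ivOf ivx) v) = true) : ev σ u = ev σ v := by
  have := eqK_spec h
  rwa [ev_append, ev_invW ivσ, mul_inv_eq_one] at this

theorem ne_of {u v : Wd} (h : neK (u ++ invW (ivOf ivx) v) = true) : ev σ u ≠ ev σ v := by
  have := neK_spec h
  rwa [ev_append, ev_invW ivσ, Ne, mul_inv_eq_one] at this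

theorem cover {gw pw : List Wd} {L : List ℕ} {r : ℕ}
    (h : and2 (and2 (chkIn (List.range 26) gw) (chkIn (List.range 26) pw))
      (sub (ones 15400) (orb (wNets nx gw) L r (startSet nx (ivOf ivx) pw))) = true) (x : K) :
    ∃ s ∈ genW σ gw, ∃ w ∈ pw, ∃ d ∈ gen σ dl, x = s * ev σ w * d :=
  cover_of_nets hnx hivx cm (fun c _ => hρ c) (and2_true.1 h).1 (by simp [sub])
    (reach_of_chk (hnx.wNets gw) (and2_true.1 h).2) x

end H5.LyM
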