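import Mathlib
import Cfsg.Agent.H5.LyU
import Cfsg.Agent.H5.LyC

/-! An upper bound for the order of the group given by the amalgam of the Lyons group. -/

set_option autoImplicit false
set_option maxRecDepth 100000
set_option Elab.async false

namespace H5.LyM

open H29 H9.MX H19 H5.Ly H5.LyP

/-- The words of all letters. -/
def wl : List Wd := [[0], [1], [2], [3], [4], [5], [6], [7], [8], [9], [10], [11], [12], [13], [2, 7, 3, 1, 6], [6, 1, 3, 7, 2], [3, 4, 5, 7, 6, 5, 4], [4, 5, 6, 7, 5, 4, 3], [0, 4, 3, 5, 6, 7, 3, 1, 5, 13], [13, 5, 1, 3, 7, 6, 5, 3, 4, 0], [5, 7, 6, 2, 5, 6, 3, 7, 1], [1, 7, 3, 6, 5, 2, 6, 7, 5], [5, 7, 6, 1, 5, 7, 6, 9], [9, 6, 7, 5, 1, 6, 7, 5], [6, 2, 5, 6, 10, 7, 6, 10, 6, 7, 10, 8, 10, 7, 6, 10, 6, 7, 10, 6, 5, 2, 6], [6, 2, 5, 6, 10, 7, 6, 10, 6, 7, 10, 8, 10, 7, 6, 10, 6, 7, 10, 6, 5, 2, 6]]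

/-- The action of `τ`. -/
def al0 : List Wd := [[], [], [], [], [], [], [], [], [], [], [], [14], [15], [], [11], [12], [18],
  [19], [16], [17], [22], [23], [20], [21], [24]]

/-- The relator for the action of `τ` on a letter. -/
noncomputable def alR (al : List Wd) (c : ℕ) : Wd :=
  14 :: (nth [] wl c ++ 14 :: invW (ivOf McP.ivl) (subW wl (nth [] al c)))

/-- The word of the tail of a path. -/
noncomputable def flatR (R : List Wd) : Wd :=
  List.rec (motive := fun _ => Wd) [] (fun h _ ih => 14 :: (subW wl h ++ ih)) R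

/-- The word of a path. -/
noncomputable def flat (A : List Wd) : Wd :=
  List.rec (motive := fun _ => Wd) [] (fun h R _ => subW wl h ++ flatR R) A

/-- The relator of a fact. -/
noncomputable def fR (f : List Wd × List Wd) : Wd := flat f.1 ++ invW (ivOf McP.ivl) (flat f.2)

/-- The relators of the amalgam. -/
noncomputable def RL : List Wd := McP.RA ++ RI ++ (dl.map (alR al0) ++ F0.map fR)

/-- The data of the certificate. -/
noncomputable def DD (al : List Wd) : PD := ⟨ivOf ivx, al, dl, eqK, F0 ++ F1⟩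

section

variable {G : Type} [Group G] {e : ℕ → G} (h1 : IvOK e (ivOf McP.ivl))
include h1

theorem ext_eq (c : ℕ) : extE e 14 defs c = ev e (nth [] wl c) := by
  have he := isExt_extE e (chkExt_wf hext)
  have key : ∀ j, extE e 14 defs (14 + 2 * j) = ev e (nth [] defs j) := fun j => by
    rw [he.even]
    exact ev_congr fun c hc => extE_lt _ _ _
      (nth_forall (p := fun w : Wd => ∀ c ∈ w, c < 14) (by simp) (by decide) j c hc)
  by_cases hc : 26 ≤ c
  · rw [he.eq_one (n := 14) hc, nth_default _ hc, ev_nil]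
  rcases ext_cases 14 c with h | ⟨j, rfl⟩ | ⟨j, rfl⟩
  · rw [extE_lt _ _ _ h, (show ∀ c < 14, nth [] wl c = [c] by decide +kernel) c h]; simp
  · have : ∀ j < 6, nth [] wl (14 + 2 * j) = nth [] defs j := by decide +kernel
    rw [key, this j (by omega)]
  · have : ∀ j < 6, nth [] wl (14 + 2 * j + 1) = invW (ivOf McP.ivl) (nth [] defs j) := by
      decide +kernel
    rw [he.odd, key, this j (by omega), ev_invW h1]

theorem ev_ext : ∀ w : Wd, ev (extE e 14 defs) w = ev e (subW wl w)
  | [] => rfl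
  | c :: w => by
    rw [show subW wl (c :: w) = nth [] wl c ++ subW wl w from rfl, ev_cons, ev_append, ev_ext w,
      ext_eq h1]

theorem evR_flat : ∀ R : List Wd, evR (extE e 14 defs) (e 14) R = ev e (flatR R)
  | [] => rfl
  | h :: R => by
    rw [show flatR (h :: R) = 14 :: (subW wl h ++ flatR R) from rfl, evR, ev_cons, ev_append,
      evR_flat R, ev_ext h1, mul_assoc]

theorem evL_flat : ∀ A : List Wd, evL (extE e 14 defs) (e 14) A = ev e (flat A)
  | [] => rfl
  | h :: R => by
    rw [show flat (h :: R) = subW wl h ++ flatR R from rfl, evL, ev_append, evR_flat h1, ev_ext h1]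

theorem exists_phi (h2 : ∀ r ∈ McP.RA ++ RI, ev e r = 1) :
    ∃ φ : K →* G, φ.range = gen e cols ∧ (fun c => φ (σ c)) = extE e 14 defs := by
  obtain ⟨φ, a1, a2⟩ := exists_hom_of_tr (H9.MX.tr_of_bd ubH (by decide) iv0 h1 rel0 h2
    (by rw [top0, Subgroup.card_top, card_E.2])) iv0 h1 (by decide) top0
  refine ⟨φ, a1, funext fun c => IsExt.map_eq (chkExt_wf hext) (isExt_extE _ (chkExt_wf hext))
    (isExt_extE _ (chkExt_wf hext)) (fun c hc => ?_) c⟩
  rw [extE_lt _ _ _ hc, extE_lt _ _ _ hc]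
  exact a2 c (by revert c; decide)

theorem al_iff {al : List Wd} {c : ℕ} : ev e (alR al c) = 1 ↔
    e 14 * extE e 14 defs c * (e 14)⁻¹ = ev (extE e 14 defs) (nth [] al c) := by
  rw [alR, ev_cons, ev_append, ev_cons, ev_invW h1, ← ev_ext h1, ← ext_eq h1, ← h1 14,
    show ivOf McP.ivl 14 = 14 from rfl, ← mul_assoc, ← mul_assoc, mul_inv_eq_one]

theorem hyp_of {φ : K →* G} (hφ : (fun c => φ (σ c)) = extE e 14 defs) {al : List Wd}
    (h : ∀ c ∈ dl, ev e (alR al c) = 1) : (DD al).Hyp (fun c => φ (σ c)) (e 14) where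
  iv := ivOK_map φ ivσ
  sq := by nth_rewrite 1 [show e 14 = (e 14)⁻¹ from h1 14]; exact inv_mul_cancel _
  al := fun c hc => by
    have := (al_iff h1).1 (h c hc)
    rwa [← hφ] at this
  eq := fun w hw => by rw [PD.ev_phi, eqK_spec hw, map_one]

theorem upto_of {φ : K →* G} (hφ : (fun c => φ (σ c)) = extE e 14 defs) (al : List Wd)
    (h : ∀ f ∈ F0, ev e (fR f) = 1) : (DD al).Upto (fun c => φ (σ c)) (e 14) 8 := fun f hf => by
  have : nth ([], []) (F0 ++ F1) f ∈ F0 := by revert f; decide +kernel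
  have := h _ this
  rw [fR, ev_append, ev_invW h1, mul_inv_eq_one, ← evL_flat h1, ← evL_flat h1, ← hφ] at this
  exact this

end

theorem chkP_split {D : PD} {n : ℕ} {Ts : List (List Wd)} {T : List Wd} {ps : List (Wd × List Op)}
    (k : ℕ) (h : D.chkP n Ts T (ps.take k) = true) (h' : D.chkP n Ts T (ps.drop k) = true) :
    D.chkP n Ts T ps = true := by
  rw [PD.chkP, allL_true] at h h' ⊢
  intro p hp
  rw [← List.take_append_drop k ps, List.mem_append] at hp
  exact hp.elim (h p) (h' p)

/-- The five double cosets. -/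
def lv : List Lv := [v0, v1, v2, v3, v4]

theorem cF : (DD al0).chkF FP 8 = true := by decide +kernel
theorem cS : allL lv ((DD al0).chkS 12) = true := by decide +kernel
theorem cP0 : (DD al0).chkP 12 (lv.map Lv.T) v0.T v0.ps = true := by decide +kernel
theorem cP1 : (DD al0).chkP 12 (lv.map Lv.T) v1.T v1.ps = true := by decide +kernel
theorem cP2 : (DD al0).chkP 12 (lv.map Lv.T) v2.T v2.ps = true := by decide +kernel
theorem cP3 : (DD al0).chkP 12 (lv.map Lv.T) v3.T v3.ps = true := by decide +kernel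
theorem cP4a : (DD al0).chkP 12 (lv.map Lv.T) v4.T (v4.ps.take 14) = true := by decide +kernel
theorem cP4b : (DD al0).chkP 12 (lv.map Lv.T) v4.T ((v4.ps.drop 14).take 12) = true := by
  decide +kernel
theorem cP4c : (DD al0).chkP 12 (lv.map Lv.T) v4.T ((v4.ps.drop 14).drop 12) = true := by
  decide +kernel

theorem top_v0 : genW σ (v0.gs.map Prod.fst) = ⊤ :=
  top_le_iff.1 (top ▸ gen_le_genW ivσ (by decide +kernel))

theorem cov : ∀ a ∈ lv, ∀ x : K, ∃ s ∈ genW σ (a.gs.map Prod.fst), ∃ w ∈ a.ps.map Prod.fst,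
    ∃ d ∈ gen σ dl, x = s * ev σ w * d := by
  simp only [lv, List.mem_cons, List.not_mem_nil, or_false, forall_eq_or_imp, forall_eq]
  exact ⟨fun x => ⟨x, top_v0 ▸ trivial, [], by decide, 1, one_mem _, by simp⟩,
    cover (L := List.range 7) (r := 4) (by decide +kernel),
    cover (L := List.range 6) (r := 4) (by decide +kernel),
    cover (L := List.range 6) (r := 4) (by decide +kernel),
    cover (L := List.range 4) (r := 4) (by decide +kernel)⟩

theorem le2 : 10080 ≤ Nat.card (genW σ (v2.gs.map Prod.fst)) :=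
  le_card (ws := [[0], [1], [2], [3], [4], [5], [0, 4, 4, 3], [1, 4, 5, 0, 5]])
    (ch := [(82242, 2, 240, [6, 7]), (82256, 5, 42, [])]) (L := [0, 1, 2, 3, 4, 5, 6, 7])
    (by decide +kernel)

theorem le3 : 2880 ≤ Nat.card (genW σ (v3.gs.map Prod.fst)) :=
  le_card (ws := [[0], [1], [2], [3], [4], [5], [1, 5], [3, 4, 0]])
    (ch := [(82242, 2, 240, [6, 7]), (82258, 3, 12, [])]) (L := [0, 1, 2, 3, 4, 5, 6, 7])
    (by decide +kernel)

theorem le4 : 750 ≤ Nat.card (genW σ (v4.gs.map Prod.fst)) :=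
  le_card (ws := [[0], [1], [2], [3], [1, 2, 1, 2, 1]])
    (ch := [(82225, 4, 125, [0, 4]), (82226, 2, 6, [])]) (L := [0, 1, 2, 3, 4])
    (by decide +kernel)

/-- All fifteen letters. -/
def colsL : List ℕ := cols ++ [14]

theorem bd_top {G : Type} [Group G] {e : ℕ → G} (h1 : IvOK e (ivOf McP.ivl))
    (h2 : ∀ r ∈ RL, ev e r = 1) (h3 : gen e colsL = ⊤) :
    Finite G ∧ Nat.card G ≤ 51765179004000000 := by
  obtain ⟨φ, a1, a2⟩ := exists_phi h1 fun r hr => h2 r (List.mem_append_left _ hr)
  have hy := hyp_of h1 a2 (al := al0) fun c hc => h2 _ (List.mem_append_right _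
    (List.mem_append_left _ (List.mem_map_of_mem hc)))
  have hu := (upto_of h1 a2 al0 fun f hf => h2 _ (List.mem_append_right _
    (List.mem_append_right _ (List.mem_map_of_mem hf)))).next hy FP cF
  have h := PD.dcs hy hu (L := lv) (by decide) (allL_true.1 cS) (by
      simp only [lv, List.mem_cons, List.not_mem_nil, or_false, forall_eq_or_imp, forall_eq]
      exact ⟨cP0, cP1, cP2, cP3, chkP_split 14 cP4a (chkP_split 12 cP4b cP4c)⟩)
    (top_le_iff.1 (h3 ▸ gen_le.2 fun c hc => (List.mem_append.1 hc).elim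
      (fun hc => Subgroup.mem_sup_left (a1 ▸ mem_gen hc))
      fun hc => Subgroup.mem_sup_right (Subgroup.subset_closure (by simp_all)))) cov
    (m := ![1, 15400, 534600, 1871100, 7185024]) (fun i => by
      rw [card_E.2]
      fin_cases i
      · change _ ≤ 1 * Nat.card (genW σ (v0.gs.map Prod.fst))
        rw [top_v0, Subgroup.card_top, card_E.2]
      · change _ ≤ 15400 * Nat.card (genW σ g1)
        rw [g1_eq, card_E.1]
      · exact le_trans (by decide) (Nat.mul_le_mul_left 534600 le2)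
      · exact le_trans (by decide) (Nat.mul_le_mul_left 1871100 le3)
      · exact le_trans (by decide) (Nat.mul_le_mul_left 7185024 le4))
  refine ⟨h.finite, h.card_le.trans ?_⟩
  rw [card_E.2]
  decide +kernel

theorem ubL : UBd (ivOf McP.ivl) RL colsL 51765179004000000 := by
  intro G _ e h1 h2
  let e' : ℕ → gen e colsL := fun c => if h : c ∈ colsL then ⟨e c, mem_gen h⟩ else 1
  have h3 : ∀ c ∈ colsL, (e' c : G) = e c := fun c hc => by simp [e', hc]
  have h4 : ∀ w : Wd, (∀ c ∈ w, c ∈ colsL) → ((ev e' w : gen e colsL) : G) = ev e w := fun w hw =>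
    (map_ev (gen e colsL).subtype e' w).trans (ev_congr fun c hc => h3 c (hw c hc))
  refine bd_top (e := e') (fun c => ?_) (fun r hr => Subtype.ext ?_) ?_
  · by_cases hc : c ∈ colsL
    · refine Subtype.ext ?_
      rw [h3 _ (by revert c; decide), Subgroup.coe_inv, h3 c hc, h1]
    · rw [show ivOf McP.ivl c = c from nth_default _ (by
        by_contra h; exact hc ((show ∀ c < 13, c ∈ colsL by decide) c (not_le.1 h)))]
      simp [e', hc]
  · rw [h4 r (by revert r; decide +kernel), h2 r hr]; rfl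
  · refine Subgroup.map_injective (gen e colsL).subtype_injective ?_
    rw [map_gen, ← MonoidHom.range_eq_map, Subgroup.range_subtype]
    exact gen_congr h3

end H5.LyM
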