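import Mathlib
import Cfsg.Agent.H5.LyV
import Cfsg.Agent.H5.LySE

/-! The involutions of `3·McL` that centralise three commuting elements of order three. -/

set_option autoImplicit false
set_option maxRecDepth 100000
set_option Elab.async false

namespace H5.LyM

open H29 H9.MX H19 H5.Ly H5.LyP Subgroup

theorem two_mul_card_le {G : Type*} [Group G] {A B : Subgroup G} [Finite B] (h : A ≤ B) {b : G}
    (hb : b ∈ B) (hn : b ∉ A) : 2 * Nat.card A ≤ Nat.card B := by
  obtain ⟨k, hk⟩ := card_dvd_of_le h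
  have : Finite A := Finite.of_injective _ (inclusion_injective h)
  have h1 : 0 < Nat.card B := Nat.card_pos
  rcases k with _ | _ | k
  · omega
  · exact absurd (eq_of_le_of_card_ge h (by omega) ▸ hb) hn
  · rw [hk]; nlinarith

theorem four_dvd {G : Type*} [Group G] {H : Subgroup G} [Finite H] {a b : G} (ha : a ∈ H)
    (hb : b ∈ H) (a1 : a ≠ 1) (a2 : a * a = 1) (b2 : b * b = 1) (b1 : b ≠ 1) (h : a ≠ b)
    (hc : a * b = b * a) : 4 ∣ Nat.card H := by
  have : Fact (Nat.Prime 2) := ⟨Nat.prime_two⟩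
  have h1 : closure {a, b} ≤ H := by
    rw [closure_le]; rintro x (rfl | rfl); exacts [ha, hb]
  have : Finite (closure ({a, b} : Set G)) := Finite.of_injective _ (inclusion_injective h1)
  have h2 : ∀ x ∈ closure ({a, b} : Set G), x * x = 1 ∧ Commute x a ∧ Commute x b := by
    have key : ∀ x y : G, x ∈ ({a, b} : Set G) → y * y = 1 ∧ Commute y a ∧ Commute y b →
        x * y * (x * y) = 1 ∧ Commute (x * y) a ∧ Commute (x * y) b := by
      rintro x y (rfl | rfl) ⟨e1, e2, e3⟩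
      · exact ⟨by rw [e2.mul_mul_mul_comm, a2, e1, one_mul], (Commute.refl _).mul_left e2,
          Commute.mul_left hc e3⟩
      · exact ⟨by rw [e3.mul_mul_mul_comm, b2, e1, one_mul], Commute.mul_left hc.symm e2,
          (Commute.refl _).mul_left e3⟩
    intro x hx
    induction hx using closure_induction_left with
    | one => simp
    | mul_left x hx y _ hy => exact key x y hx hy
    | inv_mul_cancel x hx y _ hy =>
      rw [show x⁻¹ = x from inv_eq_of_mul_eq_one_right (by rcases hx with rfl | rfl; exacts [a2, b2])]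
      exact key x y hx hy
  have h3 : IsPGroup 2 (closure ({a, b} : Set G)) := fun x => ⟨1, Subtype.ext (by
    simpa [sq] using (h2 x x.2).1)⟩
  obtain ⟨k, hk⟩ := IsPGroup.iff_card.1 h3
  have h4 := two_mul_card_le (A := zpowers a) (B := closure {a, b})
    (zpowers_le.2 (subset_closure (by simp))) (b := b) (subset_closure (by simp)) (by
      classical
      rw [(isOfFinOrder_iff_pow_eq_one.2 ⟨2, two_pos, by rw [sq, a2]⟩).mem_zpowers_iff_mem_range_orderOf,
        orderOf_eq_prime (by rw [sq]; exact a2) a1]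
      simp [Finset.range_add_one, b1, h.symm])
  rw [Nat.card_zpowers, orderOf_eq_prime (by rw [sq]; exact a2) a1, hk] at h4
  refine Dvd.dvd.trans ?_ (card_dvd_of_le h1)
  rw [hk]
  rcases k with _ | _ | k
  · omega
  · omega
  · exact ⟨2 ^ k, by ring⟩

/-- The elements that centralise or invert `a`. -/
def Nm {G : Type*} [Group G] (a : G) : Subgroup G where
  carrier := {x | x * a * x⁻¹ = a ∨ x * a * x⁻¹ = a⁻¹}
  one_mem' := .inl (by simp)
  mul_mem' := fun {x y} hx hy => by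
    have e : x * y * a * (x * y)⁻¹ = x * (y * a * y⁻¹) * x⁻¹ := by group
    have e' : x * a⁻¹ * x⁻¹ = (x * a * x⁻¹)⁻¹ := by group
    change _ ∨ _
    rcases hy with hy | hy <;> rw [e, hy]
    · exact hx
    · rw [e']; rcases hx with hx | hx <;> simp [hx]
  inv_mem' := fun {x} hx => by
    rcases hx with hx | hx
    · exact .inl (by nth_rewrite 1 [← hx]; group)
    · refine .inr ?_
      nth_rewrite 1 [← inv_inv a, ← hx]; group

theorem E_le : gen σ dl ≤ Nm (σ 14) := gen_le.2 fun c hc => by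
  have key : ∀ c ∈ dl, or2 (eqK ([c, 14, ivOf ivx c] ++ invW (ivOf ivx) [14]))
    (eqK ([c, 14, ivOf ivx c] ++ invW (ivOf ivx) [15])) = true := by decide +kernel
  refine (or2_true.1 (key c hc)).imp (fun h => ?_) fun h => ?_
  · simpa [ivσ c, mul_assoc] using eq_of h
  · simpa [ivσ c, mul_assoc, show σ 15 = (σ 14)⁻¹ from ivσ 14] using eq_of h

theorem fix_zero {x : K} (h : x * σ 14 = σ 14 * x) : ρ x 0 = 0 := by
  obtain ⟨s, hs, w, hw, d, hd, rfl⟩ := cov v1 (by simp [lv]) x
  rw [show v1.gs.map Prod.fst = g1 from rfl, g1_eq] at hs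
  have h1 : ev σ w ∈ Nm (σ 14) := by
    have := mul_mem (mul_mem (inv_mem (E_le hs)) (show _ ∈ Nm (σ 14) from
      .inl (mul_inv_eq_iff_eq_mul.2 h))) (inv_mem (E_le hd))
    simpa [mul_assoc] using this
  have key : ∀ w ∈ v1.ps.map Prod.fst, w = [] ∨
      and2 (neK (w ++ 14 :: invW (ivOf ivx) w ++ invW (ivOf ivx) [14]))
        (neK (w ++ 14 :: invW (ivOf ivx) w ++ invW (ivOf ivx) [15])) = true := by decide +kernel
  rcases key w hw with rfl | h2
  · exact (cm.mem _).2 (by simpa using mul_mem hs hd)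
  · have a1 := ne_of (and2_true.1 h2).1
    have a2 := ne_of (and2_true.1 h2).2
    rw [ev_append, ev_cons, ev_invW ivσ, ← mul_assoc, ev_cons, ev_nil, mul_one] at a1 a2
    exact (h1.elim a1 fun h => a2 (h.trans (ivσ 14).symm)).elim

/-- The third element of order three. -/
def wf : Wd := [21, 16, 21, 17]

theorem fix_twelve {x : K} (h : x * ev σ wf = ev σ wf * x) : ρ x 12 = 12 := by
  have h1 := eq_of (u := wf) (v := [3, 5] ++ 14 :: invW (ivOf ivx) [3, 5]) (by decide +kernel)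
  have h2 := fix_of_chk (w := [3, 5]) (p := 0) (q := 12) (by decide +kernel)
  rw [ev_append, ev_cons _ 14, ev_invW ivσ] at h1
  generalize ev σ [3, 5] = r at h1 h2
  have h3 := fix_zero (x := r⁻¹ * x * r) (by
    calc _ = r⁻¹ * (x * (r * (σ 14 * r⁻¹))) * r := by group
      _ = _ := by rw [← h1, h, h1]; group)
  rw [map_mul, map_mul, Equiv.Perm.mul_apply, Equiv.Perm.mul_apply, h2, map_inv,
    Equiv.Perm.inv_eq_iff_eq, h2] at h3
  exact h3

/-- The elements commuting with the values of the words. -/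
noncomputable def Cw (l : List Wd) : Subgroup K := centralizer {x | ∃ w ∈ l, ev σ w = x}

theorem mem_Cw {l : List Wd} {x : K} : x ∈ Cw l ↔ ∀ w ∈ l, ev σ w * x = x * ev σ w :=
  ⟨fun h w hw => h _ ⟨w, hw, rfl⟩, fun h _ ⟨w, hw, e⟩ => e ▸ h w hw⟩

theorem mem_Cw_of {l : List Wd} {u : Wd}
    (h : (allL l fun w => eqK (w ++ u ++ invW (ivOf ivx) (u ++ w))) = true) : ev σ u ∈ Cw l :=
  mem_Cw.2 fun w hw => by simpa using eq_of (allL_true.1 h w hw)

theorem step {T : Subgroup K} {l : List Wd} {w u : Wd} (h1 : ev σ u ∈ T)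
    (h2 : (allL l fun w => eqK (w ++ u ++ invW (ivOf ivx) (u ++ w))) = true)
    (h3 : neK (w ++ u ++ invW (ivOf ivx) (u ++ w)) = true) :
    2 * Nat.card ↥(T ⊓ Cw (w :: l)) ≤ Nat.card ↥(T ⊓ Cw l) :=
  two_mul_card_le (inf_le_inf_left _ fun _ hx => mem_Cw.2 fun v hv => mem_Cw.1 hx v (by simp [hv]))
    (b := ev σ u) ⟨h1, mem_Cw_of h2⟩ fun h => ne_of h3 (by simpa using mem_Cw.1 h.2 w (by simp))

theorem card_C : Nat.card (Cw [wf, [14], [11]]) ≤ 486 := by
  have h0 := chain2 (F := stab ρ 0 ⊓ stab ρ 12) (gs := g1) (ws := (List.range 7).map fun c => [c])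
    (ch := [(12, 3, 90, [])]) (L := List.range 7) (by simp) (by decide +kernel)
  rw [g1_eq, sup_eq_left.2 (inf_le_left.trans cm.eq_stab.ge), card_E.1] at h0
  have fx : ∀ {u : Wd}, and2 ((pullW nx u (bit 0)).testBit 0) ((pullW nx u (bit 12)).testBit 12) = true →
    ev σ u ∈ stab ρ 0 ⊓ stab ρ 12 := fun h =>
      ⟨fix_of_chk (and2_true.1 h).1, fix_of_chk (and2_true.1 h).2⟩
  have h1 := step (l := []) (w := [11]) (fx (u := [4, 3, 1, 9, 13]) (by decide +kernel)) rfl
    (by decide +kernel)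
  have h2 := step (l := [[11]]) (w := [14]) (fx (u := [0, 3, 1, 2]) (by decide +kernel))
    (by decide +kernel) (by decide +kernel)
  have h3 := step (l := [[14], [11]]) (w := wf) (fx (u := [5, 7, 6, 2, 5]) (by decide +kernel))
    (by decide +kernel) (by decide +kernel)
  have h4 := card_le_of_le (inf_le_left (a := stab ρ 0 ⊓ stab ρ 12) (b := Cw []))
  rw [inf_eq_right.2 (show Cw [wf, [14], [11]] ≤ stab ρ 0 ⊓ stab ρ 12 from fun x hx =>
    ⟨fix_zero (by simpa using (mem_Cw.1 hx [14] (by simp)).symm),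
      fix_twelve (mem_Cw.1 hx wf (by simp)).symm⟩)] at h3
  simp only [List.map_cons, List.map_nil, List.prod_cons, List.prod_nil] at h0
  omega

/-- Generators of the centraliser. -/
def gB : List Wd := [[11], [14], wf, [8], [24], [17, 20, 24, 21, 16]]

theorem C_eq : genW σ gB = Cw [wf, [14], [11]] ∧ Nat.card (genW σ gB) = 486 := by
  have h1 : genW σ gB ≤ Cw [wf, [14], [11]] := by
    rw [genW, closure_le]
    rintro _ ⟨w, hw, rfl⟩
    exact mem_Cw_of (by revert w; decide +kernel)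
  have h2 : 486 ≤ Nat.card (genW σ gB) := le_card (ws := [[0], [1], [2], [3], [4], [5]])
    (ch := [(82227, 2, 81, [0, 3]), (82242, 1, 2, [0]), (15400, 2, 3, [])]) (L := [0, 1, 2, 3, 4, 5])
    (by decide +kernel)
  exact ⟨eq_of_le_of_card_ge h1 (card_C.trans h2), le_antisymm ((card_le_of_le h1).trans card_C) h2⟩

/-- The nine involutions. -/
def UU : List Wd := [[8], [17, 20, 24, 21, 16], [17, 20, 24, 21, 17, 24], [24],
  [19, 22, 24, 23, 19, 24], [18, 22, 24, 23, 19], [19, 22, 24, 23, 18], [24, 16, 16, 24],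
  [16, 20, 24, 21, 17]]

/-- The action of the generators on them. -/
def tU : List (List ℕ) := [[0, 1, 2, 3, 4, 5, 6, 7, 8], [0, 1, 2, 3, 4, 5, 6, 7, 8],
  [0, 1, 2, 3, 4, 5, 6, 7, 8], [0, 8, 4, 7, 2, 6, 5, 3, 1], [7, 4, 6, 3, 1, 8, 2, 0, 5],
  [8, 1, 5, 4, 3, 2, 7, 6, 0]]

theorem tU_spec : ∀ k < 6, ∀ i < 9, eqK (nth [] gB k ++ nth [] UU i ++
    invW (ivOf ivx) (nth [] UU (nth 0 (nth [] tU k) i) ++ nth [] gB k)) = true := by decide +kernel

theorem conj_U {h : K} (hh : h ∈ genW σ gB) : ∀ i < 9, ∃ j < 9,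
    h * ev σ (nth [] UU i) * h⁻¹ = ev σ (nth [] UU j) := by
  have key : ∀ w ∈ gB, ∃ k < 6, nth [] gB k = w := by decide +kernel
  have key2 : ∀ k < 6, ∀ i < 9, nth 0 (nth [] tU k) i < 9 ∧ ∃ j < 9, nth 0 (nth [] tU k) j = i := by
    decide +kernel
  induction hh using closure_induction'' with
  | mem x hx =>
    obtain ⟨w, hw, rfl⟩ := hx
    obtain ⟨k, hk, rfl⟩ := key w hw
    exact fun i hi => ⟨_, (key2 k hk i hi).1, by
      simpa [mul_inv_eq_iff_eq_mul] using eq_of (tU_spec k hk i hi)⟩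
  | inv_mem x hx =>
    obtain ⟨w, hw, rfl⟩ := hx
    obtain ⟨k, hk, rfl⟩ := key w hw
    intro i hi
    obtain ⟨j, hj, rfl⟩ := (key2 k hk i hi).2
    have := eq_of (tU_spec k hk j hj)
    rw [ev_append, ev_append] at this
    exact ⟨j, hj, by rw [inv_inv, mul_assoc, ← this, inv_mul_cancel_left]⟩
  | one => exact fun i hi => ⟨i, hi, by simp⟩
  | mul x y _ _ hx hy =>
    intro i hi
    obtain ⟨j, hj, e⟩ := hy i hi
    obtain ⟨k, hk, e'⟩ := hx j hj
    exact ⟨k, hk, by rw [← e', ← e]; group⟩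

theorem mem_U {v : K} (h1 : v ≠ 1) (h2 : v * v = 1) (h : v ∈ Cw [wf, [14], [11]]) :
    ∃ j < 9, v = ev σ (nth [] UU j) := by
  rw [← C_eq.1] at h
  have z1 : ev σ [8] ≠ 1 := neK_spec (by decide +kernel)
  have z2 : ev σ [8] * ev σ [8] = 1 := by
    rw [← ev_append]; exact eqK_spec (by decide +kernel)
  have hz : ev σ [8] ∈ genW σ gB := subset_closure ⟨_, by decide, rfl⟩
  obtain ⟨g, hg, rfl⟩ := one_class hz z2 (fun w hw a1 a2 a3 => ⟨1, one_mem _, by
    by_contra e
    have := four_dvd hw hz a2 a1 z2 z1 (fun e' => e (by simp [e'])) a3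
    rw [C_eq.2] at this
    omega⟩) h h2 h1
  exact conj_U hg 0 (by decide)

end H5.LyM
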