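import Mathlib
import Cfsg.Agent.H5.LyW
import Cfsg.Agent.H5.LyAut

/-! The centraliser of `y` in a group with involution centraliser `2·A₁₁`. -/

set_option autoImplicit false
set_option maxRecDepth 100000

namespace H5.LyM

open H29 H9.MX H19 H5.Ly H5.LyP Subgroup

theorem restrict {G : Type*} [Group G] {e : ℕ → G} (h1 : IvOK e (ivOf McP.ivl)) {C : Subgroup G}
    (h : ∀ c < 13, e c ∈ C) : ∃ e' : ℕ → C, IvOK e' (ivOf McP.ivl) ∧ ∀ c < 13, (e' c : G) = e c := by
  let e' : ℕ → C := fun c => if hc : c < 13 then ⟨e c, h c hc⟩ else 1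
  have h3 : ∀ c < 13, (e' c : G) = e c := fun c hc => by simp [e', hc]
  refine ⟨e', fun c => ?_, h3⟩
  by_cases hc : c < 13
  · refine Subtype.ext ?_
    rw [h3 _ (by revert c; decide), coe_inv, h3 c hc, h1]
  · rw [show ivOf McP.ivl c = c from nth_default _ (not_lt.1 hc)]
    simp [e', hc]

theorem comm_y {G : Type*} [Group G] {e : ℕ → G} (h1 : IvOK e (ivOf McP.ivl))
    (h2 : ∀ r ∈ McP.RA, ev e r = 1) : ∀ c < 13, e c ∈ centralizer {e 11} := fun c hc => by
  rw [mem_centralizer_singleton_iff]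
  have key : ∀ c < 13, c = 11 ∨ c = 12 ∨ ivOf McP.ivl c = c ∧ [c, 11, c, 12] ∈ McP.RA := by
    decide +kernel
  rcases key c hc with rfl | rfl | ⟨a1, a2⟩
  · rfl
  · rw [show e 12 = (e 11)⁻¹ from h1 11]; simp
  · have := h2 _ a2
    have a3 := h1 c
    rw [a1] at a3
    simp only [ev_cons, ev_nil, mul_one, show e 12 = (e 11)⁻¹ from h1 11] at this
    rw [← mul_assoc, ← mul_assoc, mul_inv_eq_one] at this
    nth_rewrite 2 [← this]
    rw [mul_assoc _ (e c)]
    nth_rewrite 3 [a3]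
    rw [inv_mul_cancel, mul_one]

theorem card_H {G : Type} [Group G] {e : ℕ → G} (h1 : IvOK e (ivOf McP.ivl))
    (h2 : ∀ r ∈ McP.RA ++ RI, ev e r = 1) (hy : e 11 ≠ 1) (hz : e 8 ≠ 1) :
    5388768000 ≤ Nat.card (gen e cols) := by
  have hA : ∀ r ∈ McP.RA, ev e r = 1 := fun r hr => h2 r (List.mem_append_left _ hr)
  have y3 : e 11 ^ 3 = 1 := by simpa [pow_succ, mul_assoc] using hA [11, 11, 11] (by decide +kernel)
  have : Fact (Nat.Prime 3) := ⟨by norm_num⟩
  obtain ⟨e', a1, a2⟩ := restrict h1 (comm_y h1 hA)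
  have a3 : ∀ r ∈ McP.RA, ev e' r = 1 := fun r hr => Subtype.ext (by
    rw [← coe_subtype, map_ev, map_one, ← hA r hr]
    exact ev_congr fun c hc => a2 c (by revert c r; decide +kernel))
  have hn : (zpowers (e' 11)).Normal := ⟨fun x hx g => by
    have : g * x = x * g := by
      obtain ⟨k, rfl⟩ := hx
      exact (Commute.zpow_right (Subtype.ext (by
        simpa [a2 11 (by decide)] using mem_centralizer_singleton_iff.1 g.2)) k)
    rwa [this, mul_inv_cancel_right]⟩
  have ok : McP.Ok fun c => QuotientGroup.mk' (zpowers (e' 11)) (e' c) :=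
    ⟨ivOK_map _ a1, rels_map _ fun r hr => a3 r hr ▸ one_mem _,
      (QuotientGroup.eq_one_iff _).2 (mem_zpowers _), fun h => hz (by
        obtain ⟨k, hk⟩ := (QuotientGroup.eq_one_iff _).1 h
        have h3 := congrArg (fun x : centralizer {e 11} => (x : G) ^ 3) hk
        simp only [coe_zpow, a2 11 (by decide), a2 8 (by decide)] at h3
        rw [← zpow_natCast, ← zpow_mul, mul_comm, zpow_mul, zpow_natCast, y3, one_zpow, pow_succ,
          sq] at h3
        nth_rewrite 1 [show e 8 = (e 8)⁻¹ from h1 8] at h3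
        rw [inv_mul_cancel, one_mul] at h3
        exact h3.symm)⟩
  have h4 := ok.card_gen
  rw [← map_gen, ← relIndex_ker, QuotientGroup.ker_mk'] at h4
  have h5 := ((zpowers (e' 11)).subgroupOf (gen e' McP.cols)).index_mul_card
  rw [Nat.card_congr (subgroupOfEquivOfLe (zpowers_le.2 (mem_gen (by decide)))).toEquiv,
    Nat.card_zpowers, ← Subgroup.orderOf_coe, a2 11 (by decide), orderOf_eq_prime y3 hy,
    show ((zpowers (e' 11)).subgroupOf (gen e' McP.cols)).index = _ from h4,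
    ← card_map_of_injective (centralizer {e 11}).subtype_injective, map_gen,
    gen_congr (e := fun c => (centralizer {e 11}).subtype (e' c)) (e' := e) fun c hc =>
      a2 c (by revert c; decide)] at h5
  have := (ubH G e h1 h2).1
  have h6 := two_mul_card_le (A := gen e McP.cols) (B := gen e cols) (gen_mono (by decide))
    (b := e 13) (mem_gen (by decide)) fun h => hy (by
      have h7 := mem_centralizer_singleton_iff.1
        (gen_le.2 (fun c hc => comm_y h1 hA c (by revert c; decide)) h)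
      have h8 := h2 [13, 11, 13, 11] (by decide +kernel)
      simp only [ev_cons, ev_nil, mul_one] at h8
      rw [← mul_assoc (e 11), ← h7, ← mul_assoc, ← mul_assoc] at h8
      nth_rewrite 1 [show e 13 = (e 13)⁻¹ from h1 13] at h8
      rw [inv_mul_cancel, one_mul] at h8
      rwa [pow_succ, sq, h8, one_mul] at y3)
  omega

theorem phi_inj {G : Type} [Group G] {e : ℕ → G} (h1 : IvOK e (ivOf McP.ivl))
    (h2 : ∀ r ∈ McP.RA ++ RI, ev e r = 1) (hy : e 11 ≠ 1) (hz : e 8 ≠ 1) {φ : K →* G}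
    (h : φ.range = gen e cols) : Function.Injective φ := by
  have h3 := card_H h1 h2 hy hz
  rw [← h, ← card_E.2] at h3
  exact fun a b hab => (φ.rangeRestrict_surjective.bijective_of_nat_card_le h3).1 (Subtype.ext hab)

theorem yy_mem : yy ∈ Mn 11 11 := inM_mem (by decide +kernel)

variable {X : Type} [Group X] {c : Cf X 11} {e : ℕ} {b : X}

theorem Y_ne : c.Y ≠ 1 := fun h =>
  absurd (ec_inj val_cy val_c1 ((c.lf_inj yy_mem (one_mem _) (h.trans c.lf_one.symm)).trans
    ec_c1.symm)) (by decide)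

theorem M_le (h : c.Act e b) : gen (c.EE e b) McP.cols ≤ centralizer {c.Y} := gen_le.2 fun k hk => by
  rw [mem_centralizer_singleton_iff]
  have key : ∀ k ∈ McP.cols, k < 10 ∨ k = 10 ∨ k = 11 ∨ k = 12 := by decide
  rcases key k hk with h1 | rfl | rfl | rfl
  · rw [c.EE_lt e b h1, c.Y_comm]
  · rw [c.EE_10]; exact mul_inv_eq_iff_eq_mul.1 h.aY
  · rw [c.EE_11]; exact (Commute.pow_self _ _).eq
  · rw [c.EE_12]; exact (Commute.pow_self _ _).inv_left.eq

theorem cenY [Finite X] (h : c.Act e b) :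
    centralizer {c.Y} ≤ gen (c.EE e b) McP.cols ⊔ zpowers c.Y := by
  have hH : gen (c.EE e b) McP.cols ⊔ zpowers c.Y ≤ centralizer {c.Y} :=
    sup_le (M_le h) (zpowers_le.2 (mem_centralizer_singleton_iff.2 rfl))
  have hg : ∀ k, c.g k ∈ gen (c.EE e b) McP.cols ⊔ zpowers c.Y := fun k =>
    mem_sup_left (Cf.lf_mem_gen (l0_mem k))
  refine se_le hH (hg 8) (c.g_mul_self 8) (fun g a1 a2 => ?_) (fun w hw a1 a2 a3 => ?_) (hg 0) (hg 2)
    (c.g_mul_self 0) (c.g_mul_self 2) (by rw [c.ac_sq]; exact c.g_ne_one)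
    (by rw [show 4 = 2 * 2 from rfl, pow_mul, c.ac_sq, sq, c.g_mul_self])
  · obtain ⟨u, hu, rfl⟩ := c.cen1 a2
    obtain ⟨k, -, hk⟩ := cen_yy hu (c.comm_lf hu yy_mem (mem_centralizer_singleton_iff.1 a1))
    have := mul_mem (mem_sup_left (T := zpowers c.Y) (Cf.lf_mem_gen (c := c) (e := e) (b := b) hk))
      (mem_sup_right (npow_mem_zpowers c.Y k))
    rwa [Cf.Y, ← c.lf_pow yy_mem, ← c.lf_mul (Mn_mono c.h8 hk) (pow_mem yy_mem k),
      inv_mul_cancel_right] at this
  · obtain ⟨u, hu, rfl⟩ := c.cen1 a3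
    have h1 : Commute u yy := c.comm_lf hu yy_mem (mem_centralizer_singleton_iff.1 (hH hw))
    obtain ⟨k, -, hk⟩ := cen_yy hu h1
    have h2 : u ^ 2 = 1 := c.pow_lf hu (by rw [sq]; exact a1)
    have h3 := pow_mem hk 3
    rw [(h1.pow_right k).inv_right.mul_pow, inv_pow, ← pow_mul, mul_comm k, pow_mul, Cf.yy_cube,
      one_pow, inv_one, mul_one, pow_succ, h2, one_mul] at h3
    rcases inv_cases le_rfl (by decide) h3 (by rw [← sq, h2])
      (by rintro rfl; exact a2 c.lf_one) with rfl | ⟨x, hx, e1⟩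
    · exact ⟨1, one_mem _, by rw [c.g_eight, one_mul, inv_one, mul_one, c.lf_eq (zz_mem 11)]; rfl⟩
    · have hx' := Mn_mono c.h8 hx
      refine ⟨(c.lf x)⁻¹ * (c.g 4 * b), mul_mem (inv_mem (mem_sup_left (Cf.lf_mem_gen hx)))
        (mul_mem (hg 4) (mem_sup_left (c.EE_10 e b ▸ mem_gen (by decide)))), ?_⟩
      calc _ = (c.lf x)⁻¹ * (c.g 4 * b * c.g 8 * (c.g 4 * b)⁻¹) * c.lf x := by group
        _ = _ := by
          rw [h.fuse, Cf.g, ← e1, c.lf_mul (mul_mem hx' hu) (inv_mem hx'), c.lf_mul hx' hu,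
            c.lf_inv hx']
          group

/-- An element of order three of `McL`. -/
def x1 : Wd := [6, 2, 5, 6, 10, 7, 6, 10, 6, 7, 10, 8, 10, 7, 6, 10, 6, 7, 10, 6, 5, 2, 6, 8]
/-- A conjugate. -/
def x2 : Wd := [5, 7, 6, 2, 5, 6, 3, 7, 1] ++ x1 ++ [1, 7, 3, 6, 5, 2, 6, 7, 5]

theorem e_ne_zero [Finite X] (h : c.Act 0 b) (hb : b * b = 1) : False := by
  have ok := h.ok hb (pow_zero _)
  have h1 := c.eqx (L := [cy, 0x11234566012]) (by decide +kernel) [11, 2, 7, 3, 1, 6] [10, 11]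
    (by decide +kernel)
  rw [ev_cons, c.ev_gx_lt _ (by decide), ← c.ev_EE 0 b (by decide), ev_cons _ 10, ev_cons _ 11,
    ev_nil, mul_one, show c.gx [cy, 0x11234566012] 10 = c.Y from
      congrArg (fun x => c.lf (ec x)) (by decide +kernel), ← mul_inv_eq_iff_eq_mul] at h1
  have h2 := ok.comm x1 [2, 7, 3, 1, 6] (by decide +kernel)
  have h3 := ok.comm x2 [2, 7, 3, 1, 6] (by decide +kernel)
  have h4 := ok.eq (x1 ++ x2) ([2, 7, 3, 1, 6] ++ (x2 ++ x1)) (by decide +kernel)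
  rw [ev_append, ev_append, ev_append] at h4
  generalize c.gx _ 11 = τ at h1
  generalize ev (c.EE 0 b) x1 = u, ev (c.EE 0 b) x2 = v, ev (c.EE 0 b) [2, 7, 3, 1, 6] = y at *
  have key : ∀ u, Commute u y → ∃ m ∈ gen (c.EE 0 b) McP.cols, ∃ k : ℤ, m * c.Y ^ k = τ * u * τ⁻¹ := by
    intro u hu
    have h5 : τ * u * τ⁻¹ ∈ ((gen (c.EE 0 b) McP.cols ⊔ zpowers c.Y : Subgroup X) : Set X) :=
      cenY h (mem_centralizer_singleton_iff.2 (by rw [← h1, conj_mul, conj_mul, hu.eq]))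
    rw [coe_mul_of_right_le_normalizer_left _ _ (zpowers_le.2 (centralizer_le_normalizer _
      fun x hx => mem_centralizer_singleton_iff.1 (M_le h hx)))] at h5
    obtain ⟨m, hm, _, ⟨k, rfl⟩, e⟩ := h5
    exact ⟨m, hm, k, e⟩
  obtain ⟨m, hm, k, e1⟩ := key u h2
  obtain ⟨n, hn, l, e2⟩ := key v h3
  have c1 : Commute m c.Y := mem_centralizer_singleton_iff.1 (M_le h hm)
  have c2 : Commute n c.Y := mem_centralizer_singleton_iff.1 (M_le h hn)
  have h6 : m * n * (c.Y ^ k * c.Y ^ l) = c.Y * (n * m) * (c.Y ^ k * c.Y ^ l) := by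
    rw [← (c2.zpow_right k).symm.mul_mul_mul_comm, e1, e2, mul_assoc c.Y, ← zpow_add, add_comm, zpow_add,
      ← (c1.zpow_right l).symm.mul_mul_mul_comm, e1, e2, ← h1, conj_mul, conj_mul, conj_mul, h4]
  have h7 : c.Y ∈ gen (c.EE 0 b) McP.cols := by
    rw [← mul_inv_eq_iff_eq_mul.2 (mul_right_cancel h6)]
    exact mul_mem (mul_mem hm hn) (inv_mem (mul_mem hn hm))
  obtain ⟨f, a1, a2, a3⟩ := ok.emb
  obtain ⟨s, hs⟩ : c.Y ∈ f.range := a2 ▸ h7
  have h8 : s ∈ center McP.S := mem_center_iff.2 fun t => a1 (by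
    rw [map_mul, map_mul, hs]
    exact mem_centralizer_singleton_iff.1 (M_le h (a2 ▸ ⟨t, rfl⟩)))
  have := McP.simple
  rcases IsSimpleGroup.eq_bot_or_eq_top_of_normal (center McP.S) inferInstance with h9 | h9
  · rw [h9, mem_bot] at h8
    exact Y_ne (by rw [← hs, h8, map_one])
  · have h10 := congrArg f (mem_center_iff.1 (h9 ▸ mem_top (ev (pe MS.nl) [0])) (ev (pe MS.nl) [2]))
    rw [map_mul, map_mul, a3 _ (by decide), a3 _ (by decide), c.ev_EE 0 b (by decide),
      c.ev_EE 0 b (by decide), ← ev_append, ← ev_append] at h10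
    exact c.new _ _ (by decide +kernel) h10

end H5.LyM
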