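import Mathlib
import Cfsg.Agent.H5.LyG
import Cfsg.Agent.H19.Ly.Cent

/-! Uniqueness of the Lyons group. -/

set_option autoImplicit false
set_option maxRecDepth 100000

namespace H5.LyM

open H29 H9.MX H19 H5.Ly H5.LyP Subgroup

/-- The relator `τ u τ v⁻¹`. -/
noncomputable def cjR (u v : Wd) : Wd :=
  14 :: (subW wl u ++ 14 :: invW (ivOf McP.ivl) (subW wl v))

theorem cj_of {G : Type} [Group G] {e : ℕ → G} (h1 : IvOK e (ivOf McP.ivl)) {u v : Wd}
    (h : ev e (cjR u v) = 1) :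
    e 14 * ev (extE e 14 defs) u * (e 14)⁻¹ = ev (extE e 14 defs) v := by
  rw [cjR, ev_cons, ev_append, ev_cons, ev_invW h1, ← ev_ext h1, ← ev_ext h1, ← mul_assoc,
    ← mul_assoc, mul_inv_eq_one] at h
  rw [← h1 14]
  exact h

/-- The words hold in `2·A₁₁`. -/
noncomputable def zchk (L : List ℕ) (R : List Wd) : Bool :=
  allL R fun r => and2 (Bool.not (memL 10 r)) (Nat.beq (evC (lc ++ L) r c1) c1)

/-- The data of a case fit together. -/
noncomputable def chkC (e s : ℕ) (L : List ℕ) (al : List Wd) : Bool :=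
  and2 (and2 (and2 (allL (lc ++ L) (inM 11)) (Nat.beq L.length 5))
    (and2 (Nat.beq (nth c1 L 1) (pwC cy e)) (Nat.beq (nth c1 L 3) s)))
    (and2 (Nat.beq al.length 24) (zchk L ([[11, 12], [13, 13], [14, 14], cjR [11] [14], cjR [14] [11],
      cjR wf wf] ++ dl.dropLast.map (alR al))))

variable {X : Type} [Group X] {c : Cf X 11} {e : ℕ} {b : X}

/-- The fifteen letters. -/
noncomputable def eL (c : Cf X 11) (L : List ℕ) (b : X) (k : ℕ) : X := if k = 10 then b else c.gx L k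

theorem zrel {L : List ℕ} (hL : allL (lc ++ L) (inM 11) = true) {R : List Wd}
    (h : zchk L R = true) : ∀ r ∈ R, ev (eL c L b) r = 1 := fun r hr => by
  obtain ⟨h1, h2⟩ := and2_true.1 (allL_true.1 h r hr)
  rw [ev_congr (e := eL c L b) (e' := c.gx L) fun k hk => if_neg (by
    rintro rfl
    rw [memL_true.2 hk] at h1
    exact absurd h1 (by decide))]
  exact c.eqx hL r [] (H29.beq_true.1 h2)

theorem main [Finite X] (h : c.Act e b) (hb : b * b = 1) (he : e = 1 ∨ e = 2) {s : ℕ}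
    (hI : ∀ k < 13, c.lf (ec s) * c.EE e b k * (c.lf (ec s))⁻¹ = ev (c.EE e b) (nth [] fI k))
    {L : List ℕ} {al : List Wd} (hc : chkC e s L al = true) :
    IvOK (eL c L b) (ivOf McP.ivl) ∧ (∀ r ∈ McP.RA ++ RI, ev (eL c L b) r = 1) ∧
      ∃ φ : K →* X, Function.Injective φ ∧ (fun k => φ (σ k)) = extE (eL c L b) 14 defs ∧
        ∃ j < 9, ∀ k ∈ dl, ev (eL c L b) (alR (al ++ [nth [] UU j]) k) = 1 := by
  simp only [chkC, and2_true, H29.beq_true] at hc
  obtain ⟨⟨⟨hL, l5⟩, c11, c13⟩, l24, hz⟩ := hc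
  have hz := zrel (c := c) (b := b) hL hz
  have e11 : eL c L b 11 = c.Y ^ e := by
    rw [eL, if_neg (by decide), Cf.gx, lE, show nth c1 (lc ++ L) 11 = _ from
      (nth_append_right c1 lc L 1).trans c11, (pwC_spec val_cy e).2]
    exact c.lf_pow yy_mem e
  have e13 : eL c L b 13 = c.lf (ec s) := by
    rw [eL, if_neg (by decide), Cf.gx, lE, show nth c1 (lc ++ L) 13 = _ from
      (nth_append_right c1 lc L 3).trans c13]
  have hE : ∀ k < 13, eL c L b k = c.EE e b k := fun k hk => by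
    have key : ∀ k < 13, k < 10 ∨ k = 10 ∨ k = 11 ∨ k = 12 := by decide
    rcases key k hk with h1 | rfl | rfl | rfl
    · rw [eL, if_neg (by omega), c.gx_lt L h1, c.EE_lt e b h1]
    · rw [c.EE_10]; rfl
    · rw [c.EE_11, e11]
    · rw [c.EE_12, ← e11]
      exact eq_inv_of_mul_eq_one_right (by simpa using hz [11, 12] (by simp))
  have iv : IvOK (eL c L b) (ivOf McP.ivl) := fun k => by
    by_cases hk : k < 13
    · rw [hE k hk, hE _ (by revert k; decide), c.EE_iv e hb]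
    rw [show ivOf McP.ivl k = k from nth_default _ (not_lt.1 hk)]
    refine eq_inv_of_mul_eq_one_right ?_
    by_cases h1 : k = 13
    · simpa [h1] using hz [13, 13] (by simp)
    by_cases h2 : k = 14
    · simpa [h2] using hz [14, 14] (by simp)
    rw [eL, if_neg (by omega), Cf.gx, lE, nth_default _ (by simp [lc, l5]; omega), ec_c1, c.lf_one,
      mul_one]
  have rel : ∀ r ∈ McP.RA ++ RI, ev (eL c L b) r = 1 := fun r hr => by
    rcases List.mem_append.1 hr with hr | hr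
    · rw [← h.rels hb r hr]
      exact ev_congr fun k hk => hE k (by revert k r; decide +kernel)
    · have key : ∀ r ∈ RI, ∃ k < 13, r = 13 :: k :: 13 :: invW (ivOf McP.ivl) (nth [] fI k) ∧
        ∀ x ∈ nth [] fI k, x < 13 := by decide +kernel
      obtain ⟨k, hk, rfl, h1⟩ := key r hr
      rw [ev_cons, ev_cons, ev_cons, ev_invW iv, ev_congr fun x hx => hE x (h1 x hx), ← hI k hk,
        ← hE k hk, ← e13, ← iv 13, show ivOf McP.ivl 13 = 13 from rfl]
      group
  have hY : c.Y = (c.Y ^ e) ^ e := by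
    rcases he with rfl | rfl
    · simp
    · rw [← pow_mul, pow_succ, c.Y_cube, one_mul]
  obtain ⟨φ, a1, a2⟩ := exists_phi iv rel
  have inj := phi_inj iv rel (by rw [e11]; intro h1; exact Y_ne (by rw [hY, h1, one_pow]))
    (by rw [hE 8 (by decide), c.EE_lt e b (by decide)]; exact c.g_ne_one) a1
  refine ⟨iv, rel, φ, inj, a2, ?_⟩
  have hu : ev σ [24] ∈ Cw [wf, [14], [11]] := C_eq.1 ▸ subset_closure ⟨_, by decide, rfl⟩
  have key : ∀ u v : Wd, u ∈ [wf, [14], [11]] → ev (eL c L b) (cjR u v) = 1 →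
      φ (ev σ v) * (eL c L b 14 * φ (ev σ [24]) * (eL c L b 14)⁻¹) =
        eL c L b 14 * φ (ev σ [24]) * (eL c L b 14)⁻¹ * φ (ev σ v) := fun u v h1 h2 => by
    have h3 := cj_of iv h2
    rw [← a2, PD.ev_phi, PD.ev_phi] at h3
    rw [← h3, conj_mul, conj_mul, ← map_mul, ← map_mul, mem_Cw.1 hu u h1]
  have k1 := key _ _ (by simp) (hz (cjR [14] [11]) (by simp))
  have k2 := key _ _ (by simp) (hz (cjR [11] [14]) (by simp))
  have k3 := key _ _ (by simp) (hz (cjR wf wf) (by simp))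
  obtain ⟨v, hv⟩ : eL c L b 14 * φ (ev σ [24]) * (eL c L b 14)⁻¹ ∈ φ.range := by
    have h1 : φ (ev σ [11]) = c.Y ^ e := by
      rw [← e11, ← PD.ev_phi, a2, ev_cons, ev_nil, mul_one, extE_lt _ _ _ (by decide)]
    rw [h1] at k1
    refine a1 ▸ (sup_le (gen_le.2 fun k hk => ?_) (zpowers_le.2 ?_) :
      _ ≤ gen (eL c L b) cols) (cenY h (mem_centralizer_singleton_iff.2 ?_))
    · rw [← hE k (by revert k; decide)]
      exact mem_gen (by revert k; decide)
    · rw [hY, ← e11]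
      exact pow_mem (mem_gen (by decide)) e
    · rw [hY]
      exact ((show Commute _ _ from k1).pow_left e).symm.eq
  obtain ⟨j, hj, rfl⟩ := mem_U (v := v) (fun h1 => by
      rw [h1, map_one, eq_comm, conj_eq_one_iff, map_eq_one_iff φ inj] at hv
      exact neK_spec (by decide +kernel) hv)
    (inj (by
      rw [map_mul, hv, conj_mul, ← map_mul, ← ev_append, eqK_spec (by decide +kernel)]
      simp))
    (mem_Cw.2 fun w hw => inj (by
      rw [map_mul, map_mul, hv]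
      simp only [List.mem_cons, List.not_mem_nil, or_false] at hw
      rcases hw with rfl | rfl | rfl
      exacts [k3, k2, k1]))
  refine ⟨j, hj, fun k hk => ?_⟩
  have key2 : ∀ k ∈ dl, k = 24 ∨ k ∈ dl.dropLast ∧ k < 24 := by decide
  rcases key2 k hk with rfl | ⟨h1, h2⟩
  · rw [al_iff iv, show nth [] (al ++ [nth [] UU j]) 24 = nth [] UU j from
      l24 ▸ nth_append_right [] al _ 0, ← a2, PD.ev_phi, hv]
    simp
  · rw [← hz (alR al k) (List.mem_append_right _ (List.mem_map_of_mem h1)), alR, alR,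
      nth_append_left _ _ _ (l24 ▸ h2)]

/-- The action of `τ` in the impossible cases. -/
def ali : List Wd := [[], [], [], [], [], [], [], [], [], [], [], [2, 7, 3, 1, 6], [0, 1, 6, 7, 3], [],
  [11], [12], [0, 2, 4, 5, 7, 6, 5, 2, 1, 13], [0, 4, 3, 5, 6, 7, 3, 1, 5, 13], [4, 5, 6, 2, 7, 5, 4],
  [3, 4, 5, 7, 6, 5, 4], [5, 7, 6, 1, 5, 7, 6, 9], [2, 6, 7, 5, 6, 9, 7, 5],
  [5, 7, 6, 2, 5, 6, 3, 7, 1], [1, 3, 6, 7, 3, 5, 6, 7, 5]]

/-- First relator. -/
def o1 : List Op := [(0, 0, 0, [11, 16, 24, 16, 24, 16, 24, 16, 24]), (1, 0, 0, [])]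
/-- Second relator. -/
def o2 : List Op := [(0, 0, 0, [18, 20, 24, 16, 20, 24, 19, 22, 24, 16]), (1, 0, 0, [])]
/-- The triangle. -/
def o3 : List Op := [(3, 0, 0, []), (0, 0, 0, [18, 24, 18]), (0, 1, 0, [16, 24, 16]), (1, 1, 0, [1]),
  (2, 0, 0, []), (0, 0, 0, [16, 16, 20, 24, 21]), (1, 0, 0, [12, 15, 3, 20, 5])]

theorem xI : ∀ j < 9, (DD (ali ++ [nth [] UU j])).chkX 0 neK [] []
    (nth [] [o1, o2, o1, o1, o1, o2, o2, o1, o2] j) = true := by decide +kernel

theorem xV : ∀ j < 9, j = 3 ∨ (DD (al0.dropLast ++ [nth [] UU j])).chkX 8 neK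
    (nth [] [[12, 15, 3, 20, 5]] (7 - j + (j - 7))) (nth [] [[6]] (7 - j + (j - 7)))
    (nth [] [o1, o1, o2, [], o2, o1, o1, o3, o1] j) = true := by decide +kernel

theorem invalid [Finite X] (h : c.Act e b) (hb : b * b = 1) (he : e = 1 ∨ e = 2) {s : ℕ}
    (hI : ∀ k < 13, c.lf (ec s) * c.EE e b k * (c.lf (ec s))⁻¹ = ev (c.EE e b) (nth [] fI k))
    {L : List ℕ} (hc : chkC e s L ali = true) : False := by
  obtain ⟨iv, -, φ, inj, a2, j, hj, h1⟩ := main h hb he hI hc
  exact PD.false_of_chkX (hyp_of iv a2 h1) (fun _ h => absurd h (Nat.not_lt_zero _))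
    (fun w hw => by rw [PD.ev_phi, Ne, map_eq_one_iff φ inj]; exact neK_spec hw) (xI j hj)

/-- Words for the three-cycles that move one of the last three points. -/
def w3 : List Wd := [[7, 5, 14, 1, 6, 3, 5, 7, 5, 0, 6, 5, 14, 5, 7],
  [7, 5, 14, 7, 3, 0, 5, 6, 5, 7, 5, 14, 5, 7], [7, 5, 14, 2, 1, 5, 6, 7, 5, 14, 5, 7]]

theorem valid [Finite X] (h : c.Act e b) (hb : b * b = 1) (he : e = 1 ∨ e = 2) {s : ℕ}
    (hI : ∀ k < 13, c.lf (ec s) * c.EE e b k * (c.lf (ec s))⁻¹ = ev (c.EE e b) (nth [] fI k))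
    {L : List ℕ} (hc : chkC e s L al0.dropLast = true) (hF : zchk L (F0.map fR) = true)
    (h3 : ∀ k < 11, inM 8 (nth c1 Lc k) = true ∨ ∃ w ∈ w3, evC (lc ++ L) w c1 = nth c1 Lc k) :
    ∃ f : ℕ → X, IvOK f (ivOf McP.ivl) ∧ (∀ r ∈ RL, ev f r = 1) ∧ gen f colsL = ⊤ ∧ f 8 ≠ 1 := by
  obtain ⟨iv, rel, φ, inj, a2, j, hj, h1⟩ := main h hb he hI hc
  have hL := (and2_true.1 (and2_true.1 (and2_true.1 hc).1).1).1
  have hF := zrel (c := c) (b := b) hL hF
  have hg : ∀ k < 10, eL c L b k = c.g k := fun k hk => by rw [eL, if_neg (by omega), c.gx_lt L hk]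
  rcases xV j hj with rfl | h2
  swap
  · exact (PD.false_of_chkX (hyp_of iv a2 h1)
      (upto_of iv a2 _ fun f hf => hF _ (List.mem_map_of_mem hf))
      (fun w hw => by rw [PD.ev_phi, Ne, map_eq_one_iff φ inj]; exact neK_spec hw) h2).elim
  refine ⟨_, iv, fun r hr => ?_, ?_, by rw [hg 8 (by decide)]; exact c.g_ne_one⟩
  · rcases List.mem_append.1 hr with hr | hr
    · exact rel r hr
    rcases List.mem_append.1 hr with hr | hr
    · obtain ⟨k, hk, rfl⟩ := List.mem_map.1 hr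
      exact h1 k hk
    · exact hF r hr
  have h8 : ∀ x ∈ Mn 11 8, c.lf x ∈ gen (eL c L b) colsL := fun x hx => by
    obtain ⟨y, hy, rfl⟩ := mem_of_eight
      (H := ((gen (eL c L b) colsL).comap c.ψ).map (Mn 11 11).subtype) (fun k => ⟨⟨_, c.mem0 k⟩, by
        change c.ψ _ ∈ gen _ _
        rw [← c.lf_eq (c.mem0 k)]
        by_cases hk : k < 10
        · rw [← Cf.g, ← hg k hk]
          exact mem_gen (by revert k; decide)
        · rw [show l0 k = 1 from (congrArg ec (nth_default _ (by simp [lc]; omega))).trans ec_c1,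
            c.lf_one]
          exact one_mem _, rfl⟩) hx
    rw [Subgroup.coe_subtype, c.lf_eq y.2]
    exact hy
  refine c.top_of (fun x hx => ?_) (σ := c.g 4 * b) (mul_mem (hg 4 (by decide) ▸ mem_gen (by decide))
    (mem_gen (e := eL c L b) (c := 10) (by decide))) h.fuse
  have hm : ∀ x (hx : x ∈ Mn 11 11), c.lf x ∈ gen (eL c L b) colsL →
      x ∈ ((gen (eL c L b) colsL).comap c.ψ).map (Mn 11 11).subtype := fun x hx h =>
    ⟨⟨x, hx⟩, by rwa [c.lf_eq hx] at h, rfl⟩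
  obtain ⟨y, hy, rfl⟩ := mem_of_cyc (.inr rfl) (hm _ (zz_mem _) (h8 _ (zz_mem _))) (fun k hk => by
    rcases h3 k hk with h4 | ⟨w, hw, h4⟩
    · exact hm _ (Mn_mono c.h8 (inM_mem h4)) (h8 _ (inM_mem h4))
    · rw [lE, ← h4, ← ev_lE (Cf.val_of_inM hL)]
      refine hm _ (ev_mem fun k _ => Cf.lE_mem hL k) ?_
      have key : ∀ w ∈ w3, ∀ k ∈ w, k ≠ 10 ∧ k ∈ colsL := by decide
      rw [← c.ev_gx hL, ← ev_congr (e := eL c L b) fun k hk => if_neg (key w hw k hk).1]
      exact ev_mem_gen fun k hk => (key w hw k hk).2) hx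
  rw [Subgroup.coe_subtype, c.lf_eq y.2]
  exact hy

theorem exists_rels [Finite X] (c : Cf X 11) {x : X} (hx : c.Np x) :
    ∃ f : ℕ → X, IvOK f (ivOf McP.ivl) ∧ (∀ r ∈ RL, ev f r = 1) ∧ gen f colsL = ⊤ ∧ f 8 ≠ 1 := by
  obtain ⟨e, he, b, h⟩ := Cf.step4 hx
  obtain ⟨b, h, hb⟩ := Cf.step5 h
  obtain ⟨s, hs, hI⟩ := h.exists_I (by decide) hb
  simp only [List.mem_cons, List.not_mem_nil, or_false] at hs
  interval_cases e
  · exact (e_ne_zero h hb).elim
  · rcases hs with rfl | rfl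
    · exact valid h hb (.inl rfl) hI (L := [c1, cy, 0x11234567888, ci, 0x11234566012])
        (by decide +kernel) (by decide +kernel) (by decide +kernel)
    · exact (invalid h hb (.inl rfl) hI (L := [c1, cy, 0x11234567888, ciz, 0x11234566012])
        (by decide +kernel)).elim
  · rcases hs with rfl | rfl
    · exact (invalid h hb (.inr rfl) hI (L := [c1, 0x11234567888, cy, ci, 0x1234566102])
        (by decide +kernel)).elim
    · exact valid h hb (.inr rfl) hI (L := [c1, 0x11234567888, cy, ciz, 0x1234566102])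
        (by decide +kernel) (by decide +kernel) (by decide +kernel)

theorem exists_model {G : Type*} [Group G] [Finite G] [IsSimpleGroup G] {z : G} (hz : orderOf z = 2)
    (hcov : Cfsg.IsNonsplitDoubleCover (centralizer ({z} : Set G)) (alternatingGroup (Fin 11))) :
    ∃ (X : Type) (_ : Group X) (_ : G ≃* X) (f : ℕ → X), IvOK f (ivOf McP.ivl) ∧
      (∀ r ∈ RL, ev f r = 1) ∧ gen f colsL = ⊤ ∧ f 8 ≠ 1 := by
  obtain ⟨g, h1, h2⟩ := not_isolated hz hcov
  obtain ⟨X, _, _, φ, c, -, x, hx⟩ := exists_cf (by decide) hz hcov h1 h2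
  exact ⟨X, _, φ, exists_rels c hx⟩

/-- A finite simple group with an involution whose centraliser is `2·A₁₁` is the Lyons group. -/
theorem ly_of_cent {G : Type*} [Group G] [Finite G] [IsSimpleGroup G] {z : G} (hz : orderOf z = 2)
    (hcov : Cfsg.IsNonsplitDoubleCover (centralizer ({z} : Set G)) (alternatingGroup (Fin 11))) :
    Cfsg.Spor.IsoLy G := by
  have : Finite H19.Ly.P.G := Nat.finite_of_card_ne_zero (by rw [H19.Ly.card]; norm_num)
  have := H19.Ly.simple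
  obtain ⟨X, _, φ, f, a1, a2, a3, a4⟩ := exists_model hz hcov
  obtain ⟨Y, _, ψ, g, b1, b2, b3, -⟩ := exists_model H19.Ly.cent_t.1 H19.Ly.cent_t.2.2
  have := ψ.symm.isSimpleGroup
  obtain ⟨θ⟩ := equiv_of_simple (H9.MX.tr_of_bd ubL (by decide) b1 a1 b2 a2 (by
    rw [b3, card_top, ← Nat.card_congr ψ.toEquiv, H19.Ly.card])) b1 a1 (by decide) b3
    ⟨[8], by decide, by simpa using a4⟩
  rw [a3] at θ
  exact ⟨(φ.trans (θ.trans topEquiv).symm).trans ψ.symm⟩

end H5.LyM
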