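import Mathlib
import Cfsg.Agent.H29.CV.D

/-!
# Lifting a system of involutions with the diagram Y333 to a central extension
-/

set_option autoImplicit false

namespace H29.CV

namespace L5

def kd (x y : ℕ) : ℕ := if x ∈ N3 ∧ y ∈ N3 then (if x = y then 1 else ord x y) else 0

def hd (fl : Bool) : List ℕ → Option (List ℕ)
  | x :: y :: r =>
    if kd x y = 2 then some (y :: x :: r) else
    if fl = true then
      (if kd x y = 1 then some r else
        if kd x y = 3 ∧ r.head? = some x then some (y :: x :: y :: r.tail) else none)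
    else none
  | _ => none

def app (fl : Bool) : ℕ → List ℕ → Option (List ℕ)
  | 0, l => hd fl l
  | p + 1, x :: l => (app fl p l).map (x :: ·)
  | _ + 1, [] => none

def red (fl : Bool) : List ℕ → List ℕ → Option (List ℕ)
  | [], l => some l
  | p :: c, l => (app fl p l).bind (red fl c)

section
variable {G : Type*} [Group G] {e : ℕ → G} {fl : Bool}
  (h2 : ∀ x y, kd x y = 2 → e x * e y = e y * e x)
  (h1 : fl = true → ∀ x y, kd x y = 1 → e x * e y = 1)
  (h3 : fl = true → ∀ x y, kd x y = 3 → e x * e y * e x = e y * e x * e y)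
include h2 h1 h3

theorem hd_ok : ∀ {l r : List ℕ}, hd fl l = some r → ev e l = ev e r
  | [], _, h => by simp [hd] at h
  | [_], _, h => by simp [hd] at h
  | x :: y :: r, r', h => by
    simp only [hd] at h
    split_ifs at h with a b c d
    · obtain rfl := Option.some.inj h
      simp only [ev_cons, ← mul_assoc, h2 x y a]
    · obtain rfl := Option.some.inj h
      simp only [ev_cons, ← mul_assoc, h1 b x y c, one_mul]
    · cases r with
      | nil => simp at d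
      | cons z r =>
        obtain rfl := Option.some.inj h
        obtain ⟨d, e1⟩ := d
        obtain rfl : z = x := by simpa using e1
        simp only [List.tail_cons, ev_cons, ← mul_assoc, h3 b z y d]

theorem app_ok : ∀ (p : ℕ) {l r : List ℕ}, app fl p l = some r → ev e l = ev e r
  | 0, l, r, h => hd_ok h2 h1 h3 (by simpa [app] using h)
  | _ + 1, [], _, h => by simp [app] at h
  | p + 1, x :: l, r, h => by
    rw [app, Option.map_eq_some_iff] at h
    obtain ⟨r', h, rfl⟩ := h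
    rw [ev_cons, ev_cons, app_ok p h]

theorem red_ok : ∀ (c : List ℕ) {l r : List ℕ}, red fl c l = some r → ev e l = ev e r
  | [], l, r, h => by rw [Option.some.inj h]
  | p :: c, l, r, h => by
    rw [red, Option.bind_eq_some_iff] at h
    obtain ⟨r', h, h'⟩ := h
    rw [app_ok h2 h1 h3 p h, red_ok c h']
end

theorem kd_mem {x y j : ℕ} (h : kd x y = j + 1) : x ∈ N3 ∧ y ∈ N3 := by
  by_contra t
  simp [kd, t] at h

theorem kd_ord {x y j : ℕ} (h : kd x y = j + 2) : ord x y = j + 2 := by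
  have := kd_mem (j := j + 1) h
  unfold kd at h
  rw [if_pos this] at h
  split_ifs at h with t
  · omega
  · exact h

theorem kd2 {x y : ℕ} (h : kd x y = 2) : ord x y = 2 := kd_ord (j := 0) h
theorem kd3 {x y : ℕ} (h : kd x y = 3) : ord x y = 3 := kd_ord (j := 1) h

theorem kd_one {x y : ℕ} (h : kd x y = 1) : x = y := by
  have := kd_mem (j := 0) h
  unfold kd at h
  rw [if_pos this] at h
  by_contra t
  rw [if_neg t] at h
  unfold ord at h
  split_ifs at h <;> omega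

section
variable {G : Type*} [Group G]

theorem comm_of {a b : G} (ha : a * a = 1) (hb : b * b = 1) (h : (a * b) ^ 2 = 1) :
    a * b = b * a := by
  rw [pow_two, mul_eq_one_iff_eq_inv, mul_inv_rev, inv_eq_of_mul_eq_one_right ha,
    inv_eq_of_mul_eq_one_right hb] at h
  exact h

theorem braid_of {a b : G} (ha : a * a = 1) (hb : b * b = 1) (h : (a * b) ^ 3 = 1) :
    a * b * a = b * a * b := by
  have e : a * b * a * (b * a * b) = 1 := by rw [← h, pow_three]; group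
  rw [mul_eq_one_iff_eq_inv, mul_inv_rev, mul_inv_rev, inv_eq_of_mul_eq_one_right ha,
    inv_eq_of_mul_eq_one_right hb] at e
  rw [e, mul_assoc]

theorem flip3 {a b : G} (h : (a * b) ^ 3 = 1) : (b * a) ^ 3 = 1 := by
  have : (b * a) ^ 3 = a⁻¹ * (a * b) ^ 3 * a := by simp only [pow_three]; group
  rw [this, h]; group

theorem spider {e : ℕ → G} (sq : ∀ c, e c * e c = 1)
    (cox : ∀ a ∈ N3, ∀ b ∈ N3, (e a * e b) ^ ord a b = 1) :
    ev e [2, 1, 6, 5, 9, 8] ^ 3 = 1 ∧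
      (ev e [2, 1, 6, 5, 9, 8] * ev e [0, 1, 2, 0, 5, 6, 0, 8, 9] ^ 10) ^ 3 = 1 := by
  have h2 : ∀ x y, kd x y = 2 → e x * e y = e y * e x := fun x y h =>
    comm_of (sq x) (sq y) (kd2 h ▸ cox x (kd_mem h).1 y (kd_mem h).2)
  have h1 : true = true → ∀ x y, kd x y = 1 → e x * e y = 1 := fun _ x y h => kd_one h ▸ sq x
  have h3 : true = true → ∀ x y, kd x y = 3 → e x * e y * e x = e y * e x * e y := fun _ x y h =>
    braid_of (sq x) (sq y) (kd3 h ▸ cox x (kd_mem h).1 y (kd_mem h).2)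
  constructor
  · rw [← ev_powW]
    exact red_ok h2 h1 h3 [1, 2, 3, 4, 0, 1, 2, 3, 4, 6, 1, 2, 3, 4, 0, 1, 2, 3, 4, 6, 1, 2, 3, 4, 0, 1, 2, 3, 4, 6, 1, 2,
      3, 4, 5, 0, 1, 2, 3, 4, 1, 2, 3, 0, 1, 2, 1, 0] (r := []) (by decide +kernel)
  · rw [← ev_powW e [0, 1, 2, 0, 5, 6, 0, 8, 9], ← ev_append, ← ev_powW]
    exact red_ok h2 h1 h3 [1, 2, 3, 4, 5, 7, 8, 87, 88, 89, 90, 91, 92, 93, 85, 87, 88, 72, 73, 74, 75, 76, 77, 78, 79,
      70, 72, 73, 57, 58, 59, 60, 61, 62, 63, 64, 55, 57, 58, 42, 43, 44, 45, 46, 47, 48, 49, 40, 42,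
      43, 27, 28, 29, 30, 31, 32, 33, 34, 25, 27, 28, 12, 13, 14, 15, 16, 17, 18, 19, 10, 12, 13, 0,
      1, 2, 3, 4, 5, 7, 8, 9, 10, 12, 13, 15, 16, 17, 19, 20, 22, 23, 24, 25, 27, 28, 30, 31, 32, 34,
      35, 37, 38, 39, 40, 42, 43, 45, 46, 47, 49, 50, 52, 53, 54, 55, 57, 58, 60, 61, 62, 64, 65, 67,
      68, 69, 70, 72, 73, 75, 76, 77, 79, 80, 82, 83, 84, 85, 87, 88, 90, 91, 92, 87, 88, 89, 90, 91,
      86, 84, 86, 88, 89, 90, 89, 88, 87, 85, 86, 76, 77, 78, 79, 80, 81, 82, 83, 84, 85, 83, 85, 77,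
      79, 80, 81, 76, 77, 79, 80, 81, 83, 84, 83, 72, 73, 74, 75, 76, 77, 78, 80, 81, 82, 79, 80, 81,
      71, 69, 71, 73, 74, 75, 76, 78, 79, 81, 82, 73, 74, 72, 70, 61, 62, 63, 64, 65, 66, 67, 68, 69,
      70, 72, 74, 76, 77, 78, 79, 81, 82, 84, 83, 84, 76, 77, 75, 73, 71, 72, 73, 75, 77, 79, 80, 81,
      82, 83, 72, 73, 70, 72, 73, 75, 76, 77, 79, 75, 68, 70, 71, 72, 73, 75, 77, 78, 79, 81, 82, 83,
      67, 68, 69, 70, 66, 64, 66, 68, 69, 70, 72, 73, 74, 75, 76, 59, 61, 62, 58, 59, 61, 62, 64, 65,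
      66, 68, 69, 70, 72, 73, 74, 76, 77, 79, 80, 81, 82, 75, 77, 78, 79, 80, 81, 68, 69, 70, 71, 67,
      68, 66, 57, 58, 59, 60, 61, 62, 63, 64, 66, 68, 70, 71, 73, 74, 75, 76, 77, 79, 63, 64, 56, 42,
      43, 44, 45, 46, 47, 48, 49, 50, 51, 53, 54, 56, 58, 59, 60, 61, 63, 64, 66, 67, 68, 70, 71, 73,
      74, 75, 77, 78, 79, 81, 77, 76, 77, 79, 80, 79, 72, 73, 75, 76, 77, 78, 79, 74, 75, 71, 72, 73,
      70, 71, 72, 73, 75, 69, 70, 59, 60, 61, 62, 58, 55, 56, 58, 60, 61, 62, 64, 65, 66, 67, 68, 69,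
      70, 72, 73, 67, 65, 61, 62, 63, 64, 65, 67, 54, 56, 57, 58, 60, 61, 63, 64, 65, 56, 53, 54, 56,
      58, 59, 60, 61, 58, 59, 57, 55, 45, 46, 47, 48, 49, 50, 51, 52, 53, 54, 55, 57, 59, 61, 62, 64,
      65, 67, 68, 70, 60, 62, 63, 64, 59, 60, 62, 58, 54, 55, 56, 58, 60, 61, 62, 64, 66, 46, 48, 49,
      50, 45, 46, 48, 49, 50, 52, 53, 54, 55, 56, 57, 58, 59, 41, 39, 41, 43, 44, 45, 46, 48, 49, 50,
      52, 53, 43, 44, 42, 40, 31, 32, 33, 34, 35, 36, 37, 38, 39, 40, 42, 44, 46, 47, 48, 49, 50, 52,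
      53, 55, 56, 57, 59, 60, 62, 63, 64, 66, 68, 69, 70, 72, 73, 75, 76, 78, 79, 81, 80, 81, 74, 76,
      77, 78, 79, 80, 72, 71, 72, 74, 75, 76, 77, 78, 79, 69, 67, 69, 71, 72, 73, 74, 76, 77, 70, 71,
      72, 74, 65, 66, 63, 61, 63, 64, 66, 68, 69, 70, 67, 68, 62, 64, 65, 66, 47, 48, 49, 50, 51, 52,
      53, 46, 47, 45, 43, 41, 42, 43, 45, 47, 49, 50, 51, 42, 43, 40, 42, 43, 45, 46, 47, 49, 45, 38,
      40, 41, 42, 43, 45, 47, 48, 49, 51, 53, 55, 56, 57, 58, 59, 60, 54, 52, 37, 38, 39, 40, 36, 34,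
      36, 38, 39, 40, 42, 43, 44, 45, 46, 29, 31, 32, 28, 29, 31, 32, 34, 35, 36, 38, 39, 40, 42, 43,
      44, 46, 47, 49, 50, 51, 52, 54, 56, 57, 58, 59, 60, 62, 63, 64, 65, 66, 68, 70, 72, 73, 74, 76,
      77, 79, 73, 74, 75, 71, 73, 74, 75, 77, 78, 77, 56, 58, 59, 60, 61, 62, 57, 58, 59, 55, 53, 54,
      55, 57, 53, 52, 53, 55, 51, 50, 51, 53, 54, 55, 57, 59, 61, 62, 64, 65, 66, 67, 68, 63, 64, 65,
      54, 55, 52, 54, 55, 57, 58, 59, 61, 62, 57, 38, 39, 40, 41, 37, 38, 36, 27, 28, 29, 30, 31, 32,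
      33, 34, 36, 38, 40, 41, 43, 44, 45, 46, 47, 48, 50, 33, 34, 26, 12, 13, 14, 15, 16, 17, 18, 19,
      20, 21, 23, 24, 26, 28, 29, 30, 31, 33, 34, 36, 37, 38, 40, 41, 43, 44, 45, 46, 48, 49, 50, 52,
      53, 54, 55, 57, 59, 60, 61, 62, 64, 65, 67, 68, 70, 71, 72, 74, 75, 76, 73, 74, 75, 69, 70, 72,
      73, 75, 76, 77, 79, 80, 71, 72, 70, 61, 62, 63, 64, 65, 66, 67, 68, 70, 72, 74, 75, 66, 67, 68,
      65, 59, 58, 59, 61, 62, 63, 64, 65, 67, 68, 70, 71, 72, 74, 75, 77, 78, 79, 70, 58, 59, 60, 61,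
      62, 57, 58, 60, 56, 54, 56, 58, 59, 60, 62, 63, 65, 66, 67, 68, 70, 72, 73, 74, 75, 77, 78, 79,
      73, 74, 75, 76, 77, 72, 69, 70, 72, 74, 75, 76, 77, 79, 75, 76, 77, 78, 74, 75, 76, 73, 74, 72,
      59, 60, 61, 62, 63, 64, 65, 57, 59, 60, 61, 56, 57, 59, 48, 47, 48, 50, 51, 52, 53, 54, 55, 56,
      57, 59, 61, 63, 64, 65, 67, 68, 69, 70, 71, 72, 74, 76, 78, 80, 77, 64, 65, 66, 63, 64, 62, 52,
      53, 50, 52, 53, 55, 56, 57, 58, 59, 60, 62, 64, 66, 68, 69, 70, 71, 72, 73, 74, 75, 77, 79, 74,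
      75, 65, 66, 68, 69, 70, 71, 72, 74, 75, 77, 78, 79, 80, 82, 83, 77, 78, 57, 55, 57, 59, 60, 61,
      62, 63, 64, 65, 66, 67, 69, 70, 58, 59, 56, 54, 55, 56, 58, 59, 61, 62, 63, 64, 65, 67, 61, 62,
      63, 52, 53, 54, 51, 49, 50, 51, 53, 54, 56, 57, 58, 59, 61, 43, 45, 46, 47, 48, 49, 50, 51, 52,
      42, 43, 45, 46, 47, 48, 44, 45, 39, 40, 41, 42, 29, 30, 31, 32, 28, 25, 26, 28, 30, 31, 32, 34,
      35, 36, 37, 38, 39, 40, 41, 42, 44, 45, 47, 48, 50, 51, 52, 54, 55, 56, 57, 58, 59, 61, 63, 65,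
      66, 67, 69, 70, 72, 73, 74, 75, 77, 78, 80, 81, 82, 73, 74, 75, 76, 72, 56, 57, 58, 59, 60, 61,
      55, 44, 45, 46, 47, 48, 49, 51, 52, 53, 55, 57, 58, 39, 40, 41, 42, 37, 38, 35, 36, 31, 32, 33,
      34, 35, 36, 38, 24, 26, 27, 28, 30, 31, 33, 34, 35, 36, 26, 23, 24, 26, 28, 29, 30, 31, 33, 28,
      29, 27, 25, 15, 16, 17, 18, 19, 20, 21, 22, 23, 24, 25, 27, 29, 31, 32, 33, 35, 36, 38, 39, 41,
      42, 44, 45, 46, 47, 49, 50, 51, 53, 54, 55, 57, 58, 60, 61, 63, 64, 65, 66, 67, 69, 70, 72, 74,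
      75, 76, 78, 79, 80, 81, 75, 76, 77, 78, 79, 80, 74, 75, 73, 57, 58, 56, 54, 56, 58, 60, 61, 62,
      63, 64, 65, 66, 67, 68, 69, 70, 71, 73, 75, 77, 78, 70, 71, 59, 60, 57, 58, 55, 56, 45, 46, 47,
      48, 49, 50, 51, 52, 53, 54, 55, 56, 58, 60, 62, 63, 51, 53, 54, 55, 56, 50, 51, 53, 44, 37, 39,
      40, 41, 42, 44, 46, 47, 48, 49, 36, 37, 39, 40, 42, 43, 44, 46, 47, 32, 33, 34, 35, 36, 37, 38,
      30, 32, 33, 34, 29, 30, 32, 16, 18, 19, 20, 15, 16, 18, 19, 20, 22, 23, 24, 25, 26, 27, 28, 29,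
      30, 32, 34, 36, 37, 38, 40, 41, 42, 43, 44, 46, 47, 49, 51, 52, 53, 55, 56, 58, 59, 60, 62, 63,
      65, 66, 67, 68, 70, 71, 73, 74, 75, 77, 78, 80, 82, 79, 62, 63, 64, 65, 61, 59, 61, 63, 64, 65,
      67, 68, 69, 70, 71, 72, 57, 59, 60, 61, 63, 64, 65, 67, 68, 69, 59, 56, 57, 59, 61, 62, 63, 64,
      65, 67, 54, 56, 57, 58, 59, 60, 62, 63, 53, 54, 56, 57, 58, 60, 61, 56, 46, 47, 48, 49, 50, 52,
      53, 54, 56, 58, 59, 45, 43, 45, 47, 48, 49, 50, 51, 52, 53, 54, 46, 44, 42, 43, 44, 46, 48, 49,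
      50, 51, 41, 42, 39, 41, 42, 44, 45, 46, 48, 49, 44, 38, 39, 41, 42, 44, 46, 47, 37, 38, 39, 40,
      41, 42, 35, 37, 38, 39, 34, 35, 37, 33, 27, 23, 24, 25, 27, 29, 30, 31, 33, 35, 36, 37, 39, 41,
      42, 44, 45, 46, 47, 49, 51, 53, 54, 56, 57, 58, 59, 61, 63, 65, 66, 67, 69, 71, 72, 74, 75, 76,
      77, 79, 81, 76, 77, 78, 79, 75, 76, 73, 75, 76, 78, 79, 81, 78, 79, 77, 58, 59, 60, 61, 57, 58,
      55, 57, 58, 60, 61, 63, 64, 65, 66, 54, 55, 57, 58, 60, 61, 63, 64, 52, 54, 55, 56, 51, 52, 54,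
      50, 30, 31, 28, 30, 31, 33, 34, 35, 36, 27, 28, 30, 31, 33, 34, 26, 11, 9, 11, 13, 14, 15, 16,
      18, 19, 20, 22, 23, 24, 26, 28, 29, 30, 31, 33, 34, 36, 38, 39, 40, 41, 42, 43, 44, 46, 47, 48,
      50, 52, 53, 54, 56, 58, 59, 60, 61, 63, 64, 66, 68, 69, 70, 71, 72, 73, 74, 75, 77, 79, 81, 82,
      83, 85, 86, 78, 71, 72, 74, 75, 76, 78, 80, 81, 69, 71, 72, 73, 74, 68, 69, 71, 67, 65, 45, 46,
      47, 44, 45, 42, 44, 45, 47, 49, 50, 51, 52, 53, 54, 48, 46, 41, 42, 44, 45, 46, 48, 50, 51, 39,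
      41, 42, 43, 44, 38, 39, 41, 37, 35, 18, 19, 20, 21, 22, 23, 24, 17, 18, 16, 14, 16, 18, 20, 21,
      13, 14, 10, 11, 13, 14, 16, 17, 18, 20, 21, 23, 24, 26, 27, 28, 29, 30, 31, 33, 34, 35, 37, 39,
      40, 41, 43, 44, 46, 47, 48, 50, 51, 53, 54, 56, 57, 58, 59, 60, 61, 63, 64, 65, 67, 69, 70, 71,
      73, 74, 76, 77, 78, 80, 81, 83, 84, 85, 76, 64, 65, 46, 34, 35, 16, 9, 11, 12, 13, 14, 16, 18,
      19, 20, 21, 23, 24, 26, 27, 28, 29, 31, 32, 34, 35, 37, 38, 39, 40, 41, 43, 44, 46, 48, 49, 50,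
      51, 53, 54, 56, 57, 58, 59, 61, 62, 64, 65, 67, 68, 69, 70, 71, 73, 74, 76, 78, 79, 80, 81, 83,
      84, 85, 79, 80, 81, 82, 83, 78, 75, 76, 78, 80, 81, 82, 83, 85, 87, 88, 89, 90, 91, 92, 93, 89,
      90, 91, 92, 93, 87, 89, 90, 91, 92, 90, 91, 89, 90, 86, 87, 89, 88, 81, 82, 83, 84, 85, 86, 87,
      86, 85, 81, 82, 83, 84, 83, 82, 81, 74, 76, 77, 78, 80, 79, 69, 70, 71, 72, 67, 69, 70, 71, 72,
      74, 75, 76, 77, 78, 77, 75, 76, 70, 71, 72, 73, 74, 75, 70, 71, 72, 74, 73, 61, 62, 60, 58, 60,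
      62, 64, 65, 66, 67, 68, 69, 70, 71, 72, 71, 70, 69, 65, 66, 68, 67, 64, 65, 66, 65, 63, 64, 62,
      63, 56, 55, 56, 58, 59, 60, 62, 61, 49, 50, 51, 52, 53, 54, 48, 45, 46, 48, 50, 51, 52, 53, 54,
      56, 57, 58, 59, 60, 59, 57, 58, 53, 54, 55, 56, 57, 52, 53, 54, 56, 55, 51, 52, 53, 54, 53, 52,
      51, 44, 46, 47, 48, 50, 49, 39, 40, 41, 42, 37, 39, 40, 41, 42, 44, 45, 46, 47, 48, 47, 45, 46,
      40, 41, 42, 43, 44, 45, 40, 41, 42, 44, 43, 31, 32, 30, 28, 30, 32, 34, 35, 36, 37, 38, 39, 40,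
      41, 42, 41, 40, 39, 35, 36, 38, 37, 34, 35, 36, 35, 33, 34, 32, 33, 26, 25, 26, 28, 29, 30, 32,
      31, 19, 20, 21, 22, 23, 24, 18, 15, 16, 18, 20, 21, 22, 23, 24, 26, 27, 28, 29, 30, 29, 27, 28,
      23, 24, 25, 26, 27, 22, 23, 24, 26, 25, 21, 22, 23, 24, 23, 22, 21, 14, 16, 17, 18, 20, 19, 12,
      11, 12, 14, 15, 16, 17, 18, 17, 15, 16, 6, 7, 5, 6, 7, 9, 10, 11, 12, 13, 14, 15, 10, 11, 12,
      14, 13, 6, 7, 8, 9, 10, 11, 12, 11, 10, 9, 8, 7, 6, 1, 2, 3, 5, 4, 0, 1, 2, 3, 2, 1, 0] (r := []) (by decide +kernel)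

theorem conj_rev {e : ℕ → G} (h2 : ∀ x y, kd x y = 2 → e x * e y = e y * e x) :
    ∃ g : G, ev e [7, 6, 5, 0, 8, 9, 1] * g = g * ev e [7, 6, 5, 0, 8, 9, 1].reverse := by
  refine ⟨ev e [7, 6, 5, 0, 1, 7, 6, 5, 7, 6, 7, 8, 0, 5, 6, 7], ?_⟩
  rw [← ev_append, ← ev_append]
  exact red_ok (fl := false) h2 (fun h => by simp at h) (fun h => by simp at h)
    [5, 4, 6, 5, 7, 6, 8, 7, 11, 10, 9, 8, 12, 11, 10, 9, 14, 13, 12, 11, 10, 12, 14, 13, 15, 14,
      16, 15, 16] (by decide +kernel)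
end

section
variable {M E : Type*} [Group M] [Group E] (p : M →* E)

/-- all lifts commute -/
def Cm (x y : E) : Prop := ∀ a b : M, p a = x → p b = y → a * b = b * a
/-- all lifts have square one -/
def Sq (x : E) : Prop := ∀ a : M, p a = x → a * a = 1

variable {p} {t : M} (ht : ∀ x, x * t = t * x) (h2 : t * t = 1)
  (hk : ∀ x, p x = 1 → x = 1 ∨ x = t) (hs : Function.Surjective p)

theorem Cm.symm {x y : E} (h : Cm p x y) : Cm p y x := fun a b ha hb => (h b a hb ha).symm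

include hs in
theorem Cm.conj {x y : E} (h : Cm p x y) (g : E) : Cm p (g * x * g⁻¹) (g * y * g⁻¹) := by
  obtain ⟨g, rfl⟩ := hs g
  intro a b ha hb
  have := h (g⁻¹ * a * g) (g⁻¹ * b * g) (by simp [ha, mul_assoc]) (by simp [hb, mul_assoc])
  calc a * b = g * (g⁻¹ * a * g * (g⁻¹ * b * g)) * g⁻¹ := by group
    _ = b * a := by rw [this]; group

include hs in
theorem Sq.conj {x : E} (h : Sq p x) (g : E) : Sq p (g * x * g⁻¹) := by
  obtain ⟨g, rfl⟩ := hs g
  intro a ha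
  have := h (g⁻¹ * a * g) (by simp [ha, mul_assoc])
  calc a * a = g * (g⁻¹ * a * g * (g⁻¹ * a * g)) * g⁻¹ := by group
    _ = 1 := by rw [this]; group

include hk in
theorem lift_eq {a b : M} (h : p a = p b) : a = b ∨ a = b * t := by
  rcases hk (b⁻¹ * a) (by simp [h]) with e | e
  · left; rw [inv_mul_eq_one] at e; exact e.symm
  · right; rw [← e]; group

include ht hk in
theorem cm_of {a b : M} (h : a * b = b * a) : Cm p (p a) (p b) := by
  intro a' b' ha hb
  have c1 : Commute a b := h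
  have ct : ∀ x, Commute x t := ht
  rcases lift_eq hk ha with rfl | rfl <;> rcases lift_eq hk hb with rfl | rfl
  · exact c1
  · exact c1.mul_right (ct _)
  · exact c1.mul_left (ct _).symm
  · exact (c1.mul_left (ct _).symm).mul_right (ct _)

include ht h2 hk in
theorem sq_of {a : M} (h : a * a = 1) : Sq p (p a) := by
  intro a' ha
  rcases lift_eq hk ha with rfl | rfl
  · exact h
  · calc a * t * (a * t) = a * (t * a) * t := by group
      _ = a * a * (t * t) := by rw [← ht a]; group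
      _ = 1 := by rw [h, h2, one_mul]

include h2 in
theorem pow_odd {j : ℕ} (hj : Odd j) : t ^ j = t := by
  obtain ⟨i, rfl⟩ := hj
  rw [pow_succ, pow_mul, pow_two, h2, one_pow, one_mul]

include ht in
theorem anti {l : ℕ → M} {u : M} : ∀ (w : List ℕ), (∀ c ∈ w, l c * u = u * l c * t) →
    ev l w * u = u * ev l w * t ^ w.length
  | [], _ => by simp
  | c :: w, h => by
    have ih := anti w fun c hc => h c (List.mem_cons_of_mem _ hc)
    have ct : ∀ x, Commute x t := ht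
    rw [ev_cons, mul_assoc, ih, ← mul_assoc, ← mul_assoc, h c List.mem_cons_self, List.length_cons,
      pow_succ', mul_assoc (u * l c), (ct (ev l w)).symm.eq]
    simp only [mul_assoc]

include ht h2 hk hs in
theorem odd_kill {n : ℕ → E} {y : E} (w : List ℕ) (ho : Odd w.length) (h1 : ev n w = 1)
    (hc : ∀ c ∈ w, n c * y = y * n c) : ∃ c ∈ w, Cm p (n c) y := by
  by_contra hn
  push Not at hn
  obtain ⟨u, rfl⟩ := hs y
  choose l hl using fun c => hs (n c)
  have key : ∀ c ∈ w, l c * u = u * l c * t := by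
    intro c hc'
    rcases lift_eq hk (a := l c * u) (b := u * l c) (by simp [hl, hc c hc']) with e | e
    · exact absurd (hl c ▸ cm_of ht hk e) (hn c hc')
    · exact e
  have e := anti ht w key
  rw [pow_odd h2 ho] at e
  have e1 : ev l w * u = u * ev l w := by
    rcases hk (ev l w) (by rw [map_ev]; simpa only [hl] using h1) with e1 | e1 <;> rw [e1]
    · simp
    · exact (ht u).symm
  rw [e1, left_eq_mul] at e
  obtain ⟨c, hc'⟩ := List.exists_mem_of_length_pos ho.pos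
  have := key c hc'
  rw [e, mul_one] at this
  exact hn c hc' (hl c ▸ cm_of ht hk this)

include ht in
theorem rev_mul {l : ℕ → M} : ∀ (w : List ℕ), (∀ c ∈ w, l c * l c = t) →
    ev l w.reverse * ev l w = t ^ w.length
  | [], _ => by simp
  | c :: w, h => by
    have ih := rev_mul w fun c hc => h c (List.mem_cons_of_mem _ hc)
    rw [List.reverse_cons, ev_append, ev_cons, ev_cons, ev_nil, mul_one, mul_assoc, ← mul_assoc (l c),
      h c List.mem_cons_self, ← ht, ← mul_assoc, ih, List.length_cons, pow_succ]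

variable {n : ℕ → E} (h : C3 n)

include h in
theorem n2 {x y : ℕ} (k : kd x y = 2) : n x * n y = n y * n x :=
  comm_of (h.sq x) (h.sq y) (kd2 k ▸ h.cox x (kd_mem k).1 y (kd_mem k).2)

include h in
theorem n3 {x y : ℕ} (k : kd x y = 3) : n x * n y * n x * (n x * n y)⁻¹ = n y := by
  rw [braid_of (h.sq x) (h.sq y) (kd3 k ▸ h.cox x (kd_mem k).1 y (kd_mem k).2)]
  group

include h hs in
theorem br (a b i : ℕ) (k : kd a b = 3 ∧ kd a i = 2 ∧ kd b i = 2) (q : Cm p (n a) (n i)) :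
    Cm p (n b) (n i) := by
  have := q.conj hs (n a * n b)
  rw [n3 h k.1, mul_assoc (n a) (n b) (n i), n2 h k.2.2, ← mul_assoc (n a), n2 h k.2.1,
    mul_assoc (n i), mul_inv_cancel_right] at this
  exact this

include h hs in
theorem brs (a b : ℕ) (k : kd a b = 3) (q : Sq p (n a)) : Sq p (n b) := by
  have := q.conj hs (n a * n b)
  rwa [n3 h k] at this

include ht h2 hk hs h in
theorem all_cm (f1 : ev n [7, 6, 5, 0, 8, 9, 1] ^ 9 = 1) (f2 : ev n [0, 1, 2, 5, 8, 9, 10] ^ 9 = 1)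
    (f3 : ev n [0, 1, 2, 5, 6, 7, 8] ^ 9 = 1) : ∀ x y, kd x y = 2 → Cm p (n x) (n y) := by
  have q0_3 : Cm p (n 0) (n 3) := by
    obtain ⟨c, hc, q⟩ := odd_kill ht h2 hk hs (n := n) (y := n 3) (powW 9 [7, 6, 5, 0, 8, 9, 1])
      (by decide +kernel) (by rw [ev_powW, f1])
      (fun c hc => n2 h ((by decide +kernel : ∀ c ∈ powW 9 [7, 6, 5, 0, 8, 9, 1], kd c 3 = 2) c hc))
    have hc' := (by decide +kernel : ∀ c ∈ powW 9 [7, 6, 5, 0, 8, 9, 1], c ∈ [7, 6, 5, 0, 8, 9, 1]) c hc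
    simp only [List.mem_cons, List.not_mem_nil, or_false] at hc'
    rcases hc' with rfl | rfl | rfl | rfl | rfl | rfl | rfl
    · exact br hs h 5 0 3 (by decide) (br hs h 6 5 3 (by decide) (br hs h 7 6 3 (by decide) (q)))
    · exact br hs h 5 0 3 (by decide) (br hs h 6 5 3 (by decide) (q))
    · exact br hs h 5 0 3 (by decide) (q)
    · exact q
    · exact br hs h 8 0 3 (by decide) (q)
    · exact br hs h 8 0 3 (by decide) (br hs h 9 8 3 (by decide) (q))
    · exact br hs h 1 0 3 (by decide) (q)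
  have q1_3 := br hs h 0 1 3 (by decide) q0_3
  have q5_3 := br hs h 0 5 3 (by decide) q0_3
  have q6_3 := br hs h 5 6 3 (by decide) q5_3
  have q7_3 := br hs h 6 7 3 (by decide) q6_3
  have q8_3 := br hs h 0 8 3 (by decide) q0_3
  have q9_3 := br hs h 8 9 3 (by decide) q8_3
  have q10_3 := br hs h 9 10 3 (by decide) q9_3
  have q0_7 : Cm p (n 0) (n 7) := by
    obtain ⟨c, hc, q⟩ := odd_kill ht h2 hk hs (n := n) (y := n 7) (powW 9 [0, 1, 2, 5, 8, 9, 10])
      (by decide +kernel) (by rw [ev_powW, f2])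
      (fun c hc => n2 h ((by decide +kernel : ∀ c ∈ powW 9 [0, 1, 2, 5, 8, 9, 10], kd c 7 = 2) c hc))
    have hc' := (by decide +kernel : ∀ c ∈ powW 9 [0, 1, 2, 5, 8, 9, 10], c ∈ [0, 1, 2, 5, 8, 9, 10]) c hc
    simp only [List.mem_cons, List.not_mem_nil, or_false] at hc'
    rcases hc' with rfl | rfl | rfl | rfl | rfl | rfl | rfl
    · exact q
    · exact br hs h 1 0 7 (by decide) (q)
    · exact br hs h 1 0 7 (by decide) (br hs h 2 1 7 (by decide) (q))
    · exact br hs h 5 0 7 (by decide) (q)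
    · exact br hs h 8 0 7 (by decide) (q)
    · exact br hs h 8 0 7 (by decide) (br hs h 9 8 7 (by decide) (q))
    · exact br hs h 8 0 7 (by decide) (br hs h 9 8 7 (by decide) (br hs h 10 9 7 (by decide) (q)))
  have q1_7 := br hs h 0 1 7 (by decide) q0_7
  have q2_7 := br hs h 1 2 7 (by decide) q1_7
  have q3_7 := br hs h 2 3 7 (by decide) q2_7
  have q5_7 := br hs h 0 5 7 (by decide) q0_7
  have q8_7 := br hs h 0 8 7 (by decide) q0_7
  have q9_7 := br hs h 8 9 7 (by decide) q8_7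
  have q10_7 := br hs h 9 10 7 (by decide) q9_7
  have q0_10 : Cm p (n 0) (n 10) := by
    obtain ⟨c, hc, q⟩ := odd_kill ht h2 hk hs (n := n) (y := n 10) (powW 9 [0, 1, 2, 5, 6, 7, 8])
      (by decide +kernel) (by rw [ev_powW, f3])
      (fun c hc => n2 h ((by decide +kernel : ∀ c ∈ powW 9 [0, 1, 2, 5, 6, 7, 8], kd c 10 = 2) c hc))
    have hc' := (by decide +kernel : ∀ c ∈ powW 9 [0, 1, 2, 5, 6, 7, 8], c ∈ [0, 1, 2, 5, 6, 7, 8]) c hc
    simp only [List.mem_cons, List.not_mem_nil, or_false] at hc'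
    rcases hc' with rfl | rfl | rfl | rfl | rfl | rfl | rfl
    · exact q
    · exact br hs h 1 0 10 (by decide) (q)
    · exact br hs h 1 0 10 (by decide) (br hs h 2 1 10 (by decide) (q))
    · exact br hs h 5 0 10 (by decide) (q)
    · exact br hs h 5 0 10 (by decide) (br hs h 6 5 10 (by decide) (q))
    · exact br hs h 5 0 10 (by decide) (br hs h 6 5 10 (by decide) (br hs h 7 6 10 (by decide) (q)))
    · exact br hs h 8 0 10 (by decide) (q)
  have q1_10 := br hs h 0 1 10 (by decide) q0_10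
  have q2_10 := br hs h 1 2 10 (by decide) q1_10
  have q3_10 := br hs h 2 3 10 (by decide) q2_10
  have q5_10 := br hs h 0 5 10 (by decide) q0_10
  have q6_10 := br hs h 5 6 10 (by decide) q5_10
  have q7_10 := br hs h 6 7 10 (by decide) q6_10
  have q8_10 := br hs h 0 8 10 (by decide) q0_10
  have q2_0 := br hs h 3 2 0 (by decide) q0_3.symm
  have q2_5 := br hs h 3 2 5 (by decide) q5_3.symm
  have q2_6 := br hs h 3 2 6 (by decide) q6_3.symm
  have q2_8 := br hs h 3 2 8 (by decide) q8_3.symm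
  have q2_9 := br hs h 3 2 9 (by decide) q9_3.symm
  have q6_0 := br hs h 7 6 0 (by decide) q0_7.symm
  have q6_1 := br hs h 7 6 1 (by decide) q1_7.symm
  have q6_8 := br hs h 7 6 8 (by decide) q8_7.symm
  have q6_9 := br hs h 7 6 9 (by decide) q9_7.symm
  have q9_0 := br hs h 10 9 0 (by decide) q0_10.symm
  have q9_1 := br hs h 10 9 1 (by decide) q1_10.symm
  have q9_5 := br hs h 10 9 5 (by decide) q5_10.symm
  have q1_5 := br hs h 2 1 5 (by decide) q2_5
  have q1_8 := br hs h 2 1 8 (by decide) q2_8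
  have q5_8 := br hs h 6 5 8 (by decide) q6_8
  intro x y k
  obtain ⟨hx, hy⟩ := kd_mem k
  simp only [N3, List.mem_cons, List.not_mem_nil, or_false] at hx hy
  rcases hx with rfl | rfl | rfl | rfl | rfl | rfl | rfl | rfl | rfl | rfl <;>
    rcases hy with rfl | rfl | rfl | rfl | rfl | rfl | rfl | rfl | rfl | rfl
  · exact absurd k (by decide)
  · exact absurd k (by decide)
  · exact q2_0.symm
  · exact q0_3
  · exact absurd k (by decide)
  · exact q6_0.symm
  · exact q0_7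
  · exact absurd k (by decide)
  · exact q9_0.symm
  · exact q0_10
  · exact absurd k (by decide)
  · exact absurd k (by decide)
  · exact absurd k (by decide)
  · exact q1_3
  · exact q1_5
  · exact q6_1.symm
  · exact q1_7
  · exact q1_8
  · exact q9_1.symm
  · exact q1_10
  · exact q2_0
  · exact absurd k (by decide)
  · exact absurd k (by decide)
  · exact absurd k (by decide)
  · exact q2_5
  · exact q2_6
  · exact q2_7
  · exact q2_8
  · exact q2_9
  · exact q2_10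
  · exact q0_3.symm
  · exact q1_3.symm
  · exact absurd k (by decide)
  · exact absurd k (by decide)
  · exact q5_3.symm
  · exact q6_3.symm
  · exact q3_7
  · exact q8_3.symm
  · exact q9_3.symm
  · exact q3_10
  · exact absurd k (by decide)
  · exact q1_5.symm
  · exact q2_5.symm
  · exact q5_3
  · exact absurd k (by decide)
  · exact absurd k (by decide)
  · exact q5_7
  · exact q5_8
  · exact q9_5.symm
  · exact q5_10
  · exact q6_0
  · exact q6_1
  · exact q2_6.symm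
  · exact q6_3
  · exact absurd k (by decide)
  · exact absurd k (by decide)
  · exact absurd k (by decide)
  · exact q6_8
  · exact q6_9
  · exact q6_10
  · exact q0_7.symm
  · exact q1_7.symm
  · exact q2_7.symm
  · exact q7_3
  · exact q5_7.symm
  · exact absurd k (by decide)
  · exact absurd k (by decide)
  · exact q8_7.symm
  · exact q9_7.symm
  · exact q7_10
  · exact absurd k (by decide)
  · exact q1_8.symm
  · exact q2_8.symm
  · exact q8_3
  · exact q5_8.symm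
  · exact q6_8.symm
  · exact q8_7
  · exact absurd k (by decide)
  · exact absurd k (by decide)
  · exact q8_10
  · exact q9_0
  · exact q9_1
  · exact q2_9.symm
  · exact q9_3
  · exact q9_5
  · exact q6_9.symm
  · exact q9_7
  · exact absurd k (by decide)
  · exact absurd k (by decide)
  · exact absurd k (by decide)
  · exact q0_10.symm
  · exact q1_10.symm
  · exact q2_10.symm
  · exact q10_3
  · exact q5_10.symm
  · exact q6_10.symm
  · exact q10_7
  · exact q8_10.symm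
  · exact absurd k (by decide)
  · exact absurd k (by decide)

include ht h2 hk hs h in
theorem all_sq (f1 : ev n [7, 6, 5, 0, 8, 9, 1] ^ 9 = 1)
    (cm : ∀ x y, kd x y = 2 → Cm p (n x) (n y)) : ∀ x ∈ N3, Sq p (n x) := by
  have s0 : Sq p (n 0) := by
    by_contra hn
    choose l hl using fun c => hs (n c)
    have ns : ∀ c ∈ [7, 6, 5, 0, 8, 9, 1], ¬ Sq p (n c) := by
      intro c hc q
      simp only [List.mem_cons, List.not_mem_nil, or_false] at hc
      apply hn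
      rcases hc with rfl | rfl | rfl | rfl | rfl | rfl | rfl
      · exact brs hs h 5 0 (by decide) (brs hs h 6 5 (by decide) (brs hs h 7 6 (by decide) (q)))
      · exact brs hs h 5 0 (by decide) (brs hs h 6 5 (by decide) (q))
      · exact brs hs h 5 0 (by decide) (q)
      · exact q
      · exact brs hs h 8 0 (by decide) (q)
      · exact brs hs h 8 0 (by decide) (brs hs h 9 8 (by decide) (q))
      · exact brs hs h 1 0 (by decide) (q)
    have key : ∀ c ∈ [7, 6, 5, 0, 8, 9, 1], l c * l c = t := fun c hc =>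
      (hk (l c * l c) (by rw [map_mul, hl, h.sq])).resolve_left fun e =>
        ns c hc (hl c ▸ sq_of ht h2 hk e)
    have e1 := rev_mul ht _ key
    rw [pow_odd h2 (by decide)] at e1
    obtain ⟨g, hg⟩ := conj_rev (e := l) fun x y k => cm x y k _ _ (hl x) (hl y)
    have e2 : ev l [7, 6, 5, 0, 8, 9, 1] ^ 9 = 1 ∨ ev l [7, 6, 5, 0, 8, 9, 1] ^ 9 = t :=
      hk _ (by rw [map_pow, map_ev]; simpa only [hl] using f1)
    generalize ev l [7, 6, 5, 0, 8, 9, 1].reverse = Y at e1 hg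
    generalize ev l [7, 6, 5, 0, 8, 9, 1] = X at e1 hg e2
    have e3 : Y ^ 9 = g⁻¹ * X ^ 9 * g := by
      have : Y = g⁻¹ * X * g⁻¹⁻¹ := by rw [mul_assoc, inv_inv, hg]; group
      rw [this, conj_pow, inv_inv]
    have e4 : Y ^ 9 * X ^ 9 = t := by
      have cx : Commute Y X := by
        have : Y = t * X⁻¹ := by rw [← e1]; group
        rw [this]
        exact (Commute.symm (ht X)).mul_left (Commute.refl X).inv_left
      rw [← cx.mul_pow, e1, pow_odd h2 (by decide)]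
    have e5 : t = 1 := by
      rw [← e4, e3]
      rcases e2 with e2 | e2 <;> rw [e2]
      · group
      · rw [ht g⁻¹, mul_assoc t, inv_mul_cancel, mul_one, h2]
    exact hn (hl 0 ▸ sq_of ht h2 hk (by rw [key 0 (by decide), e5]))
  have s1 := brs hs h 0 1 (by decide) s0
  have s2 := brs hs h 1 2 (by decide) s1
  have s3 := brs hs h 2 3 (by decide) s2
  have s5 := brs hs h 0 5 (by decide) s0
  have s6 := brs hs h 5 6 (by decide) s5
  have s7 := brs hs h 6 7 (by decide) s6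
  have s8 := brs hs h 0 8 (by decide) s0
  have s9 := brs hs h 8 9 (by decide) s8
  have s10 := brs hs h 9 10 (by decide) s9
  intro x hx
  simp only [N3, List.mem_cons, List.not_mem_nil, or_false] at hx
  rcases hx with rfl | rfl | rfl | rfl | rfl | rfl | rfl | rfl | rfl | rfl <;> assumption

include ht h2 hk in
theorem fix3 {x y : M} (e : (p x * p y) ^ 3 = 1) :
    ∃ y', p y' = p y ∧ (x * y') ^ 3 = 1 := by
  have e1 : p ((x * y) ^ 3) = 1 := by rw [map_pow, map_mul, e]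
  rcases hk _ e1 with e2 | e2
  · exact ⟨y, rfl, e2⟩
  · refine ⟨y * t, by rw [map_mul, ← e2, e1, mul_one], ?_⟩
    rw [← mul_assoc, (show Commute (x * y) t from ht _).mul_pow, e2, pow_odd h2 (by decide), h2]

end

end L5

open L5 in
theorem lift3 {M E : Type*} [Group M] [Group E] (p : M →* E) {t : M} (ht : ∀ x, x * t = t * x)
    (h2 : t * t = 1) (hk : ∀ x, p x = 1 → x = 1 ∨ x = t) (hs : Function.Surjective p)
    {n : ℕ → E} (h : C3 n) (f1 : ev n [7, 6, 5, 0, 8, 9, 1] ^ 9 = 1)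
    (f2 : ev n [0, 1, 2, 5, 8, 9, 10] ^ 9 = 1) (f3 : ev n [0, 1, 2, 5, 6, 7, 8] ^ 9 = 1) :
    ∃ m : ℕ → M, C3 m ∧ ∀ c ∈ N3, p (m c) = n c := by
  have cm := all_cm ht h2 hk hs h f1 f2 f3
  have sq := all_sq ht h2 hk hs h f1 cm
  have fx : ∀ a b, kd a b = 3 → ∀ x, p x = n a → ∃ y, p y = n b ∧ (x * y) ^ 3 = 1 := by
    intro a b k x hx
    obtain ⟨y, hy⟩ := hs (n b)
    rw [← hy]
    refine fix3 ht h2 hk ?_
    rw [hx, hy]
    exact kd3 k ▸ h.cox a (kd_mem k).1 b (kd_mem k).2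
  obtain ⟨m0, p0⟩ := hs (n 0)
  obtain ⟨m1, p1, r1⟩ := fx 0 1 (by decide) m0 p0
  obtain ⟨m2, p2, r2⟩ := fx 1 2 (by decide) m1 p1
  obtain ⟨m3, p3, r3⟩ := fx 2 3 (by decide) m2 p2
  obtain ⟨m5, p5, r5⟩ := fx 0 5 (by decide) m0 p0
  obtain ⟨m6, p6, r6⟩ := fx 5 6 (by decide) m5 p5
  obtain ⟨m7, p7, r7⟩ := fx 6 7 (by decide) m6 p6
  obtain ⟨m8, p8, r8⟩ := fx 0 8 (by decide) m0 p0
  obtain ⟨m9, p9, r9⟩ := fx 8 9 (by decide) m8 p8
  obtain ⟨m10, p10, r10⟩ := fx 9 10 (by decide) m9 p9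
  let m : ℕ → M := fun c => [m0, m1, m2, m3, 1, m5, m6, m7, m8, m9, m10].getD c 1
  have pm : ∀ c ∈ N3, p (m c) = n c := by
    intro x hx
    simp only [N3, List.mem_cons, List.not_mem_nil, or_false] at hx
    rcases hx with rfl | rfl | rfl | rfl | rfl | rfl | rfl | rfl | rfl | rfl <;> assumption
  have msq : ∀ c, m c * m c = 1 := by
    intro c
    by_cases hc : c ∈ N3
    · exact sq c hc _ (pm c hc)
    · have : m c = 1 := by
        by_cases h11 : c < 11
        · interval_cases c <;> first | exact absurd (by decide) hc | rfl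
        · exact List.getD_eq_default _ _ (by simpa using h11)
      rw [this, mul_one]
  have mcox : ∀ a ∈ N3, ∀ b ∈ N3, (m a * m b) ^ ord a b = 1 := by
    intro a ha b hb
    by_cases k : kd a b = 2
    · rw [kd2 k, pow_two, mul_assoc, ← mul_assoc (m b),
        ← cm a b k _ _ (pm a ha) (pm b hb), mul_assoc, msq, mul_one, msq]
    by_cases e : a = b
    · rw [e, msq, one_pow]
    have hE : (a, b) ∈ Ed ∨ (b, a) ∈ Ed := by
      by_contra t
      apply k
      rw [kd, if_pos ⟨ha, hb⟩, if_neg e, ord, if_neg t]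
    rw [ord, if_pos hE]
    have ed : ∀ q ∈ Ed, (m q.1 * m q.2) ^ 3 = 1 := by
      intro q hq
      simp only [Ed, List.mem_cons, List.not_mem_nil, or_false] at hq
      rcases hq with rfl | rfl | rfl | rfl | rfl | rfl | rfl | rfl | rfl <;> assumption
    rcases hE with t | t
    · exact ed _ t
    · exact flip3 (ed _ t)
  refine ⟨m, ⟨msq, mcox, ?_⟩, pm⟩
  obtain ⟨u1, u2⟩ := spider msq mcox
  have e : p (ev m [0, 1, 2, 0, 5, 6, 0, 8, 9] ^ 10) = 1 := by
    rw [map_pow, map_ev, ← h.sp]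
    congr 1
    exact ev_congr fun c hc => pm c ((by decide : ∀ c ∈ [0, 1, 2, 0, 5, 6, 0, 8, 9], c ∈ N3) c hc)
  rcases hk _ e with e1 | e1
  · exact e1
  · rw [e1, (show Commute _ t from ht _).mul_pow, u1, one_mul, pow_odd h2 (by decide)] at u2
    rw [e1, u2]

end H29.CV
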