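import Mathlib
import Cfsg.Prelude.Def_Characters
import Cfsg.Agent.H5.Brauer

/-! Dade's lemma on invariant characters of normal subgroups of prime power index. -/

set_option autoImplicit false
open Cfsg H4
open scoped ComplexConjugate

namespace H5

variable {G : Type*} [Group G]

theorem exists_not_dvd_of_invariant {X : Type*} [MulAction G X] [Fintype X] (f : X → ℕ)
    (hf : ∀ (g : G) x, f (g • x) = f x) {p : ℕ} (h : ¬ p ∣ ∑ x, f x) :
    ∃ x, ¬ p ∣ f x * (MulAction.stabilizer G x).index := by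
  classical
  by_contra hc
  push Not at hc
  apply h
  rw [← Finset.sum_fiberwise (s := Finset.univ)
    (g := fun x => (Quotient.mk _ x : MulAction.orbitRel.Quotient G X))]
  refine Finset.dvd_sum fun ω _ => ?_
  obtain ⟨x, rfl⟩ := Quotient.mk_surjective ω
  have h1 : ∀ y, (Quotient.mk _ y : MulAction.orbitRel.Quotient G X) = Quotient.mk _ x ↔
      y ∈ MulAction.orbit G x := fun y => Quotient.eq
  rw [Finset.sum_congr rfl (g := fun _ => f x) (fun y hy => by
    obtain ⟨g, rfl⟩ := (h1 y).mp (Finset.mem_filter.mp hy).2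
    exact hf g x), Finset.sum_const, smul_eq_mul, mul_comm]
  refine (hc x).trans (dvd_of_eq (congrArg _ ?_))
  rw [MulAction.index_stabilizer, ← Set.ncard_coe_finset]
  congr 1
  ext y
  simp [h1]

/-- The conjugation action on the irreducible characters of a normal subgroup. -/
@[reducible] def cjAction [Finite G] (N : Subgroup G) [N.Normal] : MulAction G (IrrCharacter N) where
  smul g θ := ⟨cj N g⁻¹ θ.1, cj_isIrr N θ.2 _⟩
  one_smul θ := Subtype.ext (by change cj N 1⁻¹ θ.1 = _; rw [inv_one, cj_one])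
  mul_smul g h θ := Subtype.ext (by
    change cj N (g * h)⁻¹ θ.1 = cj N g⁻¹ (cj N h⁻¹ θ.1)
    rw [cj_cj, mul_inv_rev])

theorem exists_invariant_not_dvd [Finite G] (N : Subgroup G) [N.Normal] [Fintype N] {p k : ℕ}
    (hp : p.Prime) (hN : N.index ∣ p ^ k) {α β : N → ℂ} (hα : IsCharacter N α)
    (hβ : IsCharacter N β) (hα' : ∀ g, cj N g α = α) (hβ' : ∀ g, cj N g β = β) {n : ℕ}
    (hn : classInner α β = n) (hpn : ¬ p ∣ n) :
    ∃ φ, IsIrrCharacter N φ ∧ (∀ g, cj N g φ = φ) ∧ ∃ m : ℕ, ¬ p ∣ m ∧ classInner β φ = m := by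
  classical
  let _ := cjAction N
  choose a ha using fun φ : IrrCharacter N => hα.inner_nat φ.2.isCharacter
  choose b hb using fun φ : IrrCharacter N => hβ.inner_nat φ.2.isCharacter
  have h1 : ∑ φ, a φ * b φ = n := by
    apply Nat.cast_injective (R := ℂ)
    rw [← hn, hα.classFun.inner_eq_sum]
    simp [ha, hb]
  obtain ⟨φ, hφ⟩ := exists_not_dvd_of_invariant (G := G) (fun φ => a φ * b φ) (fun g φ => by
    apply Nat.cast_injective (R := ℂ)
    simp only [Nat.cast_mul, ← ha, ← hb]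
    change classInner α (cj N g⁻¹ φ.1) * classInner β (cj N g⁻¹ φ.1) = _
    rw [← classInner_cj_cj N g⁻¹ α φ, ← classInner_cj_cj N g⁻¹ β φ, hα', hβ']) (h1 ▸ hpn)
  refine ⟨φ, φ.2, fun g => ?_, b φ, fun h => hφ ((h.mul_left _).mul_right _), hb φ⟩
  have h2 : N ≤ MulAction.stabilizer G φ := fun x hx =>
    Subtype.ext (cj_of_mem N φ.2.classFun (inv_mem hx))
  obtain ⟨j, -, hj⟩ := (Nat.dvd_prime_pow hp).mp ((Subgroup.index_dvd_of_le h2).trans hN)
  cases j with
  | zero =>
    have h3 : g⁻¹ ∈ MulAction.stabilizer G φ := by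
      rw [Subgroup.index_eq_one.mp hj]; trivial
    have h4 := congrArg Subtype.val h3
    change cj N g⁻¹⁻¹ φ.1 = _ at h4
    rwa [inv_inv] at h4
  | succ j => exact absurd ((hj ▸ dvd_pow_self p j.succ_ne_zero).mul_left _) hφ

theorem inner_res_indFun_invariant [Fintype G] (N E : Subgroup G) [hN : N.Normal] [Fintype N]
    [Fintype (N.subgroupOf E)] (φ : E → ℂ) {η : N → ℂ} (hη : ∀ g, cj N g η = η) :
    classInner (fun n : N => indFun E φ n) η = (E ⊔ N).index *
      classInner (fun x : N.subgroupOf E => φ x) (toSubOf N E η) := by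
  classical
  rw [← H5.classInner_indFun_right N η (indFun_isClassFunction E φ),
    H5.classInner_indFun_left E φ (indFun_isClassFunction N η), classInner_def, classInner_def,
    ← Finset.sum_filter_of_ne (p := (· ∈ N.subgroupOf E)) (fun x _ hx => by
      by_contra h
      exact hx (by rw [indFun_normal_of_not_mem N η (show (x : G) ∉ N from h), map_zero, mul_zero])),
    Finset.sum_subtype (F := inferInstance) (p := (· ∈ N.subgroupOf E)) _ (by simp),
    Finset.sum_congr rfl (g := fun x : N.subgroupOf E => N.index * (φ x * conj (toSubOf N E η x))) (fun x _ => by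
      have := congrFun (res_indFun_invariant N hη) ⟨x, x.2⟩
      simp only [Pi.smul_apply, smul_eq_mul] at this
      rw [this, map_mul, map_natCast]; ring), ← Finset.mul_sum, card_eq_card_mul_index (N.subgroupOf E),
    ← Subgroup.relIndex_mul_index (le_sup_right : N ≤ E ⊔ N), Subgroup.relIndex_sup_right]
  have := card_ne_zero (N.subgroupOf E)
  have : ((N.subgroupOf E).index : ℂ) ≠ 0 := by exact_mod_cast Subgroup.index_ne_zero_of_finite
  change _ * ((((N.subgroupOf E).index * _ : ℕ) : ℂ) * _) = _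
  push_cast
  field_simp

/-- Dade's lemma. -/
theorem dade_elementary [Fintype G] {p k : ℕ} (hp : p.Prime) (N : Subgroup G) [hN : N.Normal]
    (hind : N.index = p ^ k) {ϑ : N → ℂ} (hϑ : IsIrrCharacter N ϑ) (hinv : ∀ g, cj N g ϑ = ϑ) :
    ∃ (E : Subgroup G) (φ : N.subgroupOf E → ℂ), IsElementary p E ∧ E ⊔ N = ⊤ ∧
      IsIrrCharacter _ φ ∧ (∀ g, cj (N.subgroupOf E) g φ = φ) ∧ ∃ m : ℕ, ¬ p ∣ m ∧
        @classInner _ _ (Fintype.ofFinite _) (toSubOf N E ϑ) φ = m := by
  classical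
  by_contra hc
  obtain ⟨m, h1, h2⟩ := exists_const_mem_indSpan G hp
  let F : (G → ℂ) →+ ℂ := AddMonoidHom.mk'
    (fun f => classInner (fun n : N => f n) (ϑ * fun n => conj (ϑ n)))
    (fun f g => classInner_add_left _ _ _)
  have h3 := indSpan_induction ((AddSubgroup.zmultiples (p : ℂ)).comap F) (fun E φ hE hφ => by
    change classInner (fun n : N => indFun E φ n) _ ∈ AddSubgroup.zmultiples (p : ℂ)
    have hϑE : IsCharacter _ (toSubOf N E ϑ) := hϑ.isCharacter.comp
      (((E.subtype.comp (N.subgroupOf E).subtype)).codRestrict N fun x => x.2)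
    have hϑE' : ∀ g, cj (N.subgroupOf E) g (toSubOf N E ϑ) = toSubOf N E ϑ := fun g => by
      rw [cj_toSubOf, hinv]
    have hφ' := (hφ.restrict (N.subgroupOf E)).mul hϑE
    obtain ⟨n, hn⟩ := hφ'.inner_nat hϑE
    rw [inner_res_indFun_invariant N E φ fun g => by
      rw [cj_mul, hinv]; congr 1; funext n; exact congrArg conj (congrFun (hinv g) n)]
    have h4 := classInner_mul_left (fun x : N.subgroupOf E => φ x) (toSubOf N E ϑ) (toSubOf N E ϑ)
    change (_ : ℂ) * classInner _ (toSubOf N E ϑ * fun g => conj (toSubOf N E ϑ g)) ∈ _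
    rw [← h4, hn, ← Nat.cast_mul]
    suffices p ∣ (E ⊔ N).index * n by
      obtain ⟨c, hc⟩ := this
      exact ⟨c, by simp [hc, mul_comm]⟩
    by_contra h5
    obtain ⟨ψ, h6, h7, m, h8, h9⟩ := exists_invariant_not_dvd (N.subgroupOf E) hp
      (hind ▸ Subgroup.relIndex_dvd_index_of_normal N E) hφ' hϑE
      (fun g => by rw [cj_mul, hϑE', cj_res _ hφ.classFun]) hϑE' hn fun h => h5 (h.mul_left _)
    refine hc ⟨E, ψ, hE, ?_, h6, h7, m, h8, by rw [← h9, classInner_irrel]⟩
    obtain ⟨j, -, hj⟩ := (Nat.dvd_prime_pow hp).mp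
      (hind ▸ Subgroup.index_dvd_of_le (le_sup_right : N ≤ E ⊔ N))
    cases j with
    | zero => exact Subgroup.index_eq_one.mp hj
    | succ j => exact absurd ((hj ▸ dvd_pow_self p j.succ_ne_zero).mul_right _) h5) h2
  obtain ⟨c, hc⟩ := h3
  change c • (p : ℂ) = classInner (fun _ : N => (m : ℂ)) _ at hc
  rw [← classInner_mul_left, show (fun _ : N => (m : ℂ)) * ϑ = (m : ℂ) • ϑ from rfl,
    inner_smul_self hϑ, zsmul_eq_mul] at hc
  exact h1 ⟨c, by rw [mul_comm]; exact_mod_cast hc.symm⟩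

theorem Triple.mem_goodExp_of_sup {G : Type*} [Group G] {N : Subgroup G} [hN : N.Normal]
    {θ : N → ℂ} (T : Triple N θ) (E : Subgroup G) (hE : E ⊔ N = ⊤) (κ : E.comap T.π →* ℂˣ) (k : ℤ)
    (h1 : ∀ x : E.comap T.π, (x : T.Γ) ∈ T.ι.range → κ x = 1)
    (h2 : ∀ z : T.π.ker, κ ⟨z, T.ker_mem_comap E z⟩ = T.lam z ^ k) : k ∈ T.goodExp := by
  have := T.range_normal
  let f := (QuotientGroup.mk' T.ι.range).comp (E.comap T.π).subtype
  have hf : Function.Surjective f := by
    intro q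
    obtain ⟨γ, rfl⟩ := QuotientGroup.mk_surjective q
    obtain ⟨x, hx, n, hn, e⟩ := exists_mul_of_sup_eq_top hE (T.π γ)
    refine ⟨⟨γ * (T.ι ⟨n, hn⟩)⁻¹, ?_⟩, ?_⟩
    · rw [Subgroup.mem_comap, map_mul, map_inv, T.π_ι, e]; simpa using hx
    · exact QuotientGroup.mk_mul_of_mem _ (inv_mem ⟨_, rfl⟩)
  let κ' := f.liftOfSurjective hf ⟨κ, fun x hx => h1 x ((QuotientGroup.eq_one_iff _).mp hx)⟩
  have hκ : ∀ x, κ' (f x) = κ x := fun x => MonoidHom.liftOfRightInverse_comp_apply _ _ _ _ x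
  refine ⟨κ'.comp (QuotientGroup.mk' _), fun n => ?_, fun z => (hκ ⟨z, _⟩).trans (h2 z)⟩
  rw [MonoidHom.comp_apply, QuotientGroup.mk'_apply, 
    (QuotientGroup.eq_one_iff _).mpr (MonoidHom.mem_range.mpr ⟨n, rfl⟩), map_one]

theorem Triple.exists_mem_goodExp {G : Type*} [Group G] {N : Subgroup G} [hN : N.Normal]
    {θ : N → ℂ} (T : Triple N θ) (E : Subgroup G) (hE : E ⊔ N = ⊤) [Fintype (N.subgroupOf E)]
    (μ : E →* ℂˣ) {p m : ℕ} (hm : ¬ p ∣ m)
    (h : classInner (toSubOf N E θ) (fun x => μ x) = m) :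
    ∃ e : ℕ, ¬ p ∣ e ∧ (e : ℤ) ∈ T.goodExp := by
  classical
  have := T.range_normal
  set J := T.ι.range.subgroupOf (E.comap T.π)
  let j : N.subgroupOf E →* J :=
    { toFun := fun x => ⟨⟨T.ι ⟨x, x.2⟩, by rw [Subgroup.mem_comap, T.π_ι]; exact x.1.2⟩, _, rfl⟩
      map_one' := Subtype.ext (Subtype.ext (map_one T.ι))
      map_mul' := fun a b => Subtype.ext (Subtype.ext (map_mul T.ι ⟨a, a.2⟩ ⟨b, b.2⟩)) }
  have hj : Function.Surjective j := by
    rintro ⟨⟨γ, hx⟩, n, hn⟩
    obtain rfl : T.ι n = γ := hn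
    exact ⟨⟨⟨n, by rwa [Subgroup.mem_comap, T.π_ι] at hx⟩, n.2⟩, rfl⟩
  have hΨ := (T.Ψ_irr.isCharacter.restrict (E.comap T.π)).mul
    ((isIrrCharacter_linear μ).isCharacter.comp (T.πTo E)).conj
  set Ψ' := (fun x : E.comap T.π => T.Ψ x) * fun x => conj ((μ (T.πTo E x) : ℂˣ) : ℂ) with hΨ'
  have h1 : classInner (fun x : J => Ψ' x) (fun _ => 1) = m := by
    rw [← h, ← classInner_comp_surjective j hj, classInner_def, classInner_def]
    congr 1
    refine Finset.sum_congr rfl fun x _ => ?_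
    have : T.πTo E (j x) = x := Subtype.ext (T.π_ι _)
    simp only [hΨ', Pi.mul_apply, map_one, mul_one, this]
    exact congrArg (· * _) (T.Ψ_ι _)
  choose a ha using fun β : IrrCharacter (E.comap T.π) => hΨ.inner_nat β.2.isCharacter
  choose b hb using fun β : IrrCharacter (E.comap T.π) =>
    (β.2.isCharacter.restrict J).inner_nat isCharacter_one
  have h2 : ∑ β, a β * b β = m := by
    apply Nat.cast_injective (R := ℂ)
    have h3 : (fun x : J => Ψ' x) = ∑ β : IrrCharacter (E.comap T.π),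
        classInner Ψ' β • fun x : J => β.1 x := by
      funext x
      rw [hΨ.classFun.apply_eq_sum]; simp
    rw [← h1, h3, classInner_sum_left]
    simp [classInner_smul_left, ha, hb]
  obtain ⟨β, hβ⟩ : ∃ β, ¬ p ∣ a β * b β := by
    by_contra hc
    push Not at hc
    exact hm (h2 ▸ Finset.dvd_sum fun β _ => hc β)
  have h3 : classInner Ψ' β ≠ 0 := by
    rw [ha, Nat.cast_ne_zero]; rintro h0; simp [h0] at hβ
  have h4 := (inner_res_one_ne_zero_iff J β.2).mp (by
    rw [hb, Nat.cast_ne_zero]; rintro h0; simp [h0] at hβ)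
  have h5 : β.1 1 = b β := by
    rw [← hb, show (fun x : J => β.1 x) = β.1 1 • fun _ => 1 from funext fun x => by
      simp [h4 x x.2], inner_smul_self isIrrCharacter_one]
  obtain ⟨δ, hδ⟩ := exists_detChar_hom β.2.isCharacter
  refine ⟨b β, fun h => hβ (h.mul_left _), T.mem_goodExp_of_sup E hE δ _ (fun x hx => ?_) fun z => ?_⟩
  · apply Units.ext
    rw [← hδ, detChar_of_scalar β.2.isCharacter one_ne_zero (fun y => by
      rw [one_mul]; exact (le_charKer_iff β.2.isCharacter).mpr h4 hx y) h5]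
    simp
  · apply Units.ext
    rw [← hδ, detChar_of_scalar β.2.isCharacter (T.lam z).ne_zero
      (scalar_of_constituent hΨ β.2 h3 fun y => by
        simp only [hΨ', Pi.mul_apply, map_mul, T.πTo_ker, one_mul, Subgroup.coe_mul,
          T.Ψ_mul, mul_assoc]) h5]
    simp

theorem extends_of_commutator_inf [Fintype G] {p k : ℕ} (hp : p.Prime) (N : Subgroup G)
    [hN : N.Normal] (hind : N.index = p ^ k)
    (h : ∀ Q : Subgroup G, IsPGroup p Q → ⁅Q, Q⁆ ⊓ N = ⊥) {ϑ : N → ℂ} (hϑ : IsIrrCharacter N ϑ)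
    (hinv : ∀ g, cj N g ϑ = ϑ) : ∃ χ : G → ℂ, IsIrrCharacter G χ ∧ ∀ n : N, χ n = ϑ n := by
  classical
  have := Fact.mk hp
  obtain ⟨E, φ, ⟨x, hx, -, j, hj⟩, hE, hφ, -, m, hm, h1⟩ := dade_elementary hp N hind hϑ hinv
  obtain ⟨T⟩ := exists_triple N hϑ hinv
  obtain ⟨Q⟩ : Nonempty (Sylow p E) := inferInstance
  have h2 : Subgroup.zpowers x ≤ Subgroup.center E := by rwa [Subgroup.zpowers_le]
  have := H2.normal_of_le_center h2
  have h3 : (Q : Subgroup E) ⊔ Subgroup.zpowers x = ⊤ := by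
    rw [← Subgroup.index_eq_one]
    exact Nat.eq_one_of_dvd_coprimes ((H3.sylow_index_coprime Q).pow_right j)
      (Subgroup.index_dvd_of_le le_sup_left) (hj ▸ Subgroup.index_dvd_of_le le_sup_right)
  have h4 : commutator E ≤ ⁅(Q : Subgroup E), (Q : Subgroup E)⁆ := by
    rw [commutator_def, commutator_le_iff']
    intro a _ b _
    obtain ⟨a', ha, z, hz, rfl⟩ := exists_mul_of_sup_eq_top h3 a
    obtain ⟨b', hb, w, hw, rfl⟩ := exists_mul_of_sup_eq_top h3 b
    have hz' := Subgroup.mem_center_iff.mp (h2 hz)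
    have hw' := Subgroup.mem_center_iff.mp (h2 hw)
    have : a' * z * (b' * w) * (a' * z)⁻¹ * (b' * w)⁻¹ = a' * b' * a'⁻¹ * b'⁻¹ := by
      rw [mul_assoc a' z, ← hz', mul_inv_rev, mul_inv_rev, ← mul_assoc a', ← mul_assoc _ z⁻¹,
        mul_inv_cancel_right, ← mul_assoc a', mul_assoc _ w, ← hw', ← mul_assoc _ _ w,
        ← mul_assoc _ w⁻¹, mul_inv_cancel_right]
    rw [this]
    exact Subgroup.commutator_mem_commutator ha hb
  have h5 : ∀ y : N.subgroupOf E, (y : E) ∈ commutator E → y = 1 := by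
    intro y hy
    have h6 : ((y : E) : G) ∈ ⁅(Q : Subgroup E).map E.subtype, (Q : Subgroup E).map E.subtype⁆ ⊓ N :=
      ⟨Subgroup.map_commutator _ _ E.subtype ▸ ⟨_, h4 hy, rfl⟩, y.2⟩
    rw [h _ (Q.isPGroup'.map _)] at h6
    exact Subtype.ext (Subtype.ext h6)
  obtain ⟨ν, rfl⟩ := hφ.isCharacter.exists_linear (hφ.apply_one_of_comm fun a b => by
    rw [← mul_inv_eq_iff_eq_mul, ← mul_inv_eq_one]
    exact h5 _ (Subgroup.commutator_mem_commutator (Subgroup.mem_top _) (Subgroup.mem_top _)))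
  obtain ⟨μ, hμ⟩ := exists_linear_extension (N.subgroupOf E) ν fun y hy => by rw [h5 y hy, map_one]
  obtain ⟨e, he, h6⟩ := T.exists_mem_goodExp E hE μ hm (by
    rw [← h1, classInner_irrel]; simp only [hμ]; rfl)
  refine T.extends_of_one_mem (one_mem_of_forall_prime _ fun q hq => ?_)
  by_cases hqp : q = p
  · exact ⟨e, h6, by rwa [hqp, Int.natCast_dvd_natCast]⟩
  · refine ⟨_, T.index_mem, ?_⟩
    rw [Int.natCast_dvd_natCast, hind]
    exact fun h => hqp ((Nat.prime_dvd_prime_iff_eq hq hp).mp (hq.dvd_of_dvd_pow h))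

end H5
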