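import Mathlib
import Cfsg.Prelude.Def_Characters
import Cfsg.Prelude.Def_Transfer
import Cfsg.Agent.H4.Misc
import Cfsg.Agent.H5.Misc

/-! Characters of extraspecial groups. -/

set_option autoImplicit false
open Cfsg H4
open scoped ComplexConjugate

namespace H5

variable {G : Type*} [Group G]

theorem card_mul_inner_self_of_vanish [Fintype G] {χ : G → ℂ} (hχ : IsCharacter G χ)
    (Z : Subgroup G) (hZ : Z ≤ charCenter χ) (h : ∀ x, x ∉ Z → χ x = 0) :
    Nat.card G * classInner χ χ = Nat.card Z * χ 1 ^ 2 := by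
  classical
  rw [card_mul_classInner, ← Finset.sum_filter_of_ne (p := (· ∈ Z)) (fun x _ hx => by
    by_contra h0; exact hx (by rw [h x h0, zero_mul])),
    Finset.sum_subtype (F := inferInstance) (p := (· ∈ Z)) _ (by simp),
    Finset.sum_congr rfl (g := fun _ => χ 1 ^ 2)]
  · simp
  · intro z _
    obtain ⟨d, hd⟩ := hχ.exists_nat_apply_one
    rw [Complex.mul_conj, Complex.normSq_eq_norm_sq, (mem_charCenter_iff hχ).mp (hZ z.2), hd]
    simp

theorem eq_zero_of_commutator_le_center {f : G → ℂ} (hf : IsClassFunction G f)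
    (hc : commutator G ≤ Subgroup.center G)
    (h : ∀ z ∈ Subgroup.center G, z ≠ 1 → ∃ c : ℂ, c ≠ 1 ∧ ∀ x, f (z * x) = c * f x) {x : G}
    (hx : x ∉ Subgroup.center G) : f x = 0 := by
  rw [Subgroup.mem_center_iff] at hx
  push Not at hx
  obtain ⟨y, hy⟩ := hx
  obtain ⟨c, h1, h2⟩ := h (y * x * y⁻¹ * x⁻¹)
    (hc (Subgroup.commutator_mem_commutator (Subgroup.mem_top y) (Subgroup.mem_top x)))
    (fun h => hy (by rwa [mul_inv_eq_one, mul_inv_eq_iff_eq_mul] at h))
  have := h2 x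
  rw [inv_mul_cancel_right, hf x y] at this
  exact (mul_eq_zero.mp (by linear_combination -this : (c - 1) * f x = 0)).resolve_left
    (sub_ne_zero.mpr h1)

theorem le_of_prime_card {p : ℕ} (hp : p.Prime) {Z K : Subgroup G} (hZ : Nat.card Z = p) {z : G}
    (hz : z ∈ Z) (hz1 : z ≠ 1) (hK : z ∈ K) : Z ≤ K := by
  have := Fact.mk (hZ ▸ hp)
  rcases (K.subgroupOf Z).eq_bot_or_eq_top_of_prime_card with h | h
  · have : (⟨z, hz⟩ : Z) ∈ K.subgroupOf Z := hK
    rw [h] at this
    exact absurd (congrArg Subtype.val (Subgroup.mem_bot.mp this)) hz1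
  · exact Subgroup.subgroupOf_eq_top.mp h

theorem eq_zero_of_extraspecial [Finite G] {p : ℕ} (hp : p.Prime) (hP : IsExtraspecial p G)
    {χ : G → ℂ} (hχ : IsCharacter G χ) (h1 : Subgroup.center G ≤ charCenter χ)
    (h2 : ¬ Subgroup.center G ≤ charKer χ) {x : G} (hx : x ∉ Subgroup.center G) : χ x = 0 := by
  refine eq_zero_of_commutator_le_center hχ.classFun hP.1.2.2.le (fun z hz hz1 => ?_) hx
  obtain ⟨c, hc⟩ := h1 hz
  refine ⟨c, fun h => h2 (le_of_prime_card hp hP.2 hz hz1 fun x => ?_), hc⟩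
  rw [hc, h, one_mul]

theorem degree_of_extraspecial [Finite G] {p n : ℕ} (hp : p.Prime) (hP : IsExtraspecial p G)
    (hcard : Nat.card G = p ^ (2 * n + 1)) {χ : G → ℂ} (hχ : IsIrrCharacter G χ)
    (h : ¬ Subgroup.center G ≤ charKer χ) : χ 1 = p ^ n := by
  have := Fintype.ofFinite G
  have h1 := card_mul_inner_self_of_vanish hχ.isCharacter _ (center_le_charCenter hχ)
    fun x hx => eq_zero_of_extraspecial hp hP hχ.isCharacter (center_le_charCenter hχ) h hx
  obtain ⟨d, -, hd⟩ := hχ.exists_nat_apply_one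
  rw [hχ.inner_self, mul_one, hcard, hP.2, hd] at h1
  have h2 : p * (p ^ n) ^ 2 = p * d ^ 2 := by
    rw [← pow_mul, ← pow_succ', mul_comm n]; exact_mod_cast h1
  rw [hd, ← Nat.pow_left_injective two_ne_zero (Nat.eq_of_mul_eq_mul_left hp.pos h2), Nat.cast_pow]

end H5
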