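import Mathlib
import Cfsg.Prelude.Def_Characters
import Cfsg.Agent.H5.Misc

/-! The going-down theorem and relative M-groups. -/

set_option autoImplicit false
open Cfsg H4
open scoped ComplexConjugate

namespace H5

universe u

variable {G : Type*} [Group G]

theorem inner_res_self_eq_one [Fintype G] (L : Subgroup G) [L.Normal] [Fintype L]
    (hab : commutator G ≤ L) {θ : G → ℂ} (hθ : IsIrrCharacter G θ)
    (h : ∀ lam : G →* ℂˣ, L ≤ lam.ker → (fun x => (lam x : ℂ)) * θ = θ → lam = 1) :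
    classInner (fun x : L => θ x) (fun x : L => θ x) = 1 := by
  classical
  have h1 := indFun_mul_res L (fun _ => 1) hθ.classFun
  simp only [one_mul] at h1
  rw [← H5.classInner_indFun_left L _ hθ.classFun, h1, (indFun_isClassFunction L _).eq_sum,
    Finset.sum_mul, classInner_sum_left, Finset.sum_eq_single (irrOne G)]
  · rw [irrOne_coe, H5.classInner_indFun_left L _ (isClassFunction_const 1), classInner_one_one,
      one_smul, show (fun _ => 1) * θ = θ from one_mul θ, hθ.inner_self]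
  · intro γ _ hγ
    rw [smul_mul_assoc, classInner_smul_left]
    by_cases h0 : classInner (indFun L fun _ => 1) γ = 0
    · rw [h0, zero_mul]
    have h2 := (le_charKer_iff γ.2.isCharacter).mpr ((inner_indFun_one_ne_zero_iff L γ.2).mp h0)
    have h3 := apply_one_eq_one_of_commutator_le γ.2 (hab.trans h2)
    rw [(isIrr_linear_mul γ.2.isCharacter h3 hθ).inner_of_ne hθ, mul_zero]
    intro h4
    obtain ⟨lam, hl⟩ := γ.2.isCharacter.exists_linear h3
    have h5 := h lam (fun x hx => by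
      have := apply_of_mem_charKer (h2 hx)
      rw [h3, hl] at this
      exact Units.ext this) (hl ▸ h4)
    exact hγ (Subtype.ext (by rw [hl, h5]; rfl))
  · simp

/-- Isaacs' going-down theorem. -/
theorem going_down [Fintype G] {K L : Subgroup G} (hc : IsChief L K) (hab : ⁅K, K⁆ ≤ L)
    {ϑ : K → ℂ} (hϑ : IsIrrCharacter K ϑ)
    (hinv : ∀ g, haveI := hc.normal_right; cj K g ϑ = ϑ) :
    IsIrrCharacter L (fun x : L => ϑ ⟨x, hc.lt.le x.2⟩) ∨
    (∃ (φ : L → ℂ) (e : ℕ), IsIrrCharacter L φ ∧ (fun x : L => ϑ ⟨x, hc.lt.le x.2⟩) = (e : ℂ) • φ ∧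
      e ^ 2 = L.relIndex K) ∨
    (∃ F : Finset (L → ℂ), (∀ φ ∈ F, IsIrrCharacter L φ) ∧ F.card = L.relIndex K ∧
      (fun x : L => ϑ ⟨x, hc.lt.le x.2⟩) = ∑ φ ∈ F, φ) := by
  classical
  have hK := hc.normal_right
  have hL := hc.normal_left
  have hLK := hc.lt.le
  have hres := isCharacter_res_le hLK hϑ.isCharacter
  obtain ⟨φ, hφ, h1⟩ := exists_irr_constituent hres hϑ.apply_one_ne_zero
  have hcj : ∀ g, cj L g (fun x : L => ϑ ⟨x, hLK x.2⟩) = fun x : L => ϑ ⟨x, hLK x.2⟩ :=
    fun g => funext fun x => congrFun (hinv g) ⟨x, hLK x.2⟩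
  have hn : (K ⊓ inertia L φ).Normal := by
    refine normal_of_mul_eq_top (H := K) (K := inertia L φ) (fun g => ?_) (fun k hk x hx => ?_)
      (fun t ht x hx => ⟨hK.conj_mem x hx.1 t,
        (inertia L φ).mul_mem (mul_mem ht hx.2) (inv_mem ht)⟩)
    · obtain ⟨k, hk, e⟩ := exists_cj_eq_of_inner_ne_zero_le L hLK hϑ hφ (cj_isIrr L hφ g⁻¹) h1 (by
        rwa [← hcj g⁻¹, classInner_cj_cj])
      exact ⟨k⁻¹, inv_mem hk, k * g, by simpa using (cj_eq_cj_iff L).mp e, by simp⟩
    · have := (inf_le_inf_left K (le_inertia L hφ.classFun)) ⟨hLK (commutator_le_iff'.mp hab k hk x hx.1),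
        commutator_le_iff'.mp hab k hk x hx.1⟩
      simpa using mul_mem this hx
  have hφ' := (isIrr_subgroupOf_iff hLK φ).mpr hφ
  rcases hc.eq_or_eq _ hn (le_inf hLK (le_inertia L hφ.classFun)) inf_le_left with h | h
  · right; right
    have h2 : inertia (L.subgroupOf K) (toSubOf L K φ) ≤ L.subgroupOf K := by
      rw [inertia_toSubOf L hLK]
      intro x hx
      change (x : G) ∈ L
      rw [← h]; exact ⟨x.2, hx⟩
    have h3 : ϑ = indFun (L.subgroupOf K) (toSubOf L K φ) :=
      hϑ.eq_of_inner_ne_zero (isIrr_indFun_of_inertia_le _ hφ' h2) (by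
        rwa [H5.classInner_indFun_right _ _ hϑ.classFun, classInner_res_toSubOf L hLK])
    have := Fintype.ofFinite (K ⧸ L.subgroupOf K)
    have h4 : Function.Injective fun q : K ⧸ L.subgroupOf K => cj L (q.out : K) φ := by
      intro q r hqr
      have h5 := (cj_eq_cj_iff L).mp hqr
      rw [← QuotientGroup.out_eq' q, ← QuotientGroup.out_eq' r, QuotientGroup.eq_iff_div_mem,
        div_eq_mul_inv]
      exact h.le ⟨(q.out * r.out⁻¹ : K).2, h5⟩
    refine ⟨Finset.univ.image fun q : K ⧸ L.subgroupOf K => cj L (q.out : K) φ, ?_, ?_, ?_⟩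
    · intro ψ hψ
      obtain ⟨q, -, rfl⟩ := Finset.mem_image.mp hψ
      exact cj_isIrr L hφ _
    · rw [Finset.card_image_of_injective _ h4, Finset.card_univ, ← Nat.card_eq_fintype_card]; rfl
    · funext x
      rw [Finset.sum_image fun _ _ _ _ h => h4 h, Finset.sum_apply, h3]
      have h5 := indFun_normal_apply (L.subgroupOf K) (toSubOf L K φ) ⟨⟨x, hLK x.2⟩, x.2⟩
      rw [h5, inv_mul_eq_iff_eq_mul₀ (card_ne_zero _),
        ← sum_eq_card_mul_sum_quot (L.subgroupOf K) (fun k : K => cj L k φ x) fun k l hl => by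
          rw [Subgroup.coe_mul, ← cj_cj, 
            cj_of_mem L (cj_isClassFunction L hφ.classFun _) (show (l : G) ∈ L from hl)]]
      rfl
  · obtain ⟨e, he0, -, he⟩ := exists_nat_res_le_eq_smul L hLK hϑ hφ (inf_eq_left.mp h) h1
    have h2 : classInner (fun x : L.subgroupOf K => ϑ x) (fun x : L.subgroupOf K => ϑ x)
        = (e ^ 2 : ℕ) := by
      have := classInner_subgroupOf hLK (fun x : L => ϑ ⟨x, hLK x.2⟩) (fun x : L => ϑ ⟨x, hLK x.2⟩)
      rw [show classInner (fun x : L.subgroupOf K => ϑ x) (fun x : L.subgroupOf K => ϑ x) = _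
        from this, he, classInner_smul_left, classInner_smul_right, hφ.inner_self]
      simp [sq]
    by_cases h3 : ∀ lam : K →* ℂˣ, L.subgroupOf K ≤ lam.ker → (fun x => (lam x : ℂ)) * ϑ = ϑ → lam = 1
    · left
      rw [inner_res_self_eq_one _ (by
        rw [commutator_def, commutator_le_iff']
        exact fun a _ b _ => commutator_le_iff'.mp hab a a.2 b b.2) hϑ h3] at h2
      have h4 : e ^ 2 = 1 := by exact_mod_cast h2.symm
      rw [he, (Nat.pow_eq_one.mp h4).resolve_right two_ne_zero]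
      simpa using hφ
    · right; left
      push Not at h3
      obtain ⟨lam, h4, h5, h6⟩ := h3
      refine ⟨φ, e, hφ, he, ?_⟩
      let V := L ⊔ Subgroup.normalClosure {x : G | ∃ hx : x ∈ K, ϑ ⟨x, hx⟩ ≠ 0}
      have hV : V ≤ lam.ker.map K.subtype := by
        refine sup_le (fun x hx => ⟨⟨x, hLK hx⟩, h4 hx, rfl⟩) ((Subgroup.closure_le _).mpr ?_)
        intro y hy
        obtain ⟨x, ⟨hx, h7⟩, h8⟩ := Group.mem_conjugatesOfSet_iff.mp hy
        obtain ⟨g, rfl⟩ := isConj_iff.mp h8
        refine ⟨⟨_, hK.conj_mem x hx g⟩, ?_, rfl⟩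
        have h9 := congrFun h5 ⟨_, hK.conj_mem x hx g⟩
        have h10 : ϑ ⟨_, hK.conj_mem x hx g⟩ = ϑ ⟨x, hx⟩ := congrFun (hinv g) ⟨x, hx⟩
        rw [Pi.mul_apply, h10, mul_eq_right₀ h7] at h9
        exact Units.ext h9
      rcases hc.eq_or_eq V inferInstance le_sup_left (hV.trans (Subgroup.map_subtype_le _))
        with h7 | h7
      · have h8 : ∑ x : K, ϑ x * conj (ϑ x) = ∑ x : L.subgroupOf K, ϑ x * conj (ϑ x) := by
          rw [← Finset.sum_filter_of_ne (p := (· ∈ L.subgroupOf K)) (fun x _ hx => by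
            change (x : G) ∈ L
            rw [← h7]
            exact Subgroup.mem_sup_right (Subgroup.subset_normalClosure
              ⟨x.2, left_ne_zero_of_mul hx⟩)),
            Finset.sum_subtype (p := (· ∈ L.subgroupOf K)) _ (by simp)]
        rw [← card_mul_classInner, ← card_mul_classInner (fun x : L.subgroupOf K => ϑ x)
          (fun x : L.subgroupOf K => ϑ x), h2, hϑ.inner_self, mul_one,
          card_eq_card_mul_index (L.subgroupOf K)] at h8
        exact_mod_cast (mul_left_cancel₀ (card_ne_zero _) h8).symm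
      · refine absurd (MonoidHom.ext fun x => ?_) h6
        obtain ⟨y, hy, e⟩ := hV (h7.ge x.2)
        rw [← show y = x from Subtype.ext e]; exact hy

theorem not_homog_sum [Fintype G] {F : Finset (G → ℂ)} (hF : ∀ φ ∈ F, IsIrrCharacter G φ)
    (h : 1 < F.card) : ¬ Homog (∑ φ ∈ F, φ) := by
  classical
  rw [homog_iff (isCharacter_sum _ _ fun φ hφ => (hF φ hφ).isCharacter)]
  intro h1
  obtain ⟨a, ha, b, hb, hab⟩ := Finset.one_lt_card.mp h
  have h2 : ∀ a ∈ F, classInner (∑ φ ∈ F, φ) a ≠ 0 := fun a ha => by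
    rw [classInner_sum_left, Finset.sum_eq_single a (fun b hb h => (hF b hb).inner_of_ne (hF a ha) h)
      (fun h => absurd ha h), (hF a ha).inner_self]
    exact one_ne_zero
  exact hab (h1 a b (hF a ha) (hF b hb) (h2 a ha) (h2 b hb))

/-- If `χ` is homogeneous on all normal subgroups above `N` and no chief factor above `N` has
square order then `χ` restricts irreducibly to `N`. -/
theorem isIrr_res_of_nonsquare [Fintype G] (N : Subgroup G) [hN : N.Normal] (hs : SolvMod N)
    (hsq : ∀ L K, IsChief L K → N ≤ L → ¬ IsSquare (L.relIndex K)) {χ : G → ℂ}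
    (hχ : IsIrrCharacter G χ) (h : ∀ M : Subgroup G, M.Normal → N ≤ M → Homog fun m : M => χ m) :
    IsIrrCharacter N (fun n : N => χ n) := by
  classical
  obtain ⟨K, ⟨hK, hNK, hirr⟩, hmin⟩ := (Set.toFinite {K : Subgroup G | K.Normal ∧ N ≤ K ∧
      IsIrrCharacter K (fun k : K => χ k)}).exists_minimal
    ⟨⊤, inferInstance, le_top, hχ.comp_mulEquiv Subgroup.topEquiv⟩
  rcases hNK.eq_or_lt with rfl | hlt
  · exact hirr
  obtain ⟨L, hc, hNL⟩ := exists_isChief_below N K hlt
  rcases going_down hc (hc.commutator_le (hs.mono hNL)) hirr (cj_res K hχ.classFun) with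
    h1 | ⟨φ, e, -, -, h1⟩ | ⟨F, h1, h2, h3⟩
  · exact absurd (hmin ⟨hc.normal_left, hNL, h1⟩ hc.lt.le) (not_le_of_gt hc.lt)
  · exact absurd ⟨e, by rw [← h1, sq]⟩ (hsq L K hc hNL)
  · refine absurd (h3 ▸ h L hc.normal_left hNL) (not_homog_sum h1 ?_)
    rw [h2]
    exact Subgroup.one_lt_index_of_ne_top fun h => not_le_of_gt hc.lt (Subgroup.subgroupOf_eq_top.mp h)

theorem isIrr_res_of_isIrr_res_indFun [Fintype G] (T M : Subgroup G) {η : T → ℂ}
    (hη : IsIrrCharacter T η) (h : IsIrrCharacter M fun m : M => indFun T η m) :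
    IsIrrCharacter (M.subgroupOf T) fun x => η x := by
  classical
  obtain ⟨ξ, hξ, h1⟩ := exists_irr_under (M.subgroupOf T) hη
  have h0 := isCharacter_indFun T hη.isCharacter
  have h2 := inner_comp_ne_zero (M.subgroupOf T).subtype (h0.restrict T) hη (by
    rw [inner_res_ne_zero_of_indFun T (h0.isIrr_of_restrict M h)]; exact one_ne_zero)
    hξ.isCharacter h1
  let e : T.subgroupOf M ≃* M.subgroupOf T :=
    { toFun := fun x => ⟨⟨x.1.1, x.2⟩, x.1.2⟩
      invFun := fun x => ⟨⟨x.1.1, x.2⟩, x.1.2⟩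
      left_inv := fun _ => rfl
      right_inv := fun _ => rfl
      map_mul' := fun _ _ => rfl }
  have h3 := (isCharacter_indFun _ (hξ.comp_mulEquiv e).isCharacter).degree_le_of_inner_ne_zero h (by
    rw [H5.classInner_indFun_left _ _ h.classFun]
    intro h4
    apply h2
    rw [← classInner_comp_equiv e.toEquiv]
    exact classInner_comm_of_eq_zero h4)
  have h4 := (hη.isCharacter.restrict (M.subgroupOf T)).degree_le_of_inner_ne_zero hξ h1
  obtain ⟨a, -, ha⟩ := hξ.exists_nat_apply_one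
  obtain ⟨b, -, hb⟩ := hη.exists_nat_apply_one
  simp only [OneMemClass.coe_one, indFun_one_eq, map_one, ha, hb, ← Nat.cast_mul,
    Complex.natCast_re, Nat.cast_le] at h3 h4
  have h5 : (T.subgroupOf M).index ≤ T.index := by
    rw [← Subgroup.relIndex_top_right (H := T)]
    exact Subgroup.relIndex_le_of_le_right (H := T) le_top Subgroup.index_ne_zero_of_finite
  have h6 : b ≤ a := Nat.le_of_mul_le_mul_left (h3.trans (Nat.mul_le_mul_right a h5))
    (Nat.pos_of_ne_zero Subgroup.index_ne_zero_of_finite)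
  rwa [(hη.isCharacter.restrict (M.subgroupOf T)).eq_of_inner_ne_zero_of_degree hξ h1 (by
    simp only [OneMemClass.coe_one, ha, hb, le_antisymm h4 h6])]

theorem monomial_of_abelian_sylow_aux (n : ℕ) : ∀ (G : Type u) [Group G] [Fintype G]
    [Group.IsSolvable G], Nat.card G = n → ∀ (M : Subgroup G) [M.Normal],
    (∀ (p : ℕ) (Q : Subgroup G), p.Prime → IsPGroup p Q → Q ≤ M →
      ∀ a ∈ Q, ∀ b ∈ Q, a * b = b * a) →
    ∀ θ : G → ℂ, IsIrrCharacter G θ → IsIrrCharacter M (fun m : M => θ m) → Monomial θ := by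
  induction n using Nat.strong_induction_on with
  | _ n ih =>
  intro G _ _ _ hn M hM hab θ hθ hθM
  classical
  by_cases h : ∀ N : Subgroup G, N.Normal → Homog fun n : N => θ n
  · refine monomial_of_linear hθ.isCharacter ?_
    have := charCenter_normal hθ.classFun
    have h1 : M ≤ charCenter θ := by
      by_contra h1
      obtain ⟨A, hA, hAM⟩ := exists_isChief_above (M ⊓ charCenter θ) M
        (lt_of_le_of_ne inf_le_left fun h2 => h1 (h2 ▸ inf_le_right))
      obtain ⟨p, hp, -, a, ha⟩ := hA.exists_prime (solvMod_of_isSolvable _)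
      have := Fact.mk hp
      obtain ⟨Q⟩ : Nonempty (Sylow p A) := inferInstance
      have h2 : (M ⊓ charCenter θ).subgroupOf A ⊔ Q = ⊤ := by
        rw [← Subgroup.index_eq_one]
        refine Nat.eq_one_of_dvd_coprimes (Nat.Coprime.pow_left a
          ((Nat.Prime.coprime_iff_not_dvd hp).mpr Q.not_dvd_index))
          (ha ▸ Subgroup.index_dvd_of_le le_sup_left) (Subgroup.index_dvd_of_le le_sup_right)
      have h3 := exists_mul_of_sup_eq_top' (by rw [sup_comm]; exact h2)
      have h4 := (h A hA.normal_right).comp_of_charCenter (Q : Subgroup A).subtype fun g => by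
        obtain ⟨z, hz, x, hx, rfl⟩ := h3 g
        exact ⟨z, charCenter_comp A.subtype θ hz.2, ⟨x, hx⟩, rfl⟩
      have h5 := mem_charCenter_of_homog_comm hθ.isCharacter (A.subtype.comp (Q : Subgroup A).subtype)
        (fun a b => by
          have := hab p ((Q : Subgroup A).map A.subtype) hp (Q.isPGroup'.map _)
            ((Subgroup.map_subtype_le _).trans hAM) _ ⟨a, a.2, rfl⟩ _ ⟨b, b.2, rfl⟩
          exact Subtype.ext (Subtype.ext this)) h4
      refine not_le_of_gt hA.lt fun g hg => ⟨hAM hg, ?_⟩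
      obtain ⟨z, hz, x, hx, e⟩ := h3 ⟨g, hg⟩
      rw [show g = z * x from congrArg Subtype.val e]
      exact mul_mem hz.2 (h5 ⟨x, hx⟩)
    simpa using apply_one_eq_one_of_charCenter_eq_top hθM
      (eq_top_iff.mpr fun x _ => charCenter_comp M.subtype θ (h1 x.2))
  · push Not at h
    obtain ⟨N, hN, h⟩ := h
    obtain ⟨T, ψ, -, hT, hψ, rfl⟩ := exists_indFun_of_not_homogeneous N hθ h
    refine (ih _ (hn ▸ H2.card_lt_of_ne_top hT) T rfl (M.subgroupOf T) 
      (fun p Q hp hQ hle a ha b hb => ?_) ψ hψ (isIrr_res_of_isIrr_res_indFun T M hψ hθM)).indFun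
    exact Subtype.ext (hab p (Q.map T.subtype) hp (hQ.map _) (Subgroup.map_le_iff_le_comap.mpr hle)
      _ ⟨a, ha, rfl⟩ _ ⟨b, hb, rfl⟩)

end H5
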