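import Mathlib
import Cfsg.Agent.H5.MC2

/-! # The homocyclic group `4³`: normal form of the relations -/

set_option autoImplicit false
set_option linter.unusedSectionVars false
set_option linter.unusedVariables false
set_option maxRecDepth 100000
set_option synthInstance.maxSize 100000
set_option synthInstance.maxHeartbeats 400000
set_option linter.unnecessarySimpa false

namespace H5.MC

open H9 Cfsg H24 Subgroup

abbrev Z3 := ZMod 4 × ZMod 4 × ZMod 4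
abbrev M3 := Z3 × Z3 × Z3

def app (M : M3) (x : Z3) : Z3 := x.1 • M.1 + x.2.1 • M.2.1 + x.2.2 • M.2.2
def cp (M N : M3) : M3 := (app M N.1, app M N.2.1, app M N.2.2)
def I3 : M3 := ((1, 0, 0), (0, 1, 0), (0, 0, 1))
def L8 : List Z3 := [(0, 0, 0), (2, 0, 0), (0, 2, 0), (2, 2, 0), (0, 0, 2), (2, 0, 2), (0, 2, 2), (2, 2, 2)]
def kp8 (x : Z3) : Ph := z1 ^ (x.1.val / 2) * z3 ^ (x.2.1.val / 2) * i1 ^ (x.2.2.val / 2)

structure U3 (X : Type*) [Group X] where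
  a : X
  b : X
  c : X
  a4 : a ^ 4 = 1
  b4 : b ^ 4 = 1
  c4 : c ^ 4 = 1
  ab : Commute a b
  ac : Commute a c
  bc : Commute b c

namespace U3

variable {X : Type*} [Group X] (U : U3 X)

def Φ (x : Z3) : X := U.a ^ x.1.val * U.b ^ x.2.1.val * U.c ^ x.2.2.val

theorem pw_add {a : X} (h : a ^ 4 = 1) (m n : ZMod 4) : a ^ (m + n).val = a ^ m.val * a ^ n.val := by
  rw [ZMod.val_add, ← pow_add, ← pow_eq_pow_mod _ h]

theorem add (x y : Z3) : U.Φ (x + y) = U.Φ x * U.Φ y := by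
  simp only [Φ, Prod.fst_add, Prod.snd_add, pw_add U.a4, pw_add U.b4, pw_add U.c4]
  rw [((U.ab.pow_pow _ _).symm.mul_mul_mul_comm _ _).symm,
    ← (((U.ac.pow_pow _ _).mul_left (U.bc.pow_pow _ _)).symm.mul_mul_mul_comm _ _)]

theorem zero : U.Φ 0 = 1 := by simp [Φ]
theorem comm (x y : Z3) : Commute (U.Φ x) (U.Φ y) := by rw [Commute, SemiconjBy, ← add, ← add, add_comm]
theorem nsm (x : Z3) (n : ℕ) : U.Φ (n • x) = U.Φ x ^ n := by
  induction n with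
  | zero => rw [zero_nsmul, zero, pow_zero]
  | succ n ih => rw [succ_nsmul, add, ih, pow_succ]
theorem sm (x : Z3) (n : ZMod 4) : U.Φ (n • x) = U.Φ x ^ n.val := by
  rw [← nsm, ← Nat.cast_smul_eq_nsmul (ZMod 4), ZMod.natCast_zmod_val]
theorem Φa : U.Φ (1, 0, 0) = U.a := by simp [Φ, show (1 : ZMod 4).val = 1 from rfl]
theorem Φb : U.Φ (0, 1, 0) = U.b := by simp [Φ, show (1 : ZMod 4).val = 1 from rfl]
theorem Φc : U.Φ (0, 0, 1) = U.c := by simp [Φ, show (1 : ZMod 4).val = 1 from rfl]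
theorem neg {x y : Z3} (h : x + y = 0) : U.Φ x = (U.Φ y)⁻¹ :=
  eq_inv_of_mul_eq_one_left (by rw [← add, h, zero])

/-- `g` acts by the matrix `M` -/
def Ac (g : X) (M : M3) : Prop := ∀ x, g * U.Φ x * g⁻¹ = U.Φ (app M x)

variable {U}

theorem Ac.mk {g : X} {M : M3} (h1 : g * U.a * g⁻¹ = U.Φ M.1) (h2 : g * U.b * g⁻¹ = U.Φ M.2.1)
    (h3 : g * U.c * g⁻¹ = U.Φ M.2.2) : U.Ac g M := fun x => by
  rw [app, add, add, sm, sm, sm, ← h1, ← h2, ← h3, conj_pow, conj_pow, conj_pow, conj_mul, conj_mul, Φ]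

theorem app1 : ∀ x y z : Z3, app (x, y, z) (1, 0, 0) = x ∧ app (x, y, z) (0, 1, 0) = y ∧ app (x, y, z) (0, 0, 1) = z := by
  intro x y z; simp [app]

theorem Ac.mul {g h : X} {M N : M3} (h1 : U.Ac g M) (h2 : U.Ac h N) : U.Ac (g * h) (cp M N) := by
  have := app1 N.1 N.2.1 N.2.2
  refine Ac.mk ?_ ?_ ?_ <;> rw [mul_inv_rev, ← mul_assoc, mul_assoc g, mul_assoc g, mul_assoc g, ← mul_assoc g]
  · rw [← U.Φa, h2, h1, this.1]; rfl
  · rw [← U.Φb, h2, h1, this.2.1]; rfl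
  · rw [← U.Φc, h2, h1, this.2.2]; rfl

theorem Ac.mulΦ {g : X} {M : M3} (h : U.Ac g M) (y : Z3) : U.Ac (g * U.Φ y) M := fun x => by
  rw [← h x, mul_inv_rev, ← mul_assoc, mul_assoc g, mul_assoc g, (U.comm y x).eq, mul_inv_cancel_right]

theorem Ac.one : U.Ac 1 I3 := Ac.mk (by simp [I3, Φa]) (by simp [I3, Φb]) (by simp [I3, Φc])

theorem Ac.eq (hi : Function.Injective U.Φ) {g h : X} {M N : M3} (h1 : U.Ac g M) (h2 : U.Ac h N) (e : g = h) :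
    M = N := by
  subst e
  have := fun x => hi ((h1 x).symm.trans (h2 x))
  have a := app1 M.1 M.2.1 M.2.2
  have b := app1 N.1 N.2.1 N.2.2
  exact Prod.ext (a.1.symm.trans ((this _).trans b.1))
    (Prod.ext (a.2.1.symm.trans ((this _).trans b.2.1)) (a.2.2.symm.trans ((this _).trans b.2.2)))

end U3

def mR (a : Z3) : M3 := ((1, 0, 0), (0, 0, 1), (0, 3, 3) + a)
def mI (a b : Z3) : M3 := ((3, 0, 0), (0, 1, 0) + b, app (mR a) (app (mR a) ((0, 1, 0) + b)))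
def mS (a c e : Z3) : M3 := ((1, 0, 0), (1, 1, 0) + c, app (mR a) ((0, 1, 0) + e))
def mJ (a c e : Z3) : M3 := ((1, 0, 0), (0, 1, 0) + e, app (mR a) (app (mS a c e) ((0, 1, 0) + e)))

theorem norm_ok : ∀ a ∈ L8, cp (mR a) (cp (mR a) (mR a)) = I3 → ∀ b ∈ L8, cp (mI a b) (mI a b) = I3 →
    cp (mI a b) (mR a) = cp (mR a) (cp (mR a) (mI a b)) → ∀ c ∈ L8, ∀ e ∈ [((0, 2, 0) : Z3), (2, 2, 0)],
    cp (mS a c e) (mS a c e) = I3 → cp (mS a c e) (mR a) = cp (mR a) (mJ a c e) →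
    cp (mI a b) (mS a c e) = cp (mS a c e) (cp (mJ a c e) (mI a b)) →
    ∃ x ∈ L8, ∃ y ∈ [((0, 0, 0) : Z3), (2, 0, 0)], ∀ W ∈ [(0, 1, 0) + x], ∀ V ∈ [app (mR a) W], ∀ D ∈ [(1, 0, 0) + y],
      app (mR a) V + (W + V) = 0 ∧ app (mI a b) W = W ∧ app (mS a c e) W = W + D + (0, 2, 0) + (0, 0, 2) ∧
      app (mJ a c e) W = W + (0, 2, 0) ∧ app (mI a b) V + (W + V) = 0 ∧ app (mS a c e) V = V + (0, 0, 2) ∧
      app (mJ a c e) V = V + D + (2, 0, 0) + (0, 2, 0) + (0, 0, 2) ∧ W + W = (0, 2, 0) ∧ V + V = (0, 0, 2) ∧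
      D + D = (2, 0, 0) ∧ app (mI a b) D = D + (2, 0, 0) ∧ ∃ x' ∈ L8, V = (0, 0, 1) + x' := by
  decide +kernel

theorem kp8_ok : (∀ x : Z3, x + x = 0 → x ∈ L8) ∧ (∀ x : Z3, x + x ∈ L8) ∧ (∀ x ∈ L8, kp8 x = 1 → x = 0) ∧
    (∀ x ∈ L8, (kp8 x).V1 ∧ x.1.val = 2 * (x.1.val / 2) ∧ x.2.1.val = 2 * (x.2.1.val / 2) ∧
      x.2.2.val = 2 * (x.2.2.val / 2)) ∧ ∀ v : Ph, v.V1 → ∃ x ∈ L8, kp8 x = v := by
  decide +kernel

namespace Fr

variable {H : Subgroup PG} {G : Type*} [Group G] (F : Fr H G)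

/-- the image of an element of `N1` or `N2` -/
noncomputable def n {T : XT} [Fact T.OK] (x : NX T) : G := F.e (NX.emb x)

@[simp] theorem n_of {T : XT} [Fact T.OK] (s : Ph) : F.n (NX.of s : NX T) = F.p s := by rw [n, NX.emb_of]; rfl
@[simp] theorem n_ρ : F.n (NX.r : N1) = F.ρ := by rw [n, NX.emb_r]; rfl
@[simp] theorem n_r : F.n (NX.r : N2) = F.r := by rw [n, NX.emb_r]; rfl

theorem n_prod {T : XT} [Fact T.OK] : ∀ l : List (NX T), (∀ x ∈ l, x.p.inn) →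
    NX.emb l.prod ∈ H ∧ (l.map F.n).prod = F.n l.prod
  | [], _ => ⟨by simpa using one_mem H, by simp [n, F.e_one]⟩
  | x :: l, h => by
    obtain ⟨h1, h2⟩ := n_prod l fun y hy => h y (List.mem_cons_of_mem _ hy)
    have h3 := F.h12 (NX.emb_12.2 (h x List.mem_cons_self))
    rw [List.prod_cons, map_mul, List.map_cons, List.prod_cons, h2, n, n, n, map_mul, F.e_mul h3 h1]
    exact ⟨mul_mem h3 h1, rfl⟩

theorem n_eq {T : XT} [Fact T.OK] (l l' : List (NX T))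
    (h : (∀ x ∈ l, x.p.inn) ∧ (∀ x ∈ l', x.p.inn) ∧ l.prod = l'.prod) : (l.map F.n).prod = (l'.map F.n).prod := by
  rw [(F.n_prod l h.1).2, (F.n_prod l' h.2.1).2, h.2.2]

theorem p_comm {s u : Ph} (h : s.inn ∧ u.inn ∧ s * u = u * s) : Commute (F.p s) (F.p u) := by
  rw [Commute, SemiconjBy, ← F.p_mul (F.inn h.1) (F.inn h.2.1), ← F.p_mul (F.inn h.2.1) (F.inn h.1), h.2.2]

theorem p_mul' {s u v : Ph} (h : s.inn ∧ u.inn ∧ s * u = v) : F.p s * F.p u = F.p v := by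
  rw [← F.p_mul (F.inn h.1) (F.inn h.2.1), h.2.2]

theorem p_pow {s : Ph} (h : s.inn) (k : ℕ) : emb (s ^ k) ∈ H ∧ F.p (s ^ k) = F.p s ^ k := by
  induction k with
  | zero => exact ⟨by simpa using one_mem H, by simp [F.p_one]⟩
  | succ k ih => rw [pow_succ, F.p_mul ih.1 (F.inn h), ih.2, pow_succ, map_mul]; exact ⟨mul_mem ih.1 (F.inn h), rfl⟩

theorem ρ_cj {s u : Ph} (h : s.inn ∧ u.inn ∧ (NX.r * NX.of s : N1) = NX.of u * NX.r) :
    F.ρ * F.p s * F.ρ⁻¹ = F.p u := by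
  have := F.n_eq (T := X1) [NX.r, NX.of s] [NX.of u, NX.r] ⟨by simpa [NX.of, NX.r, NX.p_mk, h] using (by decide : Ph.inn 1),
    by simpa [NX.of, NX.r, NX.p_mk, h] using (by decide : Ph.inn 1), by simpa using h.2.2⟩
  rw [mul_inv_eq_iff_eq_mul]; simpa using this

theorem r_cj {s u : Ph} (h : s.inn ∧ u.inn ∧ (NX.r * NX.of s : N2) = NX.of u * NX.r) :
    F.r * F.p s * F.r⁻¹ = F.p u := by
  have := F.n_eq (T := X2) [NX.r, NX.of s] [NX.of u, NX.r] ⟨by simpa [NX.of, NX.r, NX.p_mk, h] using (by decide : Ph.inn 1),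
    by simpa [NX.of, NX.r, NX.p_mk, h] using (by decide : Ph.inn 1), by simpa using h.2.2⟩
  rw [mul_inv_eq_iff_eq_mul]; simpa using this

theorem ρ3 : F.ρ * (F.ρ * F.ρ) = 1 := by
  simpa using F.n_eq (T := X1) [NX.r, NX.r, NX.r] [] (by decide +kernel)
theorem r3 : F.r * (F.r * F.r) = 1 := by
  simpa using F.n_eq (T := X2) [NX.r, NX.r, NX.r] [] (by decide +kernel)
theorem ρ_t : Commute F.t F.ρ := F.e_t _
theorem r_t : Commute F.t F.r := F.e_t _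

end Fr

/-- the relations of the case `4³` in normal form -/
structure Nrm {H : Subgroup PG} {X : Type*} [Group X] (F : Fr H X) (v : Ph) where
  d : X
  w : X
  x : X
  one : emb c0 ∉ H
  dρ : Commute d F.ρ
  ρw : F.ρ * w * F.ρ⁻¹ = x
  ρx : F.ρ * x * F.ρ⁻¹ = x⁻¹ * w⁻¹
  dd : d * d = F.p z1
  dt : d * F.t * d⁻¹ = F.t * F.p z1
  dQ : ∀ s : Ph, s.Q → Commute d (F.p s)
  di : F.p i2 * d * (F.p i2)⁻¹ = d * F.p z1
  ww : w * w = F.p z3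
  wt : w * F.t * w⁻¹ = F.t * F.p z3
  dw : Commute d w
  wi : F.p i2 * w * (F.p i2)⁻¹ = w
  ws : F.p sg * w * (F.p sg)⁻¹ = w * d * F.p z3 * F.p i1
  wj : F.p j1 * w * (F.p j1)⁻¹ = w * F.p z3
  xx : x * x = F.p i1
  xt : x * F.t * x⁻¹ = F.t * F.p i1
  dx : Commute d x
  wx : Commute w x
  xi : F.p i2 * x * (F.p i2)⁻¹ = x⁻¹ * w⁻¹
  xs : F.p sg * x * (F.p sg)⁻¹ = x * F.p i1
  xj : F.p j1 * x * (F.p j1)⁻¹ = x * d * F.p z1 * F.p z3 * F.p i1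
  hv : v.V1
  a3 : F.r⁻¹ * (F.t * d) * F.r * F.p j3 = w * F.p v

theorem sq4 {X : Type*} [Group X] {a u : X} (h : a * a = u) (h' : u * u = 1) : a ^ 4 = 1 := by
  rw [show a ^ 4 = a * a * (a * a) by simp only [pow_succ, pow_zero, one_mul, mul_assoc], h, h']

theorem cj_shift {X : Type*} [Group X] {a t u y : X} (h : a * t * a⁻¹ = u) (hy : Commute t y) :
    a * y * t * (a * y)⁻¹ = u := by
  rw [mul_assoc a, ← hy.eq, ← h]; group

theorem CaseC.nrm {H : Subgroup PG} {X : Type*} [Group X] {F : Fr H X} (B : CaseC F) : ∃ v, Nonempty (Nrm F v) := by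
  have p2 : ∀ s : Ph, s.inn ∧ s * s = 1 → F.p s * F.p s = 1 := fun s h =>
    (F.p_mul' ⟨h.1, h.1, h.2⟩).trans F.p_one
  have xx : F.ρ * B.w * F.ρ⁻¹ * (F.ρ * B.w * F.ρ⁻¹) = F.p i1 := by
    rw [conj_mul, B.ww, F.ρ_cj (u := i1) (by decide +kernel)]
  let U : U3 X := ⟨B.d, B.w, F.ρ * B.w * F.ρ⁻¹, sq4 B.dd (p2 _ (by decide +kernel)),
    sq4 B.ww (p2 _ (by decide +kernel)), sq4 xx (p2 _ (by decide +kernel)), B.dw,
    (B.dρ.mul_right B.dw).mul_right B.dρ.inv_right, B.ww2⟩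
  obtain ⟨k1, k2, k3, k4, k5⟩ := kp8_ok
  have hk : ∀ x ∈ L8, U.Φ x = F.p (kp8 x) := fun x hx => by
    obtain ⟨-, e1, e2, e3⟩ := k4 x hx
    have a := F.p_pow (s := z1) (by decide) (x.1.val / 2)
    have b := F.p_pow (s := z3) (by decide) (x.2.1.val / 2)
    have c := F.p_pow (s := i1) (by decide) (x.2.2.val / 2)
    rw [kp8, F.p_mul (by rw [map_mul]; exact mul_mem a.1 b.1) c.1, F.p_mul a.1 b.1, a.2, b.2, c.2, ← B.dd, ← B.ww,
      ← xx, ← sq, ← sq, ← sq, ← pow_mul, ← pow_mul, ← pow_mul, ← e1, ← e2, ← e3]; rfl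
  have vi : ∀ v : Ph, v.V1 → v.inn := by decide +kernel
  have h8 : ∀ x ∈ L8, U.Φ x = 1 → x = 0 := fun x hx h => k3 x hx (F.p_inj (F.inn (vi _ (k4 x hx).1))
    (F.inn (by decide)) (by rw [← hk x hx, h, F.p_one]))
  have hi : Function.Injective U.Φ := fun x y h => by
    have h1 : U.Φ (x - y) = 1 := by
      have := U.add (x - y) y
      rwa [sub_add_cancel, h, right_eq_mul] at this
    exact sub_eq_zero.1 (h8 _ (k1 _ (h8 _ (k2 _) (by rw [U.add, h1, one_mul]))) h1)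
  have hV : ∀ v : Ph, v.V1 → ∃ x ∈ L8, F.p v = U.Φ x := fun v hv => by
    obtain ⟨x, hx, rfl⟩ := k5 v hv; exact ⟨x, hx, (hk x hx).symm⟩
  have hz1 : F.p z1 = U.Φ (2, 0, 0) := (congrArg F.p (by decide +kernel)).trans (hk (2, 0, 0) (by decide)).symm
  have hz2 : F.p z2 = U.Φ (2, 2, 0) := (congrArg F.p (by decide +kernel)).trans (hk (2, 2, 0) (by decide)).symm
  have hz3 : F.p z3 = U.Φ (0, 2, 0) := (congrArg F.p (by decide +kernel)).trans (hk (0, 2, 0) (by decide)).symm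
  have hi1 : F.p i1 = U.Φ (0, 0, 2) := (congrArg F.p (by decide +kernel)).trans (hk (0, 0, 2) (by decide)).symm
  have ha : B.d = U.Φ (1, 0, 0) := U.Φa.symm
  have hb : B.w = U.Φ (0, 1, 0) := U.Φb.symm
  obtain ⟨va, va1, va2⟩ := B.w3
  obtain ⟨vb, vb1, vb2⟩ := B.ws
  obtain ⟨vc, vc1, vc2⟩ := B.wq
  obtain ⟨a, a1, a2⟩ := hV va va1
  obtain ⟨b, b1, b2⟩ := hV vb vb1
  obtain ⟨c, c1, c2⟩ := hV vc vc1
  obtain ⟨e, e1, e2⟩ : ∃ e ∈ [((0, 2, 0) : Z3), (2, 2, 0)], F.p j1 * B.w * (F.p j1)⁻¹ = U.Φ ((0, 1, 0) + e) := by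
    rcases B.wj with h | h
    · exact ⟨(0, 2, 0), by simp, by rw [h, U.add, hz3, ← hb]⟩
    · exact ⟨(2, 2, 0), by simp, by rw [h, U.add, hz2, ← hb]⟩
  have ρρ : F.ρ * F.ρ = F.ρ⁻¹ := eq_inv_of_mul_eq_one_right F.ρ3
  have AR : U.Ac F.ρ (mR a) := U3.Ac.mk (by rw [mul_inv_eq_iff_eq_mul, mR, ← ha]; exact B.dρ.symm.eq) U.Φc.symm (by
    rw [mR, U.add, U.neg (x := (0, 3, 3)) (y := (0, 1, 0) + (0, 0, 1)) (by decide), U.add, U.Φb, U.Φc, ← a2, ← va2,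
      inv_mul_cancel_left]
    calc _ = F.ρ * F.ρ * B.w * (F.ρ * F.ρ)⁻¹ := by simp only [U]; group
      _ = _ := by rw [ρρ, inv_inv])
  have third : ∀ {g h : X} {y : Z3}, g * F.ρ = F.ρ * h → h * B.w * h⁻¹ = U.Φ y →
      g * U.c * g⁻¹ = U.Φ (app (mR a) y) := fun {g h y} h1 h2 => by
    rw [← AR y, ← h2, show g = F.ρ * h * F.ρ⁻¹ by rw [← h1, mul_inv_cancel_right]]
    simp only [U]; group
  have cV : ∀ {g : X} {v : Ph} {y : X}, v.V1 → g * B.w * g⁻¹ = y → g * F.p v * B.w * (g * F.p v)⁻¹ = y :=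
    fun hv h => cj_shift h (B.wV _ hv)
  have dQ : ∀ s : Ph, s.Q → F.p s * U.a * (F.p s)⁻¹ = U.Φ (1, 0, 0) := fun s hs => by
    rw [mul_inv_eq_iff_eq_mul, ← ha]; exact (B.dQ s hs).symm.eq
  have n1 : F.p i2 * F.ρ = F.ρ * (F.ρ * F.p i2) := by
    simpa using F.n_eq (T := X1) [.of i2, .r] [.r, .r, .of i2] (by decide +kernel)
  have n2 : F.p sg * F.ρ = F.ρ * (F.p j1 * F.p (el 17)) := by
    simpa using F.n_eq (T := X1) [.of sg, .r] [.r, .of j1, .of (el 17)] (by decide +kernel)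
  have n3 : F.p j1 * F.ρ = F.ρ * (F.p sg * F.p j1 * F.p (el 27)) := by
    simpa [mul_assoc] using F.n_eq (T := X1) [.of j1, .r] [.r, .of sg, .of j1, .of (el 27)] (by decide +kernel)
  have n4 : F.p i2 * F.p sg = F.p sg * (F.p j1 * F.p i2) * F.p z2 := by
    simpa [mul_assoc] using F.n_eq (T := X1) [.of i2, .of sg] [.of sg, .of j1, .of i2, .of z2] (by decide +kernel)
  have wI : F.p i2 * B.w * (F.p i2)⁻¹ = U.Φ ((0, 1, 0) + b) := by rw [vb2, U.add, b2, ← hb]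
  have AI : U.Ac (F.p i2) (mI a b) := U3.Ac.mk (by
    rw [mI, show ((3, 0, 0) : Z3) = (1, 0, 0) + (2, 0, 0) by decide, U.add, ← ha, ← hz1]; exact B.ds) wI
    (third n1 (by rw [← AR, ← wI]; group))
  have AS : U.Ac (F.p sg) (mS a c e) := U3.Ac.mk (dQ _ (by decide)) (by
    rw [mS, show ((1, 1, 0) : Z3) = (0, 1, 0) + (1, 0, 0) by decide, U.add, U.add, ← ha, ← hb, ← c2]; exact vc2)
    (third n2 (cV (by decide +kernel) e2))
  have AJ : U.Ac (F.p j1) (mJ a c e) := U3.Ac.mk (dQ _ (by decide)) e2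
    (third n3 (cV (by decide +kernel) (by rw [← AS, ← e2]; group)))
  obtain ⟨y17, -, h17⟩ := hV (el 17) (by decide +kernel)
  obtain ⟨x, x1, y, y1, hh⟩ := norm_ok a a1 (U3.Ac.eq hi (AR.mul (AR.mul AR)) U3.Ac.one F.ρ3) b b1
    (U3.Ac.eq hi (AI.mul AI) U3.Ac.one (p2 _ (by decide +kernel))) (U3.Ac.eq hi (AI.mul AR) (AR.mul (AR.mul AI)) n1)
    c c1 e e1 (U3.Ac.eq hi (AS.mul AS) U3.Ac.one (p2 _ (by decide +kernel)))
    (U3.Ac.eq hi (AS.mul AR) ((AR.mul AJ).mulΦ y17) (by rw [n2, h17, mul_assoc]))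
    (U3.Ac.eq hi (AI.mul AS) ((AS.mul (AJ.mul AI)).mulΦ _) (by rw [n4, hz2]))
  obtain ⟨q1, q2, q3, q4, q5, q6, q7, q8, q9, q10, q11, x', x2, q12⟩ := hh _ (List.mem_singleton_self _) _
    (List.mem_singleton_self _) _ (List.mem_singleton_self _)
  have y2 : y ∈ L8 ∧ (∀ s : Ph, kp8 y * s = s * kp8 y) ∧ (NX.r * NX.of (kp8 y) : N1) = NX.of (kp8 y) * NX.r ∧
      ∃ u : Ph, u.U0 ∧ u.inn ∧ (NX.r * NX.of u : N2) = NX.of (kp8 y) * NX.r ∧ u * j3 = j3 * u ∧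
        ∀ v v' : Ph, v.V1 → v'.V1 → (v⁻¹ * (v' * u)).V1 := by
    clear hh q1 q2 q3 q4 q5 q6 q7 q8 q9 q10 q11 q12; revert y; decide +kernel
  obtain ⟨y2, y3, y4, u, u1, u2, u3, u4, u5⟩ := y2
  have yi := vi _ (k4 y y2).1
  have xi := vi _ (k4 x x1).1
  have eD : U.Φ ((1, 0, 0) + y) = B.d * F.p (kp8 y) := by rw [U.add, ← ha, hk y y2]
  have eW : U.Φ ((0, 1, 0) + x) = B.w * F.p (kp8 x) := by rw [U.add, ← hb, hk x x1]
  obtain ⟨v, v1, v2⟩ := B.a3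
  refine ⟨(kp8 x)⁻¹ * (v * u), ⟨⟨U.Φ ((1, 0, 0) + y), U.Φ ((0, 1, 0) + x), U.Φ (app (mR a) ((0, 1, 0) + x)), B.one,
    ?_, AR _, ?_, ?_, ?_, fun s hs => ?_, ?_, ?_, ?_, U.comm _ _, ?_, ?_, ?_, ?_, ?_, U.comm _ _, U.comm _ _, ?_, ?_,
    ?_, u5 _ _ (k4 x x1).1 v1, ?_⟩⟩⟩
  · rw [eD]; exact B.dρ.mul_left (mul_inv_eq_iff_eq_mul.1 (F.ρ_cj ⟨yi, yi, y4⟩)).symm
  · rw [AR, U.neg q1, U.add, mul_inv_rev]
  · rw [← U.add, q10, hz1]
  · rw [eD]; exact cj_shift B.dt (F.p_t _)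
  · rw [eD]; exact (B.dQ s hs).mul_left (F.p_comm ⟨yi, hs.1, y3 s⟩)
  · rw [AI, q11, U.add _ (2, 0, 0), hz1]
  · rw [← U.add, q8, hz3]
  · rw [eW]; exact cj_shift B.wt (F.p_t _)
  · rw [AI, q2]
  · rw [AS, q3, hz3, hi1, ← U.add, ← U.add, ← U.add]
  · rw [AJ, q4, hz3, ← U.add]
  · rw [← U.add, q9, hi1]
  · rw [q12, U.add, U.Φc, hk x' x2]
    refine cj_shift ?_ (F.p_t _)
    have h0 := F.ρ_t.symm.mul_inv_cancel
    calc _ = F.ρ * (B.w * (F.ρ⁻¹ * F.t * F.ρ) * B.w⁻¹) * F.ρ⁻¹ := by simp only [U]; group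
      _ = _ := by
        rw [F.ρ_t.symm.inv_mul_cancel, B.wt, ← conj_mul, h0, F.ρ_cj (s := z3) (u := i1) (by decide +kernel)]
  · rw [AI, U.neg q5, U.add, mul_inv_rev]
  · rw [AS, q6, hi1, ← U.add]
  · rw [AJ, q7, hz1, hz3, hi1, ← U.add, ← U.add, ← U.add, ← U.add]
  · have vv := vi _ v1
    rw [eD, eW, F.p_mul (by rw [map_inv]; exact inv_mem (F.inn xi)) (by rw [map_mul]; exact mul_mem (F.inn vv) (F.inn u2)),
      F.p_inv (F.inn xi), F.p_mul (F.inn vv) (F.inn u2), mul_assoc B.w, mul_inv_cancel_left, ← mul_assoc B.w, ← v2,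
      ← F.r_cj ⟨u2, yi, u3⟩, mul_assoc _ (F.p j3), ← (F.p_comm ⟨u2, by decide, u4⟩).eq]
    group

end H5.MC
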