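import Mathlib
import Cfsg.Agent.H5.MCK1
import Cfsg.Agent.H5.MCQ

/-! # Twisting a frame by an outer automorphism; centralizers -/

set_option autoImplicit false
set_option linter.unusedSectionVars false
set_option linter.unusedVariables false
set_option maxRecDepth 100000
set_option synthInstance.maxSize 100000

namespace H5.MC

open H9 Cfsg H24 Subgroup

namespace Fr

variable {H : Subgroup PG} {G : Type*} [Group G] (F : Fr H G)

include F in
theorem m12 (h0 : emb c0 ∉ H) {x : PG} (hx : x ∈ H) : x ∈ Spor.M12 := ((F.mem_iff (F.hAM hx)).1 hx).resolve_right h0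

/-- conjugation by `e1` -/
noncomputable def cjH (h0 : emb c0 ∉ H) : H →* H :=
  ((MulAut.conj (emb e1)).toMonoidHom.comp H.subtype).codRestrict H fun x =>
    F.h12 (A.conj12 (emb_AM e1) (F.m12 h0 x.2))

theorem cjH_z (h0 : emb c0 ∉ H) (h : emb z1 ∈ H) : F.cjH h0 ⟨emb z1, h⟩ = ⟨emb z1, h⟩ := Subtype.ext (by
  change emb e1 * emb z1 * (emb e1)⁻¹ = emb z1
  rw [← map_inv, ← map_mul, ← map_mul]; exact congrArg emb (by decide +kernel))

noncomputable def ce (h0 : emb c0 ∉ H) : Fr H G where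
  t := F.t
  ψ := F.ψ.comp (F.cjH h0)
  W := F.W
  h12 := F.h12
  hAM := F.hAM
  inj := F.inj.comp fun a b h => Subtype.ext ((MulAut.conj (emb e1)).injective (congrArg Subtype.val h))
  ot := F.ot
  tn := fun ⟨a, h⟩ => F.tn ⟨_, h⟩
  tc := fun a => F.tc _
  odd := F.odd
  Wt := F.Wt
  Wn := fun a => F.Wn _
  WL := fun a ha => F.WL _ (F.m12 h0 (F.cjH h0 a).2)
  cent := fun g hg => by
    obtain ⟨w, hw, a, h⟩ := F.cent g hg
    have := A.conj12 (inv_mem (emb_AM e1)) (F.m12 h0 a.2)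
    refine ⟨w, hw, ⟨_, F.h12 this⟩, ?_⟩
    rwa [MonoidHom.comp_apply, show F.cjH h0 ⟨_, F.h12 this⟩ = a from Subtype.ext (by
      change emb e1 * ((emb e1)⁻¹ * a.1 * (emb e1)⁻¹⁻¹) * (emb e1)⁻¹ = _; group)]
  nz := by rw [MonoidHom.comp_apply, cjH_z]; exact F.nz
  tz := by rw [MonoidHom.comp_apply, cjH_z]; exact F.tz

theorem ce_n (h0 : emb c0 ∉ H) {T : XT} [Fact T.OK] {a b : NX T}
    (h : a.p.inn ∧ NX.of e1 * a = b * NX.of e1) : (F.ce h0).n a = F.n b := by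
  have ha := F.h12 (NX.emb_12.2 h.1)
  have e : emb e1 * NX.emb a * (emb e1)⁻¹ = NX.emb b := by
    rw [mul_inv_eq_iff_eq_mul, ← NX.emb_of (X := T), ← map_mul, h.2, map_mul]
  rw [n, n, e_eq _ ha, ← e]
  exact (F.e_coe (F.cjH h0 ⟨_, ha⟩)).symm

theorem ce_p (h0 : emb c0 ∉ H) {a b : Ph} (h : a.inn ∧ e1 * a = b * e1) : (F.ce h0).p a = F.p b := by
  have ha := F.inn h.1
  have e : emb e1 * emb a * (emb e1)⁻¹ = emb b := by rw [mul_inv_eq_iff_eq_mul, ← map_mul, h.2, map_mul]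
  rw [p, p, e_eq _ ha, ← e]
  exact (F.e_coe (F.cjH h0 ⟨_, ha⟩)).symm

/-- the centralizer of `t` and `z1` -/
theorem cent_tz (h0 : emb c0 ∉ H) (hW : F.W = ⊥) {g : G} (h1 : Commute g F.t) (h2 : Commute g (F.p z1)) :
    ∃ n : N1, n.p.inn ∧ (g = F.n n ∨ g = F.t * F.n n) := by
  obtain ⟨w, hw, x, hx, h⟩ := F.cent' h1
  rw [hW, mem_bot] at hw
  rw [hw, one_mul, one_mul] at h
  have hz := F.inn (s := z1) (by decide)
  have h3 : Commute (F.e x) (F.p z1) := by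
    rcases h with rfl | rfl
    · exact h2
    · simpa using (F.p_t z1).inv_left.mul_left h2
  obtain ⟨n, rfl⟩ := cent_z (F.hAM hx) (F.e_inj (mul_mem hx hz) (mul_mem hz hx) (by
    rw [F.e_mul hx hz, F.e_mul hz hx]; exact h3))
  exact ⟨n, NX.emb_12.1 (F.m12 h0 hx), h⟩

theorem n_comm {a : N1} (ha : a.p.inn) {s : Ph} (hs : s.inn) (h : Commute (F.n a) (F.p s)) :
    a * NX.of s = NX.of s * a := by
  have h1 := F.h12 (NX.emb_12.2 ha)
  have h2 := F.inn hs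
  refine NX.emb_inj ?_
  rw [map_mul, map_mul, NX.emb_of]
  exact F.e_inj (mul_mem h1 h2) (mul_mem h2 h1) (by rw [F.e_mul h1 h2, F.e_mul h2 h1]; exact h)

/-- the centralizer of `t` and `U0` -/
theorem cent_tU (h0 : emb c0 ∉ H) (hW : F.W = ⊥) {g : G} (h1 : Commute g F.t) (h2 : Commute g (F.p z1))
    (h3 : Commute g (F.p z3)) : ∃ s : Ph, s.Y ∧ (g = F.p s ∨ g = F.t * F.p s) := by
  obtain ⟨n, hn, h⟩ := F.cent_tz h0 hW h1 h2
  have h4 : Commute (F.n n) (F.p z3) := by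
    rcases h with rfl | rfl
    · exact h3
    · simpa using (F.p_t z3).inv_left.mul_left h3
  have : ∀ n : N1, n.p.inn → n * NX.of z3 = NX.of z3 * n → n.p.Y ∧ n = NX.of n.p := by decide +kernel
  obtain ⟨h5, h6⟩ := this n hn (F.n_comm hn (by decide) h4)
  exact ⟨n.p, h5, by rwa [h6, n_of] at h⟩

end Fr

namespace Nrm

variable {H : Subgroup PG} {X : Type*} [Group X] {F : Fr H X} {v : Ph} (B : Nrm F v)

theorem cV {s : Ph} (hs : s.V1) : Commute B.d (F.p s) ∧ Commute B.w (F.p s) ∧ Commute B.x (F.p s) := by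
  obtain ⟨y, -, rfl⟩ := kp8_ok.2.2.2.2 s hs
  have a := F.p_pow (s := z1) (by decide) (y.1.val / 2)
  have b := F.p_pow (s := z3) (by decide) (y.2.1.val / 2)
  have c := F.p_pow (s := i1) (by decide) (y.2.2.val / 2)
  have : ∀ g, Commute g B.d → Commute g B.w → Commute g B.x → Commute g (F.p (kp8 y)) := fun g h1 h2 h3 => by
    rw [kp8, F.p_mul (by rw [map_mul]; exact mul_mem a.1 b.1) c.1, F.p_mul a.1 b.1, a.2, b.2, c.2, ← B.dd, ← B.ww, ← B.xx]
    exact (((h1.mul_right h1).pow_right _).mul_right ((h2.mul_right h2).pow_right _)).mul_right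
      ((h3.mul_right h3).pow_right _)
  exact ⟨this _ (.refl _) B.dw B.dx, this _ B.dw.symm (.refl _) B.wx, this _ B.dx.symm B.wx.symm (.refl _)⟩

theorem ce (B : Nrm F z2) : Nonempty (Nrm (F.ce B.one) z3) := by
  have h0 := B.one
  have a1 := F.ce_p h0 (a := z1) (b := z1) (by decide +kernel)
  have a2 := F.ce_p h0 (a := z3) (b := z3) (by decide +kernel)
  have a3 := F.ce_p h0 (a := i1) (b := i1) (by decide +kernel)
  have a4 : (F.ce h0).ρ = F.ρ := by simpa using F.ce_n h0 (T := X1) (a := .r) (b := .r) (by decide +kernel)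
  have hs : ∀ s : Ph, s.inn → ∃ u : Ph, u.V1 ∧ u.inn ∧ (s * u).inn ∧ e1 * s = s * u * e1 ∧ (s.Q → (s * u).Q) := by
    decide +kernel
  have key : ∀ s : Ph, s.inn → ∀ {g y : X}, (∀ u : Ph, u.V1 → Commute g (F.p u)) → F.p s * g * (F.p s)⁻¹ = y →
      (F.ce h0).p s * g * ((F.ce h0).p s)⁻¹ = y := fun s h g y h1 h2 => by
    obtain ⟨u, u1, u2, u3, u4, -⟩ := hs s h
    rw [F.ce_p h0 ⟨h, u4⟩, F.p_mul (F.inn h) (F.inn u2)]
    exact cj_shift h2 (h1 u u1)
  have d1 := fun (u : Ph) (h : u.V1) => (B.cV h).1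
  have w1 := fun (u : Ph) (h : u.V1) => (B.cV h).2.1
  have x1 := fun (u : Ph) (h : u.V1) => (B.cV h).2.2
  refine ⟨⟨B.d, B.w, B.x, h0, a4 ▸ B.dρ, a4 ▸ B.ρw, a4 ▸ B.ρx, a1 ▸ B.dd, a1 ▸ B.dt, fun s h => ?_,
    a1 ▸ key _ (by decide) d1 B.di, a2 ▸ B.ww, a2 ▸ B.wt, B.dw, key _ (by decide) w1 B.wi,
    a2 ▸ a3 ▸ key _ (by decide) w1 B.ws, a2 ▸ key _ (by decide) w1 B.wj, a3 ▸ B.xx, a3 ▸ B.xt, B.dx, B.wx,
    key _ (by decide) x1 B.xi, a3 ▸ key _ (by decide) x1 B.xs, a1 ▸ a2 ▸ a3 ▸ key _ (by decide) x1 B.xj,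
    by decide +kernel, ?_⟩⟩
  · obtain ⟨u, u1, u2, u3, u4, u5⟩ := hs s h.1
    rw [F.ce_p h0 ⟨h.1, u4⟩]; exact B.dQ _ (u5 h)
  · obtain ⟨u, u1, u2⟩ : ∃ u : Ph, u.Q ∧ (NX.of e1 * NX.r : N2) = [NX.of u, NX.r].prod * NX.of e1 := by
      decide +kernel
    have a5 : (F.ce h0).r = F.p u * F.r := by
      have := F.ce_n h0 (T := X2) (a := .r) ⟨by decide +kernel, u2⟩
      rw [← (F.n_prod _ (by simpa [NX.of, NX.r, NX.p_mk, u1.1] using (by decide : Ph.inn 1))).2] at this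
      simpa using this
    have c : Commute (F.t * B.d) (F.p u) := (F.p_t u).mul_left (B.dQ u u1)
    rw [a5, a2, F.ce_p h0 (b := j3 * z1) (by decide +kernel), F.p_mul (F.inn (by decide)) (F.inn (by decide)),
      ← F.p_mul' (s := z2) (u := z1) (v := z3) (by decide +kernel), ← mul_assoc B.w, ← B.a3]
    change (F.p u * F.r)⁻¹ * (F.t * B.d) * _ * _ = _
    rw [mul_inv_rev, mul_assoc F.r⁻¹, ← mul_assoc _ (F.p u), mul_assoc F.r⁻¹, mul_assoc (F.p u)⁻¹, c.eq,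
      inv_mul_cancel_left, ← mul_assoc]

end Nrm

/-- an involution without fixed points modulo a central subgroup -/
theorem fpf_mod {G : Type*} [Group G] [Finite G] {C Z : Subgroup G} (hZ : C ≤ N[Z]) {τ : G} (h1 : τ ∈ N[C])
    (h2 : τ ∈ N[Z]) (tt : τ * τ = 1) (h : ∀ y ∈ C, y⁻¹ * (τ * y * τ⁻¹) ∈ Z → y ∈ Z) :
    ∀ y ∈ C, y * (τ * y * τ⁻¹) ∈ Z := by
  have : (Z.subgroupOf C).Normal := ⟨fun a ha g => conj_mem (H := Z) (hZ g.2) ha⟩
  let c : C →* C := ((MulAut.conj τ).toMonoidHom.comp C.subtype).codRestrict C fun y => conj_mem h1 y.2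
  let α := QuotientGroup.map (Z.subgroupOf C) (Z.subgroupOf C) c fun a ha => conj_mem h2 ha
  have f1 : MonoidHom.FixedPointFree α := fun q hq => by
    obtain ⟨y, rfl⟩ := QuotientGroup.mk_surjective q
    have h3 := QuotientGroup.eq.1 (show (y : C ⧸ Z.subgroupOf C) = (c y : C) from hq.symm)
    exact (QuotientGroup.eq_one_iff _).2 (h y y.2 h3)
  have f2 : Function.Involutive α := fun q => by
    obtain ⟨y, rfl⟩ := QuotientGroup.mk_surjective q
    refine congrArg QuotientGroup.mk (Subtype.ext ?_)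
    change τ * (τ * y * τ⁻¹) * τ⁻¹ = y
    rw [← mul_assoc, ← mul_assoc, tt, mul_assoc, mul_assoc, ← mul_inv_rev, tt]; simp
  intro y hy
  have := congrFun (f1.coe_eq_inv_of_involutive f2) (QuotientGroup.mk ⟨y, hy⟩)
  have h3 := QuotientGroup.eq.1 (show ((⟨y, hy⟩ : C)⁻¹ : C ⧸ Z.subgroupOf C) = (c ⟨y, hy⟩ : C) from this.symm)
  rwa [inv_inv] at h3

end H5.MC
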