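import Mathlib
import Cfsg.Agent.H29.Ext

set_option autoImplicit false
set_option maxRecDepth 100000
set_option Elab.async false
set_option linter.all false

namespace H5.MCT1

open H29

noncomputable def n0 : Net := ben 4 [(nat_lit 0xc0),
 (nat_lit 0x1212),
 (nat_lit 0x0),
 (nat_lit 0xff)]
noncomputable def t0 : List ℕ := [(nat_lit 0xaa95),
 (nat_lit 0x0),
 (nat_lit 0x0),
 (nat_lit 0x0)]
noncomputable def d0 : ℕ := (nat_lit 0x5500)
noncomputable def n1 : Net := n0.rev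
noncomputable def t1 : List ℕ := mapPull n1 t0
noncomputable def d1 : ℕ := (nat_lit 0xaa00)
noncomputable def n2 : Net := ben 4 [(nat_lit 0x5555),
 (nat_lit 0x3300),
 (nat_lit 0x0),
 (nat_lit 0x0)]
noncomputable def t2 : List ℕ := [(nat_lit 0x132),
 (nat_lit 0x9fc),
 (nat_lit 0x9630),
 (nat_lit 0x6000)]
noncomputable def d2 : ℕ := (nat_lit 0x0)
noncomputable def n3 : Net := n2.rev
noncomputable def t3 : List ℕ := mapPull n3 t2
noncomputable def d3 : ℕ := (nat_lit 0x2)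
noncomputable def n4 : Net := ben 4 [(nat_lit 0x5514),
 (nat_lit 0x3333),
 (nat_lit 0xf0f),
 (nat_lit 0x0)]
noncomputable def t4 : List ℕ := [(nat_lit 0x2395),
 (nat_lit 0xa7b8),
 (nat_lit 0x3e3c),
 (nat_lit 0x4000)]
noncomputable def d4 : ℕ := (nat_lit 0x40)
noncomputable def n5 : Net := n4.rev
noncomputable def t5 : List ℕ := mapPull n5 t4
noncomputable def d5 : ℕ := (nat_lit 0x80)
noncomputable def n6 : Net := ben 4 [(nat_lit 0x5505),
 (nat_lit 0x33),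
 (nat_lit 0x0),
 (nat_lit 0x0)]
noncomputable def t6 : List ℕ := [(nat_lit 0x5165),
 (nat_lit 0x73d4),
 (nat_lit 0x7cf0),
 (nat_lit 0x8000)]
noncomputable def d6 : ℕ := (nat_lit 0x8)
noncomputable def n7 : Net := n6.rev
noncomputable def t7 : List ℕ := mapPull n7 t6
noncomputable def d7 : ℕ := (nat_lit 0x4)
noncomputable def n8 : Net := ben 4 [(nat_lit 0x5050),
 (nat_lit 0x3000),
 (nat_lit 0x0),
 (nat_lit 0x0)]
noncomputable def t8 : List ℕ := [(nat_lit 0xc3a6),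
 (nat_lit 0xaacc),
 (nat_lit 0x7430),
 (nat_lit 0x0)]
noncomputable def d8 : ℕ := (nat_lit 0x0)
noncomputable def n9 : Net := n8.rev
noncomputable def t9 : List ℕ := mapPull n9 t8
noncomputable def d9 : ℕ := (nat_lit 0x0)
noncomputable def n10 : Net := ben 4 [(nat_lit 0xcc14),
 (nat_lit 0x2200),
 (nat_lit 0x0),
 (nat_lit 0x0)]
noncomputable def t10 : List ℕ := [(nat_lit 0xe386),
 (nat_lit 0xeafc),
 (nat_lit 0x7430),
 (nat_lit 0x0)]
noncomputable def d10 : ℕ := (nat_lit 0x0)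
noncomputable def n11 : Net := n10.rev
noncomputable def t11 : List ℕ := mapPull n11 t10
noncomputable def d11 : ℕ := (nat_lit 0x0)
noncomputable def n12 : Net := ben 4 [(nat_lit 0x0),
 (nat_lit 0xf0),
 (nat_lit 0x60c),
 (nat_lit 0x0)]
noncomputable def t12 : List ℕ := [(nat_lit 0xed88),
 (nat_lit 0xcad2),
 (nat_lit 0xc2d8),
 (nat_lit 0x1000)]
noncomputable def d12 : ℕ := (nat_lit 0x20)
noncomputable def n13 : Net := n12.rev
noncomputable def t13 : List ℕ := mapPull n13 t12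
noncomputable def d13 : ℕ := (nat_lit 0x10)
noncomputable def n14 : Net := ben 4 [(nat_lit 0xf014),
 (nat_lit 0xf0f0),
 (nat_lit 0x60c),
 (nat_lit 0x0)]
noncomputable def t14 : List ℕ := [(nat_lit 0x62c6),
 (nat_lit 0x63fe),
 (nat_lit 0x6ef8),
 (nat_lit 0x9000)]
noncomputable def d14 : ℕ := (nat_lit 0x0)
noncomputable def n15 : Net := n14.rev
noncomputable def t15 : List ℕ := mapPull n15 t14
noncomputable def d15 : ℕ := (nat_lit 0x0)
noncomputable def n16 : Net := ben 4 [(nat_lit 0xcc14),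
 (nat_lit 0x2200),
 (nat_lit 0x0),
 (nat_lit 0x0)]
noncomputable def t16 : List ℕ := [(nat_lit 0x5366),
 (nat_lit 0xb884),
 (nat_lit 0xf6f8),
 (nat_lit 0x0)]
noncomputable def d16 : ℕ := (nat_lit 0x0)
noncomputable def n17 : Net := n16.rev
noncomputable def t17 : List ℕ := mapPull n17 t16
noncomputable def d17 : ℕ := (nat_lit 0x0)
noncomputable def n18 : Net := ben 4 [(nat_lit 0x0),
 (nat_lit 0x0),
 (nat_lit 0x0),
 (nat_lit 0x0)]
noncomputable def t18 : List ℕ := [(nat_lit 0x1efc),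
 (nat_lit 0x9fe),
 (nat_lit 0x9630),
 (nat_lit 0x6000)]
noncomputable def d18 : ℕ := (nat_lit 0x0)
noncomputable def n19 : Net := n18.rev
noncomputable def t19 : List ℕ := mapPull n19 t18
noncomputable def d19 : ℕ := (nat_lit 0x0)
noncomputable def n20 : Net := ben 4 [(nat_lit 0x0),
 (nat_lit 0x0),
 (nat_lit 0x0),
 (nat_lit 0x0)]
noncomputable def t20 : List ℕ := [(nat_lit 0x3136),
 (nat_lit 0x2772),
 (nat_lit 0xbebc),
 (nat_lit 0x4000)]
noncomputable def d20 : ℕ := (nat_lit 0x0)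
noncomputable def n21 : Net := n20.rev
noncomputable def t21 : List ℕ := mapPull n21 t20
noncomputable def d21 : ℕ := (nat_lit 0x0)
noncomputable def n22 : Net := ben 4 [(nat_lit 0x0),
 (nat_lit 0x0),
 (nat_lit 0x0),
 (nat_lit 0x0)]
noncomputable def t22 : List ℕ := [(nat_lit 0x8cb0),
 (nat_lit 0x193a),
 (nat_lit 0x96f4),
 (nat_lit 0x6000)]
noncomputable def d22 : ℕ := (nat_lit 0x0)
noncomputable def n23 : Net := n22.rev
noncomputable def t23 : List ℕ := mapPull n23 t22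
noncomputable def d23 : ℕ := (nat_lit 0x0)
def ivl : List ℕ := [1, 0, 3, 2, 5, 4, 7, 6, 9, 8, 11, 10, 13, 12, 15, 14, 17, 16, 19, 18, 21, 20, 23, 22, 25, 24, 27, 26, 29, 28, 31, 30, 33, 32, 35, 34, 37, 36]
def cols : List ℕ := [0, 1, 2, 3, 4, 5, 6, 7, 8, 9, 10, 11, 12, 13, 14, 15, 16, 17, 18, 19, 20, 21, 22, 23]
def hcols : List ℕ := [8, 9, 10, 11, 12, 13, 14, 15, 16, 17, 18, 19, 20, 21, 22, 23]
def G0 : List (List ℕ) := [[8, 8],
 [16, 16],
 [10, 10, 19],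
 [12, 12, 21, 19],
 [10, 12, 14],
 [10, 12, 11, 13],
 [10, 16, 10, 17],
 [12, 16, 12, 17],
 [18, 18],
 [14, 14, 21],
 [16, 10, 23],
 [8, 10, 9, 11],
 [8, 12, 9, 15],
 [8, 16, 9, 17],
 [20, 20],
 [22, 22],
 [0, 8, 1, 9],
 [0, 10, 1, 11],
 [0, 12, 1, 13],
 [0, 16, 1, 17],
 [0, 0],
 [2, 2, 19],
 [2, 0, 3, 19, 1],
 [2, 8, 3, 9],
 [2, 10, 3, 11],
 [2, 16, 3, 17],
 [16, 12, 2, 13, 17, 19, 3],
 [4, 4, 21],
 [4, 0, 5, 21, 1],
 [2, 4, 3, 5],
 [16, 12, 4, 13, 17, 5],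
 [8, 4, 9, 23, 21, 3, 5],
 [10, 4, 11, 21, 5],
 [6, 6, 23],
 [6, 0, 7, 23, 1],
 [2, 6, 3, 7],
 [4, 6, 5, 7],
 [16, 12, 6, 13, 17, 4, 6],
 [8, 6, 9, 23, 7],
 [10, 6, 11, 23, 21, 19, 3, 7]]
def R0 : List (List ℕ) := G0
theorem hii : ∀ c, ivOf ivl (ivOf ivl c) = c := ivOf_ivOf (by decide +kernel)
theorem der : Derives (ivOf ivl) R0 R0 := Derives.refl _ _
noncomputable def nl : List Net := [n0, n1, n2, n3, n4, n5, n6, n7, n8, n9, n10, n11, n12, n13, n14, n15, n16, n17, n18, n19, n20, n21, n22, n23]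
noncomputable def T : TCData := ⟨16, 16, 4, 4, nth Net.nil nl, ivOf ivl, cols, hcols, R0,
  nth [] [t0, t1, t2, t3, t4, t5, t6, t7, t8, t9, t10, t11, t12, t13, t14, t15, t16, t17, t18, t19, t20, t21, t22, t23], nth 0 [d0, d1, d2, d3, d4, d5, d6, d7, d8, d9, d10, d11, d12, d13, d14, d15, d16, d17, d18, d19, d20, d21, d22, d23]⟩
theorem hn : NetsOK 16 (nth Net.nil nl) := netsOK_of_all (by decide +kernel)
theorem hiv : IvOK (sg (nth Net.nil nl)) (ivOf ivl) :=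
  ivOK_of_chk (k := 4) hn (by decide) (n := 38) (by decide) (by decide) (allN_true.1 (by decide +kernel))
theorem hb : T.Basic := TCData.basic_of_chk hn hiv (by decide +kernel)
theorem hG0 : ∀ r ∈ G0, ev (sg (nth Net.nil nl)) r = 1 :=
  rels_of_chk (k := 4) hn (by decide) hiv (allN_true.1 (by decide +kernel))
noncomputable def s0 : List TCData.Step := []
noncomputable def s1 : List TCData.Step := [.all 20 0 0]
noncomputable def s2 : List TCData.Step := []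
noncomputable def s3 : List TCData.Step := [.pts 21 0 0 1 [0],
 .pts 21 1 0 3 [11],
 .pts 22 0 0 2 [8],
 .pts 22 0 0 4 [9, 10, 12, 15],
 .pts 26 2 0 7 [4, 5],
 .pts 26 2 0 8 [13, 14],
 .pts 29 0 0 2 [6, 7],
 .pts 35 0 0 2 [2, 3]]
noncomputable def s4 : List TCData.Step := [.pts 30 5 0 7 [4],
 .pts 30 5 0 8 [14],
 .pts 31 6 0 4 [11],
 .pts 31 6 0 6 [3],
 .pts 31 6 0 7 [9]]
noncomputable def s5 : List TCData.Step := [.pts 27 0 0 6 [2],
 .pts 27 0 0 7 [10],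
 .pts 27 1 0 1 [6],
 .pts 28 0 0 2 [8],
 .pts 28 0 0 3 [15],
 .pts 28 0 0 4 [11],
 .pts 29 1 0 3 [1],
 .pts 37 5 0 5 [5],
 .pts 37 5 0 6 [13]]
noncomputable def s6 : List TCData.Step := [.pts 36 3 0 6 [7],
 .pts 39 7 0 4 [11]]
noncomputable def s7 : List TCData.Step := [.pts 33 0 0 3 [1],
 .all 33 1 0,
 .pts 34 0 0 2 [8],
 .pts 34 0 0 4 [11],
 .pts 34 0 0 6 [12],
 .pts 37 2 0 7 [4],
 .pts 37 2 0 8 [14],
 .pts 37 6 0 5 [7],
 .pts 37 6 0 6 [6],
 .pts 37 6 0 7 [15]]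
noncomputable def s8 : List TCData.Step := [.pts 23 3 0 1 [1]]
noncomputable def s9 : List TCData.Step := [.all 0 0 0,
 .pts 12 0 0 4 [5],
 .pts 12 0 0 5 [13],
 .all 16 1 0,
 .pts 31 0 0 2 [7],
 .pts 38 0 0 2 [3],
 .pts 38 0 0 3 [2]]
noncomputable def s10 : List TCData.Step := [.pts 17 3 0 4 [10],
 .pts 24 3 0 1 [1],
 .pts 24 3 0 3 [2]]
noncomputable def s11 : List TCData.Step := [.pts 5 0 0 6 [4, 5],
 .pts 5 0 0 7 [13, 14],
 .all 17 1 0,
 .pts 24 1 0 3 [7],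
 .pts 32 0 0 2 [6],
 .pts 39 0 0 2 [2]]
noncomputable def s12 : List TCData.Step := [.pts 18 3 0 1 [13],
 .pts 30 3 0 6 [6],
 .pts 30 3 0 7 [7, 15],
 .pts 30 3 0 8 [12]]
noncomputable def s13 : List TCData.Step := [.pts 3 0 0 6 [2],
 .pts 3 0 0 7 [10],
 .pts 3 1 0 5 [5],
 .all 18 1 0,
 .pts 26 1 0 2 [1]]
noncomputable def s14 : List TCData.Step := [.all 12 3 0]
noncomputable def s15 : List TCData.Step := [.all 4 2 0,
 .pts 9 0 0 6 [2],
 .pts 9 0 0 7 [10]]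
noncomputable def s16 : List TCData.Step := [.pts 7 3 0 5 [5],
 .pts 7 3 0 6 [13],
 .pts 25 3 0 1 [1]]
noncomputable def s17 : List TCData.Step := [.pts 6 1 0 4 [2],
 .pts 6 1 0 5 [10],
 .pts 7 1 0 4 [5],
 .pts 7 1 0 5 [13],
 .all 10 0 0,
 .all 19 1 0]
noncomputable def s18 : List TCData.Step := [.all 2 2 0,
 .all 21 2 0,
 .pts 22 3 0 5 [10]]
noncomputable def s19 : List TCData.Step := []
noncomputable def s20 : List TCData.Step := [.pts 3 2 0 3 [1],
 .pts 3 2 0 4 [11],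
 .pts 9 2 0 3 [8],
 .pts 9 2 0 7 [4],
 .all 27 2 0,
 .pts 28 3 0 5 [12],
 .pts 28 3 0 7 [13],
 .pts 28 3 0 8 [14],
 .pts 32 3 0 4 [15],
 .pts 39 4 0 4 [3],
 .pts 39 4 0 5 [2],
 .pts 39 4 0 6 [9, 10]]
noncomputable def s21 : List TCData.Step := []
noncomputable def s22 : List TCData.Step := [.all 10 2 0,
 .pts 31 3 0 4 [6],
 .pts 31 3 0 5 [7, 15],
 .pts 31 3 0 6 [12],
 .pts 33 2 0 2 [3],
 .pts 34 3 0 4 [9],
 .pts 34 3 0 5 [10],
 .pts 34 3 0 8 [13],
 .pts 38 3 0 4 [2]]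
noncomputable def s23 : List TCData.Step := []
theorem hR0 : ∀ r ∈ R0, ev (sg (nth Net.nil nl)) r = 1 := hG0
theorem col0 : T.ColOK 0 := TCData.colOK_of_chk (U := (T.stepsMask 0 s0 (T.mask0 0))) (V := (T.stepsMask 1 s1 (T.mask0 1))) hb (TCData.cov_stepsMask hb (by decide) s0 _ (T.cov_mask0 0)) (TCData.cov_stepsMask hb (by decide) s1 _ (T.cov_mask0 1)) (by decide +kernel)
theorem col1 : T.ColOK 1 := TCData.colOK_of_chk (U := (T.stepsMask 1 s1 (T.mask0 1))) (V := (T.stepsMask 0 s0 (T.mask0 0))) hb (TCData.cov_stepsMask hb (by decide) s1 _ (T.cov_mask0 1)) (TCData.cov_stepsMask hb (by decide) s0 _ (T.cov_mask0 0)) (by decide +kernel)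
theorem col2 : T.ColOK 2 := TCData.colOK_of_chk (U := (T.stepsMask 2 s2 (T.mask0 2))) (V := (T.stepsMask 3 s3 (T.mask0 3))) hb (TCData.cov_stepsMask hb (by decide) s2 _ (T.cov_mask0 2)) (TCData.cov_stepsMask hb (by decide) s3 _ (T.cov_mask0 3)) (by decide +kernel)
theorem col3 : T.ColOK 3 := TCData.colOK_of_chk (U := (T.stepsMask 3 s3 (T.mask0 3))) (V := (T.stepsMask 2 s2 (T.mask0 2))) hb (TCData.cov_stepsMask hb (by decide) s3 _ (T.cov_mask0 3)) (TCData.cov_stepsMask hb (by decide) s2 _ (T.cov_mask0 2)) (by decide +kernel)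
theorem col4 : T.ColOK 4 := TCData.colOK_of_chk (U := (T.stepsMask 4 s4 (T.mask0 4))) (V := (T.stepsMask 5 s5 (T.mask0 5))) hb (TCData.cov_stepsMask hb (by decide) s4 _ (T.cov_mask0 4)) (TCData.cov_stepsMask hb (by decide) s5 _ (T.cov_mask0 5)) (by decide +kernel)
theorem col5 : T.ColOK 5 := TCData.colOK_of_chk (U := (T.stepsMask 5 s5 (T.mask0 5))) (V := (T.stepsMask 4 s4 (T.mask0 4))) hb (TCData.cov_stepsMask hb (by decide) s5 _ (T.cov_mask0 5)) (TCData.cov_stepsMask hb (by decide) s4 _ (T.cov_mask0 4)) (by decide +kernel)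
theorem col6 : T.ColOK 6 := TCData.colOK_of_chk (U := (T.stepsMask 6 s6 (T.mask0 6))) (V := (T.stepsMask 7 s7 (T.mask0 7))) hb (TCData.cov_stepsMask hb (by decide) s6 _ (T.cov_mask0 6)) (TCData.cov_stepsMask hb (by decide) s7 _ (T.cov_mask0 7)) (by decide +kernel)
theorem col7 : T.ColOK 7 := TCData.colOK_of_chk (U := (T.stepsMask 7 s7 (T.mask0 7))) (V := (T.stepsMask 6 s6 (T.mask0 6))) hb (TCData.cov_stepsMask hb (by decide) s7 _ (T.cov_mask0 7)) (TCData.cov_stepsMask hb (by decide) s6 _ (T.cov_mask0 6)) (by decide +kernel)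
theorem col8 : T.ColOK 8 := TCData.colOK_of_chk (U := (T.stepsMask 8 s8 (T.mask0 8))) (V := (T.stepsMask 9 s9 (T.mask0 9))) hb (TCData.cov_stepsMask hb (by decide) s8 _ (T.cov_mask0 8)) (TCData.cov_stepsMask hb (by decide) s9 _ (T.cov_mask0 9)) (by decide +kernel)
theorem col9 : T.ColOK 9 := TCData.colOK_of_chk (U := (T.stepsMask 9 s9 (T.mask0 9))) (V := (T.stepsMask 8 s8 (T.mask0 8))) hb (TCData.cov_stepsMask hb (by decide) s9 _ (T.cov_mask0 9)) (TCData.cov_stepsMask hb (by decide) s8 _ (T.cov_mask0 8)) (by decide +kernel)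
theorem col10 : T.ColOK 10 := TCData.colOK_of_chk (U := (T.stepsMask 10 s10 (T.mask0 10))) (V := (T.stepsMask 11 s11 (T.mask0 11))) hb (TCData.cov_stepsMask hb (by decide) s10 _ (T.cov_mask0 10)) (TCData.cov_stepsMask hb (by decide) s11 _ (T.cov_mask0 11)) (by decide +kernel)
theorem col11 : T.ColOK 11 := TCData.colOK_of_chk (U := (T.stepsMask 11 s11 (T.mask0 11))) (V := (T.stepsMask 10 s10 (T.mask0 10))) hb (TCData.cov_stepsMask hb (by decide) s11 _ (T.cov_mask0 11)) (TCData.cov_stepsMask hb (by decide) s10 _ (T.cov_mask0 10)) (by decide +kernel)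
theorem col12 : T.ColOK 12 := TCData.colOK_of_chk (U := (T.stepsMask 12 s12 (T.mask0 12))) (V := (T.stepsMask 13 s13 (T.mask0 13))) hb (TCData.cov_stepsMask hb (by decide) s12 _ (T.cov_mask0 12)) (TCData.cov_stepsMask hb (by decide) s13 _ (T.cov_mask0 13)) (by decide +kernel)
theorem col13 : T.ColOK 13 := TCData.colOK_of_chk (U := (T.stepsMask 13 s13 (T.mask0 13))) (V := (T.stepsMask 12 s12 (T.mask0 12))) hb (TCData.cov_stepsMask hb (by decide) s13 _ (T.cov_mask0 13)) (TCData.cov_stepsMask hb (by decide) s12 _ (T.cov_mask0 12)) (by decide +kernel)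
theorem col14 : T.ColOK 14 := TCData.colOK_of_chk (U := (T.stepsMask 14 s14 (T.mask0 14))) (V := (T.stepsMask 15 s15 (T.mask0 15))) hb (TCData.cov_stepsMask hb (by decide) s14 _ (T.cov_mask0 14)) (TCData.cov_stepsMask hb (by decide) s15 _ (T.cov_mask0 15)) (by decide +kernel)
theorem col15 : T.ColOK 15 := TCData.colOK_of_chk (U := (T.stepsMask 15 s15 (T.mask0 15))) (V := (T.stepsMask 14 s14 (T.mask0 14))) hb (TCData.cov_stepsMask hb (by decide) s15 _ (T.cov_mask0 15)) (TCData.cov_stepsMask hb (by decide) s14 _ (T.cov_mask0 14)) (by decide +kernel)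
theorem col16 : T.ColOK 16 := TCData.colOK_of_chk (U := (T.stepsMask 16 s16 (T.mask0 16))) (V := (T.stepsMask 17 s17 (T.mask0 17))) hb (TCData.cov_stepsMask hb (by decide) s16 _ (T.cov_mask0 16)) (TCData.cov_stepsMask hb (by decide) s17 _ (T.cov_mask0 17)) (by decide +kernel)
theorem col17 : T.ColOK 17 := TCData.colOK_of_chk (U := (T.stepsMask 17 s17 (T.mask0 17))) (V := (T.stepsMask 16 s16 (T.mask0 16))) hb (TCData.cov_stepsMask hb (by decide) s17 _ (T.cov_mask0 17)) (TCData.cov_stepsMask hb (by decide) s16 _ (T.cov_mask0 16)) (by decide +kernel)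
theorem col18 : T.ColOK 18 := TCData.colOK_of_chk (U := (T.stepsMask 18 s18 (T.mask0 18))) (V := (T.stepsMask 19 s19 (T.mask0 19))) hb (TCData.cov_stepsMask hb (by decide) s18 _ (T.cov_mask0 18)) (TCData.cov_stepsMask hb (by decide) s19 _ (T.cov_mask0 19)) (by decide +kernel)
theorem col19 : T.ColOK 19 := TCData.colOK_of_chk (U := (T.stepsMask 19 s19 (T.mask0 19))) (V := (T.stepsMask 18 s18 (T.mask0 18))) hb (TCData.cov_stepsMask hb (by decide) s19 _ (T.cov_mask0 19)) (TCData.cov_stepsMask hb (by decide) s18 _ (T.cov_mask0 18)) (by decide +kernel)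
theorem col20 : T.ColOK 20 := TCData.colOK_of_chk (U := (T.stepsMask 20 s20 (T.mask0 20))) (V := (T.stepsMask 21 s21 (T.mask0 21))) hb (TCData.cov_stepsMask hb (by decide) s20 _ (T.cov_mask0 20)) (TCData.cov_stepsMask hb (by decide) s21 _ (T.cov_mask0 21)) (by decide +kernel)
theorem col21 : T.ColOK 21 := TCData.colOK_of_chk (U := (T.stepsMask 21 s21 (T.mask0 21))) (V := (T.stepsMask 20 s20 (T.mask0 20))) hb (TCData.cov_stepsMask hb (by decide) s21 _ (T.cov_mask0 21)) (TCData.cov_stepsMask hb (by decide) s20 _ (T.cov_mask0 20)) (by decide +kernel)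
theorem col22 : T.ColOK 22 := TCData.colOK_of_chk (U := (T.stepsMask 22 s22 (T.mask0 22))) (V := (T.stepsMask 23 s23 (T.mask0 23))) hb (TCData.cov_stepsMask hb (by decide) s22 _ (T.cov_mask0 22)) (TCData.cov_stepsMask hb (by decide) s23 _ (T.cov_mask0 23)) (by decide +kernel)
theorem col23 : T.ColOK 23 := TCData.colOK_of_chk (U := (T.stepsMask 23 s23 (T.mask0 23))) (V := (T.stepsMask 22 s22 (T.mask0 22))) hb (TCData.cov_stepsMask hb (by decide) s23 _ (T.cov_mask0 23)) (TCData.cov_stepsMask hb (by decide) s22 _ (T.cov_mask0 22)) (by decide +kernel)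
theorem ok : T.OK := ⟨hb, TCData.treeOK_of_chk hn (by decide +kernel), (List.forall_mem_cons.2 ⟨col0, (List.forall_mem_cons.2 ⟨col1, (List.forall_mem_cons.2 ⟨col2, (List.forall_mem_cons.2 ⟨col3, (List.forall_mem_cons.2 ⟨col4, (List.forall_mem_cons.2 ⟨col5, (List.forall_mem_cons.2 ⟨col6, (List.forall_mem_cons.2 ⟨col7, (List.forall_mem_cons.2 ⟨col8, (List.forall_mem_cons.2 ⟨col9, (List.forall_mem_cons.2 ⟨col10, (List.forall_mem_cons.2 ⟨col11, (List.forall_mem_cons.2 ⟨col12, (List.forall_mem_cons.2 ⟨col13, (List.forall_mem_cons.2 ⟨col14, (List.forall_mem_cons.2 ⟨col15, (List.forall_mem_cons.2 ⟨col16, (List.forall_mem_cons.2 ⟨col17, (List.forall_mem_cons.2 ⟨col18, (List.forall_mem_cons.2 ⟨col19, (List.forall_mem_cons.2 ⟨col20, (List.forall_mem_cons.2 ⟨col21, (List.forall_mem_cons.2 ⟨col22, (List.forall_mem_cons.2 ⟨col23, (fun _ h => absurd h List.not_mem_nil)⟩)⟩)⟩)⟩)⟩)⟩)⟩)⟩)⟩)⟩)⟩)⟩)⟩)⟩)⟩)⟩)⟩)⟩)⟩)⟩)⟩)⟩)⟩)⟩),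 der _ _ hiv hR0⟩
theorem bd {G : Type} [Group G] {e : ℕ → G} (h1 : IvOK e (ivOf ivl)) (h2 : ∀ r ∈ R0, ev e r = 1)
    {m : ℕ} (h : Bd (gen e hcols) m) : Bd (gen e cols) (16 * m) := ok.bd h1 (der G e h1 h2) h
theorem cm {G : Type} [Group G] {e : ℕ → G} (h1 : IvOK e (ivOf ivl)) (h2 : ∀ r ∈ R0, ev e r = 1)
    (h3 : gen e cols = ⊤) {ρ : G →* Equiv.Perm ℕ} (h4 : ∀ c, ρ (e c) = sg (nth Net.nil nl) c) :
    CosetModel ρ (gen e hcols) 16 := ok.cosetModel h1 (der G e h1 h2) h3 fun c _ => h4 c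

end H5.MCT1
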