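import Mathlib
import Cfsg.Agent.H29.Ext

set_option autoImplicit false
set_option maxRecDepth 100000
set_option Elab.async false
set_option linter.all false

namespace H5.MCT2

open H29

noncomputable def n0 : Net := ben 4 [(nat_lit 0x0),
 (nat_lit 0x0),
 (nat_lit 0x0),
 (nat_lit 0x0)]
noncomputable def t0 : List ℕ := [(nat_lit 0x154),
 (nat_lit 0x172),
 (nat_lit 0x14c),
 (nat_lit 0x80)]
noncomputable def d0 : ℕ := (nat_lit 0x0)
noncomputable def n1 : Net := n0.rev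
noncomputable def t1 : List ℕ := mapPull n1 t0
noncomputable def d1 : ℕ := (nat_lit 0x0)
noncomputable def n2 : Net := ben 4 [(nat_lit 0x0),
 (nat_lit 0x0),
 (nat_lit 0x0),
 (nat_lit 0x0)]
noncomputable def t2 : List ℕ := [(nat_lit 0x154),
 (nat_lit 0x132),
 (nat_lit 0x14c),
 (nat_lit 0x80)]
noncomputable def d2 : ℕ := (nat_lit 0x0)
noncomputable def n3 : Net := n2.rev
noncomputable def t3 : List ℕ := mapPull n3 t2
noncomputable def d3 : ℕ := (nat_lit 0x0)
noncomputable def n4 : Net := ben 4 [(nat_lit 0x0),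
 (nat_lit 0x0),
 (nat_lit 0x0),
 (nat_lit 0x0)]
noncomputable def t4 : List ℕ := [(nat_lit 0xaa),
 (nat_lit 0x26),
 (nat_lit 0x1c),
 (nat_lit 0x1c0)]
noncomputable def d4 : ℕ := (nat_lit 0x0)
noncomputable def n5 : Net := n4.rev
noncomputable def t5 : List ℕ := mapPull n5 t4
noncomputable def d5 : ℕ := (nat_lit 0x0)
noncomputable def n6 : Net := ben 4 [(nat_lit 0x3c),
 (nat_lit 0x22),
 (nat_lit 0x1f),
 (nat_lit 0x1)]
noncomputable def t6 : List ℕ := [(nat_lit 0x32),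
 (nat_lit 0x166),
 (nat_lit 0x176),
 (nat_lit 0x80)]
noncomputable def d6 : ℕ := (nat_lit 0x0)
noncomputable def n7 : Net := n6.rev
noncomputable def t7 : List ℕ := mapPull n7 t6
noncomputable def d7 : ℕ := (nat_lit 0x40)
noncomputable def n8 : Net := ben 4 [(nat_lit 0xc0),
 (nat_lit 0x50),
 (nat_lit 0x17),
 (nat_lit 0x1)]
noncomputable def t8 : List ℕ := [(nat_lit 0x64),
 (nat_lit 0x6a),
 (nat_lit 0x5c),
 (nat_lit 0x180)]
noncomputable def d8 : ℕ := (nat_lit 0x0)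
noncomputable def n9 : Net := n8.rev
noncomputable def t9 : List ℕ := mapPull n9 t8
noncomputable def d9 : ℕ := (nat_lit 0x0)
noncomputable def n10 : Net := ben 4 [(nat_lit 0x0),
 (nat_lit 0x0),
 (nat_lit 0x0),
 (nat_lit 0x0)]
noncomputable def t10 : List ℕ := [(nat_lit 0x154),
 (nat_lit 0x172),
 (nat_lit 0x14c),
 (nat_lit 0x80)]
noncomputable def d10 : ℕ := (nat_lit 0x0)
noncomputable def n11 : Net := n10.rev
noncomputable def t11 : List ℕ := mapPull n11 t10
noncomputable def d11 : ℕ := (nat_lit 0x0)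
noncomputable def n12 : Net := ben 4 [(nat_lit 0x0),
 (nat_lit 0x0),
 (nat_lit 0x0),
 (nat_lit 0x0)]
noncomputable def t12 : List ℕ := [(nat_lit 0x154),
 (nat_lit 0x172),
 (nat_lit 0x14c),
 (nat_lit 0x80)]
noncomputable def d12 : ℕ := (nat_lit 0x0)
noncomputable def n13 : Net := n12.rev
noncomputable def t13 : List ℕ := mapPull n13 t12
noncomputable def d13 : ℕ := (nat_lit 0x0)
noncomputable def n14 : Net := ben 4 [(nat_lit 0x0),
 (nat_lit 0x0),
 (nat_lit 0x0),
 (nat_lit 0x0)]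
noncomputable def t14 : List ℕ := [(nat_lit 0x154),
 (nat_lit 0x172),
 (nat_lit 0x14c),
 (nat_lit 0x80)]
noncomputable def d14 : ℕ := (nat_lit 0x0)
noncomputable def n15 : Net := n14.rev
noncomputable def t15 : List ℕ := mapPull n15 t14
noncomputable def d15 : ℕ := (nat_lit 0x0)
noncomputable def n16 : Net := ben 4 [(nat_lit 0x0),
 (nat_lit 0x0),
 (nat_lit 0x0),
 (nat_lit 0x0)]
noncomputable def t16 : List ℕ := [(nat_lit 0xaa),
 (nat_lit 0x26),
 (nat_lit 0x1c),
 (nat_lit 0x1c0)]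
noncomputable def d16 : ℕ := (nat_lit 0x0)
noncomputable def n17 : Net := n16.rev
noncomputable def t17 : List ℕ := mapPull n17 t16
noncomputable def d17 : ℕ := (nat_lit 0x0)
noncomputable def n18 : Net := ben 4 [(nat_lit 0x0),
 (nat_lit 0x0),
 (nat_lit 0x0),
 (nat_lit 0x0)]
noncomputable def t18 : List ℕ := [(nat_lit 0xaa),
 (nat_lit 0x66),
 (nat_lit 0x5c),
 (nat_lit 0x180)]
noncomputable def d18 : ℕ := (nat_lit 0x0)
noncomputable def n19 : Net := n18.rev
noncomputable def t19 : List ℕ := mapPull n19 t18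
noncomputable def d19 : ℕ := (nat_lit 0x0)
noncomputable def n20 : Net := ben 4 [(nat_lit 0x0),
 (nat_lit 0x0),
 (nat_lit 0x0),
 (nat_lit 0x0)]
noncomputable def t20 : List ℕ := [(nat_lit 0xaa),
 (nat_lit 0x22),
 (nat_lit 0x1c),
 (nat_lit 0x1c0)]
noncomputable def d20 : ℕ := (nat_lit 0x0)
noncomputable def n21 : Net := n20.rev
noncomputable def t21 : List ℕ := mapPull n21 t20
noncomputable def d21 : ℕ := (nat_lit 0x0)
noncomputable def n22 : Net := ben 4 [(nat_lit 0x0),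
 (nat_lit 0x0),
 (nat_lit 0x0),
 (nat_lit 0x0)]
noncomputable def t22 : List ℕ := [(nat_lit 0xea),
 (nat_lit 0x66),
 (nat_lit 0x5c),
 (nat_lit 0x180)]
noncomputable def d22 : ℕ := (nat_lit 0x0)
noncomputable def n23 : Net := n22.rev
noncomputable def t23 : List ℕ := mapPull n23 t22
noncomputable def d23 : ℕ := (nat_lit 0x0)
noncomputable def n24 : Net := ben 4 [(nat_lit 0x0),
 (nat_lit 0x0),
 (nat_lit 0x0),
 (nat_lit 0x0)]
noncomputable def t24 : List ℕ := [(nat_lit 0x156),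
 (nat_lit 0x170),
 (nat_lit 0x14c),
 (nat_lit 0x80)]
noncomputable def d24 : ℕ := (nat_lit 0x0)
noncomputable def n25 : Net := n24.rev
noncomputable def t25 : List ℕ := mapPull n25 t24
noncomputable def d25 : ℕ := (nat_lit 0x0)
noncomputable def n26 : Net := ben 4 [(nat_lit 0x0),
 (nat_lit 0x0),
 (nat_lit 0x0),
 (nat_lit 0x0)]
noncomputable def t26 : List ℕ := [(nat_lit 0x154),
 (nat_lit 0x176),
 (nat_lit 0x148),
 (nat_lit 0x80)]
noncomputable def d26 : ℕ := (nat_lit 0x0)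
noncomputable def n27 : Net := n26.rev
noncomputable def t27 : List ℕ := mapPull n27 t26
noncomputable def d27 : ℕ := (nat_lit 0x0)
noncomputable def n28 : Net := ben 4 [(nat_lit 0x0),
 (nat_lit 0x0),
 (nat_lit 0x0),
 (nat_lit 0x0)]
noncomputable def t28 : List ℕ := [(nat_lit 0x154),
 (nat_lit 0x8c),
 (nat_lit 0x3e),
 (nat_lit 0x1c0)]
noncomputable def d28 : ℕ := (nat_lit 0x0)
noncomputable def n29 : Net := n28.rev
noncomputable def t29 : List ℕ := mapPull n29 t28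
noncomputable def d29 : ℕ := (nat_lit 0x0)
noncomputable def n30 : Net := ben 4 [(nat_lit 0xf3),
 (nat_lit 0x10),
 (nat_lit 0x8),
 (nat_lit 0x1)]
noncomputable def t30 : List ℕ := [(nat_lit 0x198),
 (nat_lit 0x1c),
 (nat_lit 0x1c),
 (nat_lit 0x1e2)]
noncomputable def d30 : ℕ := (nat_lit 0x0)
noncomputable def n31 : Net := n30.rev
noncomputable def t31 : List ℕ := mapPull n31 t30
noncomputable def d31 : ℕ := (nat_lit 0x0)
noncomputable def n32 : Net := ben 4 [(nat_lit 0x15),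
 (nat_lit 0x50),
 (nat_lit 0x11),
 (nat_lit 0x1)]
noncomputable def t32 : List ℕ := [(nat_lit 0x82),
 (nat_lit 0x8),
 (nat_lit 0x28),
 (nat_lit 0x180)]
noncomputable def d32 : ℕ := (nat_lit 0x0)
noncomputable def n33 : Net := n32.rev
noncomputable def t33 : List ℕ := mapPull n33 t32
noncomputable def d33 : ℕ := (nat_lit 0x12a)
noncomputable def n34 : Net := ben 4 [(nat_lit 0x55),
 (nat_lit 0xa3),
 (nat_lit 0x9),
 (nat_lit 0x0)]
noncomputable def t34 : List ℕ := [(nat_lit 0x70),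
 (nat_lit 0x1),
 (nat_lit 0x14),
 (nat_lit 0x140)]
noncomputable def d34 : ℕ := (nat_lit 0x80)
noncomputable def n35 : Net := n34.rev
noncomputable def t35 : List ℕ := mapPull n35 t34
noncomputable def d35 : ℕ := (nat_lit 0x14)
def ivl : List ℕ := [1, 0, 3, 2, 5, 4, 7, 6, 9, 8, 11, 10, 13, 12, 15, 14, 17, 16, 19, 18, 21, 20, 23, 22, 25, 24, 27, 26, 29, 28, 31, 30, 33, 32, 35, 34, 37, 36]
def cols : List ℕ := [0, 1, 2, 3, 4, 5, 6, 7, 8, 9, 10, 11, 12, 13, 14, 15, 16, 17, 18, 19, 20, 21, 22, 23, 24, 25, 26, 27, 28, 29, 30, 31, 32, 33, 34, 35]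
def hcols : List ℕ := [0, 1, 2, 3, 4, 5, 6, 7, 8, 9, 10, 11, 12, 13, 14, 15, 16, 17, 18, 19, 20, 21, 22, 23, 24, 25, 26, 27, 28, 29, 30, 31]
def G0 : List (List ℕ) := [[26, 14, 21, 5, 1],
 [24, 8, 27, 9],
 [28, 17, 5],
 [30, 9, 7],
 [8, 8],
 [6, 6, 23],
 [4, 14, 27, 1],
 [16, 27, 25, 3],
 [18, 3, 3],
 [20, 27, 27],
 [22, 11, 27, 25, 3],
 [8, 0, 9, 1],
 [8, 2, 9, 3],
 [8, 24, 9, 27],
 [8, 26, 9, 25],
 [8, 10, 9, 11],
 [8, 12, 9, 15],
 [8, 14, 9, 13],
 [6, 0, 7, 11, 27, 25, 3, 1],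
 [6, 2, 7, 3],
 [6, 24, 7, 13, 1],
 [6, 26, 7, 14, 1],
 [6, 10, 7, 26, 25],
 [6, 12, 7, 10, 26, 3, 1],
 [6, 14, 7, 11, 25, 3, 1],
 [8, 6, 9, 23, 7],
 [32, 0, 33, 13, 3, 27, 25, 1],
 [32, 2, 33, 10, 1],
 [32, 24, 33, 25],
 [32, 26, 33, 15, 1],
 [32, 10, 33, 13, 27, 25, 1],
 [32, 12, 33, 2, 27],
 [32, 14, 33, 12, 2, 25, 1],
 [34, 0, 35, 15, 25, 3, 27, 1],
 [34, 2, 35, 11, 1],
 [34, 24, 35, 12, 1],
 [34, 26, 35, 27],
 [34, 10, 35, 14, 24, 27, 1],
 [34, 12, 35, 15, 3, 27, 1],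
 [34, 14, 35, 24, 3],
 [32, 32, 13, 17],
 [34, 34, 15, 17],
 [8, 32, 9, 34],
 [6, 32, 6, 32, 6, 32],
 [34, 6, 34, 6, 34, 6],
 [32, 34, 32, 34, 32, 34],
 [6, 32, 34, 6, 32, 34, 12, 27, 3, 1]]
def R0 : List (List ℕ) := G0
theorem hii : ∀ c, ivOf ivl (ivOf ivl c) = c := ivOf_ivOf (by decide +kernel)
theorem der : Derives (ivOf ivl) R0 R0 := Derives.refl _ _
noncomputable def nl : List Net := [n0, n1, n2, n3, n4, n5, n6, n7, n8, n9, n10, n11, n12, n13, n14, n15, n16, n17, n18, n19, n20, n21, n22, n23, n24, n25, n26, n27, n28, n29, n30, n31, n32, n33, n34, n35]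
noncomputable def T : TCData := ⟨9, 9, 4, 4, nth Net.nil nl, ivOf ivl, cols, hcols, R0,
  nth [] [t0, t1, t2, t3, t4, t5, t6, t7, t8, t9, t10, t11, t12, t13, t14, t15, t16, t17, t18, t19, t20, t21, t22, t23, t24, t25, t26, t27, t28, t29, t30, t31, t32, t33, t34, t35], nth 0 [d0, d1, d2, d3, d4, d5, d6, d7, d8, d9, d10, d11, d12, d13, d14, d15, d16, d17, d18, d19, d20, d21, d22, d23, d24, d25, d26, d27, d28, d29, d30, d31, d32, d33, d34, d35]⟩
theorem hn : NetsOK 9 (nth Net.nil nl) := netsOK_of_all (by decide +kernel)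
theorem hiv : IvOK (sg (nth Net.nil nl)) (ivOf ivl) :=
  ivOK_of_chk (k := 4) hn (by decide) (n := 38) (by decide) (by decide) (allN_true.1 (by decide +kernel))
theorem hb : T.Basic := TCData.basic_of_chk hn hiv (by decide +kernel)
theorem hG0 : ∀ r ∈ G0, ev (sg (nth Net.nil nl)) r = 1 :=
  rels_of_chk (k := 4) hn (by decide) hiv (allN_true.1 (by decide +kernel))
noncomputable def s0 : List TCData.Step := []
noncomputable def s1 : List TCData.Step := [.pts 18 1 0 7 [6, 8],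
 .pts 26 1 0 2 [1],
 .pts 26 1 0 3 [4],
 .all 33 1 0]
noncomputable def s2 : List TCData.Step := [.pts 19 3 0 5 [6],
 .pts 19 3 0 8 [7]]
noncomputable def s3 : List TCData.Step := [.pts 19 1 0 7 [8],
 .pts 27 1 0 2 [1],
 .pts 27 1 0 3 [4],
 .pts 34 1 0 2 [5],
 .pts 34 1 0 4 [3],
 .pts 34 1 0 5 [2]]
noncomputable def s4 : List TCData.Step := [.pts 0 3 0 6 [2]]
noncomputable def s5 : List TCData.Step := [.all 6 0 0]
noncomputable def s6 : List TCData.Step := []
noncomputable def s7 : List TCData.Step := [.pts 5 0 0 6 [3],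
 .pts 5 0 0 8 [1],
 .pts 5 1 0 7 [8],
 .pts 25 1 0 6 [4],
 .pts 43 0 0 6 [5],
 .pts 46 3 0 5 [2],
 .pts 46 3 0 7 [7]]
noncomputable def s8 : List TCData.Step := [.pts 42 2 0 4 [4]]
noncomputable def s9 : List TCData.Step := [.all 4 0 0,
 .pts 25 0 0 7 [6],
 .pts 25 0 0 8 [7, 8],
 .pts 42 0 0 2 [5],
 .pts 42 0 0 6 [3]]
noncomputable def s10 : List TCData.Step := []
noncomputable def s11 : List TCData.Step := [.pts 22 1 0 7 [6, 8],
 .pts 30 1 0 2 [1],
 .pts 30 1 0 3 [4],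
 .all 37 1 0]
noncomputable def s12 : List TCData.Step := []
noncomputable def s13 : List TCData.Step := [.pts 23 1 0 7 [6, 8],
 .pts 31 1 0 2 [1],
 .pts 31 1 0 3 [4],
 .all 38 1 0]
noncomputable def s14 : List TCData.Step := []
noncomputable def s15 : List TCData.Step := [.pts 24 1 0 7 [6, 8],
 .pts 32 1 0 2 [1],
 .pts 32 1 0 3 [4],
 .all 39 1 0]
noncomputable def s16 : List TCData.Step := [.pts 40 3 0 3 [1],
 .pts 41 3 0 3 [5],
 .pts 41 3 0 6 [2]]
noncomputable def s17 : List TCData.Step := [.all 7 0 0]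
noncomputable def s18 : List TCData.Step := []
noncomputable def s19 : List TCData.Step := [.all 8 0 0]
noncomputable def s20 : List TCData.Step := []
noncomputable def s21 : List TCData.Step := [.all 9 0 0]
noncomputable def s22 : List TCData.Step := [.pts 5 2 0 7 [6],
 .pts 25 3 0 9 [7]]
noncomputable def s23 : List TCData.Step := [.all 10 0 0]
noncomputable def s24 : List TCData.Step := [.pts 28 3 0 1 [1]]
noncomputable def s25 : List TCData.Step := [.pts 20 1 0 7 [6, 8],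
 .pts 28 1 0 3 [4],
 .all 35 1 0]
noncomputable def s26 : List TCData.Step := [.pts 36 3 0 3 [2]]
noncomputable def s27 : List TCData.Step := [.pts 21 1 0 7 [6, 8],
 .pts 29 1 0 2 [1],
 .pts 29 1 0 3 [4],
 .all 36 1 0]
noncomputable def s28 : List TCData.Step := []
noncomputable def s29 : List TCData.Step := [.all 2 0 0]
noncomputable def s30 : List TCData.Step := []
noncomputable def s31 : List TCData.Step := [.all 3 0 0]
noncomputable def s32 : List TCData.Step := []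
noncomputable def s33 : List TCData.Step := [.pts 40 0 0 1 [0],
 .pts 40 1 0 4 [4],
 .pts 43 1 0 8 [6],
 .pts 43 1 0 9 [7],
 .pts 45 0 0 6 [2]]
noncomputable def s34 : List TCData.Step := []
noncomputable def s35 : List TCData.Step := [.pts 41 0 0 4 [1],
 .pts 41 1 0 2 [5],
 .pts 41 1 0 5 [3],
 .pts 42 3 0 9 [7],
 .pts 44 0 0 8 [8],
 .pts 45 1 0 1 [0]]
theorem hR0 : ∀ r ∈ R0, ev (sg (nth Net.nil nl)) r = 1 := hG0
theorem col0 : T.ColOK 0 := TCData.colOK_of_chk (U := (T.stepsMask 0 s0 (T.mask0 0))) (V := (T.stepsMask 1 s1 (T.mask0 1))) hb (TCData.cov_stepsMask hb (by decide) s0 _ (T.cov_mask0 0)) (TCData.cov_stepsMask hb (by decide) s1 _ (T.cov_mask0 1)) (by decide +kernel)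
theorem col1 : T.ColOK 1 := TCData.colOK_of_chk (U := (T.stepsMask 1 s1 (T.mask0 1))) (V := (T.stepsMask 0 s0 (T.mask0 0))) hb (TCData.cov_stepsMask hb (by decide) s1 _ (T.cov_mask0 1)) (TCData.cov_stepsMask hb (by decide) s0 _ (T.cov_mask0 0)) (by decide +kernel)
theorem col2 : T.ColOK 2 := TCData.colOK_of_chk (U := (T.stepsMask 2 s2 (T.mask0 2))) (V := (T.stepsMask 3 s3 (T.mask0 3))) hb (TCData.cov_stepsMask hb (by decide) s2 _ (T.cov_mask0 2)) (TCData.cov_stepsMask hb (by decide) s3 _ (T.cov_mask0 3)) (by decide +kernel)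
theorem col3 : T.ColOK 3 := TCData.colOK_of_chk (U := (T.stepsMask 3 s3 (T.mask0 3))) (V := (T.stepsMask 2 s2 (T.mask0 2))) hb (TCData.cov_stepsMask hb (by decide) s3 _ (T.cov_mask0 3)) (TCData.cov_stepsMask hb (by decide) s2 _ (T.cov_mask0 2)) (by decide +kernel)
theorem col4 : T.ColOK 4 := TCData.colOK_of_chk (U := (T.stepsMask 4 s4 (T.mask0 4))) (V := (T.stepsMask 5 s5 (T.mask0 5))) hb (TCData.cov_stepsMask hb (by decide) s4 _ (T.cov_mask0 4)) (TCData.cov_stepsMask hb (by decide) s5 _ (T.cov_mask0 5)) (by decide +kernel)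
theorem col5 : T.ColOK 5 := TCData.colOK_of_chk (U := (T.stepsMask 5 s5 (T.mask0 5))) (V := (T.stepsMask 4 s4 (T.mask0 4))) hb (TCData.cov_stepsMask hb (by decide) s5 _ (T.cov_mask0 5)) (TCData.cov_stepsMask hb (by decide) s4 _ (T.cov_mask0 4)) (by decide +kernel)
theorem col6 : T.ColOK 6 := TCData.colOK_of_chk (U := (T.stepsMask 6 s6 (T.mask0 6))) (V := (T.stepsMask 7 s7 (T.mask0 7))) hb (TCData.cov_stepsMask hb (by decide) s6 _ (T.cov_mask0 6)) (TCData.cov_stepsMask hb (by decide) s7 _ (T.cov_mask0 7)) (by decide +kernel)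
theorem col7 : T.ColOK 7 := TCData.colOK_of_chk (U := (T.stepsMask 7 s7 (T.mask0 7))) (V := (T.stepsMask 6 s6 (T.mask0 6))) hb (TCData.cov_stepsMask hb (by decide) s7 _ (T.cov_mask0 7)) (TCData.cov_stepsMask hb (by decide) s6 _ (T.cov_mask0 6)) (by decide +kernel)
theorem col8 : T.ColOK 8 := TCData.colOK_of_chk (U := (T.stepsMask 8 s8 (T.mask0 8))) (V := (T.stepsMask 9 s9 (T.mask0 9))) hb (TCData.cov_stepsMask hb (by decide) s8 _ (T.cov_mask0 8)) (TCData.cov_stepsMask hb (by decide) s9 _ (T.cov_mask0 9)) (by decide +kernel)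
theorem col9 : T.ColOK 9 := TCData.colOK_of_chk (U := (T.stepsMask 9 s9 (T.mask0 9))) (V := (T.stepsMask 8 s8 (T.mask0 8))) hb (TCData.cov_stepsMask hb (by decide) s9 _ (T.cov_mask0 9)) (TCData.cov_stepsMask hb (by decide) s8 _ (T.cov_mask0 8)) (by decide +kernel)
theorem col10 : T.ColOK 10 := TCData.colOK_of_chk (U := (T.stepsMask 10 s10 (T.mask0 10))) (V := (T.stepsMask 11 s11 (T.mask0 11))) hb (TCData.cov_stepsMask hb (by decide) s10 _ (T.cov_mask0 10)) (TCData.cov_stepsMask hb (by decide) s11 _ (T.cov_mask0 11)) (by decide +kernel)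
theorem col11 : T.ColOK 11 := TCData.colOK_of_chk (U := (T.stepsMask 11 s11 (T.mask0 11))) (V := (T.stepsMask 10 s10 (T.mask0 10))) hb (TCData.cov_stepsMask hb (by decide) s11 _ (T.cov_mask0 11)) (TCData.cov_stepsMask hb (by decide) s10 _ (T.cov_mask0 10)) (by decide +kernel)
theorem col12 : T.ColOK 12 := TCData.colOK_of_chk (U := (T.stepsMask 12 s12 (T.mask0 12))) (V := (T.stepsMask 13 s13 (T.mask0 13))) hb (TCData.cov_stepsMask hb (by decide) s12 _ (T.cov_mask0 12)) (TCData.cov_stepsMask hb (by decide) s13 _ (T.cov_mask0 13)) (by decide +kernel)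
theorem col13 : T.ColOK 13 := TCData.colOK_of_chk (U := (T.stepsMask 13 s13 (T.mask0 13))) (V := (T.stepsMask 12 s12 (T.mask0 12))) hb (TCData.cov_stepsMask hb (by decide) s13 _ (T.cov_mask0 13)) (TCData.cov_stepsMask hb (by decide) s12 _ (T.cov_mask0 12)) (by decide +kernel)
theorem col14 : T.ColOK 14 := TCData.colOK_of_chk (U := (T.stepsMask 14 s14 (T.mask0 14))) (V := (T.stepsMask 15 s15 (T.mask0 15))) hb (TCData.cov_stepsMask hb (by decide) s14 _ (T.cov_mask0 14)) (TCData.cov_stepsMask hb (by decide) s15 _ (T.cov_mask0 15)) (by decide +kernel)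
theorem col15 : T.ColOK 15 := TCData.colOK_of_chk (U := (T.stepsMask 15 s15 (T.mask0 15))) (V := (T.stepsMask 14 s14 (T.mask0 14))) hb (TCData.cov_stepsMask hb (by decide) s15 _ (T.cov_mask0 15)) (TCData.cov_stepsMask hb (by decide) s14 _ (T.cov_mask0 14)) (by decide +kernel)
theorem col16 : T.ColOK 16 := TCData.colOK_of_chk (U := (T.stepsMask 16 s16 (T.mask0 16))) (V := (T.stepsMask 17 s17 (T.mask0 17))) hb (TCData.cov_stepsMask hb (by decide) s16 _ (T.cov_mask0 16)) (TCData.cov_stepsMask hb (by decide) s17 _ (T.cov_mask0 17)) (by decide +kernel)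
theorem col17 : T.ColOK 17 := TCData.colOK_of_chk (U := (T.stepsMask 17 s17 (T.mask0 17))) (V := (T.stepsMask 16 s16 (T.mask0 16))) hb (TCData.cov_stepsMask hb (by decide) s17 _ (T.cov_mask0 17)) (TCData.cov_stepsMask hb (by decide) s16 _ (T.cov_mask0 16)) (by decide +kernel)
theorem col18 : T.ColOK 18 := TCData.colOK_of_chk (U := (T.stepsMask 18 s18 (T.mask0 18))) (V := (T.stepsMask 19 s19 (T.mask0 19))) hb (TCData.cov_stepsMask hb (by decide) s18 _ (T.cov_mask0 18)) (TCData.cov_stepsMask hb (by decide) s19 _ (T.cov_mask0 19)) (by decide +kernel)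
theorem col19 : T.ColOK 19 := TCData.colOK_of_chk (U := (T.stepsMask 19 s19 (T.mask0 19))) (V := (T.stepsMask 18 s18 (T.mask0 18))) hb (TCData.cov_stepsMask hb (by decide) s19 _ (T.cov_mask0 19)) (TCData.cov_stepsMask hb (by decide) s18 _ (T.cov_mask0 18)) (by decide +kernel)
theorem col20 : T.ColOK 20 := TCData.colOK_of_chk (U := (T.stepsMask 20 s20 (T.mask0 20))) (V := (T.stepsMask 21 s21 (T.mask0 21))) hb (TCData.cov_stepsMask hb (by decide) s20 _ (T.cov_mask0 20)) (TCData.cov_stepsMask hb (by decide) s21 _ (T.cov_mask0 21)) (by decide +kernel)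
theorem col21 : T.ColOK 21 := TCData.colOK_of_chk (U := (T.stepsMask 21 s21 (T.mask0 21))) (V := (T.stepsMask 20 s20 (T.mask0 20))) hb (TCData.cov_stepsMask hb (by decide) s21 _ (T.cov_mask0 21)) (TCData.cov_stepsMask hb (by decide) s20 _ (T.cov_mask0 20)) (by decide +kernel)
theorem col22 : T.ColOK 22 := TCData.colOK_of_chk (U := (T.stepsMask 22 s22 (T.mask0 22))) (V := (T.stepsMask 23 s23 (T.mask0 23))) hb (TCData.cov_stepsMask hb (by decide) s22 _ (T.cov_mask0 22)) (TCData.cov_stepsMask hb (by decide) s23 _ (T.cov_mask0 23)) (by decide +kernel)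
theorem col23 : T.ColOK 23 := TCData.colOK_of_chk (U := (T.stepsMask 23 s23 (T.mask0 23))) (V := (T.stepsMask 22 s22 (T.mask0 22))) hb (TCData.cov_stepsMask hb (by decide) s23 _ (T.cov_mask0 23)) (TCData.cov_stepsMask hb (by decide) s22 _ (T.cov_mask0 22)) (by decide +kernel)
theorem col24 : T.ColOK 24 := TCData.colOK_of_chk (U := (T.stepsMask 24 s24 (T.mask0 24))) (V := (T.stepsMask 25 s25 (T.mask0 25))) hb (TCData.cov_stepsMask hb (by decide) s24 _ (T.cov_mask0 24)) (TCData.cov_stepsMask hb (by decide) s25 _ (T.cov_mask0 25)) (by decide +kernel)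
theorem col25 : T.ColOK 25 := TCData.colOK_of_chk (U := (T.stepsMask 25 s25 (T.mask0 25))) (V := (T.stepsMask 24 s24 (T.mask0 24))) hb (TCData.cov_stepsMask hb (by decide) s25 _ (T.cov_mask0 25)) (TCData.cov_stepsMask hb (by decide) s24 _ (T.cov_mask0 24)) (by decide +kernel)
theorem col26 : T.ColOK 26 := TCData.colOK_of_chk (U := (T.stepsMask 26 s26 (T.mask0 26))) (V := (T.stepsMask 27 s27 (T.mask0 27))) hb (TCData.cov_stepsMask hb (by decide) s26 _ (T.cov_mask0 26)) (TCData.cov_stepsMask hb (by decide) s27 _ (T.cov_mask0 27)) (by decide +kernel)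
theorem col27 : T.ColOK 27 := TCData.colOK_of_chk (U := (T.stepsMask 27 s27 (T.mask0 27))) (V := (T.stepsMask 26 s26 (T.mask0 26))) hb (TCData.cov_stepsMask hb (by decide) s27 _ (T.cov_mask0 27)) (TCData.cov_stepsMask hb (by decide) s26 _ (T.cov_mask0 26)) (by decide +kernel)
theorem col28 : T.ColOK 28 := TCData.colOK_of_chk (U := (T.stepsMask 28 s28 (T.mask0 28))) (V := (T.stepsMask 29 s29 (T.mask0 29))) hb (TCData.cov_stepsMask hb (by decide) s28 _ (T.cov_mask0 28)) (TCData.cov_stepsMask hb (by decide) s29 _ (T.cov_mask0 29)) (by decide +kernel)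
theorem col29 : T.ColOK 29 := TCData.colOK_of_chk (U := (T.stepsMask 29 s29 (T.mask0 29))) (V := (T.stepsMask 28 s28 (T.mask0 28))) hb (TCData.cov_stepsMask hb (by decide) s29 _ (T.cov_mask0 29)) (TCData.cov_stepsMask hb (by decide) s28 _ (T.cov_mask0 28)) (by decide +kernel)
theorem col30 : T.ColOK 30 := TCData.colOK_of_chk (U := (T.stepsMask 30 s30 (T.mask0 30))) (V := (T.stepsMask 31 s31 (T.mask0 31))) hb (TCData.cov_stepsMask hb (by decide) s30 _ (T.cov_mask0 30)) (TCData.cov_stepsMask hb (by decide) s31 _ (T.cov_mask0 31)) (by decide +kernel)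
theorem col31 : T.ColOK 31 := TCData.colOK_of_chk (U := (T.stepsMask 31 s31 (T.mask0 31))) (V := (T.stepsMask 30 s30 (T.mask0 30))) hb (TCData.cov_stepsMask hb (by decide) s31 _ (T.cov_mask0 31)) (TCData.cov_stepsMask hb (by decide) s30 _ (T.cov_mask0 30)) (by decide +kernel)
theorem col32 : T.ColOK 32 := TCData.colOK_of_chk (U := (T.stepsMask 32 s32 (T.mask0 32))) (V := (T.stepsMask 33 s33 (T.mask0 33))) hb (TCData.cov_stepsMask hb (by decide) s32 _ (T.cov_mask0 32)) (TCData.cov_stepsMask hb (by decide) s33 _ (T.cov_mask0 33)) (by decide +kernel)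
theorem col33 : T.ColOK 33 := TCData.colOK_of_chk (U := (T.stepsMask 33 s33 (T.mask0 33))) (V := (T.stepsMask 32 s32 (T.mask0 32))) hb (TCData.cov_stepsMask hb (by decide) s33 _ (T.cov_mask0 33)) (TCData.cov_stepsMask hb (by decide) s32 _ (T.cov_mask0 32)) (by decide +kernel)
theorem col34 : T.ColOK 34 := TCData.colOK_of_chk (U := (T.stepsMask 34 s34 (T.mask0 34))) (V := (T.stepsMask 35 s35 (T.mask0 35))) hb (TCData.cov_stepsMask hb (by decide) s34 _ (T.cov_mask0 34)) (TCData.cov_stepsMask hb (by decide) s35 _ (T.cov_mask0 35)) (by decide +kernel)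
theorem col35 : T.ColOK 35 := TCData.colOK_of_chk (U := (T.stepsMask 35 s35 (T.mask0 35))) (V := (T.stepsMask 34 s34 (T.mask0 34))) hb (TCData.cov_stepsMask hb (by decide) s35 _ (T.cov_mask0 35)) (TCData.cov_stepsMask hb (by decide) s34 _ (T.cov_mask0 34)) (by decide +kernel)
theorem ok : T.OK := ⟨hb, TCData.treeOK_of_chk hn (by decide +kernel), (List.forall_mem_cons.2 ⟨col0, (List.forall_mem_cons.2 ⟨col1, (List.forall_mem_cons.2 ⟨col2, (List.forall_mem_cons.2 ⟨col3, (List.forall_mem_cons.2 ⟨col4, (List.forall_mem_cons.2 ⟨col5, (List.forall_mem_cons.2 ⟨col6, (List.forall_mem_cons.2 ⟨col7, (List.forall_mem_cons.2 ⟨col8, (List.forall_mem_cons.2 ⟨col9, (List.forall_mem_cons.2 ⟨col10, (List.forall_mem_cons.2 ⟨col11, (List.forall_mem_cons.2 ⟨col12, (List.forall_mem_cons.2 ⟨col13, (List.forall_mem_cons.2 ⟨col14, (List.forall_mem_cons.2 ⟨col15, (List.forall_mem_cons.2 ⟨col16, (List.forall_mem_cons.2 ⟨col17, (List.forall_mem_cons.2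 ⟨col18, (List.forall_mem_cons.2 ⟨col19, (List.forall_mem_cons.2 ⟨col20, (List.forall_mem_cons.2 ⟨col21, (List.forall_mem_cons.2 ⟨col22, (List.forall_mem_cons.2 ⟨col23, (List.forall_mem_cons.2 ⟨col24, (List.forall_mem_cons.2 ⟨col25, (List.forall_mem_cons.2 ⟨col26, (List.forall_mem_cons.2 ⟨col27, (List.forall_mem_cons.2 ⟨col28, (List.forall_mem_cons.2 ⟨col29, (List.forall_mem_cons.2 ⟨col30, (List.forall_mem_cons.2 ⟨col31, (List.forall_mem_cons.2 ⟨col32, (List.forall_mem_cons.2 ⟨col33, (List.forall_mem_cons.2 ⟨col34, (List.forall_mem_cons.2 ⟨col35, (fun _ h => absurd h List.not_mem_nil)⟩)⟩)⟩)⟩)⟩)⟩)⟩)⟩)⟩)⟩)⟩)⟩)⟩)⟩)⟩)⟩)⟩)⟩)⟩)⟩)⟩)⟩)⟩)⟩)⟩)⟩)⟩)⟩)⟩)⟩)⟩)⟩)⟩)⟩)⟩)⟩), der _ _ hiv hR0⟩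
theorem bd {G : Type} [Group G] {e : ℕ → G} (h1 : IvOK e (ivOf ivl)) (h2 : ∀ r ∈ R0, ev e r = 1)
    {m : ℕ} (h : Bd (gen e hcols) m) : Bd (gen e cols) (9 * m) := ok.bd h1 (der G e h1 h2) h
theorem cm {G : Type} [Group G] {e : ℕ → G} (h1 : IvOK e (ivOf ivl)) (h2 : ∀ r ∈ R0, ev e r = 1)
    (h3 : gen e cols = ⊤) {ρ : G →* Equiv.Perm ℕ} (h4 : ∀ c, ρ (e c) = sg (nth Net.nil nl) c) :
    CosetModel ρ (gen e hcols) 9 := ok.cosetModel h1 (der G e h1 h2) h3 fun c _ => h4 c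

end H5.MCT2
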