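import Mathlib
import Cfsg.Agent.H29.Ext

set_option autoImplicit false
set_option maxRecDepth 100000
set_option Elab.async false
set_option linter.all false

namespace H5.MCTP

open H29

noncomputable def n8 : Net := ben 6 [(nat_lit 0xa5551a46a9965555),
 (nat_lit 0xf0ff60060660000),
 (nat_lit 0xde215a21cc960000),
 (nat_lit 0x10200330cfc0000),
 (nat_lit 0x2020382000001400),
 (nat_lit 0x1c23fc00)]
noncomputable def t8 : List ℕ := [(nat_lit 0x684ba5b535964805),
 (nat_lit 0x23070081159504f0),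
 (nat_lit 0x200084a0fe9d0700),
 (nat_lit 0xd4f87a500062f800)]
noncomputable def d8 : ℕ := (nat_lit 0x80000000a)
noncomputable def n9 : Net := n8.rev
noncomputable def t9 : List ℕ := mapPull n9 t8
noncomputable def d9 : ℕ := (nat_lit 0x10000000000)
noncomputable def n10 : Net := ben 6 [(nat_lit 0xc555e98d55a95554),
 (nat_lit 0xc0f847314d350fc3),
 (nat_lit 0x8977c9059b800b03),
 (nat_lit 0xe89b1391aba0020),
 (nat_lit 0x6f246fbc0000ac23),
 (nat_lit 0x61940e30)]
noncomputable def t10 : List ℕ := [(nat_lit 0x8d2c47251ad91aa9),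
 (nat_lit 0xc5055829cc55311),
 (nat_lit 0xe24f2306960703),
 (nat_lit 0xe30c005c40000800)]
noncomputable def d10 : ℕ := (nat_lit 0x1a00001000004)
noncomputable def n11 : Net := n10.rev
noncomputable def t11 : List ℕ := mapPull n11 t10
noncomputable def d11 : ℕ := (nat_lit 0x8002008000e00000)
noncomputable def n12 : Net := ben 6 [(nat_lit 0xd4a5987751e8c31c),
 (nat_lit 0x522cb9258c489103),
 (nat_lit 0x6e601d9802141c0f),
 (nat_lit 0x989dee301cf80063),
 (nat_lit 0x818c819000007821),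
 (nat_lit 0x8621619f)]
noncomputable def t12 : List ℕ := [(nat_lit 0xc29848eef066500b),
 (nat_lit 0x8c40c0e541f1102d),
 (nat_lit 0x88b0c0451376000d),
 (nat_lit 0x430f29080888c090)]
noncomputable def d12 : ℕ := (nat_lit 0x3000041004002100)
noncomputable def n13 : Net := n12.rev
noncomputable def t13 : List ℕ := mapPull n13 t12
noncomputable def d13 : ℕ := (nat_lit 0x4000400000181200)
noncomputable def n14 : Net := ben 6 [(nat_lit 0x47b476dfe3e84881),
 (nat_lit 0xfe27438e52e33711),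
 (nat_lit 0x3cfd8bc80d04ee0c),
 (nat_lit 0x81ce0ecd03990066),
 (nat_lit 0x222d02a000005e15),
 (nat_lit 0x2c31068e)]
noncomputable def t14 : List ℕ := [(nat_lit 0xaa4d5d0323ea52c0),
 (nat_lit 0x69e70cb61c209b83),
 (nat_lit 0x2857bc872f089502),
 (nat_lit 0xd7a84108d096604c)]
noncomputable def d14 : ℕ := (nat_lit 0x24000000000)
noncomputable def n15 : Net := n14.rev
noncomputable def t15 : List ℕ := mapPull n15 t14
noncomputable def d15 : ℕ := (nat_lit 0x2040800)
noncomputable def n16 : Net := ben 6 [(nat_lit 0x55d4da46a9565511),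
 (nat_lit 0x71646927b0f6000),
 (nat_lit 0x338dcc121e440c0f),
 (nat_lit 0x1c022d48480000),
 (nat_lit 0x2003eff00004b00),
 (nat_lit 0x2000100)]
noncomputable def t16 : List ℕ := [(nat_lit 0x35501f56a9016d95),
 (nat_lit 0x1860000fc0000),
 (nat_lit 0x2062000fc6000),
 (nat_lit 0xf000000000000000)]
noncomputable def d16 : ℕ := (nat_lit 0xaac000150028060)
noncomputable def n17 : Net := n16.rev
noncomputable def t17 : List ℕ := mapPull n17 t16
noncomputable def d17 : ℕ := (nat_lit 0x5500800a0010090)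
noncomputable def n18 : Net := ben 6 [(nat_lit 0xbe819be9508fd84),
 (nat_lit 0x5f06f9ceb606a091),
 (nat_lit 0xbc8f0f2d4fea260f),
 (nat_lit 0x546f848603da003d),
 (nat_lit 0xd0b7f00000dfff),
 (nat_lit 0xe463a593)]
noncomputable def t18 : List ℕ := [(nat_lit 0x72e61888ee07c75b),
 (nat_lit 0x57ae0b504dc7973),
 (nat_lit 0xcf128b116b62d09),
 (nat_lit 0xf30c454cc1011204)]
noncomputable def d18 : ℕ := (nat_lit 0x200000000)
noncomputable def n19 : Net := n18.rev
noncomputable def t19 : List ℕ := mapPull n19 t18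
noncomputable def d19 : ℕ := (nat_lit 0x100008000000)
noncomputable def n20 : Net := ben 6 [(nat_lit 0xcc033c0c00d4c0fc),
 (nat_lit 0x9139cc3634339393),
 (nat_lit 0xf0a55a660f0f8d0f),
 (nat_lit 0x8115ae6f04c7007d),
 (nat_lit 0x1b02b18000001144),
 (nat_lit 0x3ac00186)]
noncomputable def t20 : List ℕ := [(nat_lit 0x1492a43bfc159967),
 (nat_lit 0x6fadb1d29b901196),
 (nat_lit 0x3c21b4029d343bd6),
 (nat_lit 0xc3de4b89428bc009)]
noncomputable def d20 : ℕ := (nat_lit 0x400000400)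
noncomputable def n21 : Net := n20.rev
noncomputable def t21 : List ℕ := mapPull n21 t20
noncomputable def d21 : ℕ := (nat_lit 0x2000000000)
noncomputable def n22 : Net := ben 6 [(nat_lit 0xf2308f13c0ff0054),
 (nat_lit 0x3036d91c93336333),
 (nat_lit 0xd999f062a5e40f0f),
 (nat_lit 0x653aaa948e200c3),
 (nat_lit 0x3000e4170000e803),
 (nat_lit 0x36a80bc0)]
noncomputable def t22 : List ℕ := [(nat_lit 0x328298da7526e153),
 (nat_lit 0xc17f12a7967ca9bd),
 (nat_lit 0xca20a230e77b142),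
 (nat_lit 0xf34c655c40800a00)]
noncomputable def d22 : ℕ := (nat_lit 0x0)
noncomputable def n23 : Net := n22.rev
noncomputable def t23 : List ℕ := mapPull n23 t22
noncomputable def d23 : ℕ := (nat_lit 0x4000)
def ivl : List ℕ := [1, 0, 3, 2, 5, 4, 7, 6, 9, 8, 11, 10, 13, 12, 15, 14, 17, 16, 19, 18, 21, 20, 23, 22, 25, 24, 27, 26, 29, 28, 31, 30, 33, 32, 35, 34, 37, 36]
def cols : List ℕ := [8, 9, 10, 11, 12, 13, 14, 15, 16, 17, 18, 19, 20, 21, 22, 23]
def hcols : List ℕ := []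
def G0 : List (List ℕ) := [[8, 8],
 [16, 16],
 [10, 10, 19],
 [12, 12, 21, 19],
 [10, 12, 14],
 [10, 12, 11, 13],
 [10, 16, 10, 17],
 [12, 16, 12, 17],
 [18, 18],
 [14, 14, 21],
 [16, 10, 23],
 [8, 10, 9, 11],
 [8, 12, 9, 15],
 [8, 16, 9, 17],
 [20, 20],
 [22, 22]]
def R0 : List (List ℕ) := G0
theorem hii : ∀ c, ivOf ivl (ivOf ivl c) = c := ivOf_ivOf (by decide +kernel)
theorem der : Derives (ivOf ivl) R0 R0 := Derives.refl _ _
noncomputable def nl : List Net := [Net.nil, Net.nil, Net.nil, Net.nil, Net.nil, Net.nil, Net.nil, Net.nil, n8, n9, n10, n11, n12, n13, n14, n15, n16, n17, n18, n19, n20, n21, n22, n23]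
noncomputable def T : TCData := ⟨64, 64, 6, 4, nth Net.nil nl, ivOf ivl, cols, hcols, R0,
  nth [] [[], [], [], [], [], [], [], [], t8, t9, t10, t11, t12, t13, t14, t15, t16, t17, t18, t19, t20, t21, t22, t23], nth 0 [0, 0, 0, 0, 0, 0, 0, 0, d8, d9, d10, d11, d12, d13, d14, d15, d16, d17, d18, d19, d20, d21, d22, d23]⟩
theorem hn : NetsOK 64 (nth Net.nil nl) := netsOK_of_all (by decide +kernel)
theorem hiv : IvOK (sg (nth Net.nil nl)) (ivOf ivl) :=
  ivOK_of_chk (k := 6) hn (by decide) (n := 38) (by decide) (by decide) (allN_true.1 (by decide +kernel))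
theorem hb : T.Basic := TCData.basic_of_chk hn hiv (by decide +kernel)
theorem hG0 : ∀ r ∈ G0, ev (sg (nth Net.nil nl)) r = 1 :=
  rels_of_chk (k := 6) hn (by decide) hiv (allN_true.1 (by decide +kernel))
noncomputable def s8 : List TCData.Step := [.all 11 2 0,
 .all 12 2 0,
 .all 13 2 0]
noncomputable def s9 : List TCData.Step := [.all 0 0 0,
 .pts 11 0 0 3 [48, 49],
 .pts 11 0 0 8 [13, 58],
 .all 12 0 0,
 .all 13 0 0]
noncomputable def s10 : List TCData.Step := [.all 5 2 0,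
 .all 11 3 0]
noncomputable def s11 : List TCData.Step := [.all 2 0 0,
 .all 2 1 0,
 .all 4 0 0,
 .all 5 0 0,
 .all 6 0 0,
 .all 6 2 0,
 .pts 10 1 0 2 [15],
 .pts 10 1 0 7 [18],
 .pts 11 1 0 1 [1],
 .pts 11 1 0 7 [31, 50]]
noncomputable def s12 : List TCData.Step := [.all 5 3 0]
noncomputable def s13 : List TCData.Step := [.all 3 0 0,
 .all 3 1 0,
 .all 4 1 0,
 .all 5 1 0,
 .all 7 0 0,
 .all 7 2 0,
 .all 12 1 0]
noncomputable def s14 : List TCData.Step := [.all 12 3 0]
noncomputable def s15 : List TCData.Step := [.all 4 2 0,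
 .all 9 0 0,
 .all 9 1 0]
noncomputable def s16 : List TCData.Step := [.all 6 3 0,
 .all 7 3 0]
noncomputable def s17 : List TCData.Step := [.all 1 0 0,
 .all 6 1 0,
 .all 7 1 0,
 .pts 13 1 0 9 [60, 61]]
noncomputable def s18 : List TCData.Step := [.all 2 2 0,
 .all 3 3 0]
noncomputable def s19 : List TCData.Step := [.all 8 0 0]
noncomputable def s20 : List TCData.Step := [.all 3 2 0,
 .all 9 2 0]
noncomputable def s21 : List TCData.Step := [.all 14 0 0]
noncomputable def s22 : List TCData.Step := [.all 10 2 0]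
noncomputable def s23 : List TCData.Step := [.all 15 0 0]
theorem hR0 : ∀ r ∈ R0, ev (sg (nth Net.nil nl)) r = 1 := hG0
theorem col8 : T.ColOK 8 := TCData.colOK_of_chk (U := (T.stepsMask 8 s8 (T.mask0 8))) (V := (T.stepsMask 9 s9 (T.mask0 9))) hb (TCData.cov_stepsMask hb (by decide) s8 _ (T.cov_mask0 8)) (TCData.cov_stepsMask hb (by decide) s9 _ (T.cov_mask0 9)) (by decide +kernel)
theorem col9 : T.ColOK 9 := TCData.colOK_of_chk (U := (T.stepsMask 9 s9 (T.mask0 9))) (V := (T.stepsMask 8 s8 (T.mask0 8))) hb (TCData.cov_stepsMask hb (by decide) s9 _ (T.cov_mask0 9)) (TCData.cov_stepsMask hb (by decide) s8 _ (T.cov_mask0 8)) (by decide +kernel)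
theorem col10 : T.ColOK 10 := TCData.colOK_of_chk (U := (T.stepsMask 10 s10 (T.mask0 10))) (V := (T.stepsMask 11 s11 (T.mask0 11))) hb (TCData.cov_stepsMask hb (by decide) s10 _ (T.cov_mask0 10)) (TCData.cov_stepsMask hb (by decide) s11 _ (T.cov_mask0 11)) (by decide +kernel)
theorem col11 : T.ColOK 11 := TCData.colOK_of_chk (U := (T.stepsMask 11 s11 (T.mask0 11))) (V := (T.stepsMask 10 s10 (T.mask0 10))) hb (TCData.cov_stepsMask hb (by decide) s11 _ (T.cov_mask0 11)) (TCData.cov_stepsMask hb (by decide) s10 _ (T.cov_mask0 10)) (by decide +kernel)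
theorem col12 : T.ColOK 12 := TCData.colOK_of_chk (U := (T.stepsMask 12 s12 (T.mask0 12))) (V := (T.stepsMask 13 s13 (T.mask0 13))) hb (TCData.cov_stepsMask hb (by decide) s12 _ (T.cov_mask0 12)) (TCData.cov_stepsMask hb (by decide) s13 _ (T.cov_mask0 13)) (by decide +kernel)
theorem col13 : T.ColOK 13 := TCData.colOK_of_chk (U := (T.stepsMask 13 s13 (T.mask0 13))) (V := (T.stepsMask 12 s12 (T.mask0 12))) hb (TCData.cov_stepsMask hb (by decide) s13 _ (T.cov_mask0 13)) (TCData.cov_stepsMask hb (by decide) s12 _ (T.cov_mask0 12)) (by decide +kernel)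
theorem col14 : T.ColOK 14 := TCData.colOK_of_chk (U := (T.stepsMask 14 s14 (T.mask0 14))) (V := (T.stepsMask 15 s15 (T.mask0 15))) hb (TCData.cov_stepsMask hb (by decide) s14 _ (T.cov_mask0 14)) (TCData.cov_stepsMask hb (by decide) s15 _ (T.cov_mask0 15)) (by decide +kernel)
theorem col15 : T.ColOK 15 := TCData.colOK_of_chk (U := (T.stepsMask 15 s15 (T.mask0 15))) (V := (T.stepsMask 14 s14 (T.mask0 14))) hb (TCData.cov_stepsMask hb (by decide) s15 _ (T.cov_mask0 15)) (TCData.cov_stepsMask hb (by decide) s14 _ (T.cov_mask0 14)) (by decide +kernel)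
theorem col16 : T.ColOK 16 := TCData.colOK_of_chk (U := (T.stepsMask 16 s16 (T.mask0 16))) (V := (T.stepsMask 17 s17 (T.mask0 17))) hb (TCData.cov_stepsMask hb (by decide) s16 _ (T.cov_mask0 16)) (TCData.cov_stepsMask hb (by decide) s17 _ (T.cov_mask0 17)) (by decide +kernel)
theorem col17 : T.ColOK 17 := TCData.colOK_of_chk (U := (T.stepsMask 17 s17 (T.mask0 17))) (V := (T.stepsMask 16 s16 (T.mask0 16))) hb (TCData.cov_stepsMask hb (by decide) s17 _ (T.cov_mask0 17)) (TCData.cov_stepsMask hb (by decide) s16 _ (T.cov_mask0 16)) (by decide +kernel)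
theorem col18 : T.ColOK 18 := TCData.colOK_of_chk (U := (T.stepsMask 18 s18 (T.mask0 18))) (V := (T.stepsMask 19 s19 (T.mask0 19))) hb (TCData.cov_stepsMask hb (by decide) s18 _ (T.cov_mask0 18)) (TCData.cov_stepsMask hb (by decide) s19 _ (T.cov_mask0 19)) (by decide +kernel)
theorem col19 : T.ColOK 19 := TCData.colOK_of_chk (U := (T.stepsMask 19 s19 (T.mask0 19))) (V := (T.stepsMask 18 s18 (T.mask0 18))) hb (TCData.cov_stepsMask hb (by decide) s19 _ (T.cov_mask0 19)) (TCData.cov_stepsMask hb (by decide) s18 _ (T.cov_mask0 18)) (by decide +kernel)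
theorem col20 : T.ColOK 20 := TCData.colOK_of_chk (U := (T.stepsMask 20 s20 (T.mask0 20))) (V := (T.stepsMask 21 s21 (T.mask0 21))) hb (TCData.cov_stepsMask hb (by decide) s20 _ (T.cov_mask0 20)) (TCData.cov_stepsMask hb (by decide) s21 _ (T.cov_mask0 21)) (by decide +kernel)
theorem col21 : T.ColOK 21 := TCData.colOK_of_chk (U := (T.stepsMask 21 s21 (T.mask0 21))) (V := (T.stepsMask 20 s20 (T.mask0 20))) hb (TCData.cov_stepsMask hb (by decide) s21 _ (T.cov_mask0 21)) (TCData.cov_stepsMask hb (by decide) s20 _ (T.cov_mask0 20)) (by decide +kernel)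
theorem col22 : T.ColOK 22 := TCData.colOK_of_chk (U := (T.stepsMask 22 s22 (T.mask0 22))) (V := (T.stepsMask 23 s23 (T.mask0 23))) hb (TCData.cov_stepsMask hb (by decide) s22 _ (T.cov_mask0 22)) (TCData.cov_stepsMask hb (by decide) s23 _ (T.cov_mask0 23)) (by decide +kernel)
theorem col23 : T.ColOK 23 := TCData.colOK_of_chk (U := (T.stepsMask 23 s23 (T.mask0 23))) (V := (T.stepsMask 22 s22 (T.mask0 22))) hb (TCData.cov_stepsMask hb (by decide) s23 _ (T.cov_mask0 23)) (TCData.cov_stepsMask hb (by decide) s22 _ (T.cov_mask0 22)) (by decide +kernel)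
theorem ok : T.OK := ⟨hb, TCData.treeOK_of_chk hn (by decide +kernel), (List.forall_mem_cons.2 ⟨col8, (List.forall_mem_cons.2 ⟨col9, (List.forall_mem_cons.2 ⟨col10, (List.forall_mem_cons.2 ⟨col11, (List.forall_mem_cons.2 ⟨col12, (List.forall_mem_cons.2 ⟨col13, (List.forall_mem_cons.2 ⟨col14, (List.forall_mem_cons.2 ⟨col15, (List.forall_mem_cons.2 ⟨col16, (List.forall_mem_cons.2 ⟨col17, (List.forall_mem_cons.2 ⟨col18, (List.forall_mem_cons.2 ⟨col19, (List.forall_mem_cons.2 ⟨col20, (List.forall_mem_cons.2 ⟨col21, (List.forall_mem_cons.2 ⟨col22, (List.forall_mem_cons.2 ⟨col23, (fun _ h => absurd h List.not_mem_nil)⟩)⟩)⟩)⟩)⟩)⟩)⟩)⟩)⟩)⟩)⟩)⟩)⟩)⟩)⟩)⟩), der _ _ hiv hR0⟩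
theorem bd {G : Type} [Group G] {e : ℕ → G} (h1 : IvOK e (ivOf ivl)) (h2 : ∀ r ∈ R0, ev e r = 1)
    {m : ℕ} (h : Bd (gen e hcols) m) : Bd (gen e cols) (64 * m) := ok.bd h1 (der G e h1 h2) h
theorem cm {G : Type} [Group G] {e : ℕ → G} (h1 : IvOK e (ivOf ivl)) (h2 : ∀ r ∈ R0, ev e r = 1)
    (h3 : gen e cols = ⊤) {ρ : G →* Equiv.Perm ℕ} (h4 : ∀ c, ρ (e c) = sg (nth Net.nil nl) c) :
    CosetModel ρ (gen e hcols) 64 := ok.cosetModel h1 (der G e h1 h2) h3 fun c _ => h4 c

end H5.MCTP
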