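import Mathlib
import Cfsg.Agent.H11.C3Fin
import Cfsg.Agent.H24.Base5
import Cfsg.Agent.H5.MCTP
import Cfsg.Agent.H5.MCT1
import Cfsg.Agent.H5.MCT2
import Cfsg.Agent.H5.MCT3

/-! # A second alphabet for the double cover of `Sp₆(2)`; graphs of partial homomorphisms -/

set_option autoImplicit false
set_option linter.unusedSectionVars false
set_option linter.unusedVariables false
set_option maxRecDepth 100000

namespace H5.MC.CK

open H29 H7.Cay H9.MX H11.C3 H11 H11.C3BT H11.C3BD H24 Subgroup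

def WL : List (List ℕ) := [[23, 49, 79], [23, 49, 79], [17, 49, 79], [15, 49, 79], [23, 77, 79], [29, 77, 79], [25, 71, 99], [45, 71, 99], [39, 49, 117], [39, 49, 117], [25, 53, 79], [23, 53, 79], [41, 55, 79], [45, 55, 79], [35, 61, 79], [33, 61, 79], [43, 53, 79], [43, 53, 79], [17, 47, 79], [17, 47, 79], [21, 47, 79], [21, 47, 79], [35, 47, 79], [35, 47, 79], [29, 69, 79], [25, 69, 79], [35, 65, 79], [33, 65, 79], [31, 71, 79], [31, 71, 79], [31, 71, 133], [31, 71, 133], [29, 73, 113], [25, 67, 113], [27, 51, 109], [21, 59, 109], [15, 55, 91, 151, 19, 57, 139], [15, 47, 91, 151, 23, 69, 105]]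
def cds : List ℕ := [20, 20, 17, 16, 244, 247, 2757, 2767, 4892, 4892, 53, 52, 77, 79, 122, 121, 62, 62, 1, 1, 3, 3, 10, 10, 183, 181, 154, 153, 200, 200, 7112, 7112, 4567, 4517, 3878, 3939]
def WE : List (List ℕ) := [[], [18], [12, 12], [20], [0, 2], [0, 3], [0, 3, 20], [0, 2, 20], [10, 16, 20], [20, 22], [22], [10, 16], [0, 3, 20, 22], [0, 2, 20, 22], [0, 2, 22], [0, 3, 22]]
def WQ : List (List ℕ) := [[], [3], [0, 11], [0, 2, 11], [0, 2, 15, 16], [0, 12, 22], [2, 12, 16], [12, 16], [0, 2, 5, 13, 16], [0, 4, 12, 16], [2, 4, 13, 22], [4, 13, 22], [5, 10], [2, 5, 11], [0, 4], [0, 2, 4]]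
def WB : List (List ℕ) := [[], [34, 5, 32], [4, 33, 35], [6, 24, 34, 32, 35], [6, 24, 35], [2, 28, 6, 32], [3, 7, 34, 7, 33], [27, 33, 7], [27, 34, 7], [6, 34, 15, 33], [0, 5, 7, 10], [7, 32, 35, 4], [7, 32, 6, 28], [0, 22, 34, 7, 32], [6, 35, 6, 14], [2, 11, 20, 34], [13, 33, 35, 32], [2, 24, 33], [2, 8, 35, 3, 33], [0, 8, 20, 22], [8, 32, 35, 5], [4, 30, 34], [34, 32, 30, 34], [13, 26, 30, 32], [34, 30, 15], [2, 35, 30, 32, 35], [32, 30, 11], [4, 8, 10, 6], [34, 32, 16, 30], [30, 32, 12, 34], [33, 30, 20, 32], [0, 6, 34, 30, 16], [7, 24, 33, 30], [2, 8, 34, 33, 34], [2, 8, 35, 4], [8, 28, 32]]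
def Wn : List ℕ := [33, 34, 7, 35, 36, 34, 7, 33]

noncomputable def e1 : ℕ → K := wE eX WL
noncomputable def iv : ℕ → ℕ := ivOf MCT3.ivl
noncomputable def fl (w : List ℕ) : List ℕ := List.rec [] (fun c _ r => nth [] WL c ++ r) w

theorem ev_fl : ∀ w, ev eX (fl w) = ev e1 w
  | [] => rfl
  | c :: w => by rw [show fl (c :: w) = nth [] WL c ++ fl w from rfl, ev_append, ev_fl w]; rfl

noncomputable def eqK (u v : List ℕ) : Bool := eq4 9 C3KX.T (fl u) (fl v)

theorem eqK_true {u v : List ℕ} : eqK u v = true ↔ ev e1 u = ev e1 v :=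
  ⟨fun h => (ev_fl u).symm.trans ((e4 h).trans (ev_fl v)),
    fun h => C3KX.tab.eq4_of ρX (by norm_num) ((ev_fl u).trans (h.trans (ev_fl v).symm))⟩

theorem iv_lt : ∀ c < 38, iv c / 2 = c / 2 ∧ iv c % 2 + c % 2 = 1 ∧ eqK [iv c, c] [] = true := by decide +kernel
theorem iv_ge {c : ℕ} (h : ¬ c < 38) : iv c = c := nth_default c (l := MCT3.ivl) (not_lt.1 h)

theorem iv1 : IvOK e1 iv := fun c => by
  by_cases h : c < 38
  · exact eq_inv_of_mul_eq_one_left (by simpa using eqK_true.1 (iv_lt c h).2.2)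
  · rw [iv_ge h, e1, wE, nth_default _ (not_lt.1 h)]; simp

/-- letters in pairs -/
def pr {G : Type*} [Group G] (l : List G) (c : ℕ) : G := if c % 2 = 0 then l.getD (c / 2) 1 else (l.getD (c / 2) 1)⁻¹

theorem iv_pr {G : Type*} [Group G] {l : List G} (hl : l.length ≤ 19) : IvOK (pr l) iv := fun c => by
  by_cases h : c < 38
  · obtain ⟨h1, h2, -⟩ := iv_lt c h
    rw [pr, pr, h1]
    split_ifs <;> first | omega | simp
  · rw [iv_ge h, pr, List.getD_eq_default _ _ (by omega)]; simp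

theorem iv_range {n : ℕ} (hn : n % 2 = 0) : ∀ c ∈ List.range n, iv c ∈ List.range n := fun c hc => by
  rw [List.mem_range] at hc ⊢
  by_cases h : c < 38
  · obtain ⟨h1, h2, -⟩ := iv_lt c h; omega
  · rwa [iv_ge h]

/-- all letters are below `n` -/
noncomputable def blw (n : ℕ) (w : List ℕ) : Bool := allL w fun c => lt c n

theorem blw_true {n : ℕ} {w : List ℕ} (h : blw n w = true) : ∀ c ∈ w, c ∈ List.range n := fun c hc =>
  List.mem_range.2 (lt_true.1 (allL_true.1 h c hc))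

theorem φ_mem {n c : ℕ} (hn : 24 ≤ n) (hc : c < 9216) (h : blw n (nth [] WB (c / 256)) = true) :
    φ c ∈ gen e1 (List.range n) := by
  have h1 : (allF 16 fun a => and2 (and2 (blw 24 (nth [] WE a)) (eq4 9 C3KX.T [lE a] (fl (nth [] WE a))))
      (and2 (blw 24 (nth [] WQ a)) (eq4 9 C3KX.T [lQ a] (fl (nth [] WQ a))))) = true := by decide +kernel
  have h2 : (allF 36 fun a => eq4 9 C3KX.T [lB a] (fl (nth [] WB a))) = true := by decide +kernel
  simp only [allF_true, and2_true] at h1 h2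
  have m : gen e1 (List.range 24) ≤ gen e1 (List.range n) :=
    gen_mono fun a ha => List.mem_range.2 ((List.mem_range.1 ha).trans_le hn)
  have a := (h1 (c % 256 % 16) (by omega)).1
  have b := (h1 (c % 256 / 16) (by omega)).2
  rw [φ_eq]
  refine mul_mem (mul_mem (m ?_) (m ?_)) ?_
  · rw [← ev1 eX, e4 a.2, ev_fl]; exact ev_mem_gen (blw_true a.1)
  · rw [← ev1 eX, e4 b.2, ev_fl]; exact ev_mem_gen (blw_true b.1)
  · rw [← ev1 eX, e4 (h2 _ (by omega)), ev_fl]; exact ev_mem_gen (blw_true h)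

theorem card24 : 1024 ≤ Nat.card (gen e1 (List.range 24)) := by
  have h : ∀ b < 4, blw 24 (nth [] WB ([0, 10, 19, 27].getD b 0)) = true ∧ [0, 10, 19, 27].getD b 0 < 36 ∧
      ∀ b' < 4, [0, 10, 19, 27].getD b 0 = [0, 10, 19, 27].getD b' 0 → b = b' := by decide +kernel
  let f : Fin 256 × Fin 4 → gen e1 (List.range 24) := fun x =>
    ⟨φ (x.1 + 256 * [0, 10, 19, 27].getD x.2 0), φ_mem le_rfl (by have := (h _ x.2.2).2.1; omega) (by
      rw [show (x.1.1 + 256 * [0, 10, 19, 27].getD x.2 0) / 256 = [0, 10, 19, 27].getD x.2 0 by omega]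
      exact (h _ x.2.2).1)⟩
  refine le_of_eq_of_le (by simp) (Nat.card_le_card_of_injective f fun x y e => ?_)
  have := (h _ x.2.2).2.1
  have := (h _ y.2.2).2.1
  have := inj (by omega) (by omega) (congrArg Subtype.val e)
  exact Prod.ext (Fin.ext (by omega)) (Fin.ext ((h _ x.2.2).2.2 _ y.2.2 (by omega)))

theorem φ36 {c : ℕ} (hc : c < 9216) : φ c ∈ gen e1 (List.range 36) :=
  φ_mem (by norm_num) hc ((by decide +kernel : ∀ b < 36, blw 36 (nth [] WB b) = true) _ (by omega))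

theorem sub36 : snd.sub ≤ gen e1 (List.range 36) := fun g hg => by
  obtain ⟨c, hc, rfl⟩ := snd.mem_sub.1 hg; exact φ36 hc

theorem card36 : 9216 ≤ Nat.card (gen e1 (List.range 36)) := card_B ▸ Subgroup.card_le_of_le sub36

theorem e1_eq : ∀ c < 36, cds.getD c 0 < 9216 ∧ e1 c = φ (cds.getD c 0) := fun c hc => by
  have : ∀ c < 36, cds.getD c 0 < 9216 ∧ nth [] WL c = wd (cds.getD c 0) := by decide +kernel
  exact ⟨(this c hc).1, by rw [e1, wE, (this c hc).2]; rfl⟩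

theorem le36 : gen e1 (List.range 36) ≤ snd.sub := gen_le.2 fun c hc => by
  have := e1_eq c (List.mem_range.1 hc); exact this.2 ▸ snd.mem this.1

theorem top38 : gen e1 (List.range 38) = ⊤ := by
  rw [eq_top_iff, ← B_sup]
  refine sup_le (sub36.trans (gen_mono (by decide))) (zpowers_le_of_mem ?_)
  rw [← ev1 eX, e4 (v := fl Wn) (by decide +kernel), ev_fl]
  exact ev_mem_gen (by decide)

noncomputable def cmm (c a : ℕ) : ℕ := lit (cc c a) fun x => lit (M.inv a) (M.mul x)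
noncomputable def nx (c : ℕ) : ℕ := lit (cmm c 2) fun x => Bool.rec x (lit (cmm c 4) fun x => Bool.rec x
  (lit (cmm c 8) fun x => Bool.rec x (cmm c 68) (Nat.beq x 0)) (Nat.beq x 0)) (Nat.beq x 0)
noncomputable def ch (c : ℕ) : Bool := or2 (lt c 4) (lit (nx c) fun x => and2 (lt 0 x) (or2 (lt x 4)
  (lit (nx x) fun y => and2 (lt 0 y) (lt y 4))))

theorem ch_ok : all2 36 256 ch = true := by decide +kernel

theorem ker_triv {N : Subgroup K} (hN : ∀ a ∈ [2, 4, 8, 68], ∀ k ∈ N, φ a * k * (φ a)⁻¹ ∈ N)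
    (h : ∀ a ∈ [1, 2, 3], φ a ∉ N) {c : ℕ} (hc : c < 9216) (h1 : φ c ∈ N) : c = 0 := by
  have s1 : ∀ c < 9216, φ c ∈ N → ∀ a ∈ [2, 4, 8, 68], cmm c a < 9216 ∧ φ (cmm c a) ∈ N := fun c hc h1 a ha => by
    have a1 : a < 9216 := by revert a; decide
    rw [cmm, lit_eq, lit_eq, φ_mul (cc_lt hc a1) (inv_lt a1), φ_cc hc a1, φ_inv a1, mul_assoc, mul_assoc, ← mul_assoc (φ a)]
    exact ⟨mul_lt (cc_lt hc a1) (inv_lt a1), mul_mem h1 (hN a ha _ (inv_mem h1))⟩
  have s2 : ∀ c < 9216, φ c ∈ N → nx c < 9216 ∧ φ (nx c) ∈ N := fun c hc h1 => by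
    simp only [nx, lit_eq]
    cases Nat.beq (cmm c 2) 0
    · exact s1 c hc h1 _ (by decide)
    cases Nat.beq (cmm c 4) 0
    · exact s1 c hc h1 _ (by decide)
    cases Nat.beq (cmm c 8) 0 <;> exact s1 c hc h1 _ (by decide)
  have s3 : ∀ c < 4, φ c ∈ N → c = 0 := fun c hc h1 => by
    by_contra h0
    exact h c (by simp only [List.mem_cons, List.not_mem_nil]; omega) h1
  have := all2_true ch_ok c hc
  simp only [ch, lit_eq, or2_true, and2_true, lt_true] at this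
  have a := s2 c hc h1
  rcases this with h2 | ⟨h2, h3 | ⟨h3, h4⟩⟩
  · exact s3 c h2 h1
  · exact absurd (s3 _ h3 a.2) h2.ne'
  · exact absurd (s3 _ h4 (s2 _ a.1 a.2).2) h3.ne'

/-! ## Graphs -/

theorem bd_univ {R : List (List ℕ)} {L L' : List ℕ} {N : ℕ}
    (hb : ∀ {G : Type} [Group G] {e : ℕ → G}, IvOK e iv → (∀ r ∈ R, ev e r = 1) → ∀ {m : ℕ}, Bd (gen e L) m →
      Bd (gen e L') (N * m)) {G : Type*} [Group G] [Finite G] {e : ℕ → G} (h1 : IvOK e iv) (h2 : ∀ r ∈ R, ev e r = 1)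
    {m : ℕ} (h : Bd (gen e L) m) : Bd (gen e L') (N * m) := by
  let f : Shrink.{0} G ≃* G := Shrink.mulEquiv
  have c : ∀ l, Nat.card (gen (fun c => f.symm (e c)) l) = Nat.card (gen e l) := fun l => by
    rw [← card_map_of_injective (f := f.symm.toMonoidHom) f.symm.injective, map_gen]; rfl
  have := hb (e := fun c => f.symm (e c)) (fun c => by simp only [h1 c, map_inv])
    (fun r hr => (map_ev f.symm.toMonoidHom e r).symm.trans (by rw [h2 r hr, map_one])) (m := m)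
    ⟨Finite.of_injective (fun x => f x.1) fun a b e => Subtype.ext (f.injective e), (c L).trans_le h.2⟩
  exact ⟨inferInstance, (c L').symm.trans_le this.2⟩

variable {X : Type*} [Group X] [Finite X] (e2 : ℕ → X)

/-- pairs of letters -/
noncomputable def ee (c : ℕ) : K × X := (e1 c, e2 c)
noncomputable def Γ (n : ℕ) : Subgroup (K × X) := gen (ee e2) (List.range n)

variable {e2}

theorem ev_ee (w : List ℕ) : ev (ee e2) w = (ev e1 w, ev e2 w) := ev_prod _ _ w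
theorem iv_ee (h : IvOK e2 iv) : IvOK (ee e2) iv := fun c => by rw [ee, iv1 c, h c]; rfl
theorem rels {R : List (List ℕ)} (h1 : (allL R fun r => eqK r []) = true) (h2 : ∀ r ∈ R, ev e2 r = 1) :
    ∀ r ∈ R, ev (ee e2) r = 1 := fun r hr => by
  rw [ev_ee, eqK_true.1 (allL_true.1 h1 r hr), h2 r hr]; rfl

/-- relators from pairs of words -/
noncomputable def rl (l : List (List ℕ × List ℕ)) : List (List ℕ) := l.map fun p => p.1 ++ invW iv p.2

theorem rl_ok (h : IvOK e2 iv) {l : List (List ℕ × List ℕ)} (h1 : ∀ p ∈ l, ev e2 p.1 = ev e2 p.2) :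
    ∀ r ∈ rl l, ev e2 r = 1 := fun r hr => by
  obtain ⟨p, hp, rfl⟩ := List.mem_map.1 hr
  rw [ev_append, ev_invW h, h1 p hp, mul_inv_cancel]

/-- the first `n` letters define a homomorphism -/
structure TR (e2 : ℕ → X) (n : ℕ) : Prop where
  iv2 : IvOK e2 iv
  hn : n % 2 = 0
  tr : Tr e1 e2 (List.range n)

theorem TR.of_bd (h : IvOK e2 iv) {n m : ℕ} (hn : n % 2 = 0) (hb : Bd (Γ e2 n) m)
    (hm : m ≤ Nat.card (gen e1 (List.range n))) : TR e2 n :=
  ⟨h, hn, ((Tr.of_hom (MonoidHom.fst K X) fun _ _ => rfl).symm_of_card (iv_ee h) iv1 (iv_range hn) hb hm).trans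
    (Tr.of_hom (MonoidHom.snd K X) fun _ _ => rfl)⟩

noncomputable def okW (n : ℕ) (u v : List ℕ) : Bool := and2 (and2 (blw n u) (blw n v)) (eqK u v)

namespace TR

variable {n : ℕ} (T : TR e2 n)
include T

theorem eq (u v : List ℕ) (h : okW n u v = true) : ev e2 u = ev e2 v := by
  simp only [okW, and2_true] at h
  exact T.tr.eq iv1 T.iv2 (iv_range T.hn) (blw_true h.1.1) (blw_true h.1.2) (eqK_true.1 h.2)

theorem rel {R : List (List ℕ)} (h : (allL R fun r => okW n r []) = true) : ∀ r ∈ R, ev e2 r = 1 :=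
  fun r hr => T.eq r [] (allL_true.1 h r hr)

theorem word {y : K × X} (h : y ∈ Γ e2 n) : ∃ w, (∀ c ∈ w, c ∈ List.range n) ∧ ev e1 w = y.1 ∧ ev e2 w = y.2 := by
  obtain ⟨w, h1, rfl⟩ := exists_word (iv_ee T.iv2) (iv_range T.hn) h
  exact ⟨w, h1, by rw [ev_ee], by rw [ev_ee]⟩

theorem gi {y : K × X} (h : y ∈ Γ e2 n) (h1 : y.1 = 1) : y.2 = 1 := by
  obtain ⟨w, a, b, c⟩ := T.word h
  exact c ▸ T.tr w a (b.trans h1)

theorem uniq {y z : K × X} (hy : y ∈ Γ e2 n) (hz : z ∈ Γ e2 n) (h : y.1 = z.1) : y = z :=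
  Prod.ext h (mul_inv_eq_one.1 (T.gi (mul_mem hy (inv_mem hz)) (mul_inv_eq_one.2 h)))

theorem lift {k : K} (h : k ∈ gen e1 (List.range n)) : ∃ x, (k, x) ∈ Γ e2 n := by
  obtain ⟨w, h1, rfl⟩ := exists_word iv1 (iv_range T.hn) h
  exact ⟨ev e2 w, ev_ee (e2 := e2) w ▸ ev_mem_gen h1⟩

/-- the homomorphism is injective -/
theorem gi' (h1 : 24 ≤ n) (h2 : n ≤ 36) (hz : e2 18 ≠ 1 ∧ e2 20 ≠ 1 ∧ e2 18 * e2 20 ≠ 1) {y : K × X} (h : y ∈ Γ e2 n)
    (h3 : y.2 = 1) : y.1 = 1 := by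
  obtain ⟨w, a, b, -⟩ := T.word h
  obtain ⟨c, hc, e⟩ := snd.mem_sub.1 (le36 (gen_mono (fun c hc => List.mem_range.2 ((List.mem_range.1 hc).trans_le h2))
    (b ▸ ev_mem_gen a)))
  have m : ∀ c < n, ee e2 c ∈ Γ e2 n := fun c hc => mem_gen (List.mem_range.2 hc)
  rw [← e, ker_triv (N := (Γ e2 n).comap (MonoidHom.inl K X)) (fun a ha k hk => ?_) (fun a ha hk => ?_) hc (by
    rw [e]; exact (show (y.1, (1 : X)) = y from Prod.ext rfl h3.symm) ▸ h), φ0]
  · obtain ⟨x, hx⟩ := T.lift (φ_mem (c := a) h1 (by revert a; decide) (by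
      rw [show a / 256 = 0 by revert a; decide]; rfl))
    simpa using mul_mem (mul_mem hx (show (k, 1) ∈ Γ e2 n from hk)) (inv_mem hx)
  · simp only [List.mem_cons, List.not_mem_nil, or_false] at ha
    rcases ha with rfl | rfl | rfl
    · exact hz.1 (congrArg Prod.snd (T.uniq (m 18 (by omega)) hk (e1_eq 18 (by norm_num)).2))
    · exact hz.2.2 (congrArg Prod.snd (T.uniq (mul_mem (m 18 (by omega)) (m 20 (by omega))) hk (by
        change e1 18 * e1 20 = φ 2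
        rw [(e1_eq 18 (by norm_num)).2, (e1_eq 20 (by norm_num)).2]; exact φ_mul' (by decide +kernel))))
    · exact hz.2.1 (congrArg Prod.snd (T.uniq (m 20 (by omega)) hk (e1_eq 20 (by norm_num)).2))

theorem inj (h1 : 24 ≤ n) (h2 : n ≤ 36) (hz : e2 18 ≠ 1 ∧ e2 20 ≠ 1 ∧ e2 18 * e2 20 ≠ 1) {u v : List ℕ}
    (hu : ∀ c ∈ u, c ∈ List.range n) (hv : ∀ c ∈ v, c ∈ List.range n) (h : ev e2 u = ev e2 v) : eqK u v = true := by
  have := T.gi' h1 h2 hz (mul_mem (ev_mem_gen hu) (inv_mem (ev_mem_gen hv))) (by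
    rw [ev_ee, ev_ee]; exact mul_inv_eq_one.2 h)
  rw [ev_ee, ev_ee] at this
  exact eqK_true.2 (mul_inv_eq_one.1 this)

end TR

theorem mem_N_gen {G : Type*} [Group G] [Finite G] {e : ℕ → G} {L : List ℕ} {y : G}
    (h : ∀ c ∈ L, y * e c * y⁻¹ ∈ gen e L) : y ∈ N[gen e L] :=
  mem_N_of_finite fun x hx => (gen_le (H := (gen e L).comap (MulAut.conj y).toMonoidHom)).2 h hx

/-- `y` conjugates the letters of `L` to words in `L` -/
noncomputable def chkN (L y : List ℕ) (t : List (ℕ × List ℕ)) : Bool :=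
  and2 (eqL (t.map Prod.fst) L) (allL t fun p => and2 (allL p.2 fun c => memL c L) (eqK (y ++ [p.1]) (p.2 ++ y)))

theorem TR.nm {n : ℕ} (T : TR e2 n) {L y : List ℕ} {t : List (ℕ × List ℕ)} (hL : ∀ c ∈ L, c ∈ List.range n)
    (h1 : ∀ c ∈ L, ev (ee e2) y * ee e2 c * (ev (ee e2) y)⁻¹ ∈ Γ e2 n) (h2 : chkN L y t = true) :
    ev (ee e2) y ∈ N[gen (ee e2) L] := mem_N_gen fun c hc => by
  simp only [chkN, and2_true, allL_true, memL_true] at h2
  obtain ⟨p, hp, rfl⟩ := List.mem_map.1 (eqL_true h2.1 ▸ hc)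
  obtain ⟨a, b⟩ := h2.2 p hp
  rw [T.uniq (h1 _ hc) (ev_mem_gen (w := p.2) fun c hc => hL c (a c hc)) (by
    have := eqK_true.1 b
    rw [ev_append, ev_append, ev1] at this
    rw [ev_ee, ev_ee]; exact mul_inv_eq_iff_eq_mul.2 this)]
  exact ev_mem_gen a

theorem TR.nm' {n : ℕ} (T : TR e2 n) {L y : List ℕ} {t : List (ℕ × List ℕ)}
    (h : and2 (and2 (blw n L) (blw n y)) (chkN L y t) = true) : ev (ee e2) y ∈ N[gen (ee e2) L] := by
  simp only [and2_true] at h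
  have := ev_mem_gen (e := ee e2) (blw_true h.1.2)
  exact T.nm (blw_true h.1.1) (fun c hc => mul_mem (mul_mem this (mem_gen (blw_true h.1.1 c hc))) (inv_mem this)) h.2

theorem TR.cen {n : ℕ} (T : TR e2 n) {L : List ℕ} (hL : ∀ c ∈ L, c ∈ List.range n) {y : K × X}
    (h : y ∈ N[gen (ee e2) L]) (h1 : y.1 = 1) : ∀ c ∈ L, Commute y.2 (e2 c) := fun c hc => by
  have := congrArg Prod.snd (T.uniq (gen_mono hL (conj_mem h (mem_gen hc))) (mem_gen (hL c hc)) (by simp [h1]))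
  exact mul_inv_eq_iff_eq_mul.1 this

end H5.MC.CK
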