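import Mathlib
import Cfsg.Agent.H5.MCK2
import Cfsg.Agent.H5.MCK3

/-! # The Sylow subgroup of order `1024` -/

set_option autoImplicit false
set_option linter.unusedSectionVars false
set_option linter.unusedVariables false
set_option linter.unnecessarySimpa false
set_option maxRecDepth 100000
set_option synthInstance.maxSize 100000

namespace H5.MC.Nrm

open H9 Cfsg H29 H7.Cay H9.MX H11.C3 H24 Subgroup CK

variable {H : Subgroup PG} {X : Type*} [Group X] [Finite X] {F : Fr H X} {v : Ph} (B : Nrm F v) (a b : X)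

noncomputable def e : ℕ → X := pr [F.t, B.d, B.w, B.x, F.p sg, F.p j1, F.p j2, F.p j3, F.p i0, F.p z1, F.p z3, F.p i1, F.r * B.d * F.r⁻¹, F.r⁻¹ * B.d * F.r, B.w * F.p i0, B.x * F.p sg, a, b, F.ρ]

theorem hiv : IvOK (B.e a b) iv := iv_pr (by simp)
@[simp] theorem e_0 : B.e a b 0 = F.t := rfl
@[simp] theorem e_1 : B.e a b 1 = (F.t)⁻¹ := rfl
@[simp] theorem e_2 : B.e a b 2 = B.d := rfl
@[simp] theorem e_3 : B.e a b 3 = (B.d)⁻¹ := rfl
@[simp] theorem e_4 : B.e a b 4 = B.w := rfl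
@[simp] theorem e_5 : B.e a b 5 = (B.w)⁻¹ := rfl
@[simp] theorem e_6 : B.e a b 6 = B.x := rfl
@[simp] theorem e_7 : B.e a b 7 = (B.x)⁻¹ := rfl
@[simp] theorem e_8 : B.e a b 8 = F.p sg := rfl
@[simp] theorem e_9 : B.e a b 9 = (F.p sg)⁻¹ := rfl
@[simp] theorem e_10 : B.e a b 10 = F.p j1 := rfl
@[simp] theorem e_11 : B.e a b 11 = (F.p j1)⁻¹ := rfl
@[simp] theorem e_12 : B.e a b 12 = F.p j2 := rfl
@[simp] theorem e_13 : B.e a b 13 = (F.p j2)⁻¹ := rfl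
@[simp] theorem e_14 : B.e a b 14 = F.p j3 := rfl
@[simp] theorem e_15 : B.e a b 15 = (F.p j3)⁻¹ := rfl
@[simp] theorem e_16 : B.e a b 16 = F.p i0 := rfl
@[simp] theorem e_17 : B.e a b 17 = (F.p i0)⁻¹ := rfl
@[simp] theorem e_18 : B.e a b 18 = F.p z1 := rfl
@[simp] theorem e_19 : B.e a b 19 = (F.p z1)⁻¹ := rfl
@[simp] theorem e_20 : B.e a b 20 = F.p z3 := rfl
@[simp] theorem e_21 : B.e a b 21 = (F.p z3)⁻¹ := rfl
@[simp] theorem e_22 : B.e a b 22 = F.p i1 := rfl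
@[simp] theorem e_23 : B.e a b 23 = (F.p i1)⁻¹ := rfl
@[simp] theorem e_24 : B.e a b 24 = F.r * B.d * F.r⁻¹ := rfl
@[simp] theorem e_25 : B.e a b 25 = (F.r * B.d * F.r⁻¹)⁻¹ := rfl
@[simp] theorem e_26 : B.e a b 26 = F.r⁻¹ * B.d * F.r := rfl
@[simp] theorem e_27 : B.e a b 27 = (F.r⁻¹ * B.d * F.r)⁻¹ := rfl
@[simp] theorem e_28 : B.e a b 28 = B.w * F.p i0 := rfl
@[simp] theorem e_29 : B.e a b 29 = (B.w * F.p i0)⁻¹ := rfl
@[simp] theorem e_30 : B.e a b 30 = B.x * F.p sg := rfl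
@[simp] theorem e_31 : B.e a b 31 = (B.x * F.p sg)⁻¹ := rfl
@[simp] theorem e_32 : B.e a b 32 = a := rfl
@[simp] theorem e_33 : B.e a b 33 = (a)⁻¹ := rfl
@[simp] theorem e_34 : B.e a b 34 = b := rfl
@[simp] theorem e_35 : B.e a b 35 = (b)⁻¹ := rfl
@[simp] theorem e_36 : B.e a b 36 = F.ρ := rfl
@[simp] theorem e_37 : B.e a b 37 = (F.ρ)⁻¹ := rfl

/-- the letters that lie in `N1` -/
noncomputable def nL : ℕ → N1 := pr [1, 1, 1, 1, .of sg, .of j1, .of j2, .of j3, .of i0, .of z1, .of z3, .of i1, 1, 1, 1, 1,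
  1, 1, .r]
def NL : List ℕ := [8, 9, 10, 11, 12, 13, 14, 15, 16, 17, 18, 19, 20, 21, 22, 23, 36, 37]

theorem n_inv {x : N1} (h : x.p.inn) : F.n x⁻¹ = (F.n x)⁻¹ := by
  rw [Fr.n, map_inv, F.e_inv (F.h12 (NX.emb_12.2 h))]; rfl

theorem e_n : ∀ c ∈ NL, B.e a b c = F.n (nL c) := by
  have h : ∀ s : Ph, s.inn → (F.p s)⁻¹ = F.n (NX.of s : N1)⁻¹ := fun s hs => by
    rw [n_inv (by rwa [NX.of, NX.p_mk]), F.n_of]
  simp only [NL, List.forall_mem_cons]
  exact ⟨(F.n_of _).symm, h _ (by decide), (F.n_of _).symm, h _ (by decide), (F.n_of _).symm, h _ (by decide),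
    (F.n_of _).symm, h _ (by decide), (F.n_of _).symm, h _ (by decide), (F.n_of _).symm, h _ (by decide),
    (F.n_of _).symm, h _ (by decide), (F.n_of _).symm, h _ (by decide), F.n_ρ.symm,
    (congrArg _ F.n_ρ.symm).trans (n_inv (by decide +kernel)).symm, by simp⟩

theorem ev_n {w : List ℕ} (h : ∀ c ∈ w, c ∈ NL) : ev (B.e a b) w = F.n (ev nL w) := by
  have h1 : ∀ c ∈ NL, (nL c).p.inn := by decide +kernel
  rw [ev_congr fun c hc => B.e_n a b c (h c hc), ev, ev, ← (F.n_prod _ fun x hx => by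
    obtain ⟨c, hc, rfl⟩ := List.mem_map.1 hx; exact h1 c (h c hc)).2, List.map_map]; rfl

theorem rel_n {R : List (List ℕ)} (h : ∀ r ∈ R, (∀ c ∈ r, c ∈ NL) ∧ ev nL r = 1) : ∀ r ∈ R, ev (B.e a b) r = 1 :=
  fun r hr => by rw [B.ev_n a b (h r hr).1, (h r hr).2, Fr.n, map_one, F.e_one]

/-- the word of an element of the Sylow subgroup of `M₁₂` -/
def wP (s : Ph) : List ℕ := List.replicate (s.n % 4) 10 ++ List.replicate (s.n / 4 % 4) 12 ++
  List.replicate (s.n / 16 % 2) 16 ++ List.replicate (s.n / 64) 8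

theorem wP_ok : ∀ s : Ph, s.inn → (∀ c ∈ wP s, c ∈ NL) ∧ (∀ c ∈ wP s, c ∈ List.range 24) ∧ ev nL (wP s) = .of s := by
  decide +kernel

theorem ev_wP {s : Ph} (h : s.inn) : ev (B.e a b) (wP s) = F.p s := by
  rw [B.ev_n a b (wP_ok s h).1, (wP_ok s h).2.2, F.n_of]

theorem pi2 : F.p i2 = F.p i0 * F.p j2 := (F.p_mul' (by decide +kernel)).symm

def R1 : List (List ℕ × List ℕ) := [([0, 8], [8, 0]), ([0, 10], [10, 0]), ([0, 12], [12, 0]), ([0, 16], [16, 0]), ([0, 0], []), ([2, 2], [18]), ([2, 0, 3], [0, 18]), ([2, 8], [8, 2]), ([2, 10], [10, 2]), ([2, 16], [16, 2]), ([16, 12, 2, 13, 17], [2, 18]), ([4, 4], [20]), ([4, 0, 5], [0, 20]), ([2, 4], [4, 2]), ([16, 12, 4, 13, 17], [4]), ([8, 4, 9], [4, 2, 20, 22]), ([10, 4, 11], [4, 20]), ([6, 6], [22]), ([6, 0, 7], [0, 22]), ([2, 6], [6, 2]), ([4, 6], [6, 4]), ([16, 12, 6, 13, 17], [7, 5]), ([8, 6, 9], [6, 22]), ([10, 6, 11], [6, 2, 18, 20, 22])]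

theorem r1 : ∀ p ∈ R1, ev (B.e a b) p.1 = ev (B.e a b) p.2 := by
  have h1 := B.di
  have h2 := B.wi
  have h3 := B.xi
  rw [pi2] at h1 h2 h3
  simp only [R1, List.forall_mem_cons]
  refine ⟨?_, ?_, ?_, ?_, ?_, ?_, ?_, ?_, ?_, ?_, ?_, ?_, ?_, ?_, ?_, ?_, ?_, ?_, ?_, ?_, ?_, ?_, ?_, ?_, by simp⟩
  · simpa using (F.p_t sg).eq
  · simpa using (F.p_t j1).eq
  · simpa using (F.p_t j2).eq
  · simpa using (F.p_t i0).eq
  · simpa using F.tt
  · simpa using B.dd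
  · simpa [mul_assoc] using B.dt
  · simpa using (B.dQ sg (by decide)).eq
  · simpa using (B.dQ j1 (by decide)).eq
  · simpa using (B.dQ i0 (by decide)).eq
  · simpa [mul_assoc] using h1
  · simpa using B.ww
  · simpa [mul_assoc] using B.wt
  · simpa using B.dw.eq
  · simpa [mul_assoc] using h2
  · simpa [mul_assoc] using B.ws
  · simpa [mul_assoc] using B.wj
  · simpa using B.xx
  · simpa [mul_assoc] using B.xt
  · simpa using B.dx.eq
  · simpa using B.wx.eq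
  · simpa [mul_assoc] using h3
  · simpa [mul_assoc] using B.xs
  · simpa [mul_assoc] using B.xj

theorem bd24 : Bd (Γ (B.e a b) 24) 1024 := by
  have i := iv_ee (B.hiv a b)
  have h0 : Bd (gen (CK.ee (B.e a b)) MCTP.hcols) 1 := by
    rw [show MCTP.hcols = [] from rfl, gen_nil]; exact ⟨inferInstance, by simp⟩
  have hP := B.rel_n a b (R := MCTP.R0) (by decide +kernel)
  have h1 := bd_univ (fun h1 h2 _ h => MCTP.bd h1 h2 h) i (rels (by decide +kernel) hP) h0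
  exact bd_univ (fun h1 h2 _ h => MCT1.bd h1 h2 h) i (rels (by decide +kernel) (by
    rw [show MCT1.R0 = MCTP.R0 ++ rl R1 by decide +kernel, List.forall_mem_append]
    exact ⟨hP, rl_ok (B.hiv a b) (B.r1 a b)⟩)) h1

theorem tr24 : TR (B.e a b) 24 := TR.of_bd (B.hiv a b) rfl (B.bd24 a b) card24

theorem hz : B.e a b 18 ≠ 1 ∧ B.e a b 20 ≠ 1 ∧ B.e a b 18 * B.e a b 20 ≠ 1 := by
  have : ∀ s : Ph, s.inn → s ≠ 1 → F.p s ≠ 1 := fun s h1 h2 h =>
    h2 (F.p_inj (F.inn h1) (F.inn (by decide)) (h.trans F.p_one.symm))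
  refine ⟨this z1 (by decide) (by decide), this z3 (by decide) (by decide), ?_⟩
  rw [e_18, e_20, F.p_mul' (v := z2) (by decide +kernel)]
  exact this z2 (by decide) (by decide)

theorem rr : F.r * F.r = F.r⁻¹ := eq_inv_of_mul_eq_one_right F.r3
theorem r_cj2 (g : X) : F.r * (F.r * g * F.r⁻¹) * F.r⁻¹ = F.r⁻¹ * g * F.r := by
  rw [← mul_assoc, ← mul_assoc, rr, mul_assoc _ F.r⁻¹, ← mul_inv_rev, rr, inv_inv]
theorem sr : F.p sg * F.r⁻¹ = F.r * F.p sg := by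
  have : F.r * (F.p sg * F.r) = F.p sg := by
    simpa using F.n_eq (T := X2) [.r, .of sg, .r] [.of sg] (by decide +kernel)
  rw [mul_inv_eq_iff_eq_mul, mul_assoc, this]
theorem s_cj (g : X) : F.p sg * (F.r⁻¹ * g * F.r) * (F.p sg)⁻¹ = F.r * (F.p sg * g * (F.p sg)⁻¹) * F.r⁻¹ := by
  rw [show F.p sg * (F.r⁻¹ * g * F.r) * (F.p sg)⁻¹ = F.p sg * F.r⁻¹ * g * (F.p sg * F.r⁻¹)⁻¹ by group, sr]; group

theorem f3 : F.r⁻¹ * B.d * F.r = F.t * (B.w * (F.p v * (F.p j3)⁻¹)) := by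
  rw [← mul_assoc B.w, ← B.a3, mul_inv_cancel_right, ← mul_assoc F.r⁻¹, ← F.r_t.inv_right.eq, mul_assoc F.t, mul_assoc F.t,
    ← mul_assoc F.t, F.tt, one_mul]

theorem f2 : F.r * B.d * F.r⁻¹ = F.p sg * (F.r⁻¹ * B.d * F.r) * (F.p sg)⁻¹ := by
  rw [s_cj, (B.dQ sg (by decide)).symm.mul_inv_cancel]

include B in
theorem v_cases : v = z2 ∨ v = z3 := by
  have T := B.tr24 1 1
  have vi : v.inn := (by decide +kernel : ∀ v : Ph, v.V1 → v.inn) v B.hv
  have h1 : Commute B.w (F.p j3) := by simpa [commute_iff_eq] using T.eq [4, 14] [14, 4] (by decide +kernel)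
  have h2 : Commute (F.r⁻¹ * B.d * F.r) (F.p j3) := by
    have := (B.dQ j1 (by decide)).map (MulAut.conj F.r⁻¹).toMonoidHom
    rw [← F.r_cj (s := j3) (u := j1) (by decide +kernel)] at this
    simpa [mul_assoc] using this
  have h3 : Commute (F.p v) (F.p j3) := by
    have := (h1.inv_left.mul_left ((F.p_t j3).inv_left.mul_left h2)).mul_left (Commute.refl _)
    rw [B.f3] at this
    simpa using this
  have h4 : v * j3 = j3 * v := F.p_inj (F.inn ((by decide +kernel : ∀ v : Ph, v.inn → (v * j3).inn) v vi))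
    (F.inn ((by decide +kernel : ∀ v : Ph, v.inn → (j3 * v).inn) v vi)) (by
      rw [F.p_mul (F.inn vi) (F.inn (by decide)), F.p_mul (F.inn (by decide)) (F.inn vi)]; exact h3)
  have h5 : (v = 1 ∨ v = z1) ∨ v = z2 ∨ v = z3 :=
    (by decide +kernel : ∀ v : Ph, v.V1 → v * j3 = j3 * v → (v = 1 ∨ v = z1) ∨ v = z2 ∨ v = z3) v B.hv h4
  refine h5.resolve_left fun h6 => ?_
  have h7 : B.d * (F.r * B.d * F.r⁻¹) * (F.r⁻¹ * B.d * F.r) = F.p i0 * F.p z1 ∧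
      F.r * B.d * F.r⁻¹ * (F.r⁻¹ * B.d * F.r) * B.d = F.p i0 * F.p z1 := by
    rw [B.f2, B.f3]
    rcases h6 with rfl | rfl
    · exact ⟨by simpa [mul_assoc, F.p_one] using T.eq [2, 8, 0, 4, 15, 9, 0, 4, 15] [16, 18] (by decide +kernel),
        by simpa [mul_assoc, F.p_one] using T.eq [8, 0, 4, 15, 9, 0, 4, 15, 2] [16, 18] (by decide +kernel)⟩
    · exact ⟨by simpa [mul_assoc] using T.eq [2, 8, 0, 4, 18, 15, 9, 0, 4, 18, 15] [16, 18] (by decide +kernel),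
        by simpa [mul_assoc] using T.eq [8, 0, 4, 18, 15, 9, 0, 4, 18, 15, 2] [16, 18] (by decide +kernel)⟩
  have h8 : F.r * (F.p i0 * F.p z1) * F.r⁻¹ = F.p i0 * F.p z1 := by
    conv_lhs => rw [← h7.1, ← conj_mul, ← conj_mul, r_cj2]
    rw [← h7.2]; group
  rw [F.p_mul' (v := i0 * z1) (by decide +kernel), F.r_cj (u := i0 * z2) (by decide +kernel)] at h8
  exact absurd (F.p_inj (F.inn (by decide +kernel)) (F.inn (by decide +kernel)) h8) (by decide +kernel)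

theorem bd32 (B : Nrm F z3) : Bd (Γ (B.e a b) 32) 1024 := by
  refine (B.bd24 a b).of_le (gen_le.2 fun c hc => ?_)
  have m : ∀ c w, and2 (blw 24 w) (eqK [c] w) = true → B.e a b c = ev (B.e a b) w →
      CK.ee (B.e a b) c ∈ Γ (B.e a b) 24 ∧ CK.ee (B.e a b) (iv c) ∈ Γ (B.e a b) 24 := fun c w h1 h2 => by
    rw [and2_true, eqK_true, ev1] at h1
    have : CK.ee (B.e a b) c ∈ Γ (B.e a b) 24 := by
      rw [CK.ee, h1.2, h2, ← ev_ee]; exact ev_mem_gen (blw_true h1.1)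
    exact ⟨this, iv_ee (B.hiv a b) c ▸ inv_mem this⟩
  have m1 := m 24 [8, 0, 4, 20, 15, 9] (by decide +kernel) (by rw [e_24, B.f2, B.f3]; simp [mul_assoc])
  have m2 := m 26 [0, 4, 20, 15] (by decide +kernel) (by rw [e_26, B.f3]; simp)
  have m3 := m 28 [4, 16] (by decide +kernel) (by simp)
  have m4 := m 30 [6, 8] (by decide +kernel) (by simp)
  by_cases h : c < 24
  · exact mem_gen (List.mem_range.2 h)
  have := List.mem_range.1 hc
  interval_cases c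
  exacts [m1.1, m1.2, m2.1, m2.2, m3.1, m3.2, m4.1, m4.2]

theorem tr32 (B : Nrm F z3) : TR (B.e a b) 32 :=
  TR.of_bd (B.hiv a b) rfl (B.bd32 a b) (card24.trans (Subgroup.card_le_of_le (gen_mono (by decide))))

end H5.MC.Nrm
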