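import Mathlib
import Cfsg.Agent.H5.MCK4

/-! # The parabolic subgroup of order `9216` -/

set_option autoImplicit false
set_option linter.unusedSectionVars false
set_option linter.unusedVariables false
set_option linter.unnecessarySimpa false
set_option maxRecDepth 100000
set_option synthInstance.maxSize 100000

namespace H5.MC.Nrm

open H9 Cfsg H29 H7.Cay H9.MX H11.C3 H24 Subgroup CK

def LA : List ℕ := [0, 1, 2, 3, 24, 25, 26, 27, 10, 11, 12, 13, 14, 15]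
def pi (c : ℕ) : ℕ := [0, 1, 24, 25, 4, 5, 6, 7, 8, 9, 12, 13, 14, 15, 10, 11, 16, 17, 18, 19, 20, 21, 22, 23, 26, 27, 2, 3].getD c c
def T1 : List (ℕ × List ℕ) := [(0, [0, 2, 24, 26, 10]), (1, [0, 2, 24, 26, 10]), (2, [2]), (3, [3]), (24, [0, 12]), (25, [0, 13]), (26, [0, 15]), (27, [0, 14]), (10, [24, 27]), (11, [25, 26]), (12, [0, 2, 27, 11]), (13, [0, 2, 26, 10]), (14, [0, 2, 24, 10]), (15, [0, 2, 25, 11])]
def T2 : List (ℕ × List ℕ) := [(0, [0, 24, 26, 2, 12]), (1, [0, 24, 26, 2, 12]), (2, [0, 11]), (3, [0, 10]), (24, [24]), (25, [25]), (26, [0, 14]), (27, [0, 15]), (10, [0, 24, 26, 12]), (11, [0, 24, 27, 13]), (12, [26, 3]), (13, [27, 2]), (14, [0, 24, 3, 13]), (15, [0, 24, 2, 12])]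
def T3 : List (ℕ × List ℕ) := [(0, [0, 26, 2, 24, 14]), (1, [0, 26, 2, 24, 14]), (2, [0, 10]), (3, [0, 11]), (24, [0, 13]), (25, [0, 12]), (26, [26]), (27, [27]), (10, [0, 26, 25, 15]), (11, [0, 26, 24, 14]), (12, [0, 26, 2, 14]), (13, [0, 26, 3, 15]), (14, [2, 25]), (15, [3, 24])]
def piT (T : List (ℕ × List ℕ)) : List (ℕ × List ℕ) := T.map fun p => (pi p.1, p.2.map pi)
def R2c : List (List ℕ × List ℕ) := [([32, 32], [16, 12]), ([34, 34], [16, 14]), ([8, 32, 9, 34], []), ([6, 32, 6, 32, 6, 32], []), ([34, 6, 34, 6, 34, 6], []), ([32, 34, 32, 34, 32, 34], []), ([6, 32, 34, 6, 32, 34], [0, 2, 26, 13])]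

variable {H : Subgroup PG} {X : Type*} [Group X] [Finite X] {F : Fr H X} (B : Nrm F z3) (a b : X)

theorem r_pi : ∀ c ∈ LA, F.r * B.e a b c * F.r⁻¹ = B.e a b (pi c) := by
  have h : ∀ {x y : X}, F.r * x * F.r⁻¹ = y → F.r * x⁻¹ * F.r⁻¹ = y⁻¹ := fun h => by rw [← h, conj_inv]
  have h0 := F.r_t.symm.mul_inv_cancel
  have h1 := r_cj2 (F := F) B.d
  have h2 : F.r * (F.r⁻¹ * B.d * F.r) * F.r⁻¹ = B.d := by group
  have h3 := F.r_cj (s := j1) (u := j2) (by decide +kernel)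
  have h4 := F.r_cj (s := j2) (u := j3) (by decide +kernel)
  have h5 := F.r_cj (s := j3) (u := j1) (by decide +kernel)
  simp only [LA, List.forall_mem_cons]
  exact ⟨h0, h h0, rfl, h rfl, h1, h h1, h2, h h2, h3, h h3, h4, h h4, h5, h h5, by simp⟩

theorem r_piw : ∀ w : List ℕ, (∀ c ∈ w, c ∈ LA) → F.r * ev (B.e a b) w * F.r⁻¹ = ev (B.e a b) (w.map pi)
  | [], _ => by simp
  | c :: w, h => by
    rw [List.map_cons, ev_cons, ev_cons, ← conj_mul, r_piw w fun c hc => h c (List.mem_cons_of_mem _ hc),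
      B.r_pi a b c (h c List.mem_cons_self)]

def Act (y : X) (T : List (ℕ × List ℕ)) : Prop := ∀ p ∈ T, y * B.e a b p.1 * y⁻¹ = ev (B.e a b) p.2

variable {B a b}

theorem Act.r {y : X} {T T' : List (ℕ × List ℕ)} (h : B.Act a b y T)
    (h1 : (∀ p ∈ T, p.1 ∈ LA ∧ ∀ c ∈ p.2, c ∈ LA) ∧ ∀ p ∈ T', p ∈ piT T) : B.Act a b (F.r * y * F.r⁻¹) T' := fun p hp => by
  obtain ⟨q, hq, rfl⟩ := List.mem_map.1 (h1.2 p hp)
  rw [← B.r_pi a b _ (h1.1 q hq).1, ← B.r_piw a b _ (h1.1 q hq).2, ← h q hq]; group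

theorem cU {u : Ph} (hu : u.U0) : ∀ c ∈ LA, Commute (B.e a b c) (F.p u) := fun c hc => by
  have h : ∀ u : Ph, u.U0 → u.inn ∧ ∀ c ∈ LA, okW 32 (c :: wP u) (wP u ++ [c]) = true := by decide +kernel
  have := (B.tr32 a b).eq _ _ ((h u hu).2 c hc)
  rwa [ev_cons, ev_append, ev1, B.ev_wP a b (h u hu).1] at this

theorem Act.u {y : X} {T : List (ℕ × List ℕ)} (h : B.Act a b y T) (h1 : ∀ p ∈ T, p.1 ∈ LA) {u : Ph} (hu : u.U0) :
    B.Act a b (y * F.p u) T := fun p hp => cj_shift (h p hp) (cU hu _ (h1 p hp))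

theorem Act.nm {y : ℕ} {T : List (ℕ × List ℕ)} (h : B.Act a b (B.e a b y) T) (h1 : chkN LA [y] T = true) :
    CK.ee (B.e a b) y ∈ N[gen (CK.ee (B.e a b)) LA] := mem_N_gen fun c hc => by
  simp only [chkN, and2_true, allL_true, memL_true] at h1
  obtain ⟨p, hp, rfl⟩ := List.mem_map.1 (eqL_true h1.1 ▸ hc)
  obtain ⟨a1, a2⟩ := h1.2 p hp
  have := eqK_true.1 a2
  rw [ev_append, ev_append, ev1, ev1] at this
  rw [show CK.ee (B.e a b) y * CK.ee (B.e a b) p.1 * (CK.ee (B.e a b) y)⁻¹ = ev (CK.ee (B.e a b)) p.2 from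
    (Prod.ext (mul_inv_eq_iff_eq_mul.2 this) (h p hp)).trans (ev_ee _).symm]
  exact ev_mem_gen a1

variable (B a b)

theorem act1 : B.Act a b B.x T1 := fun p hp => by
  have h : ∀ p ∈ T1, okW 32 [6, p.1, 7] p.2 = true := by decide +kernel
  simpa [mul_assoc] using (B.tr32 a b).eq _ _ (h p hp)

theorem act2 : B.Act a b (F.r * B.x * F.r⁻¹) T2 := (B.act1 a b).r (by decide +kernel)
theorem act3 : B.Act a b (F.r⁻¹ * B.x * F.r) T3 := r_cj2 (F := F) B.x ▸ (B.act2 a b).r (by decide +kernel)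

/-- an element of `⟨t⟩ Y` as a word -/
theorem cent_w (hW : F.W = ⊥) {g : X} (h1 : Commute g F.t) (h2 : Commute g (F.p z1)) (h3 : Commute g (F.p z3)) :
    ∃ s : Ph, s.Y ∧ ∃ l ∈ [[], [0]], g = ev (B.e a b) (l ++ wP s) := by
  obtain ⟨s, hs, h⟩ := F.cent_tU B.one hW h1 h2 h3
  have := B.ev_wP a b ((by decide +kernel : ∀ s : Ph, s.Y → s.inn) s hs)
  rcases h with h | h
  · exact ⟨s, hs, [], by simp, by rw [h, List.nil_append, this]⟩
  · exact ⟨s, hs, [0], by simp, by rw [h, ev_append, this, ev1, e_0]⟩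

theorem centA (hW : F.W = ⊥) {g : X} (h : ∀ c ∈ LA, Commute g (B.e a b c)) : ∃ u : Ph, u.U0 ∧ g = F.p u := by
  have h2 : Commute g (B.d * B.d) := (h 2 (by decide)).mul_right (h 2 (by decide))
  have h3 : Commute g (F.p j3 * F.p j3) := (h 14 (by decide)).mul_right (h 14 (by decide))
  rw [B.dd] at h2
  rw [F.p_mul' (v := z3) (by decide +kernel)] at h3
  obtain ⟨s, hs, l, hl, rfl⟩ := B.cent_w a b hW (h 0 (by decide)) h2 h3
  have k : ∀ s : Ph, s.Y → ∀ l ∈ [[], [0]], (∀ c ∈ [2, 24, 26, 10, 12], blw 32 (l ++ wP s ++ [c]) = true ∧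
      blw 32 (c :: (l ++ wP s)) = true) ∧ ((∀ c ∈ [2, 24, 26, 10, 12], eqK (l ++ wP s ++ [c]) (c :: (l ++ wP s)) = true) →
      l = [] ∧ s.U0 ∧ s.inn) := by decide +kernel
  obtain ⟨k1, k2⟩ := k s hs l hl
  obtain ⟨rfl, k3, k4⟩ := k2 fun c hc => (B.tr32 a b).inj (by norm_num) (by norm_num) (B.hz a b) (blw_true (k1 c hc).1)
    (blw_true (k1 c hc).2) (by
      rw [ev_append _ _ [c], ev1, ev_cons]; exact h c (by revert c; decide))
  exact ⟨s, k3, B.ev_wP a b k4⟩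

theorem key (hW : F.W = ⊥) (h2 : B.Act a b a T2) (h3 : B.Act a b b T3) (w : List ℕ)
    (h : (∀ c ∈ w, c ∈ LA ∨ c = 6 ∨ c = 32 ∨ c = 34) ∧ eqK w [] = true) : ∃ u : Ph, u.U0 ∧ ev (B.e a b) w = F.p u := by
  have : ev (CK.ee (B.e a b)) w ∈ N[gen (CK.ee (B.e a b)) LA] := ev_mem fun c hc => by
    rcases h.1 c hc with h | rfl | rfl | rfl
    · exact norm_self _ (mem_gen h)
    · exact Act.nm (B.act1 a b) (by decide +kernel)
    · exact Act.nm h2 (by decide +kernel)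
    · exact Act.nm h3 (by decide +kernel)
  have h4 := (B.tr32 a b).cen (by decide) this (by rw [ev_ee]; exact eqK_true.1 h.2)
  rw [ev_ee] at h4
  exact B.centA a b hW h4

theorem bd36 (h2 : B.Act a b a T2) (h3 : B.Act a b b T3) (h : ∀ p ∈ R2c, ev (B.e a b) p.1 = ev (B.e a b) p.2) :
    Bd (Γ (B.e a b) 36) 9216 := by
  refine bd_univ (fun h1 h2 _ h => MCT2.bd h1 h2 h) (iv_ee (B.hiv a b)) (rels (by decide +kernel) ?_) (B.bd32 a b)
  rw [show MCT2.R0 = MCT2.R0.take 26 ++ (rl ((T2.filter fun p => p.1 % 2 = 0).map fun p => ([32, p.1], p.2 ++ [32])) ++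
    (rl ((T3.filter fun p => p.1 % 2 = 0).map fun p => ([34, p.1], p.2 ++ [34])) ++ rl R2c)) by decide +kernel]
  simp only [List.forall_mem_append]
  refine ⟨(B.tr32 a b).rel (by decide +kernel), rl_ok (B.hiv a b) fun p hp => ?_, rl_ok (B.hiv a b) fun p hp => ?_,
    rl_ok (B.hiv a b) h⟩ <;> obtain ⟨q, hq, rfl⟩ := List.mem_map.1 hp
  · rw [ev_append, ev2, ev1, ← h2 q (List.mem_of_mem_filter hq), e_32, inv_mul_cancel_right]
  · rw [ev_append, ev2, ev1, ← h3 q (List.mem_of_mem_filter hq), e_34, inv_mul_cancel_right]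

theorem cube {x u : X} (h : Commute x u) : x * u * (x * u * (x * u)) = x * (x * x) * (u * (u * u)) := by
  have := h.mul_pow 3
  simpa only [pow_succ, pow_zero, one_mul, mul_assoc] using this

theorem tr36 (hW : F.W = ⊥) : ∃ a b, TR (B.e a b) 36 := by
  obtain ⟨x, hx⟩ : ∃ x, x = B.x := ⟨_, rfl⟩
  obtain ⟨y, hy⟩ : ∃ y, y = F.r * x * F.r⁻¹ := ⟨_, rfl⟩
  obtain ⟨z, hz⟩ : ∃ z, z = F.r⁻¹ * x * F.r := ⟨_, rfl⟩
  have A2 : ∀ a b, B.Act a b y T2 := fun a b => hy ▸ hx ▸ B.act2 a b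
  have A3 : ∀ a b, B.Act a b z T3 := fun a b => hz ▸ hx ▸ B.act3 a b
  have xx : x * x = F.p i1 := hx ▸ B.xx
  have c6 : ∀ g a b : X, g * (a * b * (a * b * (a * b))) * g⁻¹ = g * a * g⁻¹ * (g * b * g⁻¹) *
    (g * a * g⁻¹ * (g * b * g⁻¹) * (g * a * g⁻¹ * (g * b * g⁻¹))) := fun g a b => by simp only [conj_mul]
  have ry : F.r * y * F.r⁻¹ = z := by rw [hy, hz, r_cj2]
  have rz : F.r * z * F.r⁻¹ = x := by rw [hz]; group
  have K := B.key y z hW (A2 _ _) (A3 _ _)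
  have T := B.tr32 y z
  have rU : ∀ u : Ph, u.U0 → u.inn ∧ u.V1 ∧ u * u = 1 ∧ ∃ u' : Ph, u'.U0 ∧ u'.inn ∧
      (NX.r * NX.of u' : N2) = NX.of u * NX.r := by decide +kernel
  have cr : ∀ g, (∀ u : Ph, u.U0 → Commute g (F.p u)) → ∀ u : Ph, u.U0 → Commute (F.r * g * F.r⁻¹) (F.p u) :=
    fun g h u hu => by
      obtain ⟨u1, -, -, u', u2, u3, u4⟩ := rU u hu
      rw [← F.r_cj ⟨u3, u1, u4⟩]
      simpa using (h u' u2).map (MulAut.conj F.r).toMonoidHom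
  have cx : ∀ u : Ph, u.U0 → Commute x (F.p u) := fun u hu => hx ▸ (B.cV (rU u hu).2.1).2.2
  have cy : ∀ u : Ph, u.U0 → Commute y (F.p u) := hy ▸ cr x cx
  have cz : ∀ u : Ph, u.U0 → Commute z (F.p u) := ry ▸ cr y cy
  have uu : ∀ u : Ph, u.U0 → F.p u * F.p u = 1 := fun u hu =>
    (F.p_mul' ⟨(rU u hu).1, (rU u hu).1, (rU u hu).2.2.1⟩).trans F.p_one
  have sx : F.p sg * x * (F.p sg)⁻¹ = x⁻¹ := by
    rw [hx, B.xs, eq_inv_iff_mul_eq_one, mul_assoc, ← (B.cV (s := i1) (by decide +kernel)).2.2.eq, ← mul_assoc, B.xx,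
      F.p_mul' (v := 1) (by decide +kernel), F.p_one]
  have sz : F.p sg * z * (F.p sg)⁻¹ = y⁻¹ := by rw [hz, s_cj, sx, hy, conj_inv]
  have ss : F.p sg * F.p sg = 1 := (F.p_mul' (by decide +kernel)).trans F.p_one
  have sy : F.p sg * y * (F.p sg)⁻¹ = z⁻¹ := by
    rw [← inv_inv y, ← sz, conj_inv, ← mul_assoc, ← mul_assoc, ss, mul_assoc, mul_assoc, ← mul_inv_rev, ss]; simp
  obtain ⟨u, u1, u2⟩ := K [32, 34, 32, 34, 32, 34] (by decide +kernel)
  replace u2 : y * z * (y * z * (y * z)) = F.p u := by simpa [mul_assoc] using u2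
  have u3 : Commute (F.p sg) (F.p u) := by
    rw [commute_iff_eq, ← mul_inv_eq_iff_eq_mul]
    conv_lhs => rw [← u2, c6, sy, sz]
    rw [eq_inv_of_mul_eq_one_left (uu u u1), ← u2]; group
  have u4 : sg * u = u * sg := F.p_inj (F.inn ((by decide +kernel : ∀ v : Ph, v.U0 → (sg * v).inn) u u1))
    (F.inn ((by decide +kernel : ∀ v : Ph, v.U0 → (v * sg).inn) u u1)) (by
      rw [F.p_mul (F.inn (by decide)) (F.inn (rU u u1).1), F.p_mul (F.inn (rU u u1).1) (F.inn (by decide))]; exact u3)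
  obtain ⟨m, m1, n, n1, e1, e2, e3, e4⟩ : ∃ m : Ph, m.U0 ∧ ∃ n : Ph, n.U0 ∧ (NX.r * NX.of u : N2) = NX.of n * NX.r ∧
      (NX.r * NX.of n : N2) = NX.of m * NX.r ∧ m * n = u ∧ sg * m = n * sg :=
    (by decide +kernel : ∀ u : Ph, u.U0 → sg * u = u * sg → ∃ m : Ph, m.U0 ∧ ∃ n : Ph, n.U0 ∧
      (NX.r * NX.of u : N2) = NX.of n * NX.r ∧ (NX.r * NX.of n : N2) = NX.of m * NX.r ∧ m * n = u ∧ sg * m = n * sg) u u1 u4
  have ui := (rU u u1).1
  have mi := (rU m m1).1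
  have ni := (rU n n1).1
  have v2 : z * x * (z * x * (z * x)) = F.p n := by
    rw [← F.r_cj ⟨ui, ni, e1⟩, ← u2, c6, ry, rz]
  have v3 : x * y * (x * y * (x * y)) = F.p m := by
    rw [← F.r_cj ⟨ni, mi, e2⟩, ← v2, c6, rz, ← hy]
  have mn : F.p m * F.p n = F.p u := F.p_mul' ⟨mi, ni, e3⟩
  have sm : F.p sg * F.p m * (F.p sg)⁻¹ = F.p n := by
    rw [mul_inv_eq_iff_eq_mul, ← F.p_mul (F.inn (by decide)) (F.inn mi), e4, F.p_mul (F.inn ni) (F.inn (by decide))]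
  obtain ⟨k, k1, k2⟩ := K [6, 32, 34, 6, 32, 34, 12, 27, 3, 1] (by decide +kernel)
  replace k2 : x * y * z * (x * y * z) = F.p k * ev (B.e y z) [0, 2, 26, 13] := by
    rw [← k2]; simp [mul_assoc, hx]
  have k3 : F.r * F.p k * F.r⁻¹ = F.p k := by
    have a1 : y * z * x * (y * z * x) = F.r * F.p k * F.r⁻¹ * ev (B.e y z) [0, 24, 2, 15] := by
      rw [← show _ = ev (B.e y z) [0, 24, 2, 15] from B.r_piw y z [0, 2, 26, 13] (by decide), conj_mul, ← k2]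
      conv_lhs => rw [← rz, ← ry]
      nth_rewrite 1 [hy]
      nth_rewrite 3 [hy]
      simp only [conj_mul]
      rw [ry]
    have a2 : x⁻¹ * ev (B.e y z) [0, 2, 26, 13] * x = ev (B.e y z) [0, 24, 2, 15] := by
      rw [← T.eq [7, 0, 2, 26, 13, 6] [0, 24, 2, 15] (by decide +kernel)]; simp [mul_assoc, hx]
    refine mul_right_cancel (a1.symm.trans ?_)
    calc _ = x⁻¹ * (x * y * z * (x * y * z)) * x := by group
      _ = _ := by rw [k2, ← a2, ← mul_assoc, (cx k k1).inv_left.eq]; group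
  obtain ⟨k', k4, k5, k6⟩ : ∃ k' : Ph, k'.inn ∧ (NX.r * NX.of k : N2) = NX.of k' * NX.r ∧ (k' = k → k = 1) :=
    (by decide +kernel : ∀ k : Ph, k.U0 → ∃ k' : Ph, k'.inn ∧ (NX.r * NX.of k : N2) = NX.of k' * NX.r ∧
      (k' = k → k = 1)) k k1
  rw [F.r_cj ⟨(rU k k1).1, k4, k5⟩] at k3
  rw [k6 (F.p_inj (F.inn k4) (F.inn (rU k k1).1) k3), F.p_one, one_mul] at k2
  have yz : y * F.p m * (z * F.p n) = y * z * F.p u := by rw [← mn, ((cz m m1).symm.mul_mul_mul_comm _ _)]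
  refine ⟨y * F.p m, z * F.p n, TR.of_bd (B.hiv _ _) rfl (B.bd36 _ _ ((A2 _ _).u (by decide) m1)
    ((A3 _ _).u (by decide) n1) ?_) card36⟩
  simp only [R2c, List.forall_mem_cons, ev_cons, ev_nil, mul_one, e_0, e_2, e_6, e_8, e_9, e_12, e_13, e_14, e_16, e_26,
    e_32, e_34, ← hx]
  refine ⟨?_, ?_, ?_, ?_, ?_, ?_, ?_, by simp⟩
  · rw [(cy m m1).symm.mul_mul_mul_comm, uu m m1, mul_one, hy, conj_mul, xx, F.r_cj (u := i2) (by decide +kernel), pi2]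
  · rw [(cz n n1).symm.mul_mul_mul_comm, uu n n1, mul_one, ← ry, hy, conj_mul, conj_mul, xx,
      F.r_cj (u := i2) (by decide +kernel), F.r_cj (u := i3) (by decide +kernel), F.p_mul' (v := i3) (by decide +kernel)]
  · rw [← mul_assoc, ← mul_assoc, ← conj_mul, sy, sm, mul_assoc, ← mul_assoc (F.p n), ← (cz n n1).eq, mul_assoc, uu n n1]
    simp
  · have := cube (((cx m m1).mul_left (cy m m1)))
    rw [v3, uu m m1, mul_one, uu m m1] at this
    simpa only [mul_assoc] using this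
  · have := cube (((cz n n1).mul_left (cx n n1)))
    rw [v2, uu n n1, mul_one, uu n n1, mul_assoc z, (cx n n1).eq] at this
    simpa only [mul_assoc] using this
  · have := cube (((cy u u1).mul_left (cz u u1)))
    rw [u2, uu u u1, mul_one, uu u u1, ← yz] at this
    simpa only [mul_assoc] using this
  · have := (((cx u u1).mul_left ((cy u u1).mul_left (cz u u1))).symm.mul_mul_mul_comm (x * (y * z)) (F.p u))
    rw [uu u u1, mul_one, mul_assoc x, ← yz, ← mul_assoc x y, k2] at this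
    simpa only [mul_assoc, ev_cons, ev_nil, mul_one, e_0, e_2, e_13, e_26] using this

end H5.MC.Nrm
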