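import Mathlib
import Cfsg.Agent.H5.MCK5

/-! # The case `4³`: the double cover of `Sp₆(2)` inside the centralizer of `z1` -/

set_option autoImplicit false
set_option linter.unusedSectionVars false
set_option linter.unusedVariables false
set_option linter.unnecessarySimpa false
set_option maxRecDepth 100000
set_option synthInstance.maxSize 100000
set_option Elab.async false

namespace H5.MC

open H9 Cfsg H29 H7.Cay H9.MX H11.C3 H24 Subgroup CK

namespace Nrm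

def LM : List ℕ := [0, 1, 2, 3, 10, 11, 16, 17, 8, 9, 20, 21]
def LV : List ℕ := [2, 3, 20, 21, 22, 23, 28, 29, 30, 31]
def Tn : List (ℕ × List ℕ) := [(10, [20, 8, 22]), (16, [8, 18]), (8, [16, 8]), (20, [22]), (22, [20, 22]), (18, [18])]
def Tx : List (ℕ × List ℕ) := [(0, [0]), (2, [2]), (4, [6]), (6, [7, 5])]
def Mb : List (ℕ × List ℕ) := [(0, [0, 3, 16, 20]), (1, [0, 3, 16, 20]), (2, [0, 2, 10, 20]), (3, [0, 2, 11, 20]), (10, [2, 11, 16, 20]), (11, [2, 10, 16, 20]), (16, [0, 10, 16, 20]), (17, [0, 10, 16, 20]), (8, [0, 2, 10, 16, 8]), (9, [0, 2, 10, 16, 8]), (20, [20]), (21, [20])]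
def Mx : List (ℕ × List ℕ) := [(0, [2, 2, 16]), (1, [2, 2, 16]), (2, [0, 2, 11, 20]), (3, [0, 2, 10, 20]), (10, [3, 16]), (11, [2, 16]), (16, [0, 16, 20]), (17, [0, 16, 20]), (8, [2, 8, 20]), (9, [2, 8, 20]), (20, [20]), (21, [20])]
def Mr : List (ℕ × List ℕ) := [(0, [0]), (1, [0]), (2, [2]), (3, [3]), (10, [10, 16, 8, 20]), (11, [10, 16, 20, 8]), (16, [2, 2, 8]), (17, [2, 2, 8]), (8, [16, 8]), (9, [16, 8]), (20, [11, 16]), (21, [11, 16])]
def Vb : List (ℕ × List ℕ) := [(2, [2]), (3, [3]), (20, [20]), (21, [20]), (22, [2, 2, 20, 28]), (23, [2, 2, 20, 28]), (28, [2, 20, 28, 22]), (29, [2, 20, 28, 22]), (30, [2, 28, 30]), (31, [2, 28, 30])]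
def Vc : List (ℕ × List ℕ) := [(2, [3]), (3, [2]), (20, [20]), (21, [20]), (22, [2, 22, 28]), (23, [2, 22, 28]), (28, [20, 28]), (29, [20, 28]), (30, [2, 22, 30, 20]), (31, [2, 22, 30, 20])]
def Vr : List (ℕ × List ℕ) := [(2, [2]), (3, [3]), (20, [22]), (21, [22]), (22, [20, 22]), (23, [20, 22]), (28, [2, 2, 30]), (29, [2, 2, 30]), (30, [2, 28, 30]), (31, [2, 28, 30])]
def Vt : List (ℕ × List ℕ) := [(2, [3]), (3, [2]), (20, [20]), (21, [20]), (22, [22]), (23, [22]), (28, [20, 28]), (29, [20, 28]), (30, [22, 30]), (31, [22, 30])]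
def Vi : List (ℕ × List ℕ) := [(2, [2]), (3, [3]), (20, [20]), (21, [20]), (22, [2, 2, 22]), (23, [2, 2, 22]), (28, [20, 28]), (29, [20, 28]), (30, [2, 22, 30, 20]), (31, [2, 22, 30, 20])]
def R3x : List (List ℕ × List ℕ) := [([0, 36], [36, 0]), ([2, 36], [36, 2]), ([36, 4, 37], [6]), ([36, 6, 37], [7, 5])]

variable {H : Subgroup PG} {X : Type*} [Group X] [Finite X] {F : Fr H X} {B : Nrm F z3} {a b : X}

theorem rho_mem : ∀ c ∈ LM ++ LV, ev (CK.ee (B.e a b)) [36] * CK.ee (B.e a b) c * (ev (CK.ee (B.e a b)) [36])⁻¹ ∈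
    Γ (B.e a b) 36 := by
  have h1 : B.Act a b F.ρ (Tx ++ Tn) := List.forall_mem_append.2 ⟨by
    simp only [Tx, List.forall_mem_cons]
    exact ⟨by simpa using F.ρ_t.symm.mul_inv_cancel, by simpa using B.dρ.symm.mul_inv_cancel, by simpa using B.ρw,
      by simpa using B.ρx, by simp⟩, fun p hp => by
    have h : ∀ p ∈ Tn, (∀ c ∈ [36, p.1, 37], c ∈ NL) ∧ (∀ c ∈ p.2, c ∈ NL) ∧ ev nL [36, p.1, 37] = ev nL p.2 := by
      decide +kernel
    rw [B.ev_n a b (h p hp).2.1, ← (h p hp).2.2, ← B.ev_n a b (h p hp).1, ev3, e_36, e_37]⟩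
  have h2 : ∀ p ∈ Tx ++ Tn, blw 36 p.2 = true ∧ eqK [36, p.1] (p.2 ++ [36]) = true := by decide +kernel
  let S := (Γ (B.e a b) 36).comap (MulAut.conj (CK.ee (B.e a b) 36)).toMonoidHom
  have h3 : ∀ c ∈ (Tx ++ Tn).map Prod.fst, CK.ee (B.e a b) c ∈ S := fun c hc => by
    obtain ⟨p, hp, rfl⟩ := List.mem_map.1 hc
    have := eqK_true.1 (h2 p hp).2
    rw [ev_append, ev2, ev1] at this
    change CK.ee (B.e a b) 36 * CK.ee (B.e a b) p.1 * (CK.ee (B.e a b) 36)⁻¹ ∈ Γ (B.e a b) 36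
    rw [show CK.ee (B.e a b) 36 * CK.ee (B.e a b) p.1 * (CK.ee (B.e a b) 36)⁻¹ = ev (CK.ee (B.e a b)) p.2 from
      (Prod.ext (mul_inv_eq_iff_eq_mul.2 this) (h1 p hp)).trans (ev_ee _).symm]
    exact ev_mem_gen (blw_true (h2 p hp).1)
  have h4 : CK.ee (B.e a b) 28 ∈ S := by
    rw [show CK.ee (B.e a b) 28 = CK.ee (B.e a b) 4 * CK.ee (B.e a b) 16 from
      Prod.ext (by simpa [CK.ee] using eqK_true.1 (show eqK [28] [4, 16] = true by decide +kernel)) rfl]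
    exact mul_mem (h3 4 (by decide)) (h3 16 (by decide))
  have h5 : CK.ee (B.e a b) 30 ∈ S := by
    rw [show CK.ee (B.e a b) 30 = CK.ee (B.e a b) 6 * CK.ee (B.e a b) 8 from
      Prod.ext (by simpa [CK.ee] using eqK_true.1 (show eqK [30] [6, 8] = true by decide +kernel)) rfl]
    exact mul_mem (h3 6 (by decide)) (h3 8 (by decide))
  have h6 : ∀ c ∈ 28 :: 30 :: (Tx ++ Tn).map Prod.fst, CK.ee (B.e a b) c ∈ S :=
    List.forall_mem_cons.2 ⟨h4, List.forall_mem_cons.2 ⟨h5, h3⟩⟩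
  intro c hc
  rw [ev1]
  obtain h | ⟨c', h, rfl⟩ := (by decide +kernel : ∀ c ∈ LM ++ LV, c ∈ 28 :: 30 :: (Tx ++ Tn).map Prod.fst ∨
    ∃ c' ∈ 28 :: 30 :: (Tx ++ Tn).map Prod.fst, iv c' = c) c hc
  · exact h6 c h
  · exact (iv_ee (B.hiv a b) c' ▸ inv_mem (h6 c' h) : CK.ee (B.e a b) (iv c') ∈ S)

theorem centM (hW : F.W = ⊥) {g : X} (h : ∀ c ∈ LM, Commute g (B.e a b c)) : g = 1 ∨ g = F.p z1 := by
  have hd : Commute g B.d := h 2 (by decide)
  obtain ⟨n, hn, h1⟩ := F.cent_tz B.one hW (h 0 (by decide)) (B.dd ▸ hd.mul_right hd)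
  have h2 : ∀ s : Ph, s.inn → Commute g (F.p s) → n * NX.of s = NX.of s * n := fun s hs h => F.n_comm hn hs (by
    rcases h1 with rfl | rfl
    · exact h
    · simpa using (F.p_t s).inv_left.mul_left h)
  have h3 : n = NX.of 1 ∨ n = NX.of z1 := (by decide +kernel : ∀ n : N1, n.p.inn → n * NX.of j1 = NX.of j1 * n →
    n * NX.of i0 = NX.of i0 * n → n * NX.of sg = NX.of sg * n → n * NX.of z3 = NX.of z3 * n →
    n = NX.of 1 ∨ n = NX.of z1) n hn (h2 _ (by decide) (h 10 (by decide))) (h2 _ (by decide) (h 16 (by decide)))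
    (h2 _ (by decide) (h 8 (by decide))) (h2 _ (by decide) (h 20 (by decide)))
  have h4 : ¬ Commute F.t B.d := fun h => (B.hz a b).1 (by simpa [h.symm.mul_inv_cancel] using B.dt)
  rcases h1 with rfl | rfl
  · rcases h3 with rfl | rfl <;> simp [F.p_one]
  · refine (h4 ?_).elim
    rcases h3 with rfl | rfl
    · simpa [F.p_one] using hd
    · simpa using hd.mul_left (B.dQ z1 (by decide)).symm.inv_left

theorem d4 (B : Nrm F z3) : B.d ^ 4 = 1 := sq4 B.dd ((F.p_mul' (by decide +kernel)).trans F.p_one)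

theorem mem_d {y : X} (h : y ∈ zpowers B.d) : y = 1 ∨ y = B.d ∨ y = B.d * B.d ∨ y = B.d⁻¹ := by
  obtain ⟨k, rfl⟩ := mem_zpowers_iff.1 h
  rw [zpow_eq_zpow_emod' k B.d4]
  have : k % (4 : ℕ) = 0 ∨ k % (4 : ℕ) = 1 ∨ k % (4 : ℕ) = 2 ∨ k % (4 : ℕ) = 3 := by omega
  rcases this with h | h | h | h <;> rw [h]
  · simp
  · simp
  · exact Or.inr (Or.inr (Or.inl (zpow_two _)))
  · refine Or.inr (Or.inr (Or.inr (eq_inv_of_mul_eq_one_left ?_)))
    rw [← zpow_add_one]; exact_mod_cast B.d4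

def FixP (p : List ℕ × List ℕ) : Prop :=
  (okW 36 (p.1 ++ p.2) (0 :: p.1) = true ∧ okW 36 (p.1 ++ [18]) (18 :: p.1) = true ∧
    okW 36 (p.1 ++ [20]) (20 :: p.1) = true) ∧ ∀ s : Ph, s.Y → ∀ l ∈ [[], [0]],
    ∀ u ∈ [invW iv p.1 ++ (l ++ wP s) ++ p.1], blw 36 u = true ∧
    ((∀ c ∈ [2, 22, 28, 30], eqK (u ++ [c]) (c :: u) = true) → ∃ v ∈ [[], [2], [2, 2], [3]], okW 36 u v = true)

theorem fix0 : FixP ([], [0]) := by unfold FixP; decide +kernel
theorem fix1 : FixP ([2, 6, 32, 6, 35], [16]) := by unfold FixP; decide +kernel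
theorem fix2 : FixP ([6, 32, 34, 32], [0, 16]) := by unfold FixP; decide +kernel

variable (T : TR (B.e a b) 36) (hW : F.W = ⊥)
include T hW

theorem fixV {y : X} (h : ∀ c ∈ LV, Commute y (B.e a b c)) {p : List ℕ × List ℕ}
    (hp : p ∈ [([], [0]), ([2, 6, 32, 6, 35], [16]), ([6, 32, 34, 32], [0, 16])]) (h1 : Commute y (ev (B.e a b) p.2)) : y ∈ zpowers B.d := by
  have k : ∀ p ∈ [([], [0]), ([2, 6, 32, 6, 35], [16]), ([6, 32, 34, 32], [0, 16])], FixP p := by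
    simpa only [List.forall_mem_cons, List.not_mem_nil, false_imp_iff, implies_true, and_true] using ⟨fix0, fix1, fix2⟩
  obtain ⟨⟨k1, k2, k3⟩, k4⟩ := k p hp
  have cj : ∀ {w : List ℕ} {c : ℕ}, okW 36 (p.1 ++ w) (c :: p.1) = true → Commute y (ev (B.e a b) w) →
      Commute (ev (B.e a b) p.1 * y * (ev (B.e a b) p.1)⁻¹) (B.e a b c) := fun {w c} h1 h2 => by
    have := T.eq _ _ h1
    rw [ev_append, ev_cons, ← mul_inv_eq_iff_eq_mul] at this
    rw [← this]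
    simpa using h2.map (MulAut.conj (ev (B.e a b) p.1)).toMonoidHom
  have hd : Commute y B.d := h 2 (by decide)
  obtain ⟨s, hs, l, hl, e⟩ := B.cent_w a b hW (cj k1 h1) (cj k2 (by rw [ev1, e_18, ← B.dd]; exact hd.mul_right hd))
    (cj k3 (by rw [ev1]; exact h 20 (by decide)))
  obtain ⟨k5, k6⟩ := k4 s hs l hl _ (List.mem_singleton_self _)
  have e' : ev (B.e a b) (invW iv p.1 ++ (l ++ wP s) ++ p.1) = y := by
    rw [ev_append, ev_append, ev_invW (B.hiv a b), ← e]; group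
  obtain ⟨v, hv, k7⟩ := k6 fun c hc => by
    have hc' : c ∈ List.range 36 ∧ c ∈ LV := by revert c; decide
    refine T.inj (by norm_num) le_rfl (B.hz a b) (List.forall_mem_append.2 ⟨blw_true k5, by simpa using hc'.1⟩)
      (List.forall_mem_cons.2 ⟨hc'.1, blw_true k5⟩) ?_
    rw [ev_append _ _ [c], ev1, ev_cons, e']; exact h c hc'.2
  rw [← e', T.eq _ _ k7]
  refine ev_mem fun c hc => ?_
  obtain rfl | rfl : c = 2 ∨ c = 3 := by clear k7; revert c v; decide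
  · exact mem_zpowers _
  · exact inv_mem (mem_zpowers _)

theorem centV {y : X} (h : ∀ c ∈ LV, Commute y (B.e a b c)) : y ∈ zpowers B.d := by
  set V := gen (B.e a b) LV
  set Z := zpowers B.d
  have mC : ∀ {y : X}, y ∈ C[V] ↔ ∀ c ∈ LV, Commute y (B.e a b c) := fun {y} =>
    ⟨fun h c hc => mem_C'.1 h _ (mem_gen hc), fun h => mem_C_iff_le_C1.2 (gen_le.2 fun c hc => mem_C1.2 (h c hc).symm)⟩
  have nV : ∀ (c : ℕ) (t : List (ℕ × List ℕ)), t.map Prod.fst = LV ∧ (∀ p ∈ t, (∀ c ∈ p.2, c ∈ LV) ∧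
      okW 36 [c, p.1, iv c] p.2 = true) → B.e a b c ∈ N[C[V]] := fun c t h => N_le_NC _ (mem_N_gen fun x hx => by
    obtain ⟨p, hp, rfl⟩ := List.mem_map.1 (h.1 ▸ hx)
    rw [← B.hiv a b c, ← ev3, T.eq _ _ (h.2 p hp).2]; exact ev_mem_gen (h.2 p hp).1)
  have nt : F.t ∈ N[C[V]] := nV 0 Vt (by decide +kernel)
  have ni : F.p i0 ∈ N[C[V]] := nV 16 Vi (by decide +kernel)
  have dC : B.d ∈ C[V] := mC.2 fun c hc => by
    simpa [commute_iff_eq] using T.eq [2, c] [c, 2] ((by decide +kernel : ∀ c ∈ LV, okW 36 [2, c] [c, 2] = true) c hc)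
  have CZ : C[V] ≤ C[Z] := by rw [C_zpowers]; exact C_le_C1 (mem_gen (c := 2) (by decide))
  have CN : C[V] ≤ N[Z] := CZ.trans (C_le_N _)
  have td : F.t * B.d * F.t⁻¹ = B.d⁻¹ := by simpa [mul_assoc] using T.eq [0, 2, 1] [3] (by decide +kernel)
  have zt : F.t ∈ N[Z] := mem_N_of_finite fun x hx => (zpowers_le_of_mem (H := Z.comap (MulAut.conj F.t).toMonoidHom)
    (show F.t * B.d * F.t⁻¹ ∈ Z from td ▸ inv_mem (mem_zpowers _))) hx
  have zi : F.p i0 ∈ N[Z] := C_le_N _ (by rw [C_zpowers]; exact mem_C1.2 (B.dQ i0 (by decide)).symm)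
  have nT : ∀ w : List ℕ, ∀ c, okW 36 (w ++ [c, 0]) (22 :: w) = true → ∀ y : X, y⁻¹ * (F.t * y * F.t⁻¹) ≠ B.e a b c :=
    fun w c h y e => by
      have := T.eq _ _ h
      rw [ev_append, ev2, ev_cons, ← e, e_0, e_22, ← mul_inv_eq_iff_eq_mul] at this
      exact F.not_T (s := i1) (by decide +kernel) (isConj_iff.2 ⟨ev (B.e a b) w * y⁻¹, by rw [← this]; group⟩)
  have ft : ∀ y ∈ C[V], y⁻¹ * (F.t * y * F.t⁻¹) ∈ Z → y ∈ Z := fun y hy h => by
    have f := fun {y : X} (hy : y ∈ C[V]) (h : Commute y F.t) =>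
      fixV T hW (mC.1 hy) (p := ([], [0])) (by simp) (by simpa using h)
    rcases mem_d h with h | h | h | h
    · exact f hy (by rw [inv_mul_eq_one, eq_mul_inv_iff_mul_eq] at h; exact h)
    · exact absurd h (nT [32, 6, 34] 2 (by decide +kernel) y)
    · refine (mul_mem_cancel_right (mem_zpowers B.d)).1 (f (mul_mem hy dC) ?_)
      rw [inv_mul_eq_iff_eq_mul] at h
      rw [Commute, SemiconjBy, eq_comm, ← mul_inv_eq_iff_eq_mul, ← conj_mul, h, td]; group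
    · exact absurd h (nT [32, 6, 35] 3 (by decide +kernel) y)
  have At := fpf_mod CN nt zt F.tt ft
  have od : ∀ y ∈ C[V], y * y ∈ Z → y ∈ Z := fun y hy h => ft y hy (by
    simpa [mul_assoc] using mul_mem (inv_mem h) (At y hy))
  have fτ : ∀ τ : X, (∀ y ∈ C[V], Commute y τ → y ∈ Z) → ∀ y ∈ C[V], y⁻¹ * (τ * y * τ⁻¹) ∈ Z → y ∈ Z :=
    fun τ hτ y hy h => by
      have h1 : Commute y (y⁻¹ * (τ * y * τ⁻¹)) := mem_C'.1 (CZ hy) _ h
      have h2 : (y⁻¹ * (τ * y * τ⁻¹)) ^ 4 = 1 := by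
        obtain ⟨k, hk⟩ := mem_zpowers_iff.1 h
        rw [← hk, ← zpow_natCast, ← zpow_mul, mul_comm, zpow_mul, zpow_natCast, B.d4, one_zpow]
      have h3 := h1.mul_pow 4
      rw [h2, mul_one, mul_inv_cancel_left, conj_pow, mul_inv_eq_iff_eq_mul] at h3
      refine od y hy (od _ (mul_mem hy hy) ?_)
      simpa only [pow_succ, pow_zero, one_mul, mul_assoc] using hτ _ (pow_mem hy 4) h3.symm
  have ii : F.p i0 * F.p i0 = 1 := (F.p_mul' (by decide +kernel)).trans F.p_one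
  have Ai := fpf_mod CN ni zi ii (fτ _ fun y hy h =>
    fixV T hW (mC.1 hy) (p := ([2, 6, 32, 6, 35], [16])) (by simp) (by simpa using h))
  have Ati := fpf_mod CN (mul_mem nt ni) (mul_mem zt zi)
    (by rw [(F.p_t i0).symm.mul_mul_mul_comm, F.tt, ii, one_mul]) (fτ _ fun y hy h =>
    fixV T hW (mC.1 hy) (p := ([6, 32, 34, 32], [0, 16])) (by simp) (by simpa using h))
  have hy := mC.2 h
  have hu := conj_mem ni hy
  refine od y hy ?_
  convert mul_mem (mul_mem (Ai y hy) (inv_mem (conj_mem (CN (inv_mem hu)) (At _ hu))))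
    (conj_mem (CN (inv_mem hy)) (Ati y hy)) using 1
  group

theorem sp1 : ev (B.e a b) [37, 32, 6, 34, 36, 35, 7, 33, 36, 35, 6, 35, 32] = 1 := by
  have i := iv_ee (B.hiv a b)
  have n1 := T.nm (L := LM) (t := Mr) (by decide) (fun c hc => rho_mem c (List.mem_append_left _ hc)) (by decide +kernel)
  have n2 := T.nm' (L := LM) (y := [32, 6, 34]) (t := Mb) (by decide +kernel)
  have n3 := T.nm' (L := LM) (y := [33, 34, 7, 34]) (t := Mx) (by decide +kernel)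
  have e : [37, 32, 6, 34, 36, 35, 7, 33, 36, 35, 6, 35, 32] = invW iv [36] ++ [32, 6, 34] ++ [36] ++ invW iv [32, 6, 34] ++ [36] ++
    invW iv [33, 34, 7, 34] := by decide +kernel
  have h1 := T.cen (L := LM) (by decide) (y := ev (CK.ee (B.e a b)) [37, 32, 6, 34, 36, 35, 7, 33, 36, 35, 6, 35, 32]) (by
    rw [e]; simp only [ev_append, ev_invW i]
    exact mul_mem (mul_mem (mul_mem (mul_mem (mul_mem (inv_mem n1) n2) n1) (inv_mem n2)) n1) (inv_mem n3))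
    (by rw [ev_ee]; exact eqK_true.1 (show eqK _ [] = true by decide +kernel))
  rw [ev_ee] at h1
  refine (centM hW h1).elim id fun h2 => ((B.hz a b).1 ?_).elim
  rw [e] at h2
  simp only [ev_append, ev_invW (B.hiv a b), ev1, e_36] at h2
  have h3 : Commute (F.p z1) (ev (B.e a b) [33, 34, 7, 34]) := by
    simpa [commute_iff_eq, mul_assoc] using T.eq [18, 33, 34, 7, 34] [33, 34, 7, 34, 18] (by decide +kernel)
  have h4 : ev (B.e a b) [33, 34, 7, 34] ^ 3 = 1 := by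
    rw [← ev_powW]; exact T.eq _ [] (by decide +kernel)
  have h5 := h3.mul_pow 3
  rw [h4, ← mul_inv_eq_iff_eq_mul.1 h2, show F.ρ⁻¹ * ev (B.e a b) [32, 6, 34] * F.ρ * (ev (B.e a b) [32, 6, 34])⁻¹ * F.ρ =
    F.ρ⁻¹ * ev (B.e a b) [32, 6, 34] * F.ρ * (F.ρ⁻¹ * ev (B.e a b) [32, 6, 34])⁻¹ by group, conj_pow, pow_three, F.ρ3,
    pow_three, F.p_mul' (v := 1) (by decide +kernel), F.p_one] at h5
  rw [mul_one, mul_inv_cancel, mul_one, mul_one] at h5
  exact h5.symm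

theorem sp2 : ev (B.e a b) [7, 34, 33, 36, 34, 32, 36, 33, 35, 37, 32, 35, 6, 37] = 1 := by
  have i := iv_ee (B.hiv a b)
  have n1 := T.nm (L := LV) (t := Vr) (by decide) (fun c hc => rho_mem c (List.mem_append_right _ hc)) (by decide +kernel)
  have n2 := T.nm' (L := LV) (y := [34, 32]) (t := Vb) (by decide +kernel)
  have n3 := T.nm' (L := LV) (y := [32, 35, 6]) (t := Vc) (by decide +kernel)
  have e : [7, 34, 33, 36, 34, 32, 36, 33, 35, 37, 32, 35, 6, 37] = invW iv [32, 35, 6] ++ [36] ++ [34, 32] ++ [36] ++ invW iv [34, 32] ++ invW iv [36] ++ [32, 35, 6] ++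
    invW iv [36] := by decide +kernel
  have h1 := T.cen (L := LV) (by decide) (y := ev (CK.ee (B.e a b)) [7, 34, 33, 36, 34, 32, 36, 33, 35, 37, 32, 35, 6, 37]) (by
    rw [e]; simp only [ev_append, ev_invW i]
    exact mul_mem (mul_mem (mul_mem (mul_mem (mul_mem (mul_mem (mul_mem (inv_mem n3) n1) n2) n1) (inv_mem n2))
      (inv_mem n1)) n3) (inv_mem n1))
    (by rw [ev_ee]; exact eqK_true.1 (show eqK _ [] = true by decide +kernel))
  rw [ev_ee] at h1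
  have h2 := centV T hW h1
  obtain ⟨y, hy⟩ : ∃ y, y = ev (B.e a b) [7, 34, 33, 36, 34, 32, 36, 33, 35, 37, 32, 35, 6, 37] := ⟨_, rfl⟩
  change ev (B.e a b) [7, 34, 33, 36, 34, 32, 36, 33, 35, 37, 32, 35, 6, 37] ∈ _ at h2
  rw [← hy] at h2 ⊢
  rw [e] at hy
  simp only [ev_append, ev_invW (B.hiv a b), ev1, e_36] at hy
  obtain ⟨k, rfl⟩ := mem_zpowers_iff.1 h2
  have h5 := (B.dρ.zpow_left k).mul_pow 3
  rw [← mul_inv_eq_iff_eq_mul.1 hy.symm, show (ev (B.e a b) [32, 35, 6])⁻¹ * F.ρ * ev (B.e a b) [34, 32] * F.ρ *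
    (ev (B.e a b) [34, 32])⁻¹ * F.ρ⁻¹ * ev (B.e a b) [32, 35, 6] = (ev (B.e a b) [32, 35, 6])⁻¹ * F.ρ *
    ev (B.e a b) [34, 32] * F.ρ * ((ev (B.e a b) [32, 35, 6])⁻¹ * F.ρ * ev (B.e a b) [34, 32])⁻¹ by group, conj_pow,
    pow_three F.ρ, F.ρ3, mul_one, mul_one, mul_inv_cancel] at h5
  have h6 : (B.d ^ k) ^ 4 = 1 := by
    rw [← zpow_natCast, ← zpow_mul, mul_comm, zpow_mul, zpow_natCast, B.d4, one_zpow]
  rwa [pow_succ, ← h5, one_mul] at h6

theorem tr38 : TR (B.e a b) 38 := by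
  refine TR.of_bd (B.hiv a b) rfl (m := 315 * 9216) (bd_univ (fun h1 h2 _ h => MCT3.bd h1 h2 h) (iv_ee (B.hiv a b))
    (rels (by decide +kernel) ?_) ?_) (by rw [top38, card_top, cardK])
  · rw [show MCT3.R0 = MCT3.R0.take 87 ++ ((MCT3.R0.drop 87).take 8 ++ (rl R3x ++
      [[37, 32, 6, 34, 36, 35, 7, 33, 36, 35, 6, 35, 32], [7, 34, 33, 36, 34, 32, 36, 33, 35, 37, 32, 35, 6, 37]])) by decide +kernel]
    simp only [List.forall_mem_append]
    refine ⟨T.rel (by decide +kernel), B.rel_n a b (by decide +kernel), rl_ok (B.hiv a b) ?_, by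
      simpa only [List.forall_mem_cons, List.not_mem_nil, false_imp_iff, implies_true, and_true] using
        ⟨sp1 T hW, sp2 T hW⟩⟩
    simp only [R3x, List.forall_mem_cons]
    exact ⟨by simpa using F.ρ_t.eq, by simpa using B.dρ.eq, by simpa [mul_assoc] using B.ρw,
      by simpa [mul_assoc] using B.ρx, by simp⟩
  · let f : Γ (B.e a b) 36 → snd.sub := fun y => ⟨y.1.1, by
      obtain ⟨w, h1, h2, -⟩ := T.word y.2
      exact le36 (h2 ▸ ev_mem_gen h1)⟩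
    exact ⟨inferInstance, card_B ▸ Nat.card_le_card_of_injective f fun x y h =>
      Subtype.ext (T.uniq x.2 y.2 (congrArg Subtype.val h))⟩

theorem hom : ∃ j : K →* X, Function.Injective j ∧ j (φ 1) = F.p z1 ∧ j (φ 2) = F.p z2 ∧ j (φ 20) = F.t ∧
    ∀ g, Commute g F.t → Commute g (F.p z1) → g ∈ j.range := by
  obtain ⟨j, hr, hj⟩ := exists_hom_of_tr (tr38 T hW).tr iv1 (B.hiv a b) (iv_range rfl) top38
  have jw : ∀ w : List ℕ, (∀ c ∈ w, c ∈ List.range 38) → j (ev CK.e1 w) = ev (B.e a b) w := fun w hw => by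
    rw [map_ev]; exact ev_congr fun c hc => hj c (hw c hc)
  have e18 := (e1_eq 18 (by norm_num)).2
  have e20 := (e1_eq 20 (by norm_num)).2
  refine ⟨j, (injective_iff_map_eq_one j).2 fun k hk => ?_, e18 ▸ hj 18 (by decide), ?_,
    (e1_eq 0 (by norm_num)).2 ▸ hj 0 (by decide), fun g h1 h2 => ?_⟩
  · have f0 : ∀ k ∈ j.ker, Commute k (CK.e1 20) → k = 1 := fun k hk h => by
      have : k * φ 2 = φ 2 * k := by
        rw [← φ_mul' (a := 1) (b := 3) (by decide +kernel), ← mul_assoc, z_comm, mul_assoc, mul_assoc]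
        exact congrArg _ (e20 ▸ h)
      obtain ⟨c, hc, rfl⟩ := cent_x this
      obtain ⟨w, h1, h2⟩ := exists_word iv1 (iv_range (n := 36) rfl) (φ36 (c := c) (by omega))
      have := T.gi' (by norm_num) le_rfl (B.hz a b) (ev_mem_gen h1) (by
        rw [ev_ee, ← jw w fun c hc => List.mem_range.2 ((List.mem_range.1 (h1 c hc)).trans (by norm_num)), h2]; exact hk)
      rwa [ev_ee, h2] at this
    have f1 : ∀ g : K, ∀ k ∈ j.ker, Commute k (g * CK.e1 20 * g⁻¹) → k = 1 := fun g k hk h => by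
      have := f0 _ ((MonoidHom.normal_ker j).conj_mem' k hk g) (by
        simpa [mul_assoc] using h.map (MulAut.conj g⁻¹).toMonoidHom)
      rwa [mul_assoc, inv_mul_eq_one, eq_comm, mul_eq_right] at this
    have nn : ∀ g : K, g ∈ N[j.ker] := fun g => norm_of_normal ⊤ _ (mem_top g)
    have s : CK.e1 20 * CK.e1 20 = 1 := by simpa using eqK_true.1 (show eqK [20, 20] [] = true by decide +kernel)
    have f2 : ∀ g : K, ∀ k ∈ j.ker, g * CK.e1 20 * g⁻¹ * k * (g * CK.e1 20 * g⁻¹)⁻¹ = k⁻¹ := fun g k hk =>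
      A.inv_of_fix (nn _) (by rw [conj_mul, s]; simp) (f1 g) hk
    have r : CK.e1 37 * CK.e1 20 * (CK.e1 37)⁻¹ = CK.e1 20 * (CK.e1 36 * CK.e1 20 * (CK.e1 36)⁻¹) := by
      rw [← iv1 36, ← iv1 37]
      simpa [mul_assoc] using eqK_true.1 (show eqK [37, 20, iv 37] [20, 36, 20, iv 36] = true by decide +kernel)
    have g1 := f2 1 k⁻¹ (inv_mem hk)
    have g2 := f2 (CK.e1 36) k hk
    have g3 := f2 (CK.e1 37) k hk
    rw [one_mul, inv_one, mul_one, inv_inv] at g1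
    rw [r, mul_inv_rev, mul_assoc (CK.e1 20), ← mul_assoc, mul_assoc (CK.e1 20), g2, g1] at g3
    rw [← g3, mul_inv_eq_iff_eq_mul] at g1
    exact f0 k hk g1.symm
  · rw [← φ_mul' (a := 1) (b := 3) (by decide +kernel), map_mul, ← F.p_mul' (s := z1) (u := z3) (by decide +kernel)]
    exact congrArg₂ _ (e18 ▸ hj 18 (by decide)) (e20 ▸ hj 20 (by decide))
  · obtain ⟨n, hn, h⟩ := F.cent_tz B.one hW h1 h2
    have hρ := F.h12 (NX.r_12 (X := X1))
    have m : F.n n ∈ j.range := by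
      have : ∀ k : ℕ, F.e (pm X1.r ^ k) = F.ρ ^ k := fun k => by
        rw [Fr.ρ, rho, F.e_eq hρ, ← map_pow, F.e_eq (pow_mem hρ k)]; rfl
      rw [Fr.n, NX.emb_eq, F.e_mul (F.inn hn) (pow_mem hρ _), this, hr]
      refine mul_mem ?_ (pow_mem (mem_gen (c := 36) (by decide)) _)
      change F.p n.p ∈ _
      exact B.ev_wP a b hn ▸ gen_mono (by decide) (ev_mem_gen (wP_ok _ hn).2.1)
    rcases h with rfl | rfl
    · exact m
    · exact mul_mem (hr ▸ mem_gen (c := 0) (by decide)) m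

end Nrm

theorem CaseC.hom {H : Subgroup PG} {X : Type*} [Group X] [Finite X] {F : Fr H X} (B : CaseC F) (hW : F.W = ⊥) :
    ∃ j : K →* X, Function.Injective j ∧ j (φ 1) = F.p z1 ∧ j (φ 2) = F.p z2 ∧ j (φ 20) = F.t ∧
      ∀ g, Commute g F.t → Commute g (F.p z1) → g ∈ j.range := by
  obtain ⟨v, ⟨B'⟩⟩ := B.nrm
  rcases B'.v_cases with rfl | rfl
  · obtain ⟨B''⟩ := B'.ce
    obtain ⟨a, b, T⟩ := B''.tr36 hW
    have := Nrm.hom T hW
    rwa [F.ce_p B'.one (a := z1) (b := z1) (by decide +kernel), F.ce_p B'.one (a := z2) (b := z2) (by decide +kernel)] at this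
  · obtain ⟨a, b, T⟩ := B'.tr36 hW
    exact Nrm.hom T hW

end H5.MC
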