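import Mathlib
import Cfsg.Agent.H5.MC2
import Cfsg.Agent.H11.C3Fin
import Cfsg.Agent.H14.CCI

/-! # The case of the third Conway group -/

set_option autoImplicit false
set_option linter.unusedSectionVars false
set_option linter.unusedVariables false

namespace H5.MC

open H9 Cfsg H24 Subgroup

open H11.C3 in
theorem endC {H : Subgroup PG} {G X : Type*} [Group G] [Finite G] [IsSimpleGroup G] [Group X] [Finite X]
    (hG : ¬ IsMulCommutative G) {F : Fr H G} {F' : Fr H X} (C : Cov F F') (h0 : emb c0 ∉ H) (j : K →* X)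
    (hj : Function.Injective j) (h1 : j (φ 1) = F'.p z1) (h2 : j (φ 2) = F'.p z2) (ht : j (φ 20) = F'.t)
    (hc : ∀ g, Commute g F'.t → Commute g (F'.p z1) → g ∈ j.range) : Spor.IsoCo3 G := by
  obtain ⟨μ, hμ⟩ : ∃ μ : pre C.π j.range →* K, ∀ x ∈ pre C.π j.range, j (ap μ x) = ap C.π x := by
    let f : pre C.π j.range →* j.range := (C.π.comp (inclusion (pre_le _ _))).codRestrict _
      fun x => by
        have := (mem_pre.1 x.2).2
        rwa [ap_of_mem _ (pre_le _ _ x.2)] at this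
    refine ⟨(MonoidHom.ofInjective hj).symm.toMonoidHom.comp f, fun x hx => ?_⟩
    rw [ap_of_mem _ hx, ap_of_mem _ (pre_le _ _ hx)]
    exact MonoidHom.apply_ofInjective_symm hj _
  have eN : ∀ x ∈ H, F.e x ∈ N[F.W] ∧ ap C.π (F.e x) = F'.e x := fun x hx => by
    rw [F.e_eq hx, F'.e_eq hx]
    exact ⟨F.Wn _, (ap_of_mem _ (F.Wn _)).trans (C.πψ _)⟩
  have pC : ∀ s : Ph, s.inn → F.p s ∈ C[F.W] := fun s hs => by
    rw [Fr.p, F.e_eq (F.inn hs)]
    exact F.WL _ (emb_12.2 hs)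
  have tN : F.t ∈ N[F.W] := C_le_N _ (mem_C_iff_le_C1.2 F.Wt)
  have tπ : ap C.π F.t = F'.t := (ap_of_mem _ tN).trans (C.πt _)
  have kW : ∀ x ∈ N[F.W], ap C.π x = 1 → x ∈ F.W := fun x hx e =>
    (C.ker ⟨x, hx⟩).1 ((ap_of_mem _ hx).symm.trans e)
  have kM : ∀ x ∈ pre C.π j.range, ap μ x = 1 → x ∈ F.W := fun x hx e =>
    kW x (pre_le _ _ hx) (by rw [← hμ x hx, e, map_one])
  have oW : ∀ x ∈ F.W, Odd (orderOf x) := fun x hx => F.odd.of_dvd_nat (orderOf_dvd_card' hx)
  have cN : C{F.t} ≤ N[F.W] := fun g hg => by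
    obtain ⟨w, hw, x, hx, rfl | rfl⟩ := F.cent' (g := g) (mem_C1.1 hg)
    · exact mul_mem (norm_self _ hw) (eN x hx).1
    · exact mul_mem (norm_self _ hw) (mul_mem tN (eN x hx).1)
  have i1 : z1.inn := by decide
  have i2 : z2.inn := by decide
  have zN := eN _ (F.inn i1)
  have uN := eN _ (F.inn i2)
  have zM : F.p z1 ∈ pre C.π j.range := mem_pre.2 ⟨zN.1, _, h1.trans zN.2.symm⟩
  have uM : F.p z2 ∈ pre C.π j.range := mem_pre.2 ⟨uN.1, _, h2.trans uN.2.symm⟩
  have tM : F.t ∈ pre C.π j.range := mem_pre.2 ⟨tN, _, ht.trans tπ.symm⟩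
  have μz : ap μ (F.p z1) = φ 1 := hj ((hμ _ zM).trans (zN.2.trans h1.symm))
  have zz : F.p z1 * F.p z1 = 1 := by
    rw [← F.p_mul (F.inn i1) (F.inn i1), show z1 * z1 = 1 by decide +kernel, F.p_one]
  have rH : r2 ∈ H := F.h12 NX.r_12
  have er : F.r * F.p z1 * F.r⁻¹ = F.p z2 := by
    have := congrArg NX.emb (show (NX.r : N2) * NX.of z1 = NX.of z2 * NX.r by decide +kernel)
    rw [map_mul, map_mul, NX.emb_of, NX.emb_of, NX.emb_r] at this
    rw [mul_inv_eq_iff_eq_mul, Fr.r, Fr.p, Fr.p, ← F.e_mul rH (F.inn i1), ← F.e_mul (F.inn i2) rH]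
    exact congrArg F.e this
  let S : H14.CC.St G :=
    { M := pre C.π j.range
      μ := μ
      surj := fun k => by
        obtain ⟨x, hx⟩ := C.surj (j k)
        have h3 : x.1 ∈ pre C.π j.range := mem_pre.2 ⟨x.2, k, by rw [ap_coe, hx]⟩
        exact ⟨⟨x, h3⟩, hj (by rw [← ap_of_mem μ h3, hμ _ h3, ap_coe, hx])⟩
      ker := fun x hx e => oW x (kM x hx e)
      z := F.p z1
      u := F.p z2
      t := F.t
      zM := zM
      uM := uM
      tM := tM
      μz := μz
      μu := hj ((hμ _ uM).trans (uN.2.trans h2.symm))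
      μt := hj ((hμ _ tM).trans (tπ.trans ht.symm))
      zz := zz
      uu := by rw [← er, conj_mul, zz]; simp
      tt := F.tt
      zc := fun m hm => by
        have h3 := mul_mem (mul_mem hm zM) (inv_mem hm)
        have h4 := kM _ (mul_mem h3 zM) (by
          rw [ap_mul _ h3 zM, ap_conj _ hm zM, μz, z_comm (ap μ m), mul_inv_cancel_right, z_sq])
        have h5 := mem_C.1 (pC z1 i1) _ h4
        have h6 : m * F.p z1 * m⁻¹ * (m * F.p z1 * m⁻¹) = 1 := by rw [conj_mul, zz]; simp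
        refine mem_C1_iff_conj.2 ?_
        generalize m * F.p z1 * m⁻¹ = v at *
        have h7 := ((H14.CC.two_sq h6).mul (H14.CC.two_sq zz) (by
          rw [← mul_assoc] at h5; exact mul_right_cancel h5)).eq_one
          ((piNat_compl_singleton Nat.prime_two).2 (oW _ h4).not_two_dvd_nat)
        rw [eq_inv_of_mul_eq_one_left h7, H6.inv_eq_of_mul_self zz]
      uc := fun x hx e => mem_C.1 (pC z2 i2) _ (kM x hx e)
      ct := fun g g1 g2 => by
        have h3 := cN (mem_C1.2 g1)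
        refine mem_pre.2 ⟨h3, hc _ ?_ ?_⟩
        · rw [Commute, SemiconjBy, ← tπ, ← ap_mul _ h3 tN, g1, ap_mul _ tN h3]
        · rw [Commute, SemiconjBy, Fr.p, ← zN.2, ← ap_mul _ h3 zN.1, ← Fr.p, g2]
          exact ap_mul _ zN.1 h3
      nz := F.nz'
      uz := (isConj_iff.2 ⟨_, er⟩).symm }
  have hN : N[F.W] = ⊤ := S.eq_top (pre_le _ _) cN (inv_mem (eN _ rH).1) (by
    change F.r⁻¹ * F.p z2 * F.r⁻¹⁻¹ = F.p z1
    rw [← er]; group)
  have ev : ∀ W : Subgroup G, W.Normal → Odd (Nat.card W) → W = ⊥ := fun W hW h3 =>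
    hW.eq_bot_or_eq_top.resolve_right fun e => by
      rw [e, card_top] at h3
      exact h3.not_two_dvd_nat (F.ot ▸ orderOf_dvd_natCard _)
  have hW := ev _ (normalizer_eq_top_iff.1 hN) F.odd
  refine S.iso (ev _ inferInstance H17.odd_card_pPrimeCore)
    ((IsSimpleGroup.eq_bot_or_eq_top_of_normal _ inferInstance).resolve_right
      fun e => hG ⟨⟨fun a b => mem_center_iff.mp (e ▸ mem_top b) a⟩⟩)
    ((injective_iff_map_eq_one _).2 fun x hx => Subtype.ext ?_)
  exact mem_bot.1 (hW ▸ kM x x.2 ((ap_coe _ _).trans hx))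

end H5.MC
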