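import Mathlib
import Cfsg.Agent.H5.MCQ
import Cfsg.Agent.H0.MCP2

/-! # Phase one: an exact frame is in one of three cases -/

set_option autoImplicit false
set_option linter.unusedSectionVars false
set_option linter.unusedVariables false
set_option maxRecDepth 100000

namespace H5.MC.P0

open H9 Cfsg H24 Subgroup

theorem gd : i1 * rc i1 = z3 ∧ cn i2 i1 = rc i1 ∧ z3 * cn sg z3 = z1 ∧ cn j1 z3 = z3 ∧ cn i2 z1 = z1 ∧
    (1⁻¹ * (sg * sg)).V1 ∧ (1⁻¹ * (j1 * j1)).V1 ∧ (rc sg).Q ∧ (rc (rc sg)).Q ∧ rc (rc (rc sg)) = sg ∧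
    ((sg * j1)⁻¹ * rc sg).V1 ∧ (j1⁻¹ * rc (rc sg)).V1 ∧ ((sg * j1)⁻¹ * cn i2 sg).V1 ∧ sg.Q ∧
    z1 ≠ z1 * z1⁻¹ ∧ 1 ≠ z1 * 1⁻¹ ∧ 1 * z1 = z1 := by decide +kernel
theorem gz : ∀ c : Ph, c.V1 → rc (rc c) = c → c = 1 ∨ c = z1 := by decide +kernel
theorem ge : i2 * i2 = 1 ∧ i0.Q ∧ i0 * i2 = j2 ∧ j1.Q ∧ z1.Q ∧ z2.Q ∧ z3.Q ∧ cn j3 i1 = i1 * z3 ∧ j3 * j3 = z3 ∧
    cn j1 j3 = j3 ∧ cn j3 e1 ≠ e1 ∧ e1.Jh ∧ j3.J ∧ ¬ e1.inn ∧ cn i0 z1 = z1 := by decide +kernel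

variable {H : Subgroup PG} {X : Type*} [Group X] [Finite X] {F : Fr H X} {s u v : Ph} {x y g : X}

theorem out_c0 (F : Fr H X) (h : ¬ s.inn) (hs : emb s ∈ H) : emb c0 ∈ H :=
  ((F.mem_iff (emb_AM s)).1 hs).resolve_left fun k => h (emb_12.1 k)

theorem InA.cV' (hx : InA F x v) (hu : u.V1) (y : X) : F.p u * (x * y) = x * (F.p u * y) := by
  rw [← mul_assoc, hx.cV hu, mul_assoc]
theorem pinv (h : v.V1) : (F.p v)⁻¹ = F.p v := inv_eq_of_mul_eq_one_right (psq F h)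
theorem Vmul (hu : u.V1) (hv : v.V1) : (u * v).V1 := (fV u hu).2.2.2.2.2.1 v hv
theorem pmV (hu : u.V1) (hv : v.V1) : F.p u * F.p v = F.p (u * v) := (ZV hu).pm (ZV hv)

/-- the elements `d`, `w` and their first relations -/
structure St (F : Fr H X) where
  d : X
  w : X
  δ : Ph
  x : Ph
  y : Ph
  s : Ph
  η : Ph
  hd : InA F d z1
  hw : InA F w z3
  dρ : κ F.ρ d = d
  ds : κ (F.p sg) d = d
  dj : κ (F.p j1) d = d
  dd : d * d = F.p δ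
  hδ : δ = 1 ∨ δ = z1
  di : κ (F.p i2) d = d * F.p η
  hη : η = 1 ∨ η = z1
  w3 : w * κ F.ρ w * κ F.ρ (κ F.ρ w) = 1
  ww : w * w = F.p s
  hs : Z F s
  wi : ∃ u : Ph, u.V1 ∧ κ (F.p i2) w = w⁻¹ * F.p u
  wj : κ (F.p j1) w = w * F.p x
  hx : x.U0
  ws : κ (F.p sg) w = w * d * F.p y
  hy : y.V1
  hm : δ⁻¹ * (y * cn sg y) = 1

theorem exSt (hW : F.W = ⊥) (hE : HE F) : Nonempty (St F) := by
  obtain ⟨c1, c2, c3, c4, c5, c6, c7, c8, c9, c10, c11, c12, c13, c14, c15, c16, -⟩ := gd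
  have i : emb i2 ∈ H := F.inn (by decide +kernel)
  have j : emb j1 ∈ H := F.inn (by decide +kernel)
  have g : emb sg ∈ H := F.inn (by decide +kernel)
  have z : z1.V1 := by decide +kernel
  obtain ⟨w0, hw0⟩ := exA hW
  obtain ⟨a, ha⟩ : ∃ a, InA F a i1 := ⟨_, gc.2.2.2.2.1 ▸ hw0.cρ⟩
  obtain ⟨w, ew⟩ : ∃ w, w = a * (κ F.ρ a)⁻¹ := ⟨_, rfl⟩
  have hw : InA F w z3 := by rw [ew, ← c1]; exact ha.mul ha.cρ.inv
  have w3 : w * κ F.ρ w * κ F.ρ (κ F.ρ w) = 1 := by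
    simp only [ew, map_mul, map_inv, κρ3]; group
  obtain ⟨u, hu, wi⟩ : ∃ u : Ph, u.V1 ∧ κ (F.p i2) w = w⁻¹ * F.p u := by
    obtain ⟨s, h1, h2, τ, h3, e⟩ := ha.cρ.eqv hW (c2 ▸ ha.cp i)
    have hs : Z F s := ⟨h1, h2⟩
    have t : κ F.ρ τ = τ := by
      rcases h3 with rfl | rfl
      · exact map_one _
      · exact κρt F
    have t' : ∀ s, τ * F.p s = F.p s * τ := fun s => by
      rcases h3 with rfl | rfl
      · rw [one_mul, mul_one]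
      · exact (F.p_t s).eq
    refine ⟨_, (gK s h1).2, ?_⟩
    rw [ew, map_mul, map_inv, κi2, e, map_mul, map_mul, map_mul, map_mul, κρ3, t, t, hs.κρ, hs.rc.κρ,
      mul_inv_rev a (κ F.ρ a)⁻¹, inv_inv, mul_assoc (κ F.ρ a) a⁻¹, ← ha.inv.cV (gK s h1).2,
      ← hs.pm hs.rc.rc.inv, F.p_inv hs.rc.rc.m, t' s, t' (rc (rc s))]
    group
  have hd0 : InA F (w⁻¹ * κ (F.p sg) w) z1 := c3 ▸ hw.inv.mul (hw.cp g)
  obtain ⟨y, hy, dρ⟩ := hd0.fix hW hE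
  obtain ⟨d, ed⟩ : ∃ d, d = w⁻¹ * κ (F.p sg) w * F.p y := ⟨_, rfl⟩
  have hd : InA F d z1 := by
    rw [ed, ← mul_one z1]; exact hd0.mul (inA_p (Or.inl hy) (IV F hy))
  rw [← ed] at dρ
  have ws : κ (F.p sg) w = w * d * F.p y := by
    rw [ed, mul_assoc, mul_assoc, psq F hy, mul_one, mul_inv_cancel_left]
  have sq : ∀ {a v s}, InA F a v → emb s ∈ H → (1⁻¹ * (s * s)).V1 → κ (F.p s) (κ (F.p s) a) = a :=
    fun ha hs h => by rw [← κ_mul, ← F.p_mul hs hs, ha.κV I_one (I_mul hs hs) h, F.p_one, κ_one]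
  obtain ⟨x, x1, x2, τ, hτ, wj⟩ := hw.eqv hW (c4 ▸ hw.cp j)
  have hx : Z F x := ⟨x1, x2⟩
  have xU : x.U0 := fj x x1 ((hx.mul (hx.cn j)).one (by
    have := sq hw j c7
    rw [wj, map_mul, wj, map_mul, κp F j x2, mul_assoc, mul_eq_left] at this
    rw [← hx.pm (hx.cn j), ← this]
    rcases hτ with rfl | rfl
    · rw [map_one, one_mul, one_mul]
    · rw [κpt, mul_assoc, inA_t.mv' hE hx, ← mul_assoc F.t, F.tt, one_mul]))
  obtain ⟨δ, hδ, dd⟩ := hd.sq' hW hE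
  have Zy := ZV (F := F) hy
  have hm := hδ.inv.mul (Zy.mul (Zy.cn g))
  have ds : κ (F.p sg) d = d * F.p (δ⁻¹ * (y * cn sg y)) := by
    have := sq hw g c6
    rw [ws, map_mul, map_mul, ws, κp F g Zy.m, mul_assoc, mul_assoc, mul_assoc, mul_eq_left] at this
    rw [← hδ.inv.pm (Zy.mul (Zy.cn g)), ← Zy.pm (Zy.cn g), F.p_inv hδ.m, ← dd,
      eq_inv_of_mul_eq_one_right (psq F hy), eq_inv_of_mul_eq_one_right (psq F ((fV y hy).2.2.2.2.2.2.1 sg).1)]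
    calc _ = (F.p y)⁻¹ * d⁻¹ * (d * (F.p y * (κ (F.p sg) d * F.p (cn sg y)))) * (F.p (cn sg y))⁻¹ := by group
      _ = _ := by rw [this, ← F.p_inv Zy.m, hd.inv.mv hE Zy.inv]; group
  have dj : κ (F.p j1) d = d * F.p (rc (rc (δ⁻¹ * (y * cn sg y)))) := by
    rw [← hd.κV j (F.inn c9.1) c12, ← κρ F (Or.inr c8) (F.inn c8.1), ← κρ F (Or.inr c14) g]
    conv_lhs => rw [← dρ, ← dρ, ← κ_κ, ← κ_κ, ds, map_mul, map_mul, dρ, dρ, hm.κρ, hm.rc.κρ]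
  obtain ⟨m1, hδ'⟩ := fd δ hδ.k (hδ.rc.inj hδ (by rw [← hδ.κρ, ← dd, map_mul, dρ])) y hy _ rfl
    ((hm.mul (hm.cn g)).one (by
      have := sq hd g c6
      rwa [ds, map_mul, ds, κp F g hm.m, mul_assoc, mul_eq_left, hm.pm (hm.cn g)] at this))
    ((hm.mul (hm.rc.rc.cn g)).inj hm.rc (by
      have := hd.κV (I_mul g j) (F.inn c8.1) c11
      rw [F.p_mul g j, κ_mul, dj, map_mul, ds, κp F g hm.rc.rc.m, mul_assoc, hm.pm (hm.rc.rc.cn g),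
        ← κρ F (Or.inr c14) g] at this
      conv_lhs at this => rw [← dρ, ← κ_κ, ds, map_mul, dρ, hm.κρ]
      exact (mul_left_cancel this).symm))
  have ds' := ds
  rw [m1, F.p_one, mul_one] at ds
  rw [m1, show rc (rc 1) = 1 by decide +kernel, F.p_one, mul_one] at dj
  have δV : δ.V1 := by rcases hδ' with rfl | rfl <;> decide +kernel
  have cV := fun s {v} (h : v.V1) => ((fV v h).2.2.2.2.2.2.1 s).1
  have xV := (fU x xU).1
  obtain ⟨v, hv, di⟩ : ∃ v : Ph, v.V1 ∧ κ (F.p i2) d = κ w (τ * d⁻¹) * F.p v := by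
    have hA : InA F τ 1 ∧ κ (F.p sg) τ = τ ∧ τ⁻¹ = τ := by
      rcases hτ with rfl | rfl
      · exact ⟨F.p_one ▸ inA_p (by decide +kernel) I_one, map_one _, inv_one⟩
      · exact ⟨inA_t, κpt F _, inv_eq_of_mul_eq_one_right F.tt⟩
    have E := κ_κ (F.p i2) (F.p sg) w
    rw [κp F i g, (hw.cp i).κV (I_mul g j) (I_cn i g) c13, F.p_mul g j, κ_mul, ws, wi] at E
    simp only [map_mul, map_inv, wi, wj, ws, hA.2.1, κp F i Zy.m, κp F j (IV F hu), κp F g x2,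
      κp F g (IV F (cV j1 hu))] at E
    have h1 := cV sg xV
    have h2 := cV sg (cV j1 hu)
    have h3 := cV i2 hy
    refine ⟨u * (cn sg x * (y * (cn sg (cn j1 u) * cn i2 y))), Vmul hu (Vmul h1 (Vmul hy (Vmul h2 h3))), ?_⟩
    rw [← mul_inv_cancel_right (κ (F.p i2) d) (F.p (cn i2 y)),
      ← inv_mul_cancel_left (w⁻¹ * F.p u) (κ (F.p i2) d * _), ← mul_assoc (w⁻¹ * F.p u), E, κ_def w, ← pmV hu (Vmul h1 (Vmul hy (Vmul h2 h3))),
      ← pmV h1 (Vmul hy (Vmul h2 h3)), ← pmV hy (Vmul h2 h3), ← pmV h2 h3]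
    simp only [mul_inv_rev, inv_inv, mul_assoc, pinv hu, pinv h1, pinv hy, pinv h3, hA.2.2, hw.cV' hu,
      hw.inv.cV' hu, hw.inv.cV' h1, hw.inv.cV' hy, hd.inv.cV' hu, hd.inv.cV' h1, hd.inv.cV' hy, hA.1.cV' hu,
      hA.1.cV' h1]
  rcases hτ with rfl | rfl
  swap
  · have E : κ (F.p i2) (d * d) = F.p (z1 * δ⁻¹) := by
      have hA : InA F (κ w (F.t * d⁻¹)) _ := (hw.mul (inA_t.mul hd.inv)).mul hw.inv
      have k : F.t * d⁻¹ * (F.t * d⁻¹) = F.t * κ d⁻¹ F.t * (d * d)⁻¹ := by rw [κ_def]; group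
      rw [map_mul, di, mul_assoc, hA.cV' hv, psq F hv, mul_one, ← map_mul, k, hd.inv.t, dd, ← mul_assoc, F.tt,
        one_mul, ← F.p_inv hδ.m, (ZV z).pm hδ.inv, hw.cK hE ((ZV z).mul hδ.inv)]
    rw [dd, κp F i hδ.m] at E
    have := (hδ.cn i).inj ((ZV z).mul hδ.inv) E
    rcases hδ' with rfl | rfl <;> exact absurd this (by decide +kernel)
  obtain ⟨c, hc, e⟩ := hd.comm hw hW hE
  have hη := (hδ.inv.mul (ZV hc)).mul (ZV hv)
  have di' : κ (F.p i2) d = d * F.p (δ⁻¹ * c * v) := by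
    rw [di, one_mul, map_inv, κ_def, e, mul_assoc (d * w), hw.inv.cV hc, ← mul_assoc, mul_inv_cancel_right,
      mul_inv_rev, pinv hc, hd.inv.cV hc, ← (hδ.inv.mul (ZV hc)).pm (ZV hv), ← hδ.inv.pm (ZV hc),
      F.p_inv hδ.m, ← dd]
    group
  obtain ⟨s, hs, ww⟩ := hw.sq' hW hE
  refine ⟨⟨d, w, δ, x, y, s, _, hd, hw, dρ, ds, dj, dd, hδ', di', gz _
    (Vmul (Vmul (by rcases hδ' with rfl | rfl <;> decide +kernel) hc) hv) (hη.rc.rc.inj hη ?_), w3, ww, hs,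
    ⟨u, hu, wi⟩, by rw [wj, one_mul], xU, ws, hy, m1⟩⟩
  have := κi2 F d
  rw [dρ, di', map_mul, map_mul, dρ, dρ, hη.κρ, hη.rc.κρ] at this
  exact (mul_left_cancel this).symm

namespace St

variable (S : St F)

theorem dp (hs : s.Q) : κ (F.p s) S.d = S.d := by
  obtain ⟨-, a, ha, b, hb, v, hv, rfl⟩ := fQ s hs
  have h1 : emb a ∈ H ∧ κ (F.p a) S.d = S.d := by
    rcases ha with rfl | rfl
    · exact ⟨I_one, by rw [F.p_one, κ_one]⟩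
    · exact ⟨F.inn (by decide +kernel), S.ds⟩
  have h2 : emb b ∈ H ∧ κ (F.p b) S.d = S.d := by
    rcases hb with rfl | rfl
    · exact ⟨I_one, by rw [F.p_one, κ_one]⟩
    · exact ⟨F.inn (by decide +kernel), S.dj⟩
  rw [F.p_mul (I_mul h1.1 h2.1) (IV F hv), F.p_mul h1.1 h2.1, κ_mul, κ_mul, S.hd.V hv, h2.2, h1.2]

theorem dw (hW : F.W = ⊥) (hE : HE F) : κ S.d S.w = S.w := by
  obtain ⟨c, hc, e⟩ := S.hw.comm S.hd hW hE
  have j : emb j1 ∈ H := F.inn (by decide +kernel)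
  have g : emb sg ∈ H := F.inn (by decide +kernel)
  have Zc := ZV (F := F) hc
  have xV := (fU _ S.hx).1
  have e : κ S.d S.w = S.w * F.p c := by
    rw [κ_def, e, mul_assoc, S.hd.inv.cV hc, ← mul_assoc, mul_inv_cancel_right]
  have cm : ∀ {a b : Ph}, a.V1 → b.V1 → F.p a * F.p b = F.p b * F.p a := fun ha hb =>
    (inA_p (Or.inl hb) (IV F hb)).cV ha
  rw [e, fdw c hc ((Zc.cn j).inj Zc ?_) ((Zc.cn g).inj Zc ?_) (((Zc.mul Zc.rc).mul Zc.rc.rc).one ?_), F.p_one,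
    mul_one]
  · have := κ_κ (F.p j1) S.d S.w
    rw [e, map_mul, S.dj, S.wj, map_mul, e, S.hd.c _ xV, κp F j Zc.m, mul_assoc, mul_assoc, cm hc xV] at this
    exact mul_left_cancel (mul_left_cancel this)
  · have := κ_κ (F.p sg) S.d S.w
    rw [e, map_mul, S.ds, S.ws, map_mul, map_mul, e, S.hd.c _ S.hy, κp F g Zc.m, κ_eq.2 (Commute.refl _),
      mul_assoc S.w (F.p c), S.hd.cV hc, ← mul_assoc S.w, mul_assoc, mul_assoc _ (F.p c), cm hc S.hy] at this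
    exact mul_left_cancel (mul_left_cancel this)
  · have e2 : κ S.d (κ F.ρ S.w) = κ F.ρ S.w * F.p (rc c) := by
      conv_lhs => rw [← S.dρ, ← κ_κ, e, map_mul, Zc.κρ]
    have e3 : κ S.d (κ F.ρ (κ F.ρ S.w)) = κ F.ρ (κ F.ρ S.w) * F.p (rc (rc c)) := by
      conv_lhs => rw [← S.dρ, ← κ_κ, e2, map_mul, Zc.rc.κρ]
    have := congrArg (κ S.d) S.w3
    have w3 := S.w3
    rw [map_mul, map_mul, e, e2, e3, map_one] at this
    simp only [mul_assoc, S.hw.cρ.mv' hE Zc, S.hw.cρ.cρ.mv' hE Zc, S.hw.cρ.cρ.mv' hE Zc.rc] at this w3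
    rw [← (Zc.mul Zc.rc).pm Zc.rc.rc, ← Zc.pm Zc.rc, mul_assoc, ← this, ← mul_assoc (κ F.ρ S.w),
      ← mul_assoc S.w, w3, one_mul]

theorem D1 (hW : F.W = ⊥) (hE : HE F) : (S.δ = 1 ∧ (S.x = 1 ∨ S.x = z1) ∧ (S.y = 1 ∨ S.y = z1)) ∨
    (S.δ = z1 ∧ (S.x = z3 ∨ S.x = z2)) := by
  obtain ⟨-, -, -, -, -, -, -, c8, c9, c10, c11, c12, -⟩ := gd
  have j : emb j1 ∈ H := F.inn (by decide +kernel)
  have g : emb sg ∈ H := F.inn (by decide +kernel)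
  have Zx := ZV (F := F) (fU _ S.hx).1
  have Zy := ZV (F := F) S.hy
  have Zd : Z F S.δ := ZV (by rcases S.hδ with e | e <;> rw [e] <;> decide +kernel)
  have Zu := (Zy.mul (Zx.cn g)).rc.rc
  refine fD1 _ S.hδ _ S.hx _ S.hy S.hm ((Zd.mul ((Zy.mul Zx.rc).mul Zu)).one ?_)
  have k1 : ∀ a, κ (F.p sg) (κ F.ρ a) = κ F.ρ (κ (F.p (rc (rc sg))) a) := fun a => by
    rw [κ_κ F.ρ, κρ F (Or.inr c9) (F.inn c9.1), c10]
  have e2 : κ (F.p sg) (κ F.ρ S.w) = κ F.ρ S.w * F.p (rc S.x) := by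
    rw [k1, S.hw.κV j (F.inn c9.1) c12, S.wj, map_mul, Zx.κρ]
  have e3 : κ (F.p sg) (κ F.ρ (κ F.ρ S.w)) =
      κ F.ρ (κ F.ρ S.w) * S.d * F.p (rc (rc (S.y * cn sg S.x))) := by
    rw [k1, ← κρ F (Or.inr c8) (F.inn c8.1), ← κ_κ, S.hw.κV (I_mul g j) (F.inn c8.1) c11, F.p_mul g j, κ_mul,
      S.wj, map_mul, S.ws, κp F g Zx.m, mul_assoc, Zy.pm (Zx.cn g), map_mul, map_mul, map_mul, map_mul, S.dρ,
      S.dρ, (Zy.mul (Zx.cn g)).κρ, (Zy.mul (Zx.cn g)).rc.κρ]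
  have d2 : κ S.d (κ F.ρ S.w) = κ F.ρ S.w := by
    conv_lhs => rw [← S.dρ, ← κ_κ, S.dw hW hE]
  have d3 : κ S.d (κ F.ρ (κ F.ρ S.w)) = κ F.ρ (κ F.ρ S.w) := by
    conv_lhs => rw [← S.dρ, ← κ_κ, d2]
  have := congrArg (κ (F.p sg)) S.w3
  have w3 := S.w3
  rw [map_mul, map_mul, S.ws, e2, e3, map_one] at this
  simp only [mul_assoc, S.hw.cρ.mv' hE Zy, S.hw.cρ.cρ.mv' hE Zy, S.hw.cρ.cρ.mv' hE Zx.rc, S.hd.mv' hE Zy,
    S.hd.mv' hE Zx.rc, (κ_eq.1 d2).left_comm, (κ_eq.1 d3).left_comm] at this w3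
  rw [← Zd.pm ((Zy.mul Zx.rc).mul Zu), ← (Zy.mul Zx.rc).pm Zu, ← Zy.pm Zx.rc, ← S.dd, mul_assoc, mul_assoc,
    ← this, ← mul_assoc (κ F.ρ S.w), ← mul_assoc S.w, w3, one_mul]

theorem D2 (hW : F.W = ⊥) (hE : HE F) : ∃ c, κ F.ρ S.w * S.w = S.w * κ F.ρ S.w * F.p c ∧
    ((S.δ = 1 ∧ ((S.s = 1 ∧ c = 1) ∨ (S.s = z1 ∧ c = z1))) ∨
      (S.δ = z1 ∧ ((S.s = z3 ∧ c = 1) ∨ (S.s = z2 ∧ c = z1)))) := by
  obtain ⟨c, hc, e⟩ := S.hw.comm S.hw.cρ hW hE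
  have j : emb j1 ∈ H := F.inn (by decide +kernel)
  have g : emb sg ∈ H := F.inn (by decide +kernel)
  have xV := (fU _ S.hx).1
  have Zd : Z F S.δ := ZV (by rcases S.hδ with e | e <;> rw [e] <;> decide +kernel)
  have hs := S.hs
  refine ⟨c, e, fD2 _ S.hδ _ hs.k ((hs.cn j).inj hs ?_) ((hs.cn g).inj (hs.mul Zd) ?_) c hc
    ((((hs.mul hs.rc).mul (ZV hc)).mul hs.rc.rc).one ?_)⟩
  · rw [← κp F j hs.m, ← S.ww, map_mul, S.wj, mul_assoc, S.hw.cV' xV, psq F xV, mul_one]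
  · rw [← κp F g hs.m, ← hs.pm Zd, ← S.ww, ← S.dd, map_mul, S.ws]
    simp only [mul_assoc, S.hw.cV' S.hy, S.hd.cV' S.hy, psq F S.hy, mul_one, (κ_eq.1 (S.dw hW hE)).left_comm]
  · rw [← ((hs.mul hs.rc).mul (ZV hc)).pm hs.rc.rc, ← (hs.mul hs.rc).pm (ZV hc), ← hs.pm hs.rc, ← hs.rc.κρ,
      ← hs.κρ, ← S.ww, map_mul, map_mul, eq_inv_of_mul_eq_one_right S.w3, mul_assoc _ (F.p c),
      mul_assoc (S.w * S.w), mul_assoc (κ F.ρ S.w), ← S.hw.cρ.cV' hc, ← mul_assoc (κ F.ρ S.w), mul_assoc S.w,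
      ← mul_assoc S.w (_ * F.p c), ← mul_assoc S.w (κ F.ρ S.w), ← e]
    group

theorem five (hW : F.W = ⊥) (hE : HE F) {a : X} (ha : (S.δ = 1 ∧ a = S.d) ∨ (S.δ = z1 ∧ a = F.t * S.d)) :
    ∃ j e u : Ph, (j = 1 ∧ S.η = 1 ∨ j = j3 ∧ S.η = z1 ∧ emb c0 ∉ H) ∧ Z F u ∧
      (e = 1 ∧ κ F.r⁻¹ a * F.p j = S.w * F.p u ∨ e = z3 ∧ κ F.r⁻¹ a * F.p j = S.w * (F.t * F.p u)) ∧
      j * j = S.s * (e * (u * u)) ∧ u * (j * j) = S.x * cn j1 u := by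
  obtain ⟨c1, c2, c3, c4, c5, c6, c7, c8, c9, c10, c11, c12, c13, c14, c15⟩ := ge
  obtain ⟨-, -, -, -, -, -, -, -, -, -, -, r1, r2, r3, r4, r5, r6, -, r7, -⟩ := fc
  have i : emb i2 ∈ H := F.inn (by decide +kernel)
  have j : emb j1 ∈ H := F.inn c4.1
  have j' : emb j3 ∈ H := F.inn (by decide +kernel)
  have z : z1.V1 := by decide +kernel
  have z' : z3.V1 := by decide +kernel
  have ηU : S.η.U0 := by rcases S.hη with e | e <;> rw [e] <;> decide +kernel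
  have ηV := (fU _ ηU).1
  obtain ⟨hA, aa, aQ, ai⟩ : InA F a z1 ∧ a * a = 1 ∧ (∀ s : Ph, s.Q → κ (F.p s) a = a) ∧
      κ (F.p i2) a = a * F.p S.η := by
    rcases ha with ⟨e, rfl⟩ | ⟨e, rfl⟩
    · exact ⟨S.hd, by rw [S.dd, e, F.p_one], fun s => S.dp, S.di⟩
    · refine ⟨one_mul z1 ▸ inA_t.mul S.hd, ?_, fun s hs => by rw [map_mul, κpt, S.dp hs],
        by rw [map_mul, κpt, S.di, mul_assoc]⟩
      rw [S.hd.tx, mul_assoc, ← mul_assoc (_ * _) S.d, mul_assoc F.t, S.hd.cV z, ← mul_assoc F.t, S.hd.tx,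
        mul_assoc, mul_assoc, mul_assoc, ← mul_assoc (F.p z1), psq F z, one_mul, ← mul_assoc F.t, F.tt, one_mul,
        ← mul_assoc, S.dd, e, psq F z]
  have tr : ∀ {s : Ph}, s.Jh → emb s ∈ H → κ a (F.p s) = F.p s →
      κ (κ F.r⁻¹ a) (F.p (rd s)) = F.p (rd s) := fun hs h e => by rw [← κr F hs h, ← κ_κ, e]
  have t1 := r3 ▸ tr (by decide +kernel) (IV F z') (hA.c _ z')
  have t2 := r1 ▸ tr (by decide +kernel) (IV F z) (hA.c _ z)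
  have t3 := r2 ▸ tr (by decide +kernel) (F.inn c6.1) (κ_symm (aQ _ c6))
  have t4 := r5 ▸ tr (by decide +kernel) j (κ_symm (aQ _ c4))
  have t5 : κ (κ F.r⁻¹ a) (F.p i1) = F.p i1 * F.p (rd S.η) := by
    have : κ a (F.p i2) = F.p i2 * F.p S.η := by
      have k : (F.p i2)⁻¹ = F.p i2 := by rw [← F.p_inv i, inv_eq_of_mul_eq_one_right c1]
      calc _ = F.p i2 * (κ (F.p i2) a * a⁻¹) := by
              rw [κ_def, κ_def, ← mul_assoc, ← mul_assoc, ← mul_assoc, ← F.p_mul i i, c1, F.p_one, one_mul, k]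
        _ = _ := by rw [ai, ← hA.cV ηV, mul_inv_cancel_right]
    rw [← r4, ← κr F (by decide +kernel) i, ← κ_κ, this, map_mul, κr F (fU _ ηU).2.1 (IV F ηV)]
  have t6 : κ (F.p j1) (κ F.r⁻¹ a) = κ F.r⁻¹ a * F.p (rd S.η) := by
    rw [← r6, ← κr F (by decide +kernel) (F.inn (by decide +kernel)), ← κ_κ, ← c3, F.p_mul (F.inn c2.1) i,
      κ_mul, ai, map_mul, aQ _ c2, κp F (F.inn c2.1) (IV F ηV), show cn i0 S.η = S.η by
        rcases S.hη with e | e <;> rw [e] <;> decide +kernel, map_mul, κr F (fU _ ηU).2.1 (IV F ηV)]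
  have t7 : κ (κ F.r⁻¹ a) F.t = F.t * F.p z3 := by
    rw [← κrt F, ← κ_κ, hA.t, map_mul, κr F (by decide +kernel) (IV F z), r1]
  obtain ⟨q, hq, q1, q2, q3, q4, q5, q6, q7⟩ : ∃ q : Ph, (q = 1 ∧ S.η = 1 ∨ q = j3 ∧ S.η = z1) ∧ q.J ∧
      emb q ∈ H ∧ rd S.η = q * q ∧ (q * q).V1 ∧ cn q i1 = i1 * (q * q) ∧ cn j1 q = q ∧
      κ (κ F.r⁻¹ a) (F.p q) = F.p q := by
    rcases S.hη with e | e
    · exact ⟨1, Or.inl ⟨rfl, e⟩, by decide +kernel, I_one, by rw [e]; decide +kernel, by decide +kernel,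
        by decide +kernel, by decide +kernel, by rw [F.p_one, map_one]⟩
    · exact ⟨j3, Or.inr ⟨rfl, e⟩, c13, j', by rw [e]; decide +kernel, by decide +kernel,
        by decide +kernel, c10, t4⟩
  have k : ∀ u : Ph, u.U0 → κ (F.p q) (F.p u) = F.p u := fun u hu => by
    rw [κp F q2 (IV F (fU u hu).1), (fU u hu).2.2.2.2 q q1]
  have iH : emb i1 ∈ H := F.inn (by decide +kernel)
  have hm : InA F (κ F.r⁻¹ a * F.p q) z3 := by
    refine ⟨z', fun u hu => ?_, by rw [κ_mul, κpt, t7]⟩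
    refine (V_ind (P := fun u => u.V1 ∧ κ (κ F.r⁻¹ a * F.p q) (F.p u) = F.p u)
      ⟨by decide +kernel, by rw [F.p_one, map_one]⟩ ⟨z, by rw [κ_mul, k _ (by decide +kernel), t3]⟩
      ⟨by decide +kernel, by rw [κ_mul, k _ (by decide +kernel), t1]⟩ ⟨by decide +kernel, ?_⟩
      (fun a b ha hb => ⟨Vmul ha.1 hb.1, by rw [← pmV ha.1 hb.1, map_mul, ha.2, hb.2]⟩) hu).2
    rw [κ_mul, κp F q2 iH, q5, F.p_mul iH (IV F q4), map_mul, t5, q3, F.p_mul q2 q2, map_mul, q7,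
      ← F.p_mul q2 q2, mul_assoc, psq F q4, mul_one]
  have m2 : κ F.r⁻¹ a * F.p q * (κ F.r⁻¹ a * F.p q) = F.p (q * q) := by
    rw [mul_assoc, ← mul_assoc (F.p q), ← (κ_eq.1 q7).eq, mul_assoc, ← mul_assoc, ← map_mul, aa, map_one,
      one_mul, F.p_mul q2 q2]
  have mj : κ (F.p j1) (κ F.r⁻¹ a * F.p q) = κ F.r⁻¹ a * F.p q * F.p (q * q) := by
    rw [map_mul, t6, q3, κp F j q2, q6, F.p_mul q2 q2, mul_assoc, mul_assoc, mul_assoc]
  have hq' : q = 1 ∧ S.η = 1 ∨ q = j3 ∧ S.η = z1 ∧ emb c0 ∉ H := hq.imp_right fun ⟨e, e'⟩ => ⟨e, e', fun h => by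
    have he : emb e1 ∈ H := (F.mem_iff (emb_AM _)).2 (Or.inr h)
    have u1 := tr c12 he (hE _ _ hA)
    have u2 : emb (rd e1) ∈ H := (F.mem_iff (emb_AM _)).2 (Or.inr h)
    have u3 : κ (κ F.r⁻¹ a) (F.p e1) = F.p e1 := by
      rw [← r7, F.p_mul u2 (I_mul j' (F.inn c6.1)), F.p_mul j' (F.inn c6.1), map_mul, map_mul, u1, t4, t1]
    have u4 := hE _ _ hm
    rw [κ_mul, ← u3] at u4
    have u5 := κ_inj u4
    rw [u3, e, κp F j' he] at u5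
    exact c11 (F.p_inj (I_cn j' he) he u5)⟩
  obtain ⟨u, u1, u2, τ, hτ, e⟩ := S.hw.eqv hW hm
  have hu : Z F u := ⟨u1, u2⟩
  have Zx := ZV (F := F) (fU _ S.hx).1
  have l2 : u * (q * q) = S.x * cn j1 u := by
    refine (hu.mul (ZV q4)).inj (Zx.mul (hu.cn j)) ?_
    rw [e, map_mul, map_mul, S.wj, κp F j u2, mul_assoc, mul_assoc, mul_assoc, mul_right_inj] at mj
    rw [← hu.pm (ZV q4), ← Zx.pm (hu.cn j)]
    rcases hτ with rfl | rfl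
    · simpa only [map_one, one_mul] using mj.symm
    · rw [κpt, inA_t.mv' hE Zx] at mj
      exact (mul_left_cancel mj).symm
  rcases hτ with rfl | rfl
  · refine ⟨q, 1, u, hq', hu, Or.inl ⟨rfl, by rw [e, one_mul]⟩, (ZV q4).inj (S.hs.mul ((ZV (by
      decide +kernel)).mul (hu.mul hu))) ?_, l2⟩
    rw [← m2, e, one_mul, one_mul, ← S.hs.pm (hu.mul hu), ← hu.pm hu, ← S.ww, mul_assoc, S.hw.mv' hE hu,
      mul_assoc]
  · refine ⟨q, z3, u, hq', hu, Or.inr ⟨rfl, e⟩, (ZV q4).inj (S.hs.mul ((ZV z').mul (hu.mul hu))) ?_, l2⟩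
    rw [← m2, e, ← S.hs.pm ((ZV z').mul (hu.mul hu)), ← (ZV z').pm (hu.mul hu), ← hu.pm hu, ← S.ww]
    simp only [mul_assoc, S.hw.mv' hE hu, inA_t.mv' hE hu]
    rw [← mul_assoc F.t, S.hw.tx]
    simp only [mul_assoc, inA_t.cV' z']
    rw [← mul_assoc F.t, F.tt, one_mul]

noncomputable def base (hW : F.W = ⊥) (hE : HE F) (hs : S.s.V1) : Base F where
  d := S.d
  w := S.w
  dt := S.hd.t
  wt := S.hw.t
  dQ := fun s hs => (κ_eq.1 (S.dp hs)).symm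
  dρ := (κ_eq.1 S.dρ).symm
  de := κ_eq.1 (hE _ _ S.hd)
  wV := fun s hs => κ_eq.1 (S.hw.c s hs)
  we := κ_eq.1 (hE _ _ S.hw)
  dw := κ_eq.1 (S.dw hW hE)
  w3 := ⟨1, by decide +kernel, by
    rw [F.p_one, ← S.w3, ← κ_mul, eq_inv_of_mul_eq_one_right (ρ3 F), κ_def, κ_def, inv_inv]⟩
  ws := by
    obtain ⟨u, hu, e⟩ := S.wi
    refine ⟨S.s * u, Vmul hs hu, e.trans ?_⟩
    rw [← pmV hs hu, ← pinv hs, ← S.ww]; group
  wq := ⟨_, S.hy, S.ws⟩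

include S in
theorem out (hW : F.W = ⊥) (hE : HE F) : Out F := by
  obtain ⟨c, ec, D2⟩ := S.D2 hW hE
  have D1 := S.D1 hW hE
  have hs : S.s.U0 := by
    rcases D2 with ⟨-, ⟨e, -⟩ | ⟨e, -⟩⟩ | ⟨-, ⟨e, -⟩ | ⟨e, -⟩⟩ <;> rw [e] <;> decide +kernel
  have z : z1.V1 := by decide +kernel
  have z' : z3.V1 := by decide +kernel
  have ne : (1 : Ph) ≠ z1 := by decide +kernel
  have kr : ∀ a, κ F.r⁻¹ a = F.r⁻¹ * a * F.r := fun a => by rw [κ_def, inv_inv]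
  have wj := S.wj
  have di : S.η = 1 → Commute S.d (F.p i2) := fun e => (κ_eq.1 (by rw [S.di, e, F.p_one, mul_one])).symm
  have w2 : c = 1 → Commute S.w (F.ρ * S.w * F.ρ⁻¹) := fun e => by
    rw [e, F.p_one, mul_one] at ec; exact ec.symm
  rcases S.hδ with hδ | hδ
  · obtain ⟨-, hx, hy⟩ := D1.resolve_right fun h => ne (hδ.symm.trans h.1)
    obtain ⟨-, h2⟩ := D2.resolve_right fun h => ne (hδ.symm.trans h.1)
    obtain ⟨j, e, u, hj, hu, he, l1, l2⟩ := S.five hW hE (Or.inl ⟨hδ, rfl⟩)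
    rcases (fD3 j (hj.imp (·.1) (·.1)) e (he.imp (·.1) (·.1)) u hu.k _ hs _ S.hx l1 l2).1 hx
      (h2.imp (·.1) (·.1)) with ⟨rfl, rfl, e1, e2⟩ | ⟨rfl, e2⟩
    · refine Or.inl ⟨⟨S.base hW hE (fU _ hs).1, by rw [← F.p_one, ← hδ]; exact S.dd,
        by rw [← F.p_one, ← e1]; exact S.ww,
        w2 (h2.resolve_right fun h => ne (e1.symm.trans h.1)).2,
        di (hj.resolve_right fun h => absurd h.1 (by decide +kernel)).2,
        hx.imp (fun e => by rw [e, F.p_one, mul_one] at wj; exact wj) fun e => by rw [e] at wj; exact wj,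
        hy.imp (fun e => by have := S.ws; rw [e, F.p_one, mul_one] at this; exact this)
          fun e => by have := S.ws; rw [e] at this; exact this,
        u, e2, ?_⟩⟩
      have := (he.resolve_right fun h => absurd h.1 (by decide +kernel)).2
      rwa [F.p_one, mul_one, kr] at this
    · exact ((hj.resolve_left fun h => absurd h.1 (by decide +kernel)).2.2 (out_c0 F e2 hu.m)).elim
  · obtain ⟨-, hx⟩ := D1.resolve_left fun h => ne (h.1.symm.trans hδ)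
    obtain ⟨-, h2⟩ := D2.resolve_left fun h => ne (h.1.symm.trans hδ)
    obtain ⟨j, e, u, hj, hu, he, l1, l2⟩ := S.five hW hE (Or.inr ⟨hδ, rfl⟩)
    have wj' : κ (F.p j1) S.w = S.w * F.p z3 ∨ κ (F.p j1) S.w = S.w * F.p z2 :=
      hx.imp (fun e => by rwa [e] at wj) fun e => by rwa [e] at wj
    rcases (fD3 j (hj.imp (·.1) (·.1)) e (he.imp (·.1) (·.1)) u hu.k _ hs _ S.hx l1 l2).2 hx
      (h2.imp (·.1) (·.1)) with ⟨rfl, rfl, e1, e2⟩ | ⟨rfl, rfl, e1, e2, v, hv, e3⟩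
    · obtain ⟨-, h3, h4⟩ := hj.resolve_left fun h => absurd h.1 (by decide +kernel)
      refine Or.inr (Or.inr ⟨⟨S.base hW hE (fU _ hs).1, h4, hδ ▸ S.dd, e1 ▸ S.ww,
        w2 (h2.resolve_right fun h => absurd (e1.symm.trans h.1) (by decide +kernel)).2, h3 ▸ S.di, wj',
        u, e2, ?_⟩⟩)
      have := (he.resolve_right fun h => absurd h.1 (by decide +kernel)).2
      rwa [kr] at this
    · have h0 := out_c0 F e2 hu.m
      have he1 : emb MC.e1 ∈ H := (F.mem_iff (emb_AM _)).2 (Or.inr h0)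
      refine Or.inr (Or.inl ⟨⟨S.base hW hE (fU _ hs).1, h0, hδ ▸ S.dd, e1 ▸ S.ww, ?_,
        di (hj.resolve_right fun h => absurd h.1 (by decide +kernel)).2, wj', v, hv, ?_⟩⟩)
      · rw [(h2.resolve_left fun h => absurd (e1.symm.trans h.1) (by decide +kernel)).2] at ec
        change S.w * κ F.ρ S.w = κ F.ρ S.w * S.w * _
        rw [ec, mul_assoc, psq F z, mul_one]
      · have := (he.resolve_left fun h => absurd h.1 (by decide +kernel)).2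
        rw [F.p_one, mul_one, map_mul, κrt, kr, ← eq_inv_mul_iff_mul_eq,
          inv_eq_of_mul_eq_one_right F.tt, ← mul_assoc, S.hw.tx] at this
        change F.r⁻¹ * S.d * F.r = S.w * _ * _
        rw [this, mul_assoc S.w (F.p _), ← F.p_mul he1 (IV F hv), ← e3, ← (ZV z').pm hu]
        simp only [mul_assoc, inA_t.cV' z']
        rw [← mul_assoc F.t, F.tt, one_mul]

end St

end H5.MC.P0

namespace H5.MC

open H9 Cfsg H24 Subgroup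

theorem phase1 {H : Subgroup PG} {X : Type*} [Group X] [Finite X] (F : Fr H X) (hW : F.W = ⊥) :
    Out F ∨ Out F.tw :=
  (P0.dich hW).imp (fun h => (P0.exSt hW h).elim fun S => S.out hW h)
    fun h => (P0.exSt (F := F.tw) hW h).elim fun S => S.out hW h

end H5.MC
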