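import Mathlib
import Cfsg.Agent.H13.MCS0
import Cfsg.Agent.S1174

set_option autoImplicit false
set_option linter.unusedSectionVars false
set_option linter.unusedVariables false
set_option maxRecDepth 100000

namespace H13.MS

open H9 Cfsg H24 Subgroup H5.MC

/-- `z2` is not found in the normal closure -/
def bad (u : Ph) : Prop :=
  ∀ v : Ph, v.inn → v * u * v⁻¹ * u⁻¹ ≠ z2 ∧ v * u * v⁻¹ ≠ z2 ∧ v * (u * u) * v⁻¹ ≠ z2

noncomputable instance (u : Ph) : Decidable (bad u) := inferInstanceAs (Decidable (∀ _, _))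

theorem card_bad : Nat.card {u : Ph // bad u} = 22 := by
  rw [Nat.card_eq_fintype_card, Fintype.card_subtype]; decide +kernel

theorem z1_cent : ∀ u : Ph, u * z1 = z1 * u := by decide +kernel

theorem cent_inn : ∀ u : Ph, (∀ v : Ph, v.inn → u * v = v * u) → u = 1 ∨ u = z1 := by decide +kernel

theorem card_C1 : Nat.card (Spor.M12.comap (NX.emb (X := X1))) = 192 := by
  refine (Nat.card_congr (Equiv.subtypeEquivRight (q := fun n : N1 => n.p.inn) fun n => NX.emb_12)).trans ?_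
  rw [Nat.card_eq_fintype_card, Fintype.card_subtype]
  decide +kernel

theorem N1_z : ∀ n : N1, n * NX.of z1 = NX.of z1 * n := by decide +kernel

theorem N1_ncl : ∀ n : N1, n = 1 ∨ n = NX.of z1 ∨ ∃ u ∈ [j1, i0, sg, z2],
    NX.of u * n * (NX.of u)⁻¹ * n⁻¹ = NX.of z1 ∨ ∃ v ∈ [j1, i0, sg, z2],
      NX.of v * (NX.of u * n * (NX.of u)⁻¹ * n⁻¹) * (NX.of v)⁻¹ * (NX.of u * n * (NX.of u)⁻¹ * n⁻¹)⁻¹ =
        NX.of z1 := by decide +kernel

theorem emb_comm {u v : Ph} (h : u * v = v * u) : Commute (emb u) (emb v) := by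
  rw [commute_iff_eq, ← map_mul, ← map_mul, h]

theorem r2_facts : r2 ∈ Spor.M12 ∧ Commute (emb c0) r2 ∧ emb z1 = emb z2 * (r2 * emb z2 * r2⁻¹) := by
  have e : r2 = NX.emb (NX.r : N2) := NX.emb_r.symm
  refine ⟨NX.r_12, ?_, ?_⟩
  · rw [e, ← NX.emb_of (X := X2), commute_iff_eq, ← map_mul, ← map_mul]
    exact congrArg _ (by decide +kernel)
  · rw [e, ← NX.emb_of (X := X2), ← NX.emb_of (X := X2), ← map_inv, ← map_mul, ← map_mul, ← map_mul]
    exact congrArg _ (by decide +kernel)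

namespace Sd

variable {G : Type*} [Group G] [Finite G] {S S' : Sd G} {g k d x : G}

theorem cjK (e : S'.L = H24.cj g S.L) : S'.K = H24.cj g S.K := by rw [K, e, cj_C]
theorem cjN (e : S'.L = H24.cj g S.L) : S'.N = H24.cj g S.N := by rw [N, e, cj_N]

theorem card_L (S : Sd G) : ♯S.L = 95040 := by
  rw [← Nat.card_congr (MonoidHom.ofInjective S.inj).toEquiv, card_M12]

theorem cent_P (hx : x ∈ S.N) (h : ∃ u : Ph, S.f x = emb u) (hc : ∀ v : Ph, v.inn → Commute x (S.p v)) :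
    S.f x = 1 ∨ S.f x = emb z1 := by
  obtain ⟨u, hu⟩ := h
  rcases cent_inn u fun v hv => emb_inj (by
    rw [map_mul, map_mul, ← hu]; exact (comm_e hx (emb_12.2 hv)).1 (hc v hv)) with rfl | rfl
  · exact .inl (hu.trans emb.map_one)
  · exact .inr hu

theorem eq_e (hx : x ∈ S.L) : x = S.e (S.f x) := by
  obtain ⟨y, hy, rfl⟩ := mem_L.1 hx
  rw [f_e hy]

variable (S) in
theorem notD (hk : k ∈ S.K) : ¬ IsConj k (S.p z1) := fun hc => by
  obtain ⟨g, hg⟩ := isConj_iff.1 hc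
  obtain ⟨S', e⟩ := S.exists_conj g
  have hz : S.p z1 ∈ S'.K := by rw [cjK e, ← hg]; exact conj_mem_cj g hk
  have hgN : g ∉ S.N := fun h => z_K (by rwa [cjK e, cj_of_mem_N (K_nml.norm h)] at hz)
  have hC := cent_le hz z_two
  obtain ⟨S0, hS, h5, h6⟩ := exists_S0 (S := S) L_le le_rfl
  have h0 : S0 ≤ S'.N := le_trans (fun s hs => by
    obtain ⟨u, hu⟩ := h5 s hs
    exact mem_C1.2 ((comm_e (hS.le hs) (emb_12.2 (by decide))).2 (by rw [hu]; exact emb_comm (z1_cent u)))) hC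
  have hS' : Syl 2 S'.N S0 := by
    have := hS.cj g
    rw [← cjN e] at this
    exact this.of_card h0 (card_cj g S0).symm
  have triv : ∀ r ∈ S'.K ⊓ S0, r ∈ S.K → r = 1 := fun r hr h => by_contra fun h1 =>
    hgN (two_mem h (cjK e ▸ (mem_inf.1 hr).1) (hS.pi.piElt (mem_inf.1 hr).2) h1)
  have noz : ∀ r ∈ S'.K ⊓ S0, S.f r ≠ emb z2 := fun r hr h => by
    have hN := hS.le (mem_inf.1 hr).2
    have o : orderOf r = 2 := two_of_sq (triv _ (mul_mem hr hr) ((f_eq_one (mul_mem hN hN)).1 (by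
      rw [f_mul hN hN, h, ← map_mul, show z2 * z2 = 1 by decide +kernel, map_one]))) fun h1 => by
        rw [h1, f, ap_one, ← emb.map_one] at h
        exact absurd (emb_inj h) (by decide)
    have hC' := cent_le (mem_inf.1 hr).1 o
    have hL : ∀ y : Spor.M12, S.l y ∈ S'.N := fun y => by
      obtain ⟨y', h1, h2⟩ := gen12 (X := (S'.N.comap S.l).map Spor.M12.subtype)
        (fun a ha c => ⟨⟨a, ha⟩, hC (mem_C1.2 (by
          rw [← e_eq ha]
          exact (comm_e (e_N a) (emb_12.2 (by decide))).2 (by rwa [f_e ha]))), rfl⟩)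
        (fun a ha c => ⟨⟨a, ha⟩, hC' (mem_C1.2 (by
          rw [← e_eq ha]
          exact ((comm_e hN ha).2 (h ▸ c.symm)).symm)), rfl⟩) y.2
      rwa [← show y' = y from Subtype.ext h2]
    have := simple_M12
    have hn : (S'.K.comap S.l).Normal := ⟨fun a ha b => by
      rw [mem_comap, map_mul, map_mul, map_inv]
      exact K_nml.conj_mem (hL b) ha⟩
    rcases hn.eq_bot_or_eq_top with h1 | h1
    · have h2 : zM ∈ S'.K.comap S.l := by rwa [mem_comap, ← z_eq]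
      rw [h1, mem_bot] at h2
      exact ne_of_two (z_two (S := S)) (by rw [z_eq, h2, map_one])
    · refine S.nc g ?_
      rintro _ ⟨y, rfl⟩
      rw [← e]
      exact h1.ge (mem_top y)
  have hR : S0 ≤ N[S'.K ⊓ S0] := norm_inf (h0.trans K_nml.norm) (norm_self _)
  have up : ♯(S'.K ⊓ S0) ≤ 22 := by
    have : ∀ r : ↥(S'.K ⊓ S0), ∃ u : {u : Ph // bad u}, S.f r = emb u := fun ⟨r, hr⟩ => by
      have hN := hS.le (mem_inf.1 hr).2
      obtain ⟨u, hu⟩ := h5 r (mem_inf.1 hr).2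
      refine ⟨⟨u, fun v hv => ⟨fun h => ?_, fun h => ?_, fun h => ?_⟩⟩, hu⟩
      · refine noz _ (mul_mem (conj_mem (hR (h6 v hv)) hr) (inv_mem hr)) ?_
        rw [f_mul (mul_mem (mul_mem (e_N _) hN) (inv_mem (e_N _)))
          (inv_mem hN), f_conj (e_N _) hN, f_inv hN, f_p hv, hu, ← h]
        simp only [map_mul, map_inv]
      · refine noz _ (conj_mem (hR (h6 v hv)) hr) ?_
        rw [f_conj (e_N _) hN, f_p hv, hu, ← h]
        simp only [map_mul, map_inv]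
      · refine noz _ (conj_mem (hR (h6 v hv)) (mul_mem hr hr)) ?_
        rw [f_conj (e_N _) (mul_mem hN hN), f_mul hN hN, f_p hv, hu, ← h]
        simp only [map_mul, map_inv]
    choose φ hφ using this
    rw [← card_bad]
    refine Nat.card_le_card_of_injective φ fun a b h => Subtype.ext (inv_mul_eq_one.1 ?_)
    exact triv _ (mul_mem (inv_mem a.2) b.2) (mem_K_of (hS.le (mem_inf.1 a.2).2)
      (hS.le (mem_inf.1 b.2).2) (by rw [hφ, hφ, h]))
  have low : ∀ {U : Sd G}, Syl 2 U.N S0 → 64 ≤ ♯(S0 ⊓ U.L) := fun {U} h =>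
    Nat.le_of_dvd (H24.card_pos _) ((h.inf_nml L_nml).dvd_card
      ((piNat_singleton Nat.prime_two (by norm_num)).2 ⟨6, rfl⟩) (by rw [card_L]; norm_num))
  have n1 : S0 ⊓ S.L ⊴ S0 := nml_inf_of_norm hS.le
  have n2 : S0 ⊓ S'.L ⊴ S0 := nml_inf_of_norm hS'.le
  have hb : (S0 ⊓ S.L) ⊓ (S0 ⊓ S'.L) = ⊥ := by
    refine TI_center_nil (hS.pi.nil Nat.prime_two) (n1.inf n2) (eq_bot_iff.2 fun x hx => ?_)
    obtain ⟨⟨⟨h1, h2⟩, -, h3⟩, -, h4⟩ := hx
    rcases cent_P (hS.le h1) (h5 x h1) fun v hv => mem_C'.1 h4 _ (h6 v hv) with h | h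
    · exact eq_one h2 ((f_eq_one (hS.le h1)).1 h)
    · have h7 := eq_e h2
      rw [h] at h7
      exact eq_one h3 (h7 ▸ hz)
  have c1 := card_sup_of_inf (n2.le.trans n1.norm) hb
  have c2 := H24.card_le (sup_le n1.le n2.le)
  have c3 := card_le hS.pi h0
  have c4 := Nat.mul_le_mul (low hS) (low hS')
  omega

theorem two_eq (hk : k ∈ S.K) (ok : orderOf k = 2) (hc : IsConj k d) (hd : d ∈ S.N) (hdK : d ∉ S.K)
    (h : S.f d = emb z1 ∨ S.f d = emb i0) {T : Subgroup G} (hT : IsPi {2} T) (h1 : T ≤ S.K) (h2 : T ≤ C{d})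
    {r r' : G} (hr : r ∈ T) (hr' : r' ∈ T) (n1 : r ≠ 1) (n1' : r' ≠ 1) : r = r' := by
  obtain ⟨g, rfl⟩ := isConj_iff.1 hc
  obtain ⟨S', e⟩ := S.exists_conj g
  set d := g * k * g⁻¹ with hdd
  have hd' : d ∈ S'.K := by rw [cjK e]; exact conj_mem_cj g hk
  have hgN : g ∉ S.N := fun h => hdK (K_nml.conj_mem h hk)
  have hC := cent_le hd' (by rwa [hdd, orderOf_conj])
  have hz : S.p z1 ∉ S'.K := fun h => by
    rw [cjK e] at h
    obtain ⟨y, hy, h⟩ := mem_cj'.1 h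
    exact S.notD hy (isConj_iff.2 ⟨g, h.symm⟩)
  have triv : ∀ x ∈ T, x ∈ S'.K → x = 1 := fun x hx h => by_contra fun h0 =>
    hgN (two_mem (h1 hx) (cjK e ▸ h) (hT.piElt hx) h0)
  have hN : T ≤ S'.N := h2.trans hC
  obtain ⟨n, hn⟩ := hT.card_eq_pow Nat.prime_two
  have pw : ∀ x ∈ T, S'.f x ^ 2 ^ n = 1 := fun x hx => by
    rw [← ap_pow _ (hN hx), ← hn, orderOf_dvd_iff_pow_eq_one.1 (orderOf_dvd_card' hx), ap_one]
  have ne : ∀ x ∈ T, x ≠ 1 → S'.f x ≠ 1 := fun x hx h0 h => h0 (triv x hx ((f_eq_one (hN hx)).1 h))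
  have ce : ∀ {y}, y ∈ Spor.M12 → Commute (S.f d) y → S.e y ∈ S'.N := fun hy c =>
    hC (mem_C1.2 ((comm_e hd hy).2 c).symm)
  have cc : ∀ x ∈ T, ∀ {y}, S.e y ∈ S'.N → Commute (S'.f x) (S'.f (S.e y)) := fun x hx y hy =>
    f_comm (hN hx) hy (K_e (h1 hx) y)
  refine inv_mul_eq_one.1 (triv _ (mul_mem (inv_mem hr) hr') (mem_K_of (hN hr) (hN hr') ?_))
  rcases h with h | h
  · have cn : ∀ n : N1, NX.emb n ∈ Spor.M12 → S.e (NX.emb n) ∈ S'.N := fun n hn => ce hn (by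
      rw [h, ← NX.emb_of (X := X1), commute_iff_eq, ← map_mul, ← map_mul, N1_z])
    let φ : Spor.M12.comap (NX.emb (X := X1)) →* PG :=
      MonoidHom.mk' (fun n => S'.f (S.e (NX.emb n.1))) fun a b => by
        rw [coe_mul, map_mul, e_mul a.2 b.2, f_mul (cn _ a.2) (cn _ b.2)]
    have st : ∀ n : N1, NX.emb n ∈ Spor.M12 ∧ S.e (NX.emb n) ∈ S'.K → ∀ u ∈ [j1, i0, sg, z2],
        NX.emb (NX.of u * n * (NX.of u)⁻¹ * n⁻¹) ∈ Spor.M12 ∧
          S.e (NX.emb (NX.of u * n * (NX.of u)⁻¹ * n⁻¹)) ∈ S'.K := fun n hn u hu => by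
      have hu' : NX.emb (NX.of u : N1) ∈ Spor.M12 := by
        rw [NX.emb_of, emb_12]; revert u; decide
      have := mul_mem (mul_mem hu' hn.1) (inv_mem hu')
      simp only [map_mul, map_inv]
      refine ⟨mul_mem this (inv_mem hn.1), ?_⟩
      rw [e_mul this (inv_mem hn.1), e_conj hu' hn.1, e_inv hn.1]
      exact mul_mem (K_nml.conj_mem (cn _ hu') hn.2) (inv_mem hn.2)
    have inj : Function.Injective φ := (injective_iff_map_eq_one _).2 fun a ha => by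
      have h3 : NX.emb a.1 ∈ Spor.M12 ∧ S.e (NX.emb a.1) ∈ S'.K := ⟨a.2, (f_eq_one (cn _ a.2)).1 ha⟩
      have h4 : S.e (NX.emb (NX.of z1 : N1)) ∉ S'.K := by rwa [NX.emb_of]
      rcases N1_ncl a.1 with h5 | h5 | ⟨u, hu, h5 | ⟨v, hv, h5⟩⟩
      · exact Subtype.ext h5
      · exact (h4 (h5 ▸ h3.2)).elim
      · exact (h4 (h5 ▸ (st _ h3 u hu).2)).elim
      · exact (h4 (h5 ▸ (st _ (st _ h3 u hu) v hv).2)).elim
    have cY : ∀ x ∈ T, φ.range ≤ C{S'.f x} := fun x hx => by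
      rintro _ ⟨a, rfl⟩
      exact mem_C1.2 (cc x hx (cn _ a.2)).symm
    exact big (Y := φ.range) (by rintro _ ⟨a, rfl⟩; exact f_AM _)
      (by rw [← Nat.card_congr (MonoidHom.ofInjective inj).toEquiv, card_C1]) (f_AM _) (f_AM _)
      (ne r hr n1) (ne r' hr' n1') (pw r hr) (pw r' hr') (cY r hr) (cY r' hr')
  · obtain ⟨y, hy, a, ha, o, ea, c1, c2, b, hb, c3, m, hm⟩ := exists_five
    have hy' := ce hy (h ▸ c1.symm)
    have ha' := ce ha (h ▸ c2.symm)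
    have := Fact.mk (show Nat.Prime 5 by norm_num)
    refine five (y := S'.f (S.e y)) (h := S'.f (S.e a)) (f_AM _) (f_AM _) (orderOf_eq_prime ?_ fun h0 => hz ?_)
      ?_ (f_AM _) (f_AM _) (ne r hr n1) (ne r' hr' n1') (pw r hr) (pw r' hr') (cc r hr hy') (cc r hr ha')
      (cc r' hr' hy') (cc r' hr' ha')
    · rw [← ap_pow _ hy', ← e_pow hy, ← o, pow_orderOf_eq_one, e_one, ap_one]
    · have h3 := (f_eq_one hy').1 h0
      rw [p, ← hm, e_mul hy (mul_mem (mul_mem hb (pow_mem hy m)) (inv_mem hb)), e_conj hb (pow_mem hy m),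
        e_pow hy]
      exact mul_mem h3 (K_nml.conj_mem (ce hb (h ▸ c3.symm)) (pow_mem h3 m))
    · rw [← f_conj ha' hy', ← e_conj ha hy, ea, e_pow hy, f, ap_pow _ hy']

theorem std_form (hk : k ∈ S.K) (ok : orderOf k = 2) (hc : IsConj k d) (hd : d ∈ S.N) (hdK : d ∉ S.K) :
    ∃ d', IsConj k d' ∧ d' ∈ S.N ∧ d' ∉ S.K ∧ (S.f d' ∈ Spor.M12 ↔ S.f d ∈ Spor.M12) ∧
      (S.f d' = emb z1 ∨ S.f d' = emb i0 ∨ S.f d' = emb c0) := by
  have od : d * d = 1 := by
    obtain ⟨g, rfl⟩ := isConj_iff.1 hc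
    exact sq_of_two (by rwa [orderOf_conj])
  obtain ⟨a, ha, h⟩ := inv_class (f_AM (S := S) d) (by rw [← f_mul hd hd, od]; exact ap_one _)
    fun h => hdK ((f_eq_one hd).1 h)
  have e : S.f (S.e a * d * (S.e a)⁻¹) = a * S.f d * a⁻¹ := by rw [f_conj (e_N a) hd, f_e ha]
  exact ⟨S.e a * d * (S.e a)⁻¹, hc.trans (isConj_iff.2 ⟨_, rfl⟩),
    mul_mem (mul_mem (e_N a) hd) (inv_mem (e_N a)), by rwa [conj_mem_iff (K_nml.norm (e_N a))],
    by rw [e, AM_conj (M12_le ha) (f_AM d)], by rwa [e]⟩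

theorem inner (h4 : 4 ∣ ♯S.K) (hk : k ∈ S.K) (ok : orderOf k = 2) (hc : IsConj k d) (hd : d ∈ S.N)
    (hdK : d ∉ S.K) : S.f d ∉ Spor.M12 := fun hin => by
  obtain ⟨d, hc, hd, hdK, h1, h2⟩ := std_form hk ok hc hd hdK
  replace h1 := h1.2 hin
  replace h2 : S.f d = emb z1 ∨ S.f d = emb i0 := by
    rcases h2 with h | h | h
    · exact .inl h
    · exact .inr h
    · exact (c0_out (h ▸ h1)).elim
  have od : d * d = 1 := by
    obtain ⟨g, rfl⟩ := isConj_iff.1 hc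
    exact sq_of_two (by rwa [orderOf_conj])
  have ha := mem_K_of (e_N _) hd (f_e h1)
  set a := (S.e (S.f d))⁻¹ * d with ea
  have cd : ∀ x ∈ S.K, Commute x a → x ∈ C{d} := fun x hx c => mem_C1.2 (by
    rw [show d = S.e (S.f d) * a by rw [ea, mul_inv_cancel_left]]
    exact (K_e hx _).mul_right c)
  have oa : PiElt {2} a := piElt_of_pow_eq_one (n := 2) ((piNat_singleton Nat.prime_two two_ne_zero).2 ⟨1, rfl⟩) (by
    have c : Commute d (S.e (S.f d)) := (comm_e hd h1).2 (Commute.refl _)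
    rw [ea, c.symm.inv_left.mul_pow, sq d, od, inv_pow, ← e_pow h1, sq, ← f_mul hd hd, od, f, ap_one, e_one,
      inv_one, one_mul])
  obtain ⟨T, hT, haT⟩ := Sylow_superset Nat.prime_two oa.isPi (zpowers_le.2 ha)
  have h4T : 4 ∣ ♯T := hT.dvd_card ((piNat_singleton Nat.prime_two (by norm_num)).2 ⟨2, rfl⟩) h4
  obtain ⟨w, hw, w1⟩ := exists_ne_one ((hT.pi.nil Nat.prime_two).center_ne_bot fun h => by simp [h] at h4T)
  have haT' : a ∈ T := haT (mem_zpowers a)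
  have hw' := mem_inf.1 hw
  have hc' : T ≤ C{d} := fun x hx => cd x (hT.le hx) (by
    by_cases a1 : a = 1
    · rw [a1]; exact Commute.one_right _
    · rw [two_eq hk ok hc hd hdK h2 (hT.pi.inf_left C{d}) (inf_le_left.trans hT.le) inf_le_right
        (mem_inf.2 ⟨haT', cd a ha (Commute.refl _)⟩)
        (mem_inf.2 ⟨hw'.1, cd w (hT.le hw'.1) (mem_C'.1 hw'.2 a haT')⟩) a1 w1]
      exact mem_C.1 hw'.2 x hx)
  have all : ∀ x ∈ T, x = 1 ∨ x = w := fun x hx => or_iff_not_imp_left.2 fun x1 =>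
    two_eq hk ok hc hd hdK h2 hT.pi hT.le hc' hx hw'.1 x1 w1
  have ow : orderOf w = 2 := two_of_sq ((all _ (mul_mem hw'.1 hw'.1)).resolve_right fun h =>
    w1 (mul_eq_left.1 h)) w1
  have := H24.card_le (show T ≤ zpowers w from fun x hx => by
    rcases all x hx with rfl | rfl
    exacts [one_mem _, mem_zpowers _])
  rw [card_zpowers', ow] at this
  have := Nat.le_of_dvd (H24.card_pos T) h4T
  omega

theorem D_le (h4 : 4 ∣ ♯S.K) (hk : k ∈ S.K) (ok : orderOf k = 2) (hc : IsConj k d) (hd : d ∈ S.N) :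
    d ∈ S.K := by
  by_contra hdK
  obtain ⟨d, hc, hd, hdK, -, h2⟩ := std_form hk ok hc hd hdK
  have h1 := inner h4 hk ok hc hd hdK
  replace h2 : S.f d = emb c0 := by
    rcases h2 with h | h | h
    · exact (h1 (h ▸ emb_12.2 (by decide))).elim
    · exact (h1 (h ▸ emb_12.2 (by decide))).elim
    · exact h
  obtain ⟨g, hg⟩ := isConj_iff.1 hc
  obtain ⟨S', e⟩ := S.exists_conj g
  have hd' : d ∈ S'.K := by rw [cjK e, ← hg]; exact conj_mem_cj g hk
  have od : orderOf d = 2 := by rwa [← hg, orderOf_conj]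
  have hC := cent_le hd' od
  have hz : S.p z1 ∉ S'.K := fun h => by
    rw [cjK e] at h
    obtain ⟨y, hy, h⟩ := mem_cj'.1 h
    exact S.notD hy (isConj_iff.2 ⟨g, h.symm⟩)
  have ce : ∀ {y}, y ∈ Spor.M12 → Commute (emb c0) y → S.e y ∈ S'.N := fun hy c =>
    hC (mem_C1.2 ((comm_e hd hy).2 (h2 ▸ c)).symm)
  have m1 := ce (emb_12.2 (show z1.inn by decide)) (emb_comm (z1_cent c0))
  have m2 := ce (emb_12.2 (show z2.inn by decide)) (emb_comm (by decide +kernel))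
  have m3 := ce r2_facts.1 r2_facts.2.1
  have e1 : S.p j3 * d * (S.p j3)⁻¹ = S.p z1 * d := by
    have hj : emb j3⁻¹ ∈ Spor.M12 := emb_12.2 (by decide +kernel)
    have := conj_e hd hj
    rw [h2, ← map_inv, ← map_mul, ← map_mul] at this
    rw [show z1 = j3 * (c0 * j3⁻¹ * c0⁻¹) by decide +kernel, p_mul (by decide) (by decide +kernel), p, p, ← this,
      map_inv, e_inv (emb_12.2 (by decide))]
    group
  refine inner (S := S') (by rwa [cjK e, card_cj]) hd' od (isConj_iff.2 ⟨_, e1⟩) (mul_mem m1 (K_le hd'))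
    (by rwa [mul_mem_cancel_right hd']) ?_
  have h2' : emb z2 ∈ Spor.M12 := emb_12.2 (by decide)
  rw [f_mul m1 (K_le hd'), f_K hd', mul_one, r2_facts.2.2,
    e_mul h2' (mul_mem (mul_mem r2_facts.1 h2') (inv_mem r2_facts.1)), e_conj r2_facts.1 h2',
    f_mul m2 (mul_mem (mul_mem m3 m2) (inv_mem m3)), f_conj m3 m2,
    mul_mem12 (f_AM _) (mul_mem (mul_mem (f_AM _) (f_AM _)) (inv_mem (f_AM _))), AM_conj (f_AM _) (f_AM _)]

theorem not_four [IsSimpleGroup G] : ¬ 4 ∣ ♯S.K := fun h4 => by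
  obtain ⟨S0, hS⟩ := Sylow_exists Nat.prime_two S.N
  obtain ⟨t, ht, ot⟩ := exists_orderOf_eq Nat.prime_two ((hS.inf_nml K_nml).prime_dvd Nat.prime_two rfl
    (dvd_trans (by norm_num) h4))
  have key : ∀ x ∈ S.K, PiElt {2} x → x ≠ 1 → ∀ g, g * x * g⁻¹ ∈ S.N → g ∈ S.N := fun x hx h2 h1 g hg => by
    obtain ⟨y, hy, o⟩ := exists_inv h2 h1
    have hyK := zpowers_le.2 hx hy
    refine S.ti g y hyK o (D_le h4 hyK o (isConj_iff.2 ⟨g, rfl⟩) ?_)
    exact zpowers_le.2 hg (by rw [← cj_zpowers]; exact conj_mem_cj g hy)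
  have ht' := mem_inf.1 ht
  obtain ⟨T, rfl⟩ := (hS.of_norm_le Nat.prime_two le_top fun g hg => key t ht'.2 (hS.pi.piElt ht'.1)
    (ne_of_two ot) g (hS.le (conj_mem (mem_inf.1 hg).2 ht'.1))).exists_sylow_top Nat.prime_two
  obtain ⟨H, hH⟩ := Cfsg.Agent.S1174.result T (T.1 ⊓ S.K) (ne_bot_of_mem ht (ne_of_two ot))
    ⟨inf_le_left, fun x hx g hg => by
      by_cases x1 : x = 1
      · simp [x1]
      · exact mem_inf.2 ⟨hg, K_nml.conj_mem (key x (mem_inf.1 hx).2 (hS.pi.piElt (mem_inf.1 hx).1) x1 g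
          (hS.le hg)) (mem_inf.1 hx).2⟩⟩ fun h => by
      have h1 : S.N = ⊤ := eq_top_iff.2 (h.ge.trans (iSup_le fun x => cent_le (mem_inf.1 x.2.1).2 x.2.2))
      rcases (normalizer_eq_top_iff.1 h1).eq_bot_or_eq_top with h2 | h2
      · exact ne_of_two (z_two (S := S)) (mem_bot.1 (h2.le (e_L _)))
      · exact ne_of_two ot (eq_one (h2.ge (mem_top t)) ht'.2)
  exact S.notD ht'.2 (H6.isConj_of_isStronglyEmbedded hH ot z_two)

end Sd

end H13.MS

namespace H5.MC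

open H9 Cfsg H24 Subgroup H13.MS

theorem step1 {G : Type*} [Group G] [Finite G] [IsSimpleGroup G] (hG : ¬ IsMulCommutative G)
    (l : Spor.M12 →* G) (hl : Function.Injective l) (hL : IsStandardSubgroup l.range) :
    (∀ k ∈ C[l.range], ¬ IsConj k (l zM)) ∧ ¬ 4 ∣ Nat.card C[l.range] := by
  obtain ⟨S, rfl⟩ := exists_Sd l hl hL
  exact ⟨fun k hk => by rw [← Sd.z_eq]; exact S.notD hk, Sd.not_four⟩

end H5.MC
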