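import Mathlib
import Cfsg.Agent.H13.MCS0
import Cfsg.Agent.H26.Coprime
import Cfsg.Agent.H6.XT

set_option autoImplicit false
set_option linter.unusedSectionVars false
set_option linter.unusedVariables false
set_option maxRecDepth 100000

namespace H13.MS2

open H9 Cfsg H24 Subgroup H5.MC H13.MS H13.MS.Sd

theorem z1_cent : ∀ u : Ph, u * z1 = z1 * u := by decide +kernel
theorem cent_inn : ∀ u : Ph, (∀ v : Ph, v.inn → u * v = v * u) → u = 1 ∨ u = z1 := by decide +kernel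
theorem out_inv : ∀ u : Ph, ¬ u.inn → u * u = 1 →
    (c0⁻¹ * u).inn ∧ c0 * (c0⁻¹ * u) = c0⁻¹ * u * c0 ∧ c0⁻¹ * u * (c0⁻¹ * u) = 1 := by decide +kernel
theorem sq_zc : ∀ u : Ph, u.inn → u * u ≠ 1 → u * u * (u * u) = 1 → (u * u).zc := by decide +kernel
theorem root_z : ∀ u : Ph, ¬ u.inn → u * u = z1 →
    ∃ n : N1, n.p.inn ∧ n ≠ 1 ∧ n * n * n = 1 ∧ NX.of u * n = n * NX.of u := by decide +kernel
theorem no_three : ∀ n : N1, n * NX.of c0 = NX.of c0 * n → n * n * n = 1 → n = 1 := by decide +kernel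
theorem N1_z : ∀ n : N1, NX.of z1 * n = n * NX.of z1 := by decide +kernel

theorem emb_comm {u v : Ph} (h : u * v = v * u) : Commute (emb u) (emb v) := by
  rw [commute_iff_eq, ← map_mul, ← map_mul, h]

variable {G : Type*} [Group G] [Finite G]

theorem idx2 {M0 M : Subgroup G} {a : G} (ha : a ∈ M) (h : ∀ b ∈ M, b * a ∈ M0 ↔ b ∉ M0) :
    M0.relIndex M = 2 :=
  index_eq_two_iff.2 ⟨⟨a, ha⟩, fun b => by
    have := h b b.2
    simp only [mem_subgroupOf, coe_mul, Xor]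
    tauto⟩

theorem out_mul {a b : PG} (ha : a ∈ AM) (hb : b ∈ AM) (h : b ∉ Spor.M12) : a * b ∈ Spor.M12 ↔ a ∉ Spor.M12 := by
  rw [mul_mem12 ha hb]; tauto

structure Cx (S : Sd G) (t : G) (S0 W : Subgroup G) : Prop where
  tK : t ∈ S.K
  ot : orderOf t = 2
  nz : ¬ IsConj t (S.p z1)
  syl : Syl 2 C{t} S0
  two : ∀ x ∈ S0, x ∈ S.K → x = 1 ∨ x = t
  ph : ∀ s ∈ S0, ∃ u : Ph, S.f s = emb u
  pm : ∀ u : Ph, u.inn → S.p u ∈ S0
  odd : Odd ♯W
  le : W ≤ S.K ⊓ C{t}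
  norm : C{t} ≤ N[W]
  dec : ∀ a ∈ S.K ⊓ C{t}, ∃ w ∈ W, a = w ∨ a = w * t
  mem : ∀ a ∈ S.K ⊓ C{t}, PiElt {2}ᶜ a → a ∈ W

theorem exists_Cx (S : Sd G) (h1 : ∀ k ∈ S.K, ¬ IsConj k (S.p z1)) (h2 : ¬ 4 ∣ ♯S.K) :
    ∃ t S0 W, Cx S t S0 W := by
  obtain ⟨t, ht, ot⟩ := S.ev
  have hz : IsPi {2} (zpowers t) := isPi_of_card_prime Nat.prime_two (by rw [card_zpowers', ot])
  have two : ∀ T, IsPi {2} T → T ≤ S.K → t ∈ T → T ≤ zpowers t := fun T hT hK h => by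
    obtain ⟨n, hn⟩ := hT.card_eq_pow Nat.prime_two
    refine (eq_of_card_ge (zpowers_le.2 h) ?_).ge
    rw [card_zpowers', ot, hn]
    have h3 := card_dvd hK
    rcases n with _ | _ | n
    · norm_num
    · norm_num
    · exact (h2 (dvd_trans ⟨2 ^ n, by rw [hn]; ring⟩ h3)).elim
  have mz : ∀ x ∈ zpowers t, x = 1 ∨ x = t := fun x hx => by
    classical
    rw [mem_zpowers_iff_mem_range_orderOf, ot] at hx
    simpa [Finset.range_add_one, or_comm, eq_comm] using hx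
  have hN := cent_le ht ot
  obtain ⟨S0, hS, h5, h6⟩ := exists_S0 (S := S) (M := C{t}) (mem_C_iff_le_C1.1 ht) hN
  have htS : t ∈ S0 := hS.nml_le hz ⟨zpowers_le_C1 t, norm_zpowers_of_cent le_rfl⟩ (mem_zpowers t)
  have hA : Syl 2 (S.K ⊓ C{t}) (zpowers t) := syl_of_max Nat.prime_two hz
    (zpowers_le.2 (mem_inf.2 ⟨ht, self_mem_C1 t⟩)) fun Q hQ a b =>
      two Q hQ (b.trans inf_le_left) (a (mem_zpowers t))
  obtain ⟨W, hW⟩ := H26.Hall.exists_sd hA (norm_zpowers_of_cent inf_le_right)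
  have c : zpowers t ≤ C[W] := cents_symm (C_zpowers t ▸ hW.right_le.trans inf_le_right)
  have hH := hW.hall_compl_right hA
  have hn : S.K ⊓ C{t} ≤ N[W] := hW.sup.ge.trans (sup_le (norm_of_cent c) (norm_self W))
  refine ⟨t, S0, W, ht, ot, h1 t ht, hS, fun x hx hK => mz x (two (S0 ⊓ S.K) (hS.pi.inf_left _) inf_le_right
    (mem_inf.2 ⟨htS, ht⟩) (mem_inf.2 ⟨hx, hK⟩)), h5, h6,
    Nat.odd_iff.2 (Nat.two_dvd_ne_zero.1 ((isPi_compl_iff Nat.prime_two).1 hH.pi)), hW.right_le,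
    hH.norm_of_nml hn (norm_inf (hN.trans K_nml.norm) (norm_self _)), fun a ha => ?_,
    fun a ha h => hH.mem_of_nml hn h ha⟩
  rw [← hW.sup, sup_comm, mem_sup_of_norm (norm_of_cent c)] at ha
  obtain ⟨w, hw, b, hb, rfl⟩ := ha
  rcases mz b hb with rfl | rfl
  · exact ⟨w, hw, .inl (mul_one w)⟩
  · exact ⟨w, hw, .inr rfl⟩

namespace Cx

variable {S : Sd G} {t c s x g : G} {S0 W : Subgroup G} (h : Cx S t S0 W)
include h

theorem tt : t * t = 1 := sq_of_two h.ot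
theorem CN : C{t} ≤ S.N := cent_le h.tK h.ot
theorem SN : S0 ≤ S.N := h.syl.le.trans h.CN
theorem tS : t ∈ S0 := h.syl.nml_le (isPi_of_card_prime Nat.prime_two (by rw [card_zpowers', h.ot]))
  ⟨zpowers_le_C1 t, norm_zpowers_of_cent le_rfl⟩ (mem_zpowers t)
theorem zS : S.p z1 ∈ S0 := h.pm _ (by decide)
theorem same (hs : s ∈ S0) (hx : x ∈ S0) (e : S.f s = S.f x) : x = s ∨ x = s * t := by
  rcases h.two _ (mul_mem (inv_mem hs) hx) (mem_K_of (h.SN hs) (h.SN hx) e) with e | e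
  · exact .inl (inv_mul_eq_one.1 e).symm
  · exact .inr (inv_mul_eq_iff_eq_mul.1 e)
theorem inn (hs : s ∈ S0) {u : Ph} (e : S.f s = emb u) (hu : u.inn) : s = S.p u ∨ s = S.p u * t :=
  h.same (h.pm u hu) hs (by rw [f_p hu, e])
theorem sq (hs : s ∈ S0) {u : Ph} (e : S.f s = emb u) (hu : u.inn) : s * s = S.p (u * u) := by
  rw [p_mul hu hu]
  rcases h.inn hs e hu with rfl | rfl
  · rfl
  · rw [mul_assoc, ← mul_assoc t, (K_e h.tK _).eq, mul_assoc, h.tt, mul_one]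
theorem Cz : S0 ≤ C{S.p z1} := fun s hs => by
  obtain ⟨u, hu⟩ := h.ph s hs
  exact mem_C1.2 ((comm_e (h.SN hs) (emb_12.2 (by decide))).2 (by rw [hu]; exact emb_comm (z1_cent u)))
theorem cen (hg : g ∈ N[S0]) (hx : x ∈ S0) (hc : S0 ≤ C{x}) :
    g * x * g⁻¹ = 1 ∨ g * x * g⁻¹ = t ∨ g * x * g⁻¹ = S.p z1 ∨ g * x * g⁻¹ = S.p z1 * t := by
  have h1 := conj_mem hg hx
  have h2 : S0 ≤ C{g * x * g⁻¹} := by rw [← cj_C1, ← cj_of_mem_N hg]; exact cj_mono g hc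
  obtain ⟨u, hu⟩ := h.ph _ h1
  rcases cent_inn u fun v hv => emb_inj (by
    rw [map_mul, map_mul, ← hu]
    exact (comm_e (h.SN h1) (emb_12.2 hv)).1 (mem_C1.1 (h2 (h.pm v hv))).symm) with rfl | rfl
  · have := h.inn h1 hu (by decide)
    rw [p_one, one_mul] at this
    tauto
  · have := h.inn h1 hu (by decide)
    tauto

theorem move (hn : ¬ Syl 2 ⊤ S0) : ∃ g ∈ N[S0], g * t * g⁻¹ = S.p z1 * t ∧ g * S.p z1 * g⁻¹ = S.p z1 := by
  obtain ⟨Q, hQ, h1, -, h2⟩ := exists_lt_norm_of_not_syl Nat.prime_two h.syl.pi le_top hn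
  obtain ⟨g, hg, hgS⟩ := SetLike.exists_of_lt h1
  have e : g * t * g⁻¹ = S.p z1 * t := by
    rcases h.cen (h2 hg) h.tS h.syl.le with e | e | e | e
    · exact (ne_of_two h.ot (conj_eq_one_iff'.1 e)).elim
    · exact (hgS ((h.syl.eq_of_le (hQ.inf_left C{t}) (le_inf h1.le h.syl.le) inf_le_right).le
        (mem_inf.2 ⟨hg, mem_C1_iff_conj.2 e⟩))).elim
    · exact (h.nz (isConj_iff.2 ⟨g, e⟩)).elim
    · exact e
  refine ⟨g, h2 hg, e, ?_⟩
  rcases h.cen (h2 hg) h.zS h.Cz with e' | e' | e' | e'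
  · exact (ne_of_two z_two (conj_eq_one_iff'.1 e')).elim
  · exact (h.nz (isConj_iff.2 ⟨g, e'⟩).symm).elim
  · exact e'
  · exact (h.nz ((isConj_iff.2 ⟨g, e⟩).trans (isConj_iff.2 ⟨g, e'⟩).symm)).elim

omit h in
theorem odd_index (hs : Syl 2 ⊤ S0) : Odd S0.index := by
  have := hs.not_dvd Nat.prime_two
  rw [relIndex_top_right] at this
  exact Nat.odd_iff.2 (Nat.two_dvd_ne_zero.1 this)

theorem kill1 (hG : ∀ K : Subgroup G, K.index ≠ 2) (hc : c ∈ S0) (fc : S.f c = emb c0) (cc : c * c = t) :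
    ¬ Syl 2 ⊤ S0 := fun hs => by
  have hcN := h.SN hc
  have m : ∀ {b}, b ∈ S0 → (b ∈ S0 ⊓ pre S.κ Spor.M12 ↔ S.f b ∈ Spor.M12) := fun hb => by
    rw [mem_inf, mem_pre]; exact ⟨fun h => h.2.2, fun h' => ⟨hb, h.SN hb, h'⟩⟩
  obtain ⟨g, hg, -⟩ := H6.XS.transfer_fix hG (M0 := S0 ⊓ pre S.κ Spor.M12) (T := ⊥) (x := c) (odd_index hs)
    inf_le_left (idx2 hc fun b hb => by
      rw [m (mul_mem hb hc), m hb, f_mul (h.SN hb) hcN, out_mul (f_AM _) (f_AM _) (fc ▸ c0_out)])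
    hc (by rw [m hc, fc]; exact c0_out) (by rw [show c ^ 4 = c * c * (c * c) by simp only [pow_succ, pow_zero, one_mul, mul_assoc], cc, h.tt])
    (fun g hg => by
      rw [m hg]
      by_contra hn
      obtain ⟨u, hu⟩ := h.ph _ hg
      rw [cc] at hg hn hu
      have s2 : g * t * g⁻¹ * (g * t * g⁻¹) = 1 := by rw [conj_mul, h.tt, mul_one, mul_inv_cancel]
      obtain ⟨a1, a2, a3⟩ := out_inv u (fun h' => hn (hu ▸ emb_12.2 h')) (emb_inj (by
        rw [map_mul, ← hu, ← f_mul (h.SN hg) (h.SN hg), s2, map_one]; exact ap_one _))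
      have m1 := mul_mem (inv_mem hc) hg
      have e1 : S.f (c⁻¹ * (g * t * g⁻¹)) = emb (c0⁻¹ * u) := by
        rw [f_mul (inv_mem hcN) (h.SN hg), f_inv hcN, fc, hu, map_mul, map_inv]
      have c1 : Commute c (c⁻¹ * (g * t * g⁻¹)) := by
        have := (comm_e hcN (emb_12.2 a1)).2 (by rw [fc]; exact emb_comm a2)
        rcases h.inn m1 e1 a1 with e | e <;> rw [e]
        · exact this
        · exact this.mul_right (mem_C1.1 (h.syl.le hc))
      have := c1.mul_pow 2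
      simp only [pow_two] at this
      rw [mul_inv_cancel_left, s2, h.sq m1 e1 a1, a3, p_one, mul_one, cc] at this
      exact ne_of_two h.ot this.symm)
    (IsPGroup.of_bot) bot_le
  have hS := (mem_inf.1 hg).1
  obtain ⟨u, hu⟩ := h.ph _ hS
  have hi : u.inn := emb_12.1 (hu ▸ (m hS).1 hg)
  have e := h.sq hS hu hi
  rw [conj_mul, cc] at e
  have hi2 : (u * u).inn := (inn_mul u u).2 Iff.rfl
  obtain ⟨a, ha, e'⟩ := zc_conj (sq_zc u hi (fun h0 => ne_of_two h.ot (by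
    rwa [h0, p_one, conj_eq_one_iff'] at e)) (emb_inj (e_inj (S := S) (emb_12.2 ((inn_mul _ _).2 Iff.rfl))
      (emb_12.2 (by decide)) (by
        change S.p _ = S.p _
        rw [p_mul hi2 hi2, ← e, conj_mul, h.tt, p_one, mul_one, mul_inv_cancel]))))
  rw [p, ← e', e_conj ha (emb_12.2 (by decide))] at e
  exact h.nz ((isConj_iff.2 ⟨g, e⟩).trans (isConj_iff.2 ⟨_, rfl⟩).symm)

theorem kill2 (hc : c ∈ S0) (fc : S.f c = emb c0) (cc : c * c = t) : Syl 2 ⊤ S0 := by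
  by_contra hn
  obtain ⟨g, hg, e1, e2⟩ := h.move hn
  have hy := conj_mem hg hc
  obtain ⟨u, hu⟩ := h.ph _ hy
  have y2 : g * c * g⁻¹ * (g * c * g⁻¹) = S.p z1 * t := by rw [conj_mul, cc, e1]
  have ho : ¬ u.inn := fun hi => by
    rw [h.sq hy hu hi] at y2
    exact ne_of_two h.ot (eq_one ((mul_mem_cancel_left (e_L (emb z1))).1 (by rw [← y2]; exact e_L _)) h.tK)
  obtain ⟨n, n1, n2, n3, n4⟩ := root_z u ho (emb_inj (by
    rw [map_mul, ← hu, ← f_mul (h.SN hy) (h.SN hy), y2, f_mul (e_N _) (K_le h.tK), f_K h.tK, mul_one,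
      f_p (by decide)]))
  have hn12 : NX.emb n ∈ Spor.M12 := NX.emb_12.2 n1
  have ec : ∀ {v : Ph}, NX.of v * n = n * NX.of v → Commute (emb v) (NX.emb n) := fun {v} e => by
    rw [← NX.emb_of (X := X1), commute_iff_eq, ← map_mul, ← map_mul, e]
  set b := S.e (NX.emb n) with hb
  have c1 : Commute (g * c * g⁻¹) b := (comm_e (h.SN hy) hn12).2 (by rw [hu]; exact ec n4)
  have c2 : Commute (S.p z1) b := (comm_e (e_N _) hn12).2 (by rw [f_p (by decide)]; exact ec (N1_z n))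
  have back : ∀ {x}, Commute (g * x * g⁻¹) b → Commute (g⁻¹ * b * g) x := fun {x} hx => by
    rw [commute_iff_eq] at hx ⊢
    calc _ = g⁻¹ * (b * (g * x * g⁻¹)) * g := by group
      _ = _ := by rw [← hx]; group
  have d1 := back c1
  have d2 : Commute (g⁻¹ * b * g) (S.p z1) := back (e2.symm ▸ c2)
  have d3 : g⁻¹ * b * g ∈ C{t} := mem_C1.2 (cc ▸ d1.mul_right d1)
  have bN := h.CN d3
  have b3 : (g⁻¹ * b * g) ^ 3 = 1 := by
    rw [show g⁻¹ * b * g = g⁻¹ * b * g⁻¹⁻¹ by rw [inv_inv], conj_pow, hb, ← e_pow hn12, ← map_pow, pow_three',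
      n3, map_one, e_one, mul_one, mul_inv_cancel]
  obtain ⟨m, hm⟩ := cent_z (f_AM (S := S) (g⁻¹ * b * g)) ((comm_e bN (emb_12.2 (by decide))).1 d2)
  have m1 : m = 1 := no_three m (NX.emb_inj (by
      rw [map_mul, map_mul, NX.emb_of, hm, ← fc]; exact f_comm bN (h.SN hc) d1))
    (NX.emb_inj (by rw [← pow_three', map_pow, hm, ← ap_pow _ bN, b3, ap_one, map_one]))
  have bW := h.mem _ (mem_inf.2 ⟨(f_eq_one bN).1 (by rw [← hm, m1, map_one]), d3⟩)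
    (piElt_of_pow_eq_one ((piNat_compl_iff_coprime Nat.prime_two).2 (by norm_num)) b3)
  have hW : H24.cj g W ≤ S.N := by
    refine le_trans (fun x hx => ?_) h.CN
    have a1 : x ∈ C{S.p z1 * t} := by
      rw [← e1, ← cj_C1]; exact cj_mono g (h.le.trans inf_le_right) hx
    have a2 : x ∈ C{S.p z1} := by
      rw [← e2, ← cj_C1]; exact cj_mono g (h.le.trans (inf_le_left.trans (C_le_C1 (e_L _)))) hx
    have := (Commute.inv_right (mem_C1.1 a2)).mul_right (mem_C1.1 a1)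
    rw [inv_mul_cancel_left] at this
    exact mem_C1.2 this
  have hn : ∀ v : Ph, v.inn → emb v ∈ N[img S.κ (H24.cj g W)] := fun v hv => by
    rw [← f_p (S := S) hv]
    refine ap_mem_N _ (norm_cj (h.syl.le.trans h.norm) g ?_) (e_N _)
    rw [cj_of_mem_N hg]; exact h.pm v hv
  have := odd_U (X := img S.κ (H24.cj g W)) (fun y hy => by
    obtain ⟨x, -, -, rfl⟩ := mem_img.1 hy
    exact f_AM x) (odd_img (by rw [card_cj]; exact h.odd) _) (hn _ (by decide)) (hn _ (by decide))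
  have := this.le (ap_mem_img S.κ (mem_cj.2 bW) (e_N _))
  rw [mem_bot, show ap S.κ b = NX.emb n from f_e hn12] at this
  exact n2 (NX.emb_inj (this.trans (map_one _).symm))

theorem build (hG : ∀ K : Subgroup G, K.index ≠ 2) (hc : c ∈ S0) (cc : c * c = 1)
    (hcase : (c = 1 ∧ ∀ s ∈ S0, S.f s ∈ Spor.M12) ∨ S.f c = emb c0) : ∃ H : Subgroup PG, Nonempty (Fr H G) := by
  have hcN := h.SN hc
  have LC : S.L ≤ C{t} := mem_C_iff_le_C1.1 h.tK
  set Γ := S.L ⊔ zpowers c with hΓ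
  have ΓC : Γ ≤ C{t} := sup_le LC (zpowers_le.2 (h.syl.le hc))
  have ΓN := ΓC.trans h.CN
  have cΓ : c ∈ Γ := mem_sup_right (mem_zpowers c)
  have eΓ : ∀ y, S.e y ∈ Γ := fun y => mem_sup_left (e_L y)
  have hk : pre S.κ ⊥ ⊓ Γ = ⊥ := by
    rw [ker, eq_bot_iff]
    rintro x ⟨hx, hx'⟩
    obtain ⟨a, ha, b, ⟨k, rfl⟩, rfl⟩ := (mem_sup_of_norm (zpowers_le.2 hcN)).1 hx'
    have : c ^ k = 1 ∨ c ^ k = c := by
      rcases Int.even_or_odd' k with ⟨j, rfl | rfl⟩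
      · left; rw [zpow_mul, zpow_two, cc, one_zpow]
      · right; rw [zpow_add, zpow_mul, zpow_two, cc, one_zpow, one_mul, zpow_one]
    dsimp only at hx ⊢
    rcases this with e | e <;> rw [e] at hx ⊢
    · rw [mul_one] at hx ⊢; exact eq_one ha hx
    · rcases hcase with ⟨rfl, -⟩ | fc
      · rw [mul_one] at hx ⊢; exact eq_one ha hx
      · obtain ⟨y, hy, rfl⟩ := mem_L.1 ha
        have := f_K hx
        rw [f_mul (e_N y) hcN, f_e hy, fc] at this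
        exact (c0_out ((mul_mem_cancel_left hy).1 (this ▸ one_mem _))).elim
  have tΓ : t ∉ Γ := fun h' => ne_of_two h.ot (mem_bot.1 (hk.le (mem_inf.2 ⟨ker (S := S) ▸ h.tK, h'⟩)))
  have sur : ∀ g ∈ C{t}, ∃ γ ∈ Γ, S.f γ = S.f g := fun g hg => by
    by_cases hi : S.f g ∈ Spor.M12
    · exact ⟨_, eΓ _, f_e hi⟩
    rcases hcase with ⟨-, h1⟩ | fc
    · exfalso
      have := (h.syl.idx_of_ge (L := pre S.κ Spor.M12) fun s hs => mem_pre.2 ⟨h.SN hs, h1 s hs⟩).not_dvd'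
        Nat.prime_two rfl
      refine this (idx2 hg fun b hb => ?_).symm.dvd
      rw [mem_pre, mem_pre, ap_mul _ (h.CN hb) (h.CN hg), out_mul (f_AM _) (f_AM _) hi]
      exact ⟨fun a b => a.2 b.2, fun a => ⟨mul_mem (h.CN hb) (h.CN hg), fun b => a ⟨h.CN hb, b⟩⟩⟩
    · have := (out_mul (f_AM (S := S) g) (inv_mem (emb_AM c0)) (by rw [inv_mem_iff]; exact c0_out)).2 hi
      exact ⟨_, mul_mem (eΓ _) cΓ, by rw [f_mul (e_N _) hcN, f_e this, fc, inv_mul_cancel_right]⟩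
  have surS : ∀ s ∈ S0, ∃ γ ∈ S0 ⊓ Γ, S.f γ = S.f s := fun s hs => by
    obtain ⟨u, hu⟩ := h.ph s hs
    by_cases hi : u.inn
    · exact ⟨_, mem_inf.2 ⟨h.pm u hi, eΓ _⟩, by rw [f_p hi, hu]⟩
    rcases hcase with ⟨-, h1⟩ | fc
    · exact (hi (emb_12.1 (hu ▸ h1 s hs))).elim
    · have : (u * c0⁻¹).inn := (inn_mul _ _).2 (iff_of_false hi (by decide +kernel))
      exact ⟨_, mem_inf.2 ⟨mul_mem (h.pm _ this) hc, mul_mem (eΓ _) cΓ⟩, by
        rw [f_mul (e_N _) hcN, f_p this, fc, hu, ← map_mul, inv_mul_cancel_right]⟩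
  have tz : IsConj t (t * S.p z1) := by
    by_cases hs : Syl 2 ⊤ S0
    · exfalso
      obtain ⟨g, hg, hg'⟩ := H6.XS.transfer_fix hG (M0 := S0 ⊓ Γ) (T := S0) (x := t) (odd_index hs)
        inf_le_left (idx2 h.tS fun b hb => ⟨fun h1 h2 => tΓ ((mul_mem_cancel_left (mem_inf.1 h2).2).1
          (mem_inf.1 h1).2), fun h1 => by
            obtain ⟨γ, h2, h3⟩ := surS b hb
            rcases h.same (mem_inf.1 h2).1 hb h3 with rfl | rfl
            · exact (h1 h2).elim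
            · rwa [mul_assoc, h.tt, mul_one]⟩)
        h.tS (fun h1 => tΓ (mem_inf.1 h1).2)
        (by rw [show t ^ 4 = t * t * (t * t) by simp only [pow_succ, pow_zero, one_mul, mul_assoc], h.tt, mul_one])
        (fun g _ => by rw [h.tt, mul_one, mul_inv_cancel]; exact one_mem _)
        (h.syl.pi.isPGroup Nat.prime_two) h.syl.le
      have h1 := (mem_inf.1 hg).2
      rcases h.cen (mem_N_of_cj_le hg') h.tS h.syl.le with e | e | e | e
      · exact ne_of_two h.ot (conj_eq_one_iff'.1 e)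
      · exact tΓ (e ▸ h1)
      · exact h.nz (isConj_iff.2 ⟨g, e⟩)
      · rw [e] at h1
        exact tΓ ((mul_mem_cancel_left (eΓ _)).1 h1)
    · obtain ⟨g, -, e, -⟩ := h.move hs
      exact isConj_iff.2 ⟨g, e.trans (K_e h.tK _).symm⟩
  let E := imgEquiv S.κ ΓN hk
  let ψ : img S.κ Γ →* G := Γ.subtype.comp E.symm.toMonoidHom
  have ψΓ : ∀ x, ψ x ∈ Γ := fun x => (E.symm x).2
  have fψ : ∀ x, S.f (ψ x) = x := fun x => by
    have : ∀ γ : Γ, S.f γ = E γ := fun γ => ap_of_mem _ (ΓN γ.2)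
    exact (this (E.symm x)).trans (congrArg Subtype.val (E.apply_symm_apply x))
  have uniq : ∀ γ ∈ Γ, ∀ x : img S.κ Γ, S.f γ = x → ψ x = γ := fun γ hγ x e =>
    inv_mul_eq_one.1 (mem_bot.1 (hk.le (mem_inf.2 ⟨ker (S := S) ▸ mem_K_of (ΓN (ψΓ x)) (ΓN hγ) (by rw [fψ, e]),
      mul_mem (inv_mem (ψΓ x)) hγ⟩)))
  have h12 : Spor.M12 ≤ img S.κ Γ := fun y hy => f_e (S := S) hy ▸ ap_mem_img S.κ (eΓ y) (e_N y)
  have ψz : ∀ hz, ψ ⟨emb z1, hz⟩ = S.p z1 := fun hz => uniq _ (eΓ _) _ (f_p (by decide))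
  refine ⟨img S.κ Γ, ⟨⟨t, ψ, W, h12, fun y hy => ?_, Γ.subtype_injective.comp E.symm.injective, h.ot, ?_,
    fun x => (mem_C1.1 (ΓC (ψΓ x))).symm, h.odd, h.le.trans inf_le_right, fun x => h.norm (ΓC (ψΓ x)),
    fun x hx => ?_, fun g hg => ?_, by rw [ψz]; exact h.nz, by rw [ψz]; exact tz⟩⟩⟩
  · obtain ⟨x, -, -, rfl⟩ := mem_img.1 hy
    exact f_AM x
  · rintro ⟨x, hx⟩
    exact tΓ (hx ▸ ψΓ x)
  · rw [uniq _ (eΓ x) x (f_e hx)]
    exact cents_symm (h.le.trans inf_le_left) (e_L _)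
  · have hg' := mem_C1.2 hg
    obtain ⟨γ, hγ, e⟩ := sur g hg'
    have hm : g * γ⁻¹ ∈ S.K := by
      rw [← f_eq_one (mul_mem (h.CN hg') (inv_mem (ΓN hγ))), f_mul (h.CN hg') (inv_mem (ΓN hγ)), f_inv (ΓN hγ), e,
        mul_inv_cancel]
    obtain ⟨w, hw, e'⟩ := h.dec _ (mem_inf.2 ⟨hm, mul_mem hg' (inv_mem (ΓC hγ))⟩)
    refine ⟨w, hw, ⟨S.f γ, ap_mem_img S.κ hγ (ΓN hγ)⟩, ?_⟩
    rw [uniq γ hγ _ rfl, ← mul_assoc, ← mul_inv_eq_iff_eq_mul, ← mul_inv_eq_iff_eq_mul]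
    exact e'

end Cx

end H13.MS2

namespace H5.MC

open H9 Cfsg H24 Subgroup H13.MS H13.MS.Sd H13.MS2

theorem frame {G : Type*} [Group G] [Finite G] (hG : ∀ K : Subgroup G, K.index ≠ 2)
    (l : Spor.M12 →* G) (hl : Function.Injective l) (hL : IsStandardSubgroup l.range)
    (h1 : ∀ k ∈ C[l.range], ¬ IsConj k (l zM)) (h2 : ¬ 4 ∣ Nat.card C[l.range]) :
    ∃ H : Subgroup PG, Nonempty (Fr H G) := by
  obtain ⟨S, rfl⟩ := exists_Sd l hl hL
  obtain ⟨t, S0, W, h⟩ := exists_Cx S (by rw [z_eq]; exact h1) h2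
  by_cases hi : ∀ s ∈ S0, S.f s ∈ Spor.M12
  · exact h.build hG (one_mem _) (mul_one _) (.inl ⟨rfl, hi⟩)
  push Not at hi
  obtain ⟨s, hs, hi⟩ := hi
  obtain ⟨u, hu⟩ := h.ph s hs
  have h3 : (c0 * u⁻¹).inn := (inn_mul _ _).2 (iff_of_false (by decide) fun h' => hi (by
    rw [hu, ← inv_mem_iff, ← map_inv]; exact emb_12.2 h'))
  have hc := mul_mem (h.pm _ h3) hs
  have fc : S.f (S.p (c0 * u⁻¹) * s) = emb c0 := by
    rw [f_mul (e_N _) (h.SN hs), f_p h3, hu, ← map_mul, inv_mul_cancel_right]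
  rcases h.two _ (mul_mem hc hc) ((f_eq_one (h.SN (mul_mem hc hc))).1 (by
    rw [f_mul (h.SN hc) (h.SN hc), fc, ← map_mul, show c0 * c0 = 1 by decide +kernel, map_one])) with e | e
  · exact h.build hG hc e (.inr fc)
  · exact (h.kill1 hG hc fc e (h.kill2 hc fc e)).elim

end H5.MC
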