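import Mathlib
import Cfsg.Agent.H5.MCQ
import Cfsg.Agent.H18.MWc

/-! # The wreath case for a standard subgroup `M₁₂` is impossible without a subgroup of index `2` -/

set_option autoImplicit false
set_option linter.unusedSectionVars false
set_option linter.unusedVariables false

namespace H18.MW

open H5.MC H9 Cfsg H24 Subgroup
open scoped commutatorElement

section res

variable {Γ : Type*} [Group Γ]

/-- restriction to a subgroup -/
def WB.res (D : WB Γ) (S : Subgroup Γ) (ht : D.t ∈ S) (hp : ∀ s, D.p s ∈ S) (h1 : D.a1 ∈ S)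
    (h2 : D.a2 ∈ S) : WB S where
  t := ⟨D.t, ht⟩
  p s := ⟨D.p s, hp s⟩
  I := D.I
  a1 := ⟨D.a1, h1⟩
  a2 := ⟨D.a2, h2⟩
  Iiff := D.Iiff
  pn s h := Subtype.ext (D.pn s h)
  pm h h' := Subtype.ext (D.pm h h')
  pi h h' e := D.pi h h' (congrArg Subtype.val e)
  pt s := Subtype.ext (D.pt s)
  tt := Subtype.ext D.tt
  aa1 := Subtype.ext D.aa1
  aa2 := Subtype.ext D.aa2
  a12 := Subtype.ext D.a12
  ta1 := Subtype.ext D.ta1
  ta2 := Subtype.ext D.ta2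
  aJ s h := ⟨Subtype.ext (D.aJ s h).1, Subtype.ext (D.aJ s h).2⟩
  sa1 := Subtype.ext D.sa1
  sa2 := Subtype.ext D.sa2

theorem WB.res_W (D : WB Γ) (S : Subgroup Γ) (ht : D.t ∈ S) (hp : ∀ s, D.p s ∈ S) (h1 : D.a1 ∈ S)
    (h2 : D.a2 ∈ S) {x : S} : x ∈ (D.res S ht hp h1 h2).W ↔ (x : Γ) ∈ D.W := by
  have e : ∀ u, (((D.res S ht hp h1 h2).g u : S) : Γ) = D.g u := fun u => by
    unfold WB.g; split_ifs <;> rfl
  exact ⟨fun ⟨u, v, hu, hv, h⟩ => ⟨u, v, hu, hv, by rw [h, coe_mul, e]; rfl⟩,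
    fun ⟨u, v, hu, hv, h⟩ => ⟨u, v, hu, hv, Subtype.ext (by rw [h, coe_mul, e]; rfl)⟩⟩

/-- restriction to a subgroup -/
def WD.res (D : WD Γ) (S : Subgroup Γ) (ht : D.t ∈ S) (hp : ∀ s, D.p s ∈ S) (h1 : D.a1 ∈ S)
    (h2 : D.a2 ∈ S) (hw : ∀ k, D.w k ∈ S) : WD S where
  toWB := D.toWB.res S ht hp h1 h2
  w k := ⟨D.w k, hw k⟩
  ww k := Subtype.ext (D.ww k)
  wt k := Subtype.ext (D.wt k)
  wC k := mem_C.2 fun a ha => Subtype.ext (D.cw ((D.toWB.res_W S ht hp h1 h2).1 ha) (D.wC k))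
  wi k := Subtype.ext (D.wi k)
  we k := Subtype.ext (D.we k)
  wj1 k := (D.wj1 k).imp fun _ h => ⟨h.1, Subtype.ext h.2⟩
  wj2 k := (D.wj2 k).imp fun _ h => ⟨h.1, Subtype.ext h.2⟩
  wc k l := (D.toWB.res_W S ht hp h1 h2).2 (D.wc k l)
  sw k := (D.toWB.res_W S ht hp h1 h2).2 (D.sw k)

end res

variable {H : Subgroup PG} {G : Type*} [Group G] {F : Fr H G}

/-- the abstract relations -/
noncomputable def wb (O : OutW F) : WB G where
  t := F.t
  p := F.p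
  I s := emb s ∈ H
  a1 := O.a1
  a2 := O.a2
  Iiff s := by rw [F.mem_iff (emb_AM s), emb_12]
  pn s h := dif_neg h
  pm := F.p_mul
  pi := F.p_inj
  pt := F.p_t
  tt := F.tt
  aa1 := O.aa1
  aa2 := O.aa2
  a12 := O.a12
  ta1 := O.ta1
  ta2 := O.ta2
  aJ := O.aJ
  sa1 := O.sa1
  sa2 := O.sa2

theorem wb_W (O : OutW F) : closure ({O.a1, O.a2, F.p z1, F.p z2} : Set G) = (wb O).W := by
  refine le_antisymm ((closure_le _).2 ?_) ((wb O).W_le (subset_closure (Or.inl rfl))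
    (subset_closure (Or.inr (Or.inl rfl))) (subset_closure (Or.inr (Or.inr (Or.inl rfl))))
    (subset_closure (Or.inr (Or.inr (Or.inr rfl)))))
  rintro _ (rfl | rfl | rfl | rfl)
  exacts [(wb O).a1W, (wb O).a2W, (wb O).pW WB.Uz1, (wb O).pW WB.Uz2]

/-- the abstract relations -/
noncomputable def wd (O : OutW F) : WD G where
  toWB := wb O
  w := O.w
  ww := O.ww
  wt := O.wt
  wC k := mem_C'.2 fun a ha => O.wW k a (wb_W O ▸ ha)
  wi := O.wi
  we := O.we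
  wj1 := O.wj1
  wj2 := O.wj2
  wc k l := wb_W O ▸ O.wc k l
  sw k := wb_W O ▸ O.sw k

end H18.MW

namespace H5.MC

open H9 Cfsg H24 Subgroup

variable {H : Subgroup PG} {G : Type*} [Group G] [Finite G] {F : Fr H G}

theorem OutW.two (O : OutW F) : IsPGroup 2 O.S := by
  have n : F.S0 ≤ N[(H18.MW.wd O).R4] := fun g hg => by
    have h1 : ∀ s, F.p s ∈ N[(H18.MW.wd O).R4] := fun s => mem_N_of_finite fun _ => (H18.MW.wd O).p_R4 s
    obtain ⟨s, -, rfl | rfl⟩ := F.mem_S0.1 hg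
    exacts [h1 s, mul_mem (mem_N_of_finite fun _ => (H18.MW.wd O).t_R4) (h1 s)]
  refine (IsPGroup.to_sup_of_normal_right' F.S0_two (H18.MW.wd O).two_R4 n).to_le
    (sup_le_sup_left ((closure_le _).2 ?_) _)
  rintro _ (rfl | rfl | rfl | rfl | rfl | rfl)
  exacts [(H18.MW.wd O).W_le_R4 (H18.MW.wb O).a1W, (H18.MW.wd O).W_le_R4 (H18.MW.wb O).a2W,
    (H18.MW.wd O).wR 0, (H18.MW.wd O).wR 1, (H18.MW.wd O).wR 2, (H18.MW.wd O).wR 3]

theorem OutW.kill (O : OutW F) (hG : ∀ K : Subgroup G, K.index ≠ 2) : False := by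
  have : Fact (Nat.Prime 2) := ⟨Nat.prime_two⟩
  obtain ⟨S, hS⟩ := O.two.exists_le_sylow
  have h0 : F.S0 ≤ S := le_sup_left.trans hS
  have hg : ∀ {x}, x ∈ ({O.a1, O.a2, O.w 0, O.w 1, O.w 2, O.w 3} : Set G) → x ∈ (S : Subgroup G) :=
    fun h => hS (mem_sup_right (subset_closure h))
  let D := (H18.MW.wd O).res S (h0 F.t_mem) (fun s => h0 (F.p_mem s)) (hg (x := O.a1) (by simp))
    (hg (x := O.a2) (by simp)) fun k => hg (x := O.w k) (by fin_cases k <;> simp)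
  let m : Subgroup S → Subgroup G := map (S : Subgroup G).subtype
  have inj := (S : Subgroup G).subtype_injective
  have mc : ∀ Y, Nat.card (m Y) = Nat.card Y := fun Y => card_map_of_injective inj
  have m2 : ∀ Y, IsPGroup 2 (m Y) := fun Y => S.2.to_le (map_subtype_le Y)
  have mC : ∀ {Y} {x : S}, Y ≤ C{x} → m Y ≤ C{(x : G)} := fun h => by
    rintro _ ⟨y, hy, rfl⟩
    exact mem_C1.2 (congrArg Subtype.val (mem_C1.1 (h hy)))
  have mq : ∀ {Y : Subgroup S}, (∀ e ∈ Y, e * e = 1) → ∀ e ∈ m Y, e * e = 1 := fun h => by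
    rintro _ ⟨y, hy, rfl⟩
    exact congrArg Subtype.val (h y hy)
  refine H18.MW.WK.kill (Γ := S) {
    toWD := D
    two := S.2
    cent := fun g h => ?_
    T := fun x => F.T x
    Tt := IsConj.refl _
    Tc := fun g h => h.trans (isConj_iff.2 ⟨g, rfl⟩)
    T2 := fun h => Subtype.ext (by
      obtain ⟨g, e⟩ := isConj_iff.1 h
      rw [coe_mul, ← e, conj_mul, F.tt, mul_one, mul_inv_cancel]; rfl)
    E16 := fun {x Y} hx h1 h2 h3 => mc Y ▸ F.E16 hx (m2 Y) (mC h1) (map_mono h2) (mq fun _ => D.W_sq)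
      (by rw [mc, D.card_W]) (cent_map h3 _)
    E32 := fun {x E E'} hx h1 h2 h3 h4 h5 h6 => map_injective inj (F.E32 hx (m2 (E ⊔ E')) (mC (sup_le h1 h2))
      (map_mono le_sup_left) (map_mono le_sup_right) (mq h3) (mq h4) (mc E ▸ h5) (mc E' ▸ h6))
    tr := fun R h1 h2 => ?_ }
  · obtain ⟨s, hs, e⟩ := F.mem_S0.1 (F.cent_S S.2 h0 g.2 (congrArg Subtype.val h))
    exact ⟨s, hs, e.imp Subtype.ext Subtype.ext⟩
  · obtain ⟨_, ⟨x, hx, rfl⟩, h3, h4⟩ := F.transfer hG S h0 (R := m R) (map_subtype_le R)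
      (by rw [relIndex, subgroupOf, comap_map_eq_self_of_injective inj, h1])
      fun ⟨y, hy, e⟩ => h2 (by rwa [show y = D.t from Subtype.ext e] at hy)
    refine ⟨x, hx, h3, ?_⟩
    have e : m C{x} = (S : Subgroup G) ⊓ C{(x : G)} := le_antisymm (le_inf (map_subtype_le _) (mC le_rfl))
      fun y hy => ⟨⟨y, hy.1⟩, mem_C1.2 (Subtype.ext (mem_C1.1 hy.2)), rfl⟩
    have := F.Z4 h3 (m2 C{x}) (mC le_rfl) (by rw [e]; exact h4.ge)
    rw [← mc, ← this]
    congr 2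
    refine le_antisymm (le_inf (map_mono inf_le_left) ((map_mono inf_le_right).trans (cent_map le_rfl _))) ?_
    rintro _ ⟨⟨y, hy, rfl⟩, h⟩
    exact ⟨y, ⟨hy, mem_C.2 fun a ha => Subtype.ext (mem_C.1 h _ (mem_map_of_mem _ ha))⟩, rfl⟩

end H5.MC
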