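import Mathlib
import Cfsg.Agent.H5.MCW1
import Cfsg.Agent.H23.W2b

set_option autoImplicit false
set_option linter.unusedSectionVars false
set_option linter.unusedVariables false
set_option maxRecDepth 100000

namespace H23.W2

open H5.MC H9 Cfsg H24 Subgroup
open scoped commutatorElement

variable {H : Subgroup PG} {X : Type*} [Group X] [Finite X] {F : Fr H X} {s s' u v : Ph}

theorem dP (B : CaseW F) (s : Ph) : Commute B.d (F.p s) := by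
  have h1 : ∀ s : Ph, s.inn → Commute B.d (F.p s) := fun s hs => by
    rcases (by decide +kernel : ∀ s : Ph, s.inn → s.Q ∨ (s * i2).Q) s hs with h | h
    · exact B.dQ s h
    · have := (B.dQ _ h).mul_right B.ds.inv_right
      rwa [pm F hs (by decide), mul_inv_cancel_right] at this
  by_cases hs : s.inn
  · exact h1 s hs
  by_cases h : emb s ∈ H
  · have h0 := ((F.mem_iff (emb_AM s)).1 h).resolve_left fun e => hs (emb_12.1 e)
    have h2 := (F.mem_iff (emb_AM e1)).2 (Or.inr h0)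
    have h3 := (by decide +kernel : ∀ s : Ph, ¬ s.inn → (s * e1⁻¹).inn) s hs
    have := (h1 _ h3).mul_right B.de
    rwa [← F.p_mul (F.inn h3) h2, inv_mul_cancel_right] at this
  · rw [p_out F h]; exact Commute.one_right _

theorem cJr {a : X} (h : ∀ s : Ph, s.Jh → Commute a (F.p s)) (s : Ph) (hs : s.Jh) :
    Commute (F.r * a * F.r⁻¹) (F.p s) := by
  obtain ⟨s', h1, h2⟩ := (by decide +kernel : ∀ s : Ph, s.Jh → ∃ s', s'.Jh ∧ cr s' s) s hs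
  exact conj_r F h2 ▸ (h s' h1).conj _

theorem tr {w : X} (h : w * F.t * w⁻¹ = F.t * F.p s) (h' : cr s s') :
    F.r * w * F.r⁻¹ * F.t * (F.r * w * F.r⁻¹)⁻¹ = F.t * F.p s' := by
  rw [← conj_r F h']
  conv_lhs => rw [← rt F, cj_cj', h, cj_mul', rt]

theorem a3_eq (d : X) : F.r * (F.r * d * F.r⁻¹) * F.r⁻¹ = F.r⁻¹ * d * F.r := by
  calc _ = F.r * F.r * d * (F.r * F.r)⁻¹ := by group
    _ = _ := by rw [r3, inv_inv]

theorem we (B : CaseW F) (hW : F.W = ⊥) : We F B.d (F.r * B.d * F.r⁻¹) := by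
  obtain ⟨v, hv, e⟩ := B.a3
  rw [← a3_eq] at e
  have c13 : Commute B.d (F.r * (F.r * B.d * F.r⁻¹) * F.r⁻¹) := e ▸ B.dw.mul_right (dP B v)
  have c21 := c13.conj F.r
  rw [rrr] at c21
  have c32 := c21.conj F.r
  have J2 := cJr (fun s _ => dP B s)
  have J3 := cJr J2
  have t2 := tr B.dt (s' := z2) (by decide +kernel)
  have t3 := tr t2 (s' := z3) (by decide +kernel)
  have D : Wd F B.d (F.r * B.d * F.r⁻¹) :=
    ⟨hW, B.dd, by rw [← cj_mul', B.dd]; simp, c21.symm, B.dt, t2, fun s hs => ⟨dP B s, J2 s hs⟩⟩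
  have r1 := rrr (F := F) B.d
  obtain ⟨a2, h2⟩ : ∃ a2, a2 = F.r * B.d * F.r⁻¹ := ⟨_, rfl⟩
  rw [← h2] at c13 c32 J3 t3 D r1 ⊢
  obtain ⟨a3, h3⟩ : ∃ a3, a3 = F.r * a2 * F.r⁻¹ := ⟨_, rfl⟩
  rw [← h3] at c13 c32 J3 t3 r1
  have m3 : a3 ∈ W3 F B.d a2 := D.key
    (Wd.le_C c13.symm c32 (J3 _ (by decide)) (J3 _ (by decide)))
    (by rintro _ ⟨s, hs, rfl⟩; exact J3 s (Y_Jh s hs)) (D.mU (by decide)) t3
  have m12 := mul_mem D.m1 D.m2
  obtain ⟨u, hu, e1⟩ := D.centT (mul_mem m12 m3) (mul_inv_eq_iff_eq_mul.1 (by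
    calc _ = B.d * a2 * (a3 * F.t * a3⁻¹) * (B.d * a2)⁻¹ := by group
      _ = _ := by
        rw [t3, cj_mul', D.ta3, conj_eq_of_mem_C (D.ab m12) (D.mU (by decide)), mul_assoc,
          D.sq (D.mU (by decide)), mul_one]))
  have e2 : u = 1 := fixU (F := F) hu (by
    rw [← e1, cj_mul', cj_mul', ← h2, ← h3, r1, D.cm (mul_mem D.m2 m3) D.m1, mul_assoc])
  rw [e2, F.p_one, mul_eq_one_iff_eq_inv, inv_eq_of_mul_eq_one_right (D.sq m3)] at e1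
  refine ⟨D, h2.symm, h3.symm.trans e1.symm, (dP B sg).symm, ?_⟩
  rw [e1, h3, h2, a3_eq, cj_mul', cj_mul', (dP B sg).symm.eq, mul_inv_cancel_right,
    show F.p sg * F.r⁻¹ * (F.p sg)⁻¹ = (F.p sg * F.r * (F.p sg)⁻¹)⁻¹ by group, sg_r, inv_inv]

/-- the subgroup `⟨z1⟩` -/
def Z1 (u : Ph) : Prop := u = 1 ∨ u = z1
instance (u : Ph) : Decidable (Z1 u) := inferInstanceAs (Decidable (_ ∨ _))

theorem Z_ok : ∀ u : Ph, Z1 u → u.U0 ∧ u.V1 ∧ cρ u u ∧ (∀ s, s * u * s⁻¹ = u) ∧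
    ∀ v, Z1 v → Z1 (u * v) := by decide +kernel

theorem V_mul : ∀ u : Ph, u.V1 → ∀ v : Ph, v.V1 → (u * v).V1 := by decide +kernel

theorem out (B : CaseW F) (hW : F.W = ⊥) : Nonempty (OutW F) := by
  have D := we B hW
  obtain ⟨v, hv, e3⟩ := B.a3
  rw [← a3_eq, D.r2] at e3
  generalize F.r * B.d * F.r⁻¹ = a2 at D e3
  have hj : ∃ u, Z1 u ∧ F.p j1 * B.w * (F.p j1)⁻¹ = B.w * F.p u :=
    B.wj.elim (fun e => ⟨1, .inl rfl, by rw [e, F.p_one, mul_one]⟩) fun e => ⟨z1, .inr rfl, e⟩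
  have hq : ∃ u, Z1 u ∧ F.p sg * B.w * (F.p sg)⁻¹ = B.w * B.d * F.p u :=
    B.wq'.elim (fun e => ⟨1, .inl rfl, by rw [e, F.p_one, mul_one]⟩) fun e => ⟨z1, .inr rfl, e⟩
  obtain ⟨u1, k1, hj⟩ := hj
  obtain ⟨u2, k2, hq⟩ := hq
  have cZ : ∀ {u}, Z1 u → ∀ {s : Ph}, s.inn → F.p s * F.p u * (F.p s)⁻¹ = F.p u :=
    fun {u} hu {s} hs => conj_p' F hs ((Z_ok u hu).2.2.2.1 s)
  have cd : ∀ s, F.p s * B.d * (F.p s)⁻¹ = B.d := fun s => by
    rw [← (dP B s).eq, mul_inv_cancel_right]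
  have cw : ∀ {s : Ph}, s.V1 → F.p s * B.w * (F.p s)⁻¹ = B.w := fun {s} hs => by
    rw [← (B.wV s hs).eq, mul_inv_cancel_right]
  have ρd : F.ρ * B.d * F.ρ⁻¹ = B.d := by rw [← B.dρ.eq, mul_inv_cancel_right]
  have ww2 := B.ww2
  obtain ⟨v0, hv0, e0⟩ := B.w3
  obtain ⟨vs, hvs, es⟩ := B.ws
  have sq1 : F.ρ * B.w * F.ρ⁻¹ * (F.ρ * B.w * F.ρ⁻¹) = 1 := by rw [← cj_mul', B.ww]; simp
  have t1 : F.ρ * B.w * F.ρ⁻¹ * F.t * (F.ρ * B.w * F.ρ⁻¹)⁻¹ = F.t * F.p i1 := by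
    rw [← conj_ρ F (s := z3) (by decide +kernel)]
    conv_lhs => rw [← ρt F, cj_cj', B.wt, cj_mul', ρt]
  have cV : ∀ s : Ph, s.V1 → Commute (F.ρ * B.w * F.ρ⁻¹) (F.p s) := fun s hs => by
    obtain ⟨s', h1, h2⟩ := (by decide +kernel : ∀ s : Ph, s.V1 → ∃ s', s'.V1 ∧ cρ s' s) s hs
    exact conj_ρ F h2 ▸ (B.wV s' h1).conj _
  have ce : Commute (F.ρ * B.w * F.ρ⁻¹) (F.p e1) :=
    conj_ρ F (s := e1) (s' := e1) (by decide +kernel) ▸ B.we.conj _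
  have c1 : Commute (F.ρ * B.w * F.ρ⁻¹) B.d := ρd ▸ B.dw.symm.conj _
  have A1 : F.p j1 * (F.ρ * B.w * F.ρ⁻¹) * (F.p j1)⁻¹ =
      F.ρ * B.w * F.ρ⁻¹ * (B.d * F.p (u1 * u2)) := by
    obtain ⟨x, hx, e⟩ := (by decide +kernel : ∃ v : Ph, v.V1 ∧ cρ (j1 * sg * v) j1)
    have e1 : F.p (j1 * sg * x) * B.w * (F.p (j1 * sg * x))⁻¹ = B.w * (B.d * F.p (u1 * u2)) := by
      rw [pm F (by decide +kernel) (V_inn x hx), pm F (by decide) (by decide),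
        pm F (U_inn _ (Z_ok _ k1).1) (U_inn _ (Z_ok _ k2).1)]
      calc _ = F.p j1 * (F.p sg * (F.p x * B.w * (F.p x)⁻¹) * (F.p sg)⁻¹) * (F.p j1)⁻¹ := by group
        _ = B.w * (F.p u1 * B.d) * F.p u2 := by
          rw [cw hx, hq, cj_mul', cj_mul', hj, cd, cZ k2 (by decide)]; group
        _ = _ := by rw [← (dP B u1).eq]; group
    rw [← conj_ρ F e, cj_cj', e1, cj_mul', cj_mul', ρd,
      conj_ρ F (Z_ok _ ((Z_ok _ k1).2.2.2.2 _ k2)).2.2.1]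
  have A2 : F.p sg * (F.ρ * B.w * F.ρ⁻¹) * (F.p sg)⁻¹ = F.ρ * B.w * F.ρ⁻¹ * F.p u1 := by
    obtain ⟨x, hx, e⟩ := (by decide +kernel : ∃ v : Ph, v.V1 ∧ cρ (j1 * v) sg)
    have e1 : F.p (j1 * x) * B.w * (F.p (j1 * x))⁻¹ = B.w * F.p u1 := by
      rw [pm F (by decide) (V_inn x hx), ← hj]
      conv_rhs => rw [← cw hx]
      group
    rw [← conj_ρ F e, cj_cj', e1, cj_mul', conj_ρ F (Z_ok _ k1).2.2.1]
  have A3 : ∃ v1 : Ph, v1.V1 ∧ F.p i2 * (F.ρ * B.w * F.ρ⁻¹) * (F.p i2)⁻¹ =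
      F.ρ * B.w * F.ρ⁻¹ * B.w * F.p v1 := by
    obtain ⟨s', h1, h2⟩ := (by decide +kernel : ∀ s : Ph, s.V1 → ∃ s', s'.V1 ∧ cρ s' s) vs hvs
    refine ⟨v0 * s', V_mul _ hv0 _ h1, ?_⟩
    rw [pm F (V_inn _ hv0) (V_inn _ h1), ← e0]
    calc _ = (F.p i2 * F.ρ * (F.p i2)⁻¹) * (F.p i2 * B.w * (F.p i2)⁻¹) *
          (F.p i2 * F.ρ * (F.p i2)⁻¹)⁻¹ := by group
      _ = F.ρ⁻¹ * B.w * F.ρ * F.p s' := by rw [i2_ρ, es, ← conj_ρ F h2]; group
      _ = F.ρ * B.w * F.ρ⁻¹ * (B.w * B.w) * (F.ρ * B.w * F.ρ⁻¹) * (F.ρ⁻¹ * B.w * F.ρ) * F.p s' := by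
        rw [B.ww, mul_one, sq1, one_mul]
      _ = _ := by simp only [mul_assoc]
  generalize F.ρ * B.w * F.ρ⁻¹ = w1 at *
  obtain ⟨v1, hv1, A3⟩ := A3
  have k3 := (Z_ok _ k1).2.2.2.2 _ k2
  generalize u1 * u2 = u3 at A1 k3
  have cw1 : ∀ {s : Ph}, s.V1 → F.p s * w1 * (F.p s)⁻¹ = w1 := fun {s} hs => by
    rw [← (cV s hs).eq, mul_inv_cancel_right]
  have pi0 : ∀ x, F.p i0 * x * (F.p i0)⁻¹ =
      F.p i1 * (F.p j1 * (F.p z1 * x * (F.p z1)⁻¹) * (F.p j1)⁻¹) * (F.p i1)⁻¹ := fun x => by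
    rw [show i0 = i1 * j1 * z1 by decide +kernel, pm F (by decide +kernel) (by decide),
      pm F (by decide) (by decide)]
    group
  have A4 : F.p i0 * w1 * (F.p i0)⁻¹ = w1 * (B.d * F.p u3) := by
    rw [pi0, cw1 (by decide), A1, cj_mul', cj_mul', cw1 (by decide), cd, cZ k3 (by decide)]
  have A4' : F.p i0 * B.w * (F.p i0)⁻¹ = B.w * F.p u1 := by
    rw [pi0, cw (by decide), hj, cj_mul', cw (by decide), cZ k1 (by decide)]
  have dw : B.d * B.w = a2 * F.p v := by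
    have : F.p v * F.p v = 1 := by
      rw [← pm F (V_inn _ hv) (V_inn _ hv),
        (by decide +kernel : ∀ v : Ph, v.V1 → v * v = 1) v hv, F.p_one]
    calc _ = B.d * (B.w * F.p v) * F.p v := by rw [mul_assoc, mul_assoc, this, mul_one]
      _ = _ := by rw [← e3, ← mul_assoc, B.dd, one_mul]
  have c2 : Commute w1 a2 := by
    have := c1.mul_right (ww2.symm.mul_right (cV v hv))
    rwa [← e3, ← mul_assoc, B.dd, one_mul] at this
  have hv2 := (by decide +kernel : ∀ v : Ph, v.V1 → (i0 * v * i0⁻¹).V1) v1 hv1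
  have hv3 := V_mul _ (V_mul _ (V_mul _ hv _ (Z_ok _ k3).2.1) _ (Z_ok _ k1).2.1) _ hv2
  have A5 : F.p j2 * w1 * (F.p j2)⁻¹ = w1 * (a2 * F.p (v * u3 * u1 * (i0 * v1 * i0⁻¹))) := by
    rw [pm F (V_inn _ (V_mul _ (V_mul _ hv _ (Z_ok _ k3).2.1) _ (Z_ok _ k1).2.1)) (V_inn _ hv2),
      pm F (V_inn _ (V_mul _ hv _ (Z_ok _ k3).2.1)) (V_inn _ (Z_ok _ k1).2.1),
      pm F (V_inn _ hv) (V_inn _ (Z_ok _ k3).2.1), show j2 = i0 * i2 by decide +kernel,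
      pm F (s := i0) (u := i2) (by decide) (by decide), ← conj_p F (by decide)]
    calc _ = F.p i0 * (F.p i2 * w1 * (F.p i2)⁻¹) * (F.p i0)⁻¹ := by group
      _ = w1 * B.d * (F.p u3 * B.w) * F.p u1 * (F.p i0 * F.p v1 * (F.p i0)⁻¹) := by
        rw [A3, cj_mul', cj_mul', A4, A4']; simp only [mul_assoc]
      _ = w1 * (B.d * B.w) * F.p u3 * F.p u1 * (F.p i0 * F.p v1 * (F.p i0)⁻¹) := by
        rw [← (B.wV _ (Z_ok _ k3).2.1).eq]; simp only [mul_assoc]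
      _ = _ := by rw [dw]; simp only [mul_assoc]
  generalize v * u3 * u1 * (i0 * v1 * i0⁻¹) = v3 at A5 hv3
  have hu3 : v3.U0 := by
    refine (by decide +kernel : ∀ v : Ph, v.V1 → v * (j2 * v * j2⁻¹) = 1 → v.U0) v3 hv3 ?_
    have h1 := (by decide +kernel : ∀ v : Ph, v.V1 → (j2 * v * j2⁻¹).V1) v3 hv3
    refine p_ne F (V_inn _ (V_mul _ hv3 _ h1)) ?_
    rw [pm F (V_inn _ hv3) (V_inn _ h1), ← conj_p F (by decide)]
    have e1 : F.p j2 * (F.p j2 * w1 * (F.p j2)⁻¹) * (F.p j2)⁻¹ = w1 := by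
      calc _ = F.p j2 * F.p j2 * w1 * (F.p j2 * F.p j2)⁻¹ := by group
        _ = w1 := by rw [← pm F (by decide) (by decide), cw1 (by decide +kernel)]
    rw [A5, cj_mul', A5, cj_mul', ← (D.aJ j2 (by decide)).2.eq, mul_inv_cancel_right,
      mul_assoc w1, mul_eq_left, mul_assoc a2, ← mul_assoc (F.p v3),
      ← (D.aJ v3 ((by decide +kernel : ∀ v : Ph, v.V1 → v.Jh) v3 hv3)).2.eq, mul_assoc a2,
      ← mul_assoc a2, D.aa2, one_mul] at e1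
    exact e1
  have hu := (Z_ok _ k3).1
  have m1 := mul_mem D.m1 (D.mU hu)
  have m2 := mul_mem D.m2 (D.mU hu3)
  have f1 := flip sq1 A1 (mem_C.1 (D.cJ (by decide)) _ m1)
  have f2 := flip sq1 A5 (mem_C.1 (D.cJ (by decide)) _ m2)
  have f0 := flip sq1 A4 (mem_C.1 (D.cJ (by decide)) _ m1)
  refine D.out (w1 := w1) ⟨Wd.le_C c1 c2 (cV _ (by decide)) (cV _ (by decide)), sq1,
    ⟨_, hu, by rw [f1, mul_assoc]⟩, ⟨_, hu3, by rw [f2, mul_assoc]⟩, ⟨_, U_mul _ hu _ hu3, ?_⟩,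
    ?_, ?_⟩ t1 (cV _ (by decide)) ce ?_
  · have e : F.p j3 = (F.p j1 * F.p j2)⁻¹ := by
      rw [show j3 = (j1 * j2)⁻¹ by decide +kernel, pi F (by decide +kernel),
        pm F (by decide) (by decide)]
    calc _ = (w1 * F.p j1 * w1⁻¹ * (w1 * F.p j2 * w1⁻¹))⁻¹ := by rw [e]; group
      _ = (F.p j1 * ((B.d * F.p u3) * F.p j2) * (a2 * F.p v3))⁻¹ := by rw [f1, f2]; group
      _ = (B.d * F.p u3 * (a2 * F.p v3))⁻¹ * F.p j3 := by
        rw [mem_C.1 (D.cJ (s := j2) (by decide)) _ m1, e]; group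
      _ = F.p j3 * (B.d * (F.p u3 * a2) * F.p v3) := by
        rw [inv_eq_of_mul_eq_one_right (D.sq (mul_mem m1 m2)),
          mem_C.1 (D.cJ (s := j3) (by decide)) _ (mul_mem m1 m2)]
        simp only [mul_assoc]
      _ = _ := by
        rw [D.cm (D.mU hu) D.m2, pm F (U_inn _ hu) (U_inn _ hu3)]; simp only [mul_assoc]
  · rw [commutatorElement_def, f0, conj_eq_of_mem_C (D.cJ (by decide)) m1]; exact m1
  · by_cases h : emb c0 ∈ H
    · have he : emb e1 ∈ H := by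
        rw [show e1 = c0 * j2 by decide +kernel, map_mul]; exact mul_mem h (F.inn (by decide))
      have : ⁅w1, F.p e1 * (F.p j2)⁻¹⁆ =
          w1 * F.p e1 * w1⁻¹ * (w1 * F.p j2 * w1⁻¹)⁻¹ * F.p j2 * (F.p e1)⁻¹ := by
        simp only [commutatorElement_def]; group
      rw [show c0 = e1 * j2⁻¹ by decide +kernel, F.p_mul he (F.inn (by decide +kernel)),
        pi F (by decide), this, f2, ce.eq, mul_inv_cancel_right, mul_inv_rev, ← mul_assoc,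
        inv_mul_cancel_right, conj_eq_of_mem_C (D.cJ (by decide)) (inv_mem m2)]
      exact inv_mem m2
    · rw [p_out F h]; simp
  · rw [A2, mul_assoc, ← (cV _ (Z_ok _ k1).2.1).eq, ← mul_assoc, sq1, one_mul]
    exact D.mU (Z_ok _ k1).1

end H23.W2

namespace H5.MC

open H9 Cfsg H24 Subgroup

variable {H : Subgroup PG} {G X : Type*} [Group G] [Finite G] [Group X] [Finite X] {F : Fr H G} {F' : Fr H X}

theorem CaseW.out (B : CaseW F') (hW : F'.W = ⊥) : Nonempty (OutW F') := H23.W2.out B hW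

theorem killW (C : Cov F F') (B : CaseW F') (hG : ∀ K : Subgroup G, K.index ≠ 2) : False := by
  obtain ⟨O⟩ := B.out C.bot
  obtain ⟨l, -, -, lt, lp⟩ := C.lift O.two le_sup_left
  have mt : F'.t ∈ O.S := mem_sup_left F'.t_mem
  have mp : ∀ s, F'.p s ∈ O.S := fun s => mem_sup_left (F'.p_mem s)
  have m1 : O.a1 ∈ O.S := mem_sup_right (subset_closure (by simp))
  have m2 : O.a2 ∈ O.S := mem_sup_right (subset_closure (by simp))
  have mw : ∀ k, O.w k ∈ O.S := fun k =>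
    mem_sup_right (subset_closure (by fin_cases k <;> simp))
  have et : ap l F'.t = F.t := (ap_of_mem _ mt).trans (lt _)
  have ep : ∀ s, ap l (F'.p s) = F.p s := fun s => (ap_of_mem _ (mp s)).trans (lp _ _)
  have cm : ∀ {x y}, x ∈ O.S → y ∈ O.S → Commute x y → Commute (ap l x) (ap l y) :=
    fun hx hy h => by rw [Commute, SemiconjBy, ← ap_mul _ hx hy, ← ap_mul _ hy hx, h.eq]
  have cl : ∀ x ∈ closure ({O.a1, O.a2, F'.p z1, F'.p z2} : Set X), x ∈ O.S ∧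
      ap l x ∈ closure ({ap l O.a1, ap l O.a2, F.p z1, F.p z2} : Set G) := fun x hx => by
    induction hx using closure_induction with
    | mem x hx =>
      rcases hx with rfl | rfl | rfl | rfl
      exacts [⟨m1, subset_closure (by simp)⟩, ⟨m2, subset_closure (by simp)⟩,
        ⟨mp _, subset_closure (by simp [ep])⟩, ⟨mp _, subset_closure (by simp [ep])⟩]
    | one => exact ⟨one_mem _, by rw [ap_one]; exact one_mem _⟩
    | mul x y _ _ h1 h2 => exact ⟨mul_mem h1.1 h2.1, by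
        rw [ap_mul _ h1.1 h2.1]; exact mul_mem h1.2 h2.2⟩
    | inv x _ h => exact ⟨inv_mem h.1, by rw [ap_inv _ h.1]; exact inv_mem h.2⟩
  have wc : ∀ k, ∀ x ∈ ({O.a1, O.a2, F'.p z1, F'.p z2} : Set X),
      Commute (ap l (O.w k)) (ap l x) := fun k x hx =>
    cm (mw k) (cl x (subset_closure hx)).1 (O.wW k x (subset_closure hx))
  refine OutW.kill (F := F) ⟨ap l O.a1, ap l O.a2, fun k => ap l (O.w k),
    by rw [← ap_mul _ m1 m1, O.aa1, ap_one], by rw [← ap_mul _ m2 m2, O.aa2, ap_one],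
    cm m1 m2 O.a12, by rw [← et, ← ep, ← ap_conj _ m1 mt, O.ta1, ap_mul _ mt (mp _)],
    by rw [← et, ← ep, ← ap_conj _ m2 mt, O.ta2, ap_mul _ mt (mp _)],
    fun s hs => ep s ▸ ⟨cm m1 (mp s) (O.aJ s hs).1, cm m2 (mp s) (O.aJ s hs).2⟩,
    ep sg ▸ cm (mp _) m1 O.sa1, by rw [← ep, ← ap_conj _ (mp _) m2, O.sa2, ap_mul _ m1 m2],
    fun k => by rw [← ap_mul _ (mw k) (mw k), O.ww, ap_one],
    fun k => by rw [← et, ← ep, ← ap_conj _ (mw k) mt, O.wt, ap_mul _ mt (mp _)],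
    fun k x hx => mem_C'.1 (H23.W2.Wd.le_C (wc k _ (by simp)) (wc k _ (by simp))
      (ep z1 ▸ wc k _ (by simp)) (ep z2 ▸ wc k _ (by simp))) x hx,
    fun k => ep _ ▸ cm (mw k) (mp _) (O.wi k), fun k => ep _ ▸ cm (mw k) (mp _) (O.we k),
    fun k => ?_, fun k => ?_, fun k j => ?_, ?_, fun k => ?_⟩ hG
  · obtain ⟨u, hu, e⟩ := O.wj1 k
    exact ⟨u, hu, by
      rw [← ep, ← ep u, ← ap_conj _ (mw k) (mp _), e, ap_mul _ (mul_mem (mp _) m1) (mp _),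
        ap_mul _ (mp _) m1]⟩
  · obtain ⟨u, hu, e⟩ := O.wj2 k
    exact ⟨u, hu, by
      rw [← ep, ← ep u, ← ap_conj _ (mw k) (mp _), e, ap_mul _ (mul_mem (mp _) m2) (mp _),
        ap_mul _ (mp _) m2]⟩
  · rw [← ap_commutator _ (mw k) (mw j)]; exact (cl _ (O.wc k j)).2
  · rw [← ap_mul _ (mw _) (mw _), ← ap_mul _ (mul_mem (mw _) (mw _)) (mw _),
      ← ap_mul _ (mul_mem (mul_mem (mw _) (mw _)) (mw _)) (mw _)]
    exact (cl _ O.w0).2
  · rw [← ep sg, ← ap_conj _ (mp _) (mw k),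
      ← ap_mul _ (mul_mem (mul_mem (mp _) (mw _)) (inv_mem (mp _))) (mw _)]
    exact (cl _ (O.sw k)).2

end H5.MC
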