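import Mathlib
import Cfsg.Agent.H5.MCQ
import Cfsg.Agent.H6.Dihedral
import Cfsg.Agent.H26.MZ6

/-! # The case of `Suz : 2` gives a subgroup of index two -/

set_option autoImplicit false
set_option linter.unusedSectionVars false
set_option linter.unusedVariables false

namespace H5.MC

open H9 Cfsg H24 Subgroup

variable {H : Subgroup PG} {G X : Type*} [Group G] [Finite G] [Group X] [Finite X] {F : Fr H G} {F' : Fr H X}

open H26.MZ in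
theorem Z.A_le (C : Cov F F') (Φ : FX F') : Φ.A ≤ img C.π C[F.W] := by
  have n : (img C.π C[F.W]).Normal := nml_top_iff.1 (by
    have := (C_nml_N F.W).img C.π
    rwa [img_dom, MonoidHom.range_eq_top.2 C.surj] at this)
  have e : ∀ x ∈ Spor.M12, F'.e x ∈ img C.π C[F.W] := fun x hx =>
    C.πe x ▸ ap_of_mem C.π (F.eNW x) ▸ ap_mem_img C.π (F.eCW hx) (F.eNW x)
  have t : F'.t ∈ img C.π C[F.W] := C.πt F.tNW ▸ ap_of_mem C.π F.tNW ▸ ap_mem_img C.π F.tCW F.tNW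
  have r : F'.r ∈ img C.π C[F.W] := e _ NX.r_12
  have q : ∀ s : Ph, s.inn → Φ.q s ∈ img C.π C[F.W] := fun s hs => Φ.qi s hs ▸ e _ (emb_12.2 hs)
  generalize img C.π C[F.W] = D at *
  have f1 : Φ.f 1 ∈ D ∧ Φ.f 2 ∈ D := by
    have k : ∀ x, QuotientGroup.mk' D x = 1 ↔ x ∈ D := QuotientGroup.eq_one_iff
    have a := congrArg (QuotientGroup.mk' D) Φ.rf
    have b := congrArg (QuotientGroup.mk' D) Φ.rf'
    have c := congrArg (QuotientGroup.mk' D) Φ.f123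
    have d := congrArg (QuotientGroup.mk' D) (Φ.fsq (by decide : 1 < 8))
    simp only [map_mul, map_inv, (k _).2 r, (k _).2 (q (vv 1) (by decide +kernel)), map_one, inv_one, one_mul,
      mul_one] at a b c d
    rw [← b, ← a, d, one_mul] at c
    exact ⟨(k _).1 c, (k _).1 (a ▸ c)⟩
  have f : ∀ w < 8, Φ.f w ∈ D := fun w hw => by
    rcases (by omega : w = 0 ∨ w = 1 ∨ 2 ≤ w) with rfl | rfl | h
    · exact Φ.f0 ▸ one_mem _
    · exact f1.1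
    · obtain ⟨m, e⟩ := n8 w hw h
      exact Φ.eqN m 2 (by decide) w hw e ▸ n.conj_mem _ f1.2 _
  have c : Φ.q (cc 3 4 0) ∈ D := (mul_mem_cancel_left (f _ (by decide))).1
    (Φ.ff 3 (by decide) 4 (by decide) ▸ mul_mem (f 3 (by decide)) (f 4 (by decide)))
  rintro _ ⟨u, -, rfl⟩
  refine mul_mem (mul_mem (f _ u.v_lt) (pow_mem t _)) ?_
  rcases (by decide +kernel : ∀ s : Ph, s.inn ∨ (cc 3 4 0 * s).inn) u.s with h | h
  · exact q _ h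
  · exact (mul_mem_cancel_left c).1 (map_mul Φ.q _ _ ▸ q _ h)

open H26.MZ in
theorem killS (C : Cov F F') (B : CaseS F') (hG : ∀ K : Subgroup G, K.index ≠ 2) : False := by
  obtain ⟨Φ⟩ := exists_FX C.bot B
  obtain ⟨D, hρ⟩ := Φ.exists_dat
  obtain ⟨l, li, lπ, lt, lp⟩ := C.lift D.two D.SM
  have qM := fun s => D.SM (Φ.q_mem s)
  have fM : ∀ v < 8, Φ.f v ∈ D.M := fun v hv => D.KM (D.UK (Φ.fU hv))
  have at' : ap l F'.t = F.t := (ap_of_mem _ D.tM).trans (lt _)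
  have ap' : ∀ s, ap l (F'.p s) = F.p s := fun s => (ap_of_mem _ (D.SM (F'.p_mem s))).trans (lp s _)
  have aN : ∀ x ∈ D.M, ap l x ∈ N[F.W] ∧ ap C.π (ap l x) = x := fun x hx => by
    obtain ⟨h, e⟩ := lπ ⟨x, hx⟩
    rw [ap_of_mem _ hx]
    exact ⟨h, (ap_of_mem _ h).trans e⟩
  have mem : ∀ Y ≤ D.M, ∀ x ∈ D.M, ap l x ∈ img l Y ↔ x ∈ Y := fun Y hY x hx =>
    ⟨fun h => by
      obtain ⟨y, hy, e⟩ := (mem_img_of_le hY).1 h
      rwa [← (aN x hx).2, ← e, (aN y (hY hy)).2], fun h => ap_mem_img l h hx⟩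
  let q : Ph →* G := l.comp (Φ.q.codRestrict _ qM)
  have hq : ∀ s, q s = ap l (Φ.q s) := fun s => (ap_of_mem _ (qM s)).symm
  let Ψ : Fam F := ⟨q, fun v => ap l (Φ.f v), Φ.two, fun s h => by rw [hq, Φ.qi s h, ap'],
    fun s => (Φ.qo s).imp (fun e => by rw [hq, e, ap']) fun e => by rw [hq, e, ap'],
    by rw [Φ.f0, ap_one],
    fun s w hw => by
      rw [hq, ← ap_mul _ (qM s) (fM w hw), Φ.eqv s w hw, ap_mul _ (fM _ (act_ok s w hw).1) (qM s)],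
    fun w hw => by
      rw [hq, ← at', ← ap_mul _ D.tM (fM w hw), Φ.tf w hw, ap_mul _ (mul_mem (fM w hw) D.tM) (qM _),
        ap_mul _ (fM w hw) D.tM],
    fun v hv w hw => by
      rw [hq, ← ap_mul _ (fM v hv) (fM w hw), Φ.ff v hv w hw, ap_mul _ (fM _ (cc_one v hv w hw).1) (qM _)]⟩
  have Ψq : ∀ s, Ψ.q s = ap l (Φ.q s) := hq
  have Ψf : ∀ v, Ψ.f v = ap l (Φ.f v) := fun _ => rfl
  have ψa : ∀ u, Ψ.ψ u = ap l (Φ.ψ u) := fun u => by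
    rw [Fam.ψ, Fam.ψ, ap_mul _ (mul_mem (fM _ u.v_lt) (pow_mem D.tM _)) (qM _),
      ap_mul _ (fM _ u.v_lt) (pow_mem D.tM _), ap_pow _ D.tM, at', Ψq, Ψf]
  have sub : ∀ p hp, Ψ.sub p hp = img l (Φ.sub p hp) := fun p hp => Subgroup.ext fun g =>
    ⟨fun ⟨u, hu, e⟩ => e ▸ ψa u ▸ ap_mem_img l ⟨u, hu, rfl⟩ (D.ψM u), fun h => by
      obtain ⟨_, ⟨u, hu, rfl⟩, -, e⟩ := mem_img.1 h
      exact ⟨u, hu, (ψa u).trans e⟩⟩
  have sA : Ψ.A = img l Φ.A := sub _ _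
  have sU : Ψ.U = img l Φ.U := sub _ _
  have sE : Ψ.E = img l Φ.E := sub _ _
  clear_value Ψ
  have EM := D.EK.trans D.KM
  have UM := D.UK.trans D.KM
  have δM : ∀ k ∈ D.M, δ F' k ∈ D.M := fun k hk => UM (Φ.δU (D.MA hk))
  have δa : ∀ k ∈ D.M, δ F (ap l k) = ap l (δ F' k) := fun k hk => by
    rw [δ, δ, ap_mul _ D.tM (conj_mem (norm_self _ hk) D.tM), ap_conj _ hk D.tM, at']
  have AW : Ψ.A ≤ C[F.W] := fun g hg => by
    obtain ⟨x, hx, rfl⟩ := (mem_img_of_le D.AM).1 (sA ▸ hg)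
    obtain ⟨y, hy, hN, e⟩ := mem_img.1 (Z.A_le C Φ hx)
    obtain ⟨n, hn⟩ := D.two ⟨x, D.AM hx⟩
    refine C.centW (g := 1) (x := ⟨y, hN⟩) (y := ⟨_, (aN x (D.AM hx)).1⟩) (n := n) hy ?_ ?_
    · change ap l x ^ 2 ^ n = 1
      rw [ap_of_mem _ (D.AM hx), ← map_pow, hn, map_one]
    · rw [one_mul, inv_one, mul_one, ← ap_of_mem, ← ap_of_mem, e, (aN x (D.AM hx)).2]
  refine Dat.false (Φ := Ψ) ⟨img l D.K, sU ▸ img_mono l D.UK, sE ▸ img_cent l D.KE, sA ▸ img_norm l D.KA,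
    fun g hg => ?_, fun k hk h => ?_, fun k hk => ?_, D.big.imp (fun e => by rw [sU, e]) fun h w hw => ?_,
    fun g hg => ?_, fun s hs k hk hT => ?_⟩ hG
  · have k : ∀ x ∈ F'.S0, ap l x ∈ N[img l D.K] := fun x hx => ap_mem_N l (D.SK hx) (D.SM hx)
    obtain ⟨s, rfl | rfl⟩ := Ψ.mem_S0.1 hg
    · exact Ψq s ▸ k _ (Φ.q_mem s)
    · exact mul_mem (at' ▸ k _ F'.t_mem) (Ψq s ▸ k _ (Φ.q_mem s))
  · obtain ⟨k, h1, rfl⟩ := (mem_img_of_le D.KM).1 hk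
    rw [δa k (D.KM h1), sE, mem _ EM _ (δM k (D.KM h1))] at h
    exact sU ▸ ap_mem_img l (D.K2 k h1 h) (D.KM h1)
  · obtain ⟨k, h1, rfl⟩ := (mem_img_of_le D.KM).1 hk
    rw [← ap_mul _ (D.KM h1) (D.KM h1), sE]
    exact ap_mem_img l (D.sq k h1) (D.KM (mul_mem h1 h1))
  · obtain ⟨k, h1, h2⟩ := h w hw
    have m := ap_mem_img l h1 (D.KM h1)
    refine ⟨_, m, (cs_eq_cs (Ψ.UNE (Ψ.δU (sA ▸ img_norm l D.KA m))) (Ψ.UNE (Ψ.fU hw))).2 ?_⟩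
    rw [δa k (D.KM h1), Ψf, ← ap_inv _ (δM k (D.KM h1)), ← ap_mul _ (inv_mem (δM k (D.KM h1))) (fM w hw), sE]
    exact ap_mem_img l ((cs_eq_cs (Φ.UNE (Φ.δU (D.KA h1))) (Φ.UNE (Φ.fU hw))).1 h2)
      (mul_mem (inv_mem (δM k (D.KM h1))) (fM w hw))
  · have c := cent_cj AW g
    rw [cj_of_mem_N hg] at c
    have z : ∀ s : Ph, s.inn → C0 s → F.p s ∈ N[cj g F.W] := fun s h1 h2 =>
      C_le_N _ (c (Ψ.qi s h1 ▸ Ψ.UA (Ψ.qU.2 h2)))
    have gW : g ∈ N[F.W] := mem_N_of_cj_le (F.oddW (by rw [card_cj]; exact F.odd)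
      (mem_C_iff_le_C1.1 (c Ψ.tA)) (z _ (by decide) (by decide +kernel)) (z _ (by decide) (by decide +kernel)))
    have cjA : ∀ x ∈ Φ.A, ap C.π g * x * (ap C.π g)⁻¹ ∈ Φ.A ∧
        g * ap l x * g⁻¹ = ap l (ap C.π g * x * (ap C.π g)⁻¹) := fun x hx => by
      obtain ⟨y, hy, e⟩ := (mem_img_of_le D.AM).1 (sA ▸ conj_mem hg (sA ▸ ap_mem_img l hx (D.AM hx)))
      have := congrArg (ap C.π) e
      rw [ap_conj _ gW (aN x (D.AM hx)).1, (aN x (D.AM hx)).2, (aN y (D.AM hy)).2] at this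
      exact this ▸ ⟨hy, e.symm⟩
    obtain ⟨k, hk, e⟩ := D.H2 _ (mem_N_of_finite fun x hx => (cjA x hx).1)
    refine ⟨_, ap_mem_img l hk (D.KM hk), ?_⟩
    rw [← at', (cjA _ Φ.tA).2, e, ap_conj _ (D.KM hk) D.tM]
  · obtain ⟨k, h1, rfl⟩ := (mem_img_of_le D.KM).1 hk
    obtain ⟨k', h2, g, -, e⟩ := hρ s hs k h1
    obtain ⟨⟨g, hg⟩, rfl⟩ := C.surj g
    have m1 := mul_mem (qM s) (D.KM h1)
    have m2 := mul_mem (qM j1) (D.KM h2)
    rw [Ψq, ← ap_mul _ (qM s) (D.KM h1)] at hT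
    refine ⟨_, ap_mem_img l h2 (D.KM h2), ?_⟩
    rw [Ψq, ← ap_mul _ (qM j1) (D.KM h2)]
    generalize Φ.q s * k = x at *
    generalize Φ.q j1 * k' = y at *
    have hT' := hT.trans (isConj_iff.2 ⟨g, rfl⟩)
    have n1 := conj_mem (norm_self _ hg) (aN x m1).1
    have e1 : ap C.π (g * ap l x * g⁻¹) = y := by
      rw [ap_conj _ hg (aN x m1).1, (aN x m1).2, ap_of_mem _ hg, e]
    have e2 : y * y = 1 := by rw [← e1, ← ap_mul _ n1 n1, Tsq hT', ap_one]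
    refine hT'.trans (H6.isConj_of_odd (Tsq hT') (by rw [← ap_mul _ m2 m2, e2, ap_one])
      (F.odd.of_dvd_nat (orderOf_dvd_card' ((C.ker ⟨_, mul_mem n1 (aN y m2).1⟩).1 ?_))))
    rw [← ap_of_mem, ap_mul _ n1 (aN y m2).1, e1, (aN y m2).2, e2]

end H5.MC
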