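import Mathlib
import Cfsg.Agent.H5.SA1

/-!
# Standard alternating subgroups: the permutation combinatorics of a pair of points
-/

set_option autoImplicit false
set_option linter.unusedSectionVars false
set_option linter.unusedVariables false

namespace H5.SA

open Subgroup Equiv Equiv.Perm

variable {α : Type} [Fintype α] [DecidableEq α] {a b c d p q u v x y z : α}
  {σ τ η : Perm α} {J H L : Subgroup (Perm α)}

/-- `J = A ∩ C(B)`, `H = A ∩ N(B)`, `L` the permutations induced by `C(B) ∩ N(A)`. -/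
structure Cfg (J H L : Subgroup (Perm α)) : Prop where
  JL : J ≤ L
  JH : J ≤ H
  nH : ¬ ∀ σ, Ev σ → σ ∈ H
  comm : ∀ {η σ}, η ∈ H → σ ∈ L → η * σ * η⁻¹ * σ⁻¹ ∈ J
  cent : ∀ {σ η}, σ ∈ L → σ * σ = 1 → σ ≠ 1 → Ev η → η * σ = σ * η → η ∈ H
  n5 : 5 ≤ Fintype.card α

theorem dd_inv (h : [a, b, c, d].Nodup) : (dd a b c d)⁻¹ = dd a b c d :=
  inv_eq_of_mul_eq_one_right (dd_sq h)

theorem comm_dd (h : [a, b, c, d].Nodup) (σ : Perm α) :
    dd a b c d * σ * (dd a b c d)⁻¹ * σ⁻¹ = dd a b c d * dd (σ a) (σ b) (σ c) (σ d) := by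
  rw [dd_inv h, ← conj_dd]; group

theorem ne_one_of (h : σ x ≠ x) : σ ≠ 1 := fun e => h (e ▸ rfl)

theorem exists_ne (h : σ ≠ 1) : ∃ x, σ x ≠ x := by
  by_contra hc; push Not at hc; exact h (Equiv.ext hc)

/-- the four-group on four points -/
def Vf (p q u v : α) (σ : Perm α) : Prop :=
  σ = 1 ∨ σ = dd p q u v ∨ σ = dd p u q v ∨ σ = dd p v q u

theorem dd_mul (n : [p, q, u, v].Nodup) : dd p q u v * dd p u q v = dd p v q u := by
  ext x; simp only [dd, Perm.mul_apply]; grind (splits := 40)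

namespace Cfg

theorem conj (h : Cfg J H L) (h1 : η ∈ H) (h2 : σ ∈ J) : η * σ * η⁻¹ ∈ J := by
  simpa using J.mul_mem (h.comm h1 (h.JL h2)) h2

theorem cdd (h : Cfg J H L) (n : [a, b, c, d].Nodup) (h1 : σ ∈ L) (h2 : σ * σ = 1) (h3 : σ ≠ 1)
    (e : dd a b c d * σ = σ * dd a b c d) (h4 : τ ∈ L) :
    dd a b c d * dd (τ a) (τ b) (τ c) (τ d) ∈ J :=
  comm_dd n τ ▸ h.comm (h.cent h1 h2 h3 (ev_dd (by grind) (by grind)) e) h4

theorem centJ (h : Cfg J H L) (n : [a, b, c, d].Nodup) (h1 : dd a b c d ∈ J) (h2 : Ev η)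
    (e : η * dd a b c d = dd a b c d * η) : η ∈ H :=
  h.cent (h.JL h1) (dd_sq n) (dd_ne n) h2 e

theorem two_types (h : Cfg J H L) (l1 : σ ∈ L) (l2 : τ ∈ L) (s1 : σ * σ = 1) (s2 : τ * τ = 1)
    (hc : σ * τ = τ * σ) (h1 : σ p = p) (h2 : τ p ≠ p) (h3 : τ u = u) (h4 : σ u ≠ u) :
    ∃ η ∈ J, T22 η := by
  have k1 := sq_apply s1
  have k2 := sq_apply s2
  have k3 := comm_apply hc
  have := k2 p
  have := k1 u
  have := k3 p
  have := k3 u
  have n : [p, u, τ p, σ u].Nodup := by grind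
  have m := h.cdd n (L.mul_mem l1 l2) (H23.TC.sq_mul s1 s2 hc)
    (ne_one_of (x := p) (by simp only [Perm.mul_apply]; grind)) (by
      ext z
      have := k1 z
      have := k2 z
      have := k1 (τ z)
      have := k3 z
      simp only [dd, Perm.mul_apply]; grind (splits := 40)) l1
  refine ⟨_, m, p, τ p, u, σ u, by grind, ?_⟩
  ext z; simp only [dd, Perm.mul_apply]; grind (splits := 40)

theorem reg_pair (h : Cfg J H L) (l1 : σ ∈ L) (l2 : τ ∈ L) (s1 : σ * σ = 1) (s2 : τ * τ = 1)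
    (hc : σ * τ = τ * σ) (n : [x, σ x, τ x, σ (τ x), p, q].Nodup)
    (h1 : σ p = p ∧ σ q = q ∨ σ p = q ∧ σ q = p) (h2 : τ p = p ∧ τ q = q ∨ τ p = q ∧ τ q = p) :
    ∃ η ∈ J, T22 η := by
  have k1 := sq_apply s1
  have := k1 x
  have := comm_apply hc x
  have m := h.cdd (a := p) (b := q) (c := x) (d := σ x) (by grind) l1 s1
    (ne_one_of (x := x) (by grind)) (by
      ext z
      have := k1 z
      simp only [dd, Perm.mul_apply]; grind (splits := 40)) l2
  refine ⟨_, m, x, σ x, τ x, σ (τ x), by grind, ?_⟩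
  ext z; simp only [dd, Perm.mul_apply]; grind (splits := 40)

theorem reg2 (h : Cfg J H L) (l1 : σ ∈ L) (l2 : τ ∈ L) (s1 : σ * σ = 1)
    (n : [x, σ x, y, σ y].Nodup) :
    dd x (σ x) y (σ y) * dd (τ x) (τ (σ x)) (τ y) (τ (σ y)) ∈ J := by
  have k1 := sq_apply s1
  have := k1 x
  have := k1 y
  exact h.cdd n l1 s1 (ne_one_of (x := x) (by grind)) (by
      ext z
      have := k1 z
      simp only [dd, Perm.mul_apply]; grind (splits := 40)) l2

theorem reg3 (h : Cfg J H L) (l1 : σ ∈ L) (l2 : τ ∈ L) (s1 : σ * σ = 1) (s2 : τ * τ = 1)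
    (hc : σ * τ = τ * σ) (n : [x, σ x, τ x, σ (τ x), y, σ y, τ y, σ (τ y)].Nodup)
    (hz : z ∉ [x, σ x, τ x, σ (τ x), y, σ y, τ y, σ (τ y)]) (hz' : σ z ≠ z) :
    ∃ η ∈ J, T22 η := by
  have k1 := sq_apply s1
  have m1 := h.reg2 (x := x) (y := y) l2 l1 s2 (by grind)
  have hz2 : σ z ∉ [x, σ x, τ x, σ (τ x), y, σ y, τ y, σ (τ y)] := by
    have := k1 z
    have := k1 x
    have := k1 y
    have := k1 (τ x)
    have := k1 (τ y)
    grind
  have := k1 x
  have := k1 z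
  have m := h.cdd (a := x) (b := σ x) (c := z) (d := σ z) (by grind) l1 s1 (ne_one_of hz') (by
      ext w
      have := k1 w
      simp only [dd, Perm.mul_apply]; grind (splits := 40)) (h.JL m1)
  refine ⟨_, m, x, σ x, τ x, σ (τ x), by grind, ?_⟩
  clear * - n hz hz2 hz'
  generalize σ (τ x) = x3 at *
  generalize σ (τ y) = y3 at *
  generalize σ x = x1 at *
  generalize τ x = x2 at *
  generalize σ y = y1 at *
  generalize τ y = y2 at *
  generalize σ z = z1 at *
  generalize hj : dd x x2 y y2 * dd x1 x3 y1 y3 = j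
  have j1 : j x = x2 := by simp only [← hj, dd, Perm.mul_apply]; grind (splits := 40)
  have j2 : j x1 = x3 := by simp only [← hj, dd, Perm.mul_apply]; grind (splits := 40)
  have j3 : j z = z := by simp only [← hj, dd, Perm.mul_apply]; grind (splits := 40)
  have j4 : j z1 = z1 := by simp only [← hj, dd, Perm.mul_apply]; grind (splits := 40)
  rw [j1, j2, j3, j4]
  clear j1 j2 j3 j4 hj
  ext w; simp only [dd, Perm.mul_apply]; grind (splits := 40)

end Cfg

/-- the exceptional configuration in degrees `8` and `9` -/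
def Exc (J : Subgroup (Perm α)) : Prop := 8 ≤ Fintype.card α ∧ ∃ σ ∈ J, ∃ τ ∈ J, ∃ ρ ∈ J,
  σ * σ = 1 ∧ σ ≠ 1 ∧ (∀ π, π * σ = σ * π → π * τ = τ * π → π * ρ = ρ * π → π * π = 1) ∧
  (∃ η, Ev η ∧ η * σ = σ * η ∧ T22 (η * η)) ∧ τ * τ = 1 ∧ ρ * ρ = 1 ∧ σ * τ = τ * σ ∧
  ρ * σ = σ * ρ ∧ ρ * τ = τ * ρ ∧ τ ≠ 1 ∧ σ ≠ τ ∧ ρ ≠ 1 ∧ ρ ≠ σ ∧ ρ ≠ τ ∧ ρ ≠ σ * τ

theorem ne_of_apply (x : α) (h : σ x ≠ τ x) : σ ≠ τ := fun e => h (e ▸ rfl)

theorem exc_aux {x1 x2 x3 y1 y2 y3 : α} (n : [x, x1, x2, x3, y, y1, y2, y3].Nodup)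
    (h1 : ∀ z w, z ∉ [x, x1, x2, x3, y, y1, y2, y3] → w ∉ [x, x1, x2, x3, y, y1, y2, y3] → z = w)
    (m1 : dd x x1 y y1 * dd x2 x3 y2 y3 ∈ J) (m2 : dd x x2 y y2 * dd x1 x3 y1 y3 ∈ J)
    (m3 : dd x y x1 y1 * dd x2 y2 x3 y3 ∈ J) : Exc J := by
  refine ⟨by simpa using n.length_le_card, _, m1, _, m2, _, m3, ?_, ne_one_of (x := x) ?_,
    fun π e1 e2 e3 => ?_, ⟨swap x x3 * swap x x1 * swap x x2 * swap y y1, ?_, ?_,
    x, x1, x2, x3, by grind, ?_⟩, ?_, ?_, ?_, ?_, ?_, ne_of_apply x ?_, ne_of_apply x ?_,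
    ne_of_apply x ?_, ne_of_apply x ?_, ne_of_apply x ?_, ne_of_apply x ?_⟩
  · clear * - n; ext z; simp only [dd, Perm.mul_apply, Perm.one_apply]; grind (splits := 60)
  · clear * - n; simp only [dd, Perm.mul_apply]; grind (splits := 40)
  · clear m1 m2 m3
    generalize hs : dd x x1 y y1 * dd x2 x3 y2 y3 = s at e1
    generalize ht : dd x x2 y y2 * dd x1 x3 y1 y3 = t at e2
    generalize hr : dd x y x1 y1 * dd x2 y2 x3 y3 = r at e3
    have vs : s x = x1 ∧ s x1 = x ∧ s x2 = x3 ∧ s x3 = x2 ∧ s y = y1 ∧ s y1 = y ∧ s y2 = y3 ∧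
        s y3 = y2 := by clear * - n hs; simp only [← hs, dd, Perm.mul_apply]; grind (splits := 60)
    have vt : t x = x2 ∧ t x1 = x3 ∧ t x2 = x ∧ t x3 = x1 ∧ t y = y2 ∧ t y1 = y3 ∧ t y2 = y ∧
        t y3 = y1 := by clear * - n ht; simp only [← ht, dd, Perm.mul_apply]; grind (splits := 60)
    have vr : r x = y ∧ r x1 = y1 ∧ r x2 = y2 ∧ r x3 = y3 ∧ r y = x ∧ r y1 = x1 ∧ r y2 = x2 ∧
        r y3 = x3 := by clear * - n hr; simp only [← hr, dd, Perm.mul_apply]; grind (splits := 60)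
    have fs : ∀ z, z ∉ [x, x1, x2, x3, y, y1, y2, y3] → s z = z := fun z hz => by
      clear * - n hs hz; simp only [← hs, dd, Perm.mul_apply]; grind (splits := 60)
    have hx : π x ∈ [x, x1, x2, x3, y, y1, y2, y3] := by
      by_contra hc
      have k1 := comm_apply e1 x
      rw [fs _ hc, vs.1] at k1
      have := π.injective k1
      clear * - this n; grind
    have a1 := comm_apply e1 x
    have a2 := comm_apply e2 x
    have a3 := comm_apply e1 x2
    have a4 := comm_apply e3 x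
    have a5 := comm_apply e3 x1
    have a6 := comm_apply e3 x2
    have a7 := comm_apply e3 x3
    have all : ∀ z, z ∈ [x, x1, x2, x3, y, y1, y2, y3] →
        π z ∈ [x, x1, x2, x3, y, y1, y2, y3] ∧ π (π z) = z := fun z hz => by
      clear * - hz hx a1 a2 a3 a4 a5 a6 a7 vs vt vr
      grind (splits := 40)
    ext z
    by_cases hz : z ∈ [x, x1, x2, x3, y, y1, y2, y3]
    · exact (all z hz).2
    have : π z = z := h1 _ _ (fun hc => hz (π.injective (all _ hc).2 ▸ (all _ hc).1)) hz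
    simp [this]
  · exact ev_odd ((ev_odd (odd_swap (by grind)) (odd_swap (by grind))).odd (odd_swap (by grind)))
      (odd_swap (by grind))
  · clear * - n; ext z; simp only [dd, Perm.mul_apply]; grind (splits := 60)
  · clear * - n; ext z; simp only [dd, Perm.mul_apply]; grind (splits := 60)
  · clear * - n; ext z; simp only [dd, Perm.mul_apply, Perm.one_apply]; grind (splits := 60)
  · clear * - n; ext z; simp only [dd, Perm.mul_apply, Perm.one_apply]; grind (splits := 60)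
  · clear * - n; ext z; simp only [dd, Perm.mul_apply]; grind (splits := 60)
  · clear * - n; ext z; simp only [dd, Perm.mul_apply]; grind (splits := 60)
  · clear * - n; ext z; simp only [dd, Perm.mul_apply]; grind (splits := 60)
  all_goals clear * - n; simp only [dd, Perm.mul_apply, Perm.one_apply]; grind (splits := 60)

namespace Cfg

theorem orb (h : Cfg J H L) (l1 : σ ∈ L) (l2 : τ ∈ L) (s1 : σ * σ = 1) (s2 : τ * τ = 1)
    (hc : σ * τ = τ * σ) (n1 : σ ≠ 1) (n2 : τ ≠ 1) (n3 : σ ≠ τ) :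
    (∃ η ∈ J, T22 η) ∨ Exc J ∨ Fintype.card α = 5 ∧
      ∃ a b c d, [a, b, c, d].Nodup ∧ σ = dd a b c d ∧ τ = dd a c b d := by
  have k1 := sq_apply s1
  have k2 := sq_apply s2
  have k3 := comm_apply hc
  have l3 := L.mul_mem l1 l2
  have s3 := H23.TC.sq_mul s1 s2 hc
  by_cases hr : ∀ x, σ x = x ∨ τ x = x ∨ σ (τ x) = x
  · left
    obtain ⟨u, hu⟩ := exists_ne n1
    have c1 : σ * τ * τ = τ * (σ * τ) := by rw [← mul_assoc, ← hc]
    have c2 : σ * (σ * τ) = σ * τ * σ := by rw [mul_assoc, ← hc]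
    rcases hr u with e | e | e
    · exact absurd e hu
    · obtain ⟨p, hp⟩ := exists_ne n2
      rcases hr p with e' | e' | e'
      · exact h.two_types l1 l2 s1 s2 hc e' hp e hu
      · exact absurd e' hp
      · exact h.two_types l3 l2 s3 s2 c1 e' hp e (by simpa [e] using hu)
    · obtain ⟨p, hp⟩ := exists_ne (σ := σ * τ) fun e =>
        n3 (by rw [eq_inv_of_mul_eq_one_left e, inv_eq_of_mul_eq_one_right s2])
      rcases hr p with e' | e' | e'
      · exact h.two_types l1 l3 s1 s3 c2 e' hp e hu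
      · exact h.two_types l2 l3 s2 s3 c1.symm e' hp e fun e2 => hu (by rwa [e2] at e)
      · exact absurd e' hp
  push Not at hr
  obtain ⟨x, x1, x2, x3⟩ := hr
  have reg : ∀ x, σ x ≠ x → τ x ≠ x → σ (τ x) ≠ x → [x, σ x, τ x, σ (τ x)].Nodup := by
    intro x x1 x2 x3
    have a1 := k1 x
    have a2 := k1 (τ x)
    have a3 := k3 x
    have a4 := k2 x
    have a5 := k2 (σ x)
    clear * - a1 a2 a3 a4 a5 x1 x2 x3; grind
  have nx := reg x x1 x2 x3
  have out : ∀ z, z ∉ [x, σ x, τ x, σ (τ x)] →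
      σ z ∉ [x, σ x, τ x, σ (τ x)] ∧ τ z ∉ [x, σ x, τ x, σ (τ x)] := fun z hz => by
    have a1 := k1 z
    have a2 := k2 z
    have a3 := k1 x
    have a4 := k2 x
    have a5 := k1 (τ x)
    have a6 := k3 x
    have a7 := k3 (τ x)
    clear * - hz a1 a2 a3 a4 a5 a6 a7; grind
  by_cases h2 : ∃ z, z ∉ [x, σ x, τ x, σ (τ x)] ∧ (σ z ≠ z ∨ τ z ≠ z) ∧
      (σ z = z ∨ τ z = z ∨ σ (τ z) = z)
  · left
    obtain ⟨z, z1, z2, z3⟩ := h2
    have a1 := k1 z
    have a2 := k2 z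
    have a3 := k3 z
    have a4 := k1 (τ z)
    obtain ⟨a5, a6⟩ := out z z1
    clear reg out k1 k2 k3
    by_cases e : σ z = z
    · exact h.reg_pair (x := x) (p := z) (q := τ z) l1 l2 s1 s2 hc (by grind) (by grind) (by grind)
    · exact h.reg_pair (x := x) (p := z) (q := σ z) l1 l2 s1 s2 hc (by grind) (by grind) (by grind)
  by_cases h3 : ∃ z w, z ∉ [x, σ x, τ x, σ (τ x)] ∧ w ∉ [x, σ x, τ x, σ (τ x)] ∧ z ≠ w ∧
      σ z = z ∧ τ z = z ∧ σ w = w ∧ τ w = w
  · left
    obtain ⟨z, w, z1⟩ := h3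
    clear reg out k1 k2 k3 h2
    exact h.reg_pair (x := x) (p := z) (q := w) l1 l2 s1 s2 hc (by grind) (by grind) (by grind)
  push Not at h2 h3
  have ax1 := k1 x
  have ax2 := k2 x
  have ax3 := k3 x
  have ax4 := k1 (τ x)
  have ax5 := k3 (τ x)
  by_cases h4 : ∀ z, z ∉ [x, σ x, τ x, σ (τ x)] → σ z = z ∧ τ z = z
  · refine .inr (.inr ⟨?_, x, σ x, τ x, σ (τ x), nx, ?_, ?_⟩)
    · by_contra h5
      have := h.n5
      obtain ⟨z, hz⟩ := fresh [x, σ x, τ x, σ (τ x)] (by simp; omega)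
      obtain ⟨w, hw⟩ := fresh [x, σ x, τ x, σ (τ x), z] (by simp; omega)
      have hw' : w ∉ [x, σ x, τ x, σ (τ x)] := by clear * - hw; grind
      exact h3 z w hz hw' (by clear * - hw; grind) (h4 z hz).1 (h4 z hz).2 (h4 w hw').1 (h4 w hw').2
    · ext z
      have := h4 z
      clear * - this ax1 ax2 ax3 ax4 ax5 nx
      simp only [dd, Perm.mul_apply]; grind (splits := 40)
    · ext z
      have := h4 z
      clear * - this ax1 ax2 ax3 ax4 ax5 nx
      simp only [dd, Perm.mul_apply]; grind (splits := 40)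
  push Not at h4
  obtain ⟨y, y0, y1⟩ := h4
  obtain ⟨y2, y3, y4⟩ := h2 y y0 (by clear * - y1; grind)
  have ny := reg y y2 y3 y4
  have n : [x, σ x, τ x, σ (τ x), y, σ y, τ y, σ (τ y)].Nodup := by
    obtain ⟨a1, a2⟩ := out y y0
    have a3 := (out _ a2).1
    clear * - nx ny y0 a1 a2 a3; grind
  by_cases h5 : ∃ z, z ∉ [x, σ x, τ x, σ (τ x), y, σ y, τ y, σ (τ y)] ∧ σ z ≠ z
  · obtain ⟨z, z1, z2⟩ := h5
    exact .inl (h.reg3 l1 l2 s1 s2 hc n z1 z2)
  push Not at h5
  have h6 : ∀ z, z ∉ [x, σ x, τ x, σ (τ x), y, σ y, τ y, σ (τ y)] →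
      z ∉ [x, σ x, τ x, σ (τ x)] ∧ σ z = z ∧ τ z = z := fun z hz => by
    have a1 : z ∉ [x, σ x, τ x, σ (τ x)] := by clear * - hz; grind
    have a2 := h5 z hz
    refine ⟨a1, a2, by_contra fun a3 => (h2 z a1 (.inr a3)).1 a2⟩
  refine .inr (.inl (exc_aux n (fun z w hz hw => by_contra fun e =>
    h3 z w (h6 z hz).1 (h6 w hw).1 e (h6 z hz).2.1 (h6 z hz).2.2 (h6 w hw).2.1 (h6 w hw).2.2)
    ?_ (h.reg2 l2 l1 s2 (by clear * - n; grind)) ?_))
  · have := h.reg2 (x := x) (y := y) l1 l2 s1 (by clear * - n; grind)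
    rwa [← k3, ← k3] at this
  · have := h.cdd (a := x) (b := y) (c := σ x) (d := σ y) (by clear * - n; grind) l1 s1 n1 (by
      ext z
      have a1 := k1 z
      have a2 := k1 y
      clear * - a1 a2 ax1 n
      simp only [dd, Perm.mul_apply]; grind (splits := 40)) l2
    rwa [← k3, ← k3] at this

theorem a5 (h : Cfg J H L) (n : [p, q, u, v, x].Nodup) (h1 : dd p q u v ∈ J) (h2 : cy p q x ∈ J) :
    dd p u q v ∈ J ∧ cy p q u ∈ J ∧ cy p q v ∈ J := by
  have m1 := h.conj (h.centJ (η := dd p u q v) (by grind) h1 (ev_dd (by grind) (by grind)) (by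
    ext z; simp only [dd, Perm.mul_apply]; grind (splits := 40))) h2
  have e1 : dd p u q v * cy p q x * (dd p u q v)⁻¹ = cy u v x := by
    rw [conj_cy]; congr 1 <;> simp only [dd, Perm.mul_apply] <;> grind
  rw [e1] at m1
  have m2 := J.mul_mem (J.mul_mem m1 h2) (J.inv_mem m1)
  have m3 := J.mul_mem (J.mul_mem (J.mul_mem m1 m1) h2) (J.inv_mem (J.mul_mem m1 m1))
  have e2 : cy u v x * cy p q x * (cy u v x)⁻¹ = cy p q v := by
    rw [conj_cy]; congr 1 <;> simp only [cy, Perm.mul_apply] <;> grind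
  have e3 : cy u v x * cy u v x * cy p q x * (cy u v x * cy u v x)⁻¹ = cy p q u := by
    rw [conj_cy]; congr 1 <;> simp only [cy, Perm.mul_apply] <;> grind (splits := 40)
  rw [e2] at m2
  rw [e3] at m3
  have m4 := J.mul_mem (J.mul_mem m3 h1) (J.inv_mem m3)
  have e4 : cy p q u * dd p q u v * (cy p q u)⁻¹ = dd p u q v := by
    rw [conj_dd, ← dd_swap p u]; congr 1 <;> simp only [cy, Perm.mul_apply] <;> grind
  exact ⟨e4 ▸ m4, m3, m2⟩

theorem cy_mem (h : Cfg J H L) (n : [p, q, u, v, x].Nodup) (h1 : dd p q u v ∈ J)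
    (h2 : cy p q x ∈ H) : cy p q x ∈ J := by
  have m := h.comm h2 (h.JL h1)
  have e : cy p q x * dd p q u v * (cy p q x)⁻¹ * (dd p q u v)⁻¹ = (cy p q x)⁻¹ := by
    rw [conj_dd, dd_inv (by grind)]
    ext z; simp only [dd, cy, mul_inv_rev, swap_inv, Perm.mul_apply]; grind (splits := 40)
  rw [e] at m
  exact (J.inv_mem_iff).1 m

theorem e1 (h : Cfg J H L) (n : [p, q, u, v].Nodup) (h1 : dd p q u v ∈ J) (l : σ ∈ L)
    (s : σ * σ = 1) (a1 : σ p = p) (a2 : σ q = q) (a3 : σ u = v) (a4 : σ v = u) :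
    (∃ x, [p, q, u, v, x].Nodup ∧ cy p q x ∈ J) ∨
      ∃ x y, [p, q, u, v, x, y].Nodup ∧ dd u v x y ∈ J := by
  have k := sq_apply s
  have := h.n5
  obtain ⟨x, hx⟩ := fresh [p, q, u, v] (by simp; omega)
  have n1 : σ ≠ 1 := ne_one_of (x := u) (by grind)
  have := k x
  by_cases e : σ x = x
  · refine .inl ⟨x, by grind, h.cy_mem (by grind) h1 (h.cent l s n1 (ev_cy (by grind) (by grind)) ?_)⟩
    ext z
    have := k z
    simp only [cy, Perm.mul_apply]; grind (splits := 40)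
  · have n2 : [p, q, u, v, x, σ x].Nodup := by grind
    refine .inr ⟨x, σ x, n2, ?_⟩
    have m := h.cdd (a := u) (b := x) (c := v) (d := σ x) (by grind) l s n1 (by
      ext z
      have := k z
      simp only [dd, Perm.mul_apply]; grind (splits := 40)) (h.JL h1)
    convert m using 1
    clear * - n2
    generalize σ x = y at *
    ext z; simp only [dd, Perm.mul_apply]; grind (splits := 60)

theorem inv_pair (s : σ * σ = 1) (l : List α) (hl : ∀ z, z ∉ l → σ z ∉ l)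
    (hc : l.length + 2 ≤ Fintype.card α) :
    ∃ x y, x ∉ l ∧ y ∉ l ∧ x ≠ y ∧ (σ x = x ∧ σ y = y ∨ σ x = y ∧ σ y = x) := by
  obtain ⟨x, hx⟩ := fresh l (by omega)
  by_cases e : σ x = x
  · obtain ⟨y, hy⟩ := fresh (x :: l) (by simp; omega)
    rw [List.mem_cons, not_or] at hy
    by_cases e' : σ y = y
    · exact ⟨x, y, hx, hy.2, Ne.symm hy.1, .inl ⟨e, e'⟩⟩
    · exact ⟨y, σ y, hy.2, hl y hy.2, Ne.symm e', .inr ⟨rfl, sq_apply s y⟩⟩
  · exact ⟨x, σ x, hx, hl x hx, Ne.symm e, .inr ⟨rfl, sq_apply s x⟩⟩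

theorem e2 (h : Cfg J H L) (h6 : 6 ≤ Fintype.card α) (n : [p, q, u, v].Nodup)
    (h1 : dd p q u v ∈ J) (l : σ ∈ L)
    (s : σ * σ = 1) (a1 : σ p = u) (a2 : σ q = v) : dd p u q v ∈ J := by
  have k := sq_apply s
  have a3 := k p
  have a4 := k q
  obtain ⟨x, y, hx, hy, xy, e⟩ := inv_pair s [p, q, u, v] (fun z hz => by
    have := k z; grind) h6
  have m := h.cdd (a := p) (b := u) (c := x) (d := y) (by grind) l s
    (ne_one_of (x := p) (by grind)) (by
      ext z
      have := k z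
      simp only [dd, Perm.mul_apply]; grind (splits := 40)) (h.JL h1)
  convert m using 1
  clear * - n hx hy xy
  ext z; simp only [dd, Perm.mul_apply]; grind (splits := 60)

theorem e3 (h : Cfg J H L) (n : [p, q, u, v].Nodup) (h1 : dd p q u v ∈ J) (l : σ ∈ L)
    (s : σ * σ = 1) (n1 : σ ≠ 1) (a1 : σ p = p) (a2 : σ q = q) (a3 : σ u = u) :
    dd p u q v ∈ J := by
  have m := h.conj (h.cent (η := cy p q u) l s n1 (ev_cy (by grind) (by grind)) (by
    ext z
    have := sq_apply s z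
    simp only [cy, Perm.mul_apply]; grind (splits := 40))) h1
  have e4 : cy p q u * dd p q u v * (cy p q u)⁻¹ = dd p u q v := by
    rw [conj_dd, ← dd_swap p u]; congr 1 <;> simp only [cy, Perm.mul_apply] <;> grind
  exact e4 ▸ m

theorem tw7 (h : Cfg J H L) (h7 : 7 ≤ Fintype.card α) (n : [p, q, u, v, x, y].Nodup)
    (h1 : dd p q u v ∈ J) (h2 : dd u v x y ∈ J) : dd p u q v ∈ J := by
  obtain ⟨z, hz⟩ := fresh [p, q, u, v, x, y] h7
  refine (h.a5 (x := z) (by grind) h1 (h.cy_mem (by grind) h1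
    (h.centJ (by grind) h2 (ev_cy (by grind) (by grind)) ?_))).1
  ext w; simp only [dd, cy, Perm.mul_apply]; grind (splits := 40)

theorem cq (n : [p, q, u, v].Nodup) (s : σ * σ = 1) (hc : σ * dd p q u v = dd p q u v * σ) :
    (σ p = p ∧ σ q = q ∨ σ p = q ∧ σ q = p) ∧ (σ u = u ∧ σ v = v ∨ σ u = v ∧ σ v = u) ∨
      σ p = u ∧ σ q = v ∧ σ u = p ∧ σ v = q ∨ σ p = v ∧ σ q = u ∧ σ u = q ∧ σ v = p := by
  have k := sq_apply s
  have a1 := comm_apply hc p
  have a2 := comm_apply hc u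
  have a3 := k p
  have a4 := k q
  have a5 := k u
  have a6 := k v
  clear k
  simp only [dd, Perm.mul_apply] at a1 a2
  grind (splits := 40)

theorem ext (h : Cfg J H L) (h6 : 6 ≤ Fintype.card α) (n : [p, q, u, v].Nodup)
    (h1 : dd p q u v ∈ J) (l : σ ∈ L) (s : σ * σ = 1) (hc : σ * dd p q u v = dd p q u v * σ)
    (n1 : σ ≠ 1) (n2 : σ ≠ dd p q u v) : dd p u q v ∈ J ∨ Fintype.card α = 6 ∧
      ∃ x y, [p, q, u, v, x, y].Nodup ∧ dd p q x y ∈ J := by
  have l' := L.mul_mem l (h.JL h1)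
  have s' := H23.TC.sq_mul s (dd_sq n) hc
  have n1' : σ * dd p q u v ≠ 1 := fun e =>
    n2 (by rw [eq_inv_of_mul_eq_one_left e, dd_inv n])
  have v1 : dd p q u v p = q := by simp only [dd, Perm.mul_apply]; grind
  have v2 : dd p q u v q = p := by simp only [dd, Perm.mul_apply]; grind
  have v3 : dd p q u v u = v := by simp only [dd, Perm.mul_apply]; grind
  have v4 : dd p q u v v = u := by simp only [dd, Perm.mul_apply]; grind
  have key : ∀ {τ}, τ ∈ L → τ * τ = 1 → τ p = p → τ q = q → τ u = v → τ v = u →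
      dd p u q v ∈ J ∨ Fintype.card α = 6 ∧
        ∃ x y, [p, q, u, v, x, y].Nodup ∧ dd p q x y ∈ J := by
    intro τ l s a1 a2 a3 a4
    rcases h.e1 n h1 l s a1 a2 a3 a4 with ⟨x, m1, m2⟩ | ⟨x, y, m1, m2⟩
    · exact .inl (h.a5 m1 h1 m2).1
    · by_cases h7 : 7 ≤ Fintype.card α
      · exact .inl (h.tw7 h7 m1 h1 m2)
      · refine .inr ⟨by omega, x, y, m1, ?_⟩
        convert J.mul_mem h1 m2 using 1
        clear * - m1
        ext z; simp only [dd, Perm.mul_apply]; grind (splits := 40)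
  rcases cq n s hc with ⟨⟨a1, a2⟩ | ⟨a1, a2⟩, ⟨a3, a4⟩ | ⟨a3, a4⟩⟩ | ⟨a1, a2, -⟩ | ⟨a1, a2, -⟩
  · exact .inl (h.e3 n h1 l s n1 a1 a2 a3)
  · exact key l s a1 a2 a3 a4
  · exact key l' s' (by simp [v1, a2]) (by simp [v2, a1]) (by simp [v3, a4]) (by simp [v4, a3])
  · exact .inl (h.e3 n h1 l' s' n1' (by simp [v1, a2]) (by simp [v2, a1]) (by simp [v3, a4]))
  · exact .inl (h.e2 h6 n h1 l s a1 a2)
  · exact .inl (h.e2 h6 n h1 l' s' (by simp [v1, a2]) (by simp [v2, a1]))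

theorem x2a (h : Cfg J H L) (n : [a, b, c, d, x, y].Nodup) (h2 : dd a c b d ∈ J)
    (h3 : dd a b x y ∈ J) : cy a b c ∈ H := by
  have m := h.centJ (η := dd a c x y) (by grind) h2 (ev_dd (by grind) (by grind)) (by
    ext z; simp only [dd, Perm.mul_apply]; grind (splits := 40))
  convert H.mul_mem (h.JH h3) m using 1
  ext z; simp only [dd, cy, Perm.mul_apply]; grind (splits := 40)

theorem x2 (h : Cfg J H L) (n : [a, b, c, d, x, y].Nodup) (h1 : dd a b c d ∈ J)
    (h2 : dd a c b d ∈ J) (h3 : dd a b x y ∈ J) : False := by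
  have h4 : dd a d b c ∈ J := dd_mul (by grind : [a, b, c, d].Nodup) ▸ J.mul_mem h1 h2
  have h5 : dd c d x y ∈ J := by
    convert J.mul_mem h1 h3 using 1
    clear * - n
    ext z; simp only [dd, Perm.mul_apply]; grind (splits := 40)
  have m := h.centJ (η := dd c x d y) (by grind) h5 (ev_dd (by grind) (by grind)) (by
    clear * - n
    ext z; simp only [dd, Perm.mul_apply]; grind (splits := 40))
  have m1 := h.conj m h2
  have m2 := h.conj m h4
  have e1 : dd c x d y * dd a c b d * (dd c x d y)⁻¹ = dd a x b y := by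
    rw [conj_dd]; congr 1 <;> simp only [dd, Perm.mul_apply] <;> grind
  have e2 : dd c x d y * dd a d b c * (dd c x d y)⁻¹ = dd a y b x := by
    rw [conj_dd]; congr 1 <;> simp only [dd, Perm.mul_apply] <;> grind
  rw [e1] at m1
  rw [e2] at m2
  refine h.nH fun σ => gen3 (a := a) (b := b) (by grind) fun i i1 i2 => ?_
  by_cases e : i = c
  · exact e ▸ h.x2a n h2 h3
  by_cases e' : i = d
  · exact e' ▸ h.x2a (d := c) (by grind) h4 h3
  by_cases e'' : i = x
  · exact e'' ▸ h.x2a (x := c) (y := d) (by grind) m1 h1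
  by_cases e''' : i = y
  · exact e''' ▸ h.x2a (x := c) (y := d) (by grind) m2 h1
  refine h.centJ (by grind) h5 (ev_cy (by grind) (by grind)) ?_
  clear * - n e e' e'' e''' i1 i2
  ext z; simp only [dd, cy, Perm.mul_apply]; grind (splits := 40)

theorem k1 (h : Cfg J H L) (n : [p, q, u, v].Nodup) (h1 : dd p q u v ∈ J) (h2 : dd p u q v ∈ J)
    (l : σ ∈ L) (s : σ * σ = 1) (a1 : σ p = p) (a2 : σ q = q) (a3 : σ u = v) (a4 : σ v = u) :
    False := by
  rcases h.e1 n h1 l s a1 a2 a3 a4 with ⟨x, m1, m2⟩ | ⟨x, y, m1, m2⟩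
  · obtain ⟨-, m3, m4⟩ := h.a5 m1 h1 m2
    refine h.nH fun σ => gen3 (a := p) (b := q) (by grind) fun i i1 i2 => h.JH ?_
    by_cases e : i = u
    · exact e ▸ m3
    by_cases e' : i = v
    · exact e' ▸ m4
    by_cases e'' : i = x
    · exact e'' ▸ m2
    have m := h.conj (h.centJ (η := dd p q x i) n h1 (ev_dd (by grind) (by grind)) (by
      clear * - m1 e e' e'' i1 i2
      ext z; simp only [dd, Perm.mul_apply]; grind (splits := 40))) (J.inv_mem m2)
    convert m using 1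
    rw [dd_inv (by grind)]
    clear * - m1 e e' e'' i1 i2
    ext z; simp only [dd, cy, mul_inv_rev, swap_inv, Perm.mul_apply]; grind (splits := 60)
  · refine h.x2 (a := u) (b := v) (c := p) (d := q) (by grind) (dd_comm n ▸ h1) ?_ m2
    rwa [dd_swap, dd_swap']

theorem k2 (h : Cfg J H L) (n : [p, q, u, v].Nodup) (h1 : dd p q u v ∈ J) (h2 : dd p u q v ∈ J)
    (l : σ ∈ L) (s : σ * σ = 1) (a1 : σ p = p) (a2 : σ q = q) (a3 : σ u = u) (a4 : σ v = v) :
    σ = 1 := by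
  by_contra n1
  obtain ⟨x, hx⟩ := exists_ne n1
  have k := sq_apply s
  have := k x
  have n2 : [p, q, u, v, x, σ x].Nodup := by grind
  have hc : σ * dd p q u v = dd p q u v * σ := by
    rw [← mul_inv_eq_iff_eq_mul, conj_dd, a1, a2, a3, a4]
  have m := h.cdd (a := p) (b := x) (c := q) (d := σ x) (by grind) (L.mul_mem l (h.JL h1))
    (H23.TC.sq_mul s (dd_sq n) hc) (ne_one_of (x := p) (by
      simp only [dd, Perm.mul_apply]; grind)) (by
      ext z
      have := k z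
      simp only [dd, Perm.mul_apply]; grind (splits := 60)) (h.JL h1)
  refine h.x2 n2 h1 h2 ?_
  convert m using 1
  clear * - n2
  generalize σ x = y at *
  ext z; simp only [dd, Perm.mul_apply]; grind (splits := 60)

theorem k3 (h : Cfg J H L) (n : [p, q, u, v].Nodup) (h1 : dd p q u v ∈ J) (h2 : dd p u q v ∈ J)
    (l : σ ∈ L) (s : σ * σ = 1) (a1 : σ p = p) (a2 : σ q ∈ [p, q, u, v])
    (a3 : σ u ∈ [p, q, u, v]) (a4 : σ v ∈ [p, q, u, v]) : σ = 1 := by
  have h3 : dd p v q u ∈ J := dd_mul n ▸ J.mul_mem h1 h2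
  have b1 := sq_apply s q
  have b2 := sq_apply s u
  have b3 := sq_apply s v
  obtain ⟨c1, c2, c3⟩ | ⟨c1, c2, c3⟩ | ⟨c1, c2, c3⟩ | ⟨c1, c2, c3⟩ :
      (σ q = q ∧ σ u = u ∧ σ v = v) ∨ (σ q = q ∧ σ u = v ∧ σ v = u) ∨
      (σ u = u ∧ σ q = v ∧ σ v = q) ∨ (σ v = v ∧ σ q = u ∧ σ u = q) := by
    clear * - n a1 a2 a3 a4 b1 b2 b3; grind (splits := 40)
  · exact h.k2 n h1 h2 l s a1 c1 c2 c3
  · exact (h.k1 n h1 h2 l s a1 c1 c2 c3).elim
  · exact (h.k1 (by grind) h2 h1 l s a1 c1 c2 c3).elim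
  · exact (h.k1 (by grind) h3 (dd_swap' p q u v ▸ h1) l s a1 c1 c2 c3).elim

/-- `K`: an element of `L` normalising the four-group, with square in it, lies in it. -/
theorem k4 (h : Cfg J H L) (n : [p, q, u, v].Nodup) (h1 : dd p q u v ∈ J) (h2 : dd p u q v ∈ J)
    (l : σ ∈ L) (hn : ∀ τ, Vf p q u v τ → Vf p q u v (σ * τ * σ⁻¹))
    (s : Vf p q u v (σ * σ)) : Vf p q u v σ := by
  have h3 : dd p v q u ∈ J := dd_mul n ▸ J.mul_mem h1 h2
  have hQ : ∀ z, z ∈ [p, q, u, v] → σ z ∈ [p, q, u, v] := fun z hz => by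
    have := hn _ (.inr (.inl rfl))
    by_contra hc
    have e : (σ * dd p q u v * σ⁻¹) (σ z) = σ z := by
      rcases this with e | e | e | e <;> rw [e] <;> clear * - hc <;>
        simp only [dd, Perm.mul_apply, Perm.one_apply] <;> grind
    simp only [Perm.mul_apply, Perm.coe_inv, Equiv.symm_apply_apply, EmbeddingLike.apply_eq_iff_eq,
      dd] at e
    clear * - e hz n; grind
  have key : ∀ τ, Vf p q u v τ → τ ∈ J → τ (σ p) = p → σ = τ := by
    intro τ v1 v2 v3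
    have t2 : τ * τ = 1 := by
      rcases v1 with rfl | rfl | rfl | rfl
      · simp
      all_goals exact dd_sq (by grind)
    have tQ : ∀ z, z ∈ [p, q, u, v] → τ z ∈ [p, q, u, v] := fun z hz => by
      rcases v1 with rfl | rfl | rfl | rfl <;> clear * - hz <;>
        simp only [dd, Perm.mul_apply, Perm.one_apply] <;> grind
    have e1 : τ * σ * (τ * σ) = τ * (σ * τ * σ⁻¹) * (σ * σ) := by group
    have e2 : (τ * σ * (τ * σ)) p = p := by simp only [Perm.mul_apply, v3]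
    have e3 : τ * σ * (τ * σ) = 1 := by
      rw [e1] at e2 ⊢
      have v4 := hn τ v1
      generalize σ * τ * σ⁻¹ = t at *
      generalize σ * σ = s' at *
      clear * - v1 v4 s e2 n
      rcases v1 with rfl | rfl | rfl | rfl <;> rcases v4 with rfl | rfl | rfl | rfl <;>
        rcases s with rfl | rfl | rfl | rfl <;> ext z <;>
        simp only [dd, Perm.mul_apply, Perm.one_apply] at e2 ⊢ <;> grind (splits := 40)
    have := h.k3 n h1 h2 (L.mul_mem (h.JL v2) l) e3 v3 (tQ _ (hQ q (by simp)))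
      (tQ _ (hQ u (by simp))) (tQ _ (hQ v (by simp)))
    rw [eq_inv_of_mul_eq_one_right this, inv_eq_of_mul_eq_one_right t2]
  have := hQ p (by simp)
  simp only [List.mem_cons, List.not_mem_nil, or_false] at this
  rcases this with e | e | e | e
  · exact .inl (key 1 (.inl rfl) J.one_mem e)
  · exact .inr (.inl (key _ (.inr (.inl rfl)) h1 (by simp only [e, dd, Perm.mul_apply]; grind)))
  · exact .inr (.inr (.inl (key _ (.inr (.inr (.inl rfl))) h2
      (by simp only [e, dd, Perm.mul_apply]; grind))))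
  · exact .inr (.inr (.inr (key _ (.inr (.inr (.inr rfl))) h3
      (by simp only [e, dd, Perm.mul_apply]; grind))))

end Cfg

theorem inv_cases (s : σ * σ = 1) : σ = 1 ∨ Tr σ ∨
    ∃ a c, [a, σ a, c, σ c].Nodup := by
  by_cases h : σ = 1
  · exact .inl h
  obtain ⟨a, ha⟩ := exists_ne h
  have k := sq_apply s a
  by_cases h2 : ∀ z, z ∉ [a, σ a] → σ z = z
  · refine .inr (.inl ⟨a, σ a, ha.symm, ?_⟩)
    ext z
    have := h2 z
    clear h2; grind
  · push Not at h2
    obtain ⟨c, c1, c2⟩ := h2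
    have := sq_apply s c
    exact .inr (.inr ⟨a, c, by grind⟩)

theorem t22_small (h7 : Fintype.card α ≤ 7) (he : Ev σ) (s : σ * σ = 1) (n1 : σ ≠ 1) : T22 σ := by
  rcases inv_cases s with h | ⟨a, b, h, rfl⟩ | ⟨a, c, n⟩
  · exact absurd h n1
  · exact absurd he (odd_swap h)
  refine ⟨_, _, _, _, n, ?_⟩
  have k := sq_apply s
  have hc : σ * dd a (σ a) c (σ c) = dd a (σ a) c (σ c) * σ := by
    rw [← mul_inv_eq_iff_eq_mul, conj_dd, k, k, dd_swap, dd_swap']
  have s' := H23.TC.sq_mul s (dd_sq n) hc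
  have f : ∀ z ∈ [a, σ a, c, σ c], (σ * dd a (σ a) c (σ c)) z = z := fun z hz => by
    have := k a
    have := k c
    clear k; simp only [dd, Perm.mul_apply]; grind
  have e' := he.mul (ev_dd (a := a) (b := σ a) (c := c) (d := σ c) (by grind) (by grind))
  rcases inv_cases s' with h | ⟨a, b, h, e⟩ | ⟨x, y, n'⟩
  · exact (eq_inv_of_mul_eq_one_left h).trans (dd_inv n)
  · exact absurd (e ▸ e') (odd_swap h)
  · exfalso
    generalize σ * dd a (σ a) c (σ c) = t at *
    have b1 := f x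
    have b2 := f y
    have b3 := f (t x)
    have b4 := f (t y)
    have b5 := sq_apply s' x
    have b6 := sq_apply s' y
    have : [a, σ a, c, σ c, x, t x, y, t y].Nodup := by
      clear * - n n' b1 b2 b3 b4 b5 b6; grind
    have := this.length_le_card
    simp at this; omega

theorem vf_of_mem (n : [a, b, c, d].Nodup) (n' : [p, q, u, v].Nodup) (h1 : a ∈ [p, q, u, v])
    (h2 : b ∈ [p, q, u, v]) (h3 : c ∈ [p, q, u, v]) (h4 : d ∈ [p, q, u, v]) :
    Vf p q u v (dd a b c d) := by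
  have e1 := dd_comm n'
  have e2 : dd q v p u = dd p u q v := dd_comm (by grind)
  have e3 : dd q u p v = dd p v q u := dd_comm (by grind)
  have := dd_swap a b c d
  have := dd_swap' a b c d
  have := dd_swap' b a c d
  simp only [Vf]
  grind (splits := 40)

theorem Vf.cases (n : [p, q, u, v].Nodup) (h : Vf p q u v σ) (h1 : σ ≠ 1) :
    ∃ q' u' v', [p, q', u', v'].Nodup ∧ σ = dd p q' u' v' ∧
      ∀ τ, Vf p q' u' v' τ ↔ Vf p q u v τ := by
  rcases h with rfl | rfl | rfl | rfl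
  · exact absurd rfl h1
  · exact ⟨q, u, v, n, rfl, fun _ => Iff.rfl⟩
  · refine ⟨u, q, v, by grind, rfl, fun τ => ?_⟩
    have := dd_swap' p v q u
    simp only [Vf]; grind
  · refine ⟨v, q, u, by grind, rfl, fun τ => ?_⟩
    have := dd_swap' p q u v
    have := dd_swap' p u q v
    simp only [Vf]; grind

theorem Cfg.vf (h1 : dd p q u v ∈ J) (h2 : dd p u q v ∈ J) (n : [p, q, u, v].Nodup)
    (h : Vf p q u v σ) : σ ∈ J := by
  rcases h with rfl | rfl | rfl | rfl
  exacts [J.one_mem, h1, h2, dd_mul n ▸ J.mul_mem h1 h2]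

theorem Cfg.u5 (h : Cfg J H L) (h5 : Fintype.card α = 5) (n : [p, q, u, v].Nodup)
    (h1 : dd p q u v ∈ J) (h2 : dd p u q v ∈ J) (l : σ ∈ J) (t : T22 σ) : Vf p q u v σ := by
  obtain ⟨x, hx⟩ := fresh [p, q, u, v] (by simp [h5])
  have hm := mem_of_card (l := [p, q, u, v, x]) (by grind) (by simp [h5])
  have key : ∀ z a b, [z, x, a, b].Nodup → dd z x a b ∈ J → False := by
    intro z a b n1 m
    obtain ⟨c, hc⟩ := fresh [z, x, a, b] (by simp [h5])
    have n2 : [z, c, a, b, x].Nodup := by grind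
    have hm2 := mem_of_card n2 (by simp [h5])
    have m1 : dd z c a b ∈ J := Cfg.vf h1 h2 n (vf_of_mem (by grind) n
      (by have := hm z; grind) (by have := hm c; grind) (by have := hm a; grind)
      (by have := hm b; grind))
    have m2 : cy z c x ∈ J := by
      convert J.mul_mem m1 m using 1
      clear * - n2
      ext w; simp only [dd, cy, Perm.mul_apply]; grind (splits := 40)
    obtain ⟨-, m3, m4⟩ := h.a5 n2 m1 m2
    refine h.nH fun σ => gen3 (a := z) (b := c) (by grind) fun i i1 i2 => h.JH ?_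
    have := hm2 i
    grind
  obtain ⟨a, b, c, d, n', rfl⟩ := t
  by_cases e1 : x = b
  · exact (key a c d (e1 ▸ n') (e1 ▸ l)).elim
  by_cases e2 : x = a
  · exact (key b c d (by grind) (by rw [e2, dd_swap]; exact l)).elim
  by_cases e3 : x = d
  · exact (key c a b (by grind) (by rw [e3, dd_comm n']; exact l)).elim
  by_cases e4 : x = c
  · exact (key d a b (by grind) (by rw [e4, dd_swap, dd_comm n']; exact l)).elim
  exact vf_of_mem n' n (by have := hm a; grind) (by have := hm b; grind) (by have := hm c; grind)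
    (by have := hm d; grind)

theorem cent6 (h6 : Fintype.card α = 6) (n : [p, q, u, v, x, y].Nodup) (he : Ev σ)
    (s : σ * σ = 1) (hc : σ * dd p q u v = dd p q u v * σ) :
    Vf p q u v σ ∨ σ = dd p q x y ∨ σ = dd u v x y := by
  have hm := mem_of_card n (by simp [h6])
  have k := Cfg.cq (by grind) s hc
  have hx : σ x = x ∧ σ y = y ∨ σ x = y ∧ σ y = x := by
    have a1 := hm (σ x)
    have a2 := hm (σ y)
    have a3 := sq_apply s x
    have a4 := sq_apply s y
    clear * - n k a1 a2 a3 a4; grind (splits := 40)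
  have ext6 : ∀ τ : Perm α, (σ p = τ p ∧ σ q = τ q ∧ σ u = τ u ∧ σ v = τ v ∧ σ x = τ x ∧
      σ y = τ y) → σ = τ := fun τ e => by
    ext z
    have := hm z
    clear * - this e; grind
  have o1 : ∀ τ : Perm α, Ev τ → σ ≠ τ * swap x y := fun τ t e =>
    t.odd (odd_swap (by grind)) (e ▸ he)
  have o2 : ∀ a b, a ≠ b → σ ≠ swap a b := fun a b t e => odd_swap t (e ▸ he)
  clear hm hc s he
  rcases k with ⟨k1 | k1, k2 | k2⟩ | k1 | k1 <;> rcases hx with k3 | k3
  · exact .inl (.inl (ext6 _ (by simp only [Perm.one_apply]; grind)))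
  · exact absurd (ext6 _ (by clear ext6; grind)) (o2 x y (by grind))
  · exact absurd (ext6 _ (by clear ext6; grind)) (o2 u v (by grind))
  · exact .inr (.inr (ext6 _ (by clear ext6; simp only [dd, Perm.mul_apply]; grind)))
  · exact absurd (ext6 _ (by clear ext6; grind)) (o2 p q (by grind))
  · exact .inr (.inl (ext6 _ (by clear ext6; simp only [dd, Perm.mul_apply]; grind)))
  · exact .inl (.inr (.inl (ext6 _ (by clear ext6; simp only [dd, Perm.mul_apply]; grind))))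
  · exact absurd (ext6 _ (by clear ext6; simp only [dd, Perm.mul_apply]; grind))
      (o1 (dd p q u v) (ev_dd (by grind) (by grind)))
  · exact .inl (.inr (.inr (.inl (ext6 _ (by
      clear ext6; simp only [dd, Perm.mul_apply]; grind)))))
  · exact absurd (ext6 _ (by clear ext6; simp only [dd, Perm.mul_apply]; grind))
      (o1 (dd p u q v) (ev_dd (by grind) (by grind)))
  · exact .inl (.inr (.inr (.inr (ext6 _ (by
      clear ext6; simp only [dd, Perm.mul_apply]; grind)))))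
  · exact absurd (ext6 _ (by clear ext6; simp only [dd, Perm.mul_apply]; grind))
      (o1 (dd p v q u) (ev_dd (by grind) (by grind)))

set_option synthInstance.maxSize 2000 in
theorem cent5_fin : ∀ σ : Perm (Fin 5), σ * σ = 1 → σ ≠ 1 → ∀ τ : Perm (Fin 5), τ * τ = 1 → τ ≠ 1 →
    σ ≠ τ → σ * τ = τ * σ → ∀ ρ : Perm (Fin 5), ρ * σ = σ * ρ → ρ * τ = τ * ρ →
    ρ = 1 ∨ ρ = σ ∨ ρ = τ ∨ ρ = σ * τ := by decide +kernel

theorem cent5 {ρ : Perm α} (h5 : Fintype.card α = 5) (s1 : σ * σ = 1) (n1 : σ ≠ 1) (s2 : τ * τ = 1)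
    (n2 : τ ≠ 1) (n3 : σ ≠ τ) (hc : σ * τ = τ * σ) (c1 : ρ * σ = σ * ρ) (c2 : ρ * τ = τ * ρ) :
    ρ = 1 ∨ ρ = σ ∨ ρ = τ ∨ ρ = σ * τ := by
  let e := (Fintype.equivFinOfCardEq h5).permCongrHom
  have := cent5_fin (e σ) (by rw [← map_mul, s1, map_one]) (by simpa) (e τ)
    (by rw [← map_mul, s2, map_one]) (by simpa) (by simpa) (by rw [← map_mul, hc, map_mul]) (e ρ)
    (by rw [← map_mul, c1, map_mul]) (by rw [← map_mul, c2, map_mul])
  simpa only [← map_mul, EmbeddingLike.apply_eq_iff_eq, EmbeddingLike.map_eq_one_iff] using this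

end H5.SA
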