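import Mathlib
import Cfsg.Agent.H5.SA2
import Cfsg.Agent.H23.T2

/-!
# Standard alternating subgroups: pairs of points
-/

set_option autoImplicit false
set_option linter.unusedSectionVars false
set_option linter.unusedVariables false

namespace H5.SA

open Cfsg H24 H26 H26.Gold Subgroup Equiv Equiv.Perm
open H23.TC (R2 sq_mul mem_syl)

universe u

variable {G : Type u} [Group G] [Finite G] {α : Type} [Fintype α] [DecidableEq α]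
  {φ ψ χ : Perm α → G} {A B C K : Subgroup G} {a b g k r s t w : G} {σ τ ρ η : Perm α}
  {p q u v x y : α} {P : Subgroup G → Prop}

/-- generators of a four-group -/
structure Fo (a b : G) : Prop where
  a2 : a * a = 1
  b2 : b * b = 1
  a1 : a ≠ 1
  b1 : b ≠ 1
  ab : a ≠ b
  c : a * b = b * a

theorem inv_of_sq (h : a * a = 1) : a⁻¹ = a := inv_eq_of_mul_eq_one_right h

namespace Fo

theorem symm (h : Fo a b) : Fo b a := ⟨h.b2, h.a2, h.b1, h.a1, h.ab.symm, h.c.symm⟩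
theorem m2 (h : Fo a b) : a * b * (a * b) = 1 := sq_mul h.a2 h.b2 h.c
theorem m1 (h : Fo a b) : a * b ≠ 1 := fun e =>
  h.ab (by rw [eq_inv_of_mul_eq_one_left e, inv_of_sq h.b2])
theorem aab (h : Fo a b) : a * (a * b) = b := by rw [← mul_assoc, h.a2, one_mul]
theorem abb (h : Fo a b) : a * b * b = a := by rw [mul_assoc, h.b2, mul_one]
theorem bab (h : Fo a b) : b * (a * b) = a := by rw [h.c, ← mul_assoc, h.b2, one_mul]
theorem aba (h : Fo a b) : a * b * a = b := by rw [h.c, mul_assoc, h.a2, mul_one]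
theorem right (h : Fo a b) : Fo a (a * b) :=
  ⟨h.a2, h.m2, h.a1, h.m1, fun e => h.b1 (by simpa using e), by rw [h.aab, h.aba]⟩
theorem conj (h : Fo a b) (g : G) : Fo (g * a * g⁻¹) (g * b * g⁻¹) :=
  ⟨H7.SJ.conj_sq h.a2 g, H7.SJ.conj_sq h.b2 g, H23.TC.conj_ne h.a1 g, H23.TC.conj_ne h.b1 g,
    fun e => h.ab (by simpa using e), H23.TC.conj_comm h.c g⟩

/-- the four-group -/
def sub (h : Fo a b) : Subgroup G where
  carrier := {x | x = 1 ∨ x = a ∨ x = b ∨ x = a * b}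
  one_mem' := .inl rfl
  mul_mem' := by
    rintro _ _ (rfl | rfl | rfl | rfl) (rfl | rfl | rfl | rfl) <;>
      simp [h.a2, h.b2, h.m2, h.aab, h.abb, h.bab, h.aba, ← h.c]
  inv_mem' := by
    rintro _ (rfl | rfl | rfl | rfl) <;>
      simp [inv_of_sq h.a2, inv_of_sq h.b2, inv_of_sq h.m2, ← h.c]

theorem mem (h : Fo a b) : g ∈ h.sub ↔ g = 1 ∨ g = a ∨ g = b ∨ g = a * b := Iff.rfl
theorem mem_a (h : Fo a b) : a ∈ h.sub := .inr (.inl rfl)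
theorem mem_b (h : Fo a b) : b ∈ h.sub := .inr (.inr (.inl rfl))
theorem le (h : Fo a b) (ha : a ∈ K) (hb : b ∈ K) : h.sub ≤ K := by
  rintro _ (rfl | rfl | rfl | rfl)
  exacts [one_mem _, ha, hb, mul_mem ha hb]
theorem sq (h : Fo a b) (hg : g ∈ h.sub) : g * g = 1 := by
  rcases hg with rfl | rfl | rfl | rfl
  exacts [mul_one _, h.a2, h.b2, h.m2]
theorem cent (h : Fo a b) (h1 : g * a = a * g) (h2 : g * b = b * g) : g ∈ C[h.sub] :=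
  centsC.1 (h.le (mem_C'.2 fun _ hx => by
    obtain ⟨n, rfl⟩ := mem_zpowers_iff.1 hx; exact (Commute.zpow_right h1.symm n)) (mem_C'.2
    fun _ hx => by obtain ⟨n, rfl⟩ := mem_zpowers_iff.1 hx; exact (Commute.zpow_right h2.symm n)))
    (mem_zpowers g)
theorem comm (h : Fo a b) (hg : g ∈ h.sub) (hk : k ∈ h.sub) : g * k = k * g := by
  have : h.sub ≤ C[h.sub] := h.le (h.cent rfl h.c) (h.cent h.c.symm rfl)
  exact mem_C'.1 (this hg) k hk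
theorem card (h : Fo a b) : ♯h.sub = 4 := by
  have e : (h.sub : Set G) = {1, a, b, a * b} := rfl
  have := h.right.ab
  have h3 : b ≠ a * b := fun e => h.a1 (by simpa using e)
  rw [← SetLike.coe_sort_coe, e, Nat.card_coe_set_eq, Set.ncard_insert_of_notMem (by
    simp [h.a1.symm, h.b1.symm, h.m1.symm]), Set.ncard_insert_of_notMem (by
    simp only [Set.mem_insert_iff, Set.mem_singleton_iff, h.ab, this, or_self, not_false_eq_true]),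
    Set.ncard_pair h3]
theorem two (h : Fo a b) : TwoG h.sub := isPi_of_card (n := 2) Nat.prime_two h.card
theorem ea (h : Fo a b) : EA h.sub :=
  ⟨⟨⟨fun x y => Subtype.ext (h.comm x.2 y.2)⟩⟩, fun x hx => by rw [pow_two, h.sq hx]⟩
theorem mem_N (h : Fo a b) (h1 : g * a * g⁻¹ ∈ h.sub) (h2 : g * b * g⁻¹ ∈ h.sub) :
    g ∈ N[h.sub] := mem_N_of_finite (by
  rintro _ (rfl | rfl | rfl | rfl)
  · simp
  · exact h1
  · exact h2
  · rw [H23.TC.conj_mul]; exact mul_mem h1 h2)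
theorem r2 (h : Fo a b) (ha : a ∈ K) (hb : b ∈ K) : R2 K :=
  ⟨a, ha, b, hb, h.a2, h.b2, h.a1, h.b1, h.ab, h.c⟩

end Fo

theorem fo_of_r2 (h : R2 K) : ∃ a ∈ K, ∃ b ∈ K, Fo a b := by
  obtain ⟨a, ha, b, hb, h1, h2, h3, h4, h5, h6⟩ := h
  exact ⟨a, ha, b, hb, h1, h2, h3, h4, h5, h6⟩

theorem Fr.fo (hφ : Fr φ A) (n : [p, q, u, v].Nodup) : Fo (φ (dd p q u v)) (φ (dd p u q v)) := by
  have e1 : Ev (dd p q u v) := ev_dd (by grind) (by grind)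
  have e2 : Ev (dd p u q v) := ev_dd (by grind) (by grind)
  refine ⟨hφ.sq e1 (dd_sq n), hφ.sq e2 (dd_sq (by grind)), hφ.ne_one e1 (dd_ne n),
    hφ.ne_one e2 (dd_ne (by grind)), hφ.ne e1 e2 (ne_of_apply p ?_), hφ.comm e1 e2 ?_⟩
  · simp only [dd, Perm.mul_apply]; grind
  · ext z; simp only [dd, Perm.mul_apply]; grind (splits := 40)

theorem Vf.ev (n : [p, q, u, v].Nodup) (h : Vf p q u v σ) : Ev σ := by
  rcases h with rfl | rfl | rfl | rfl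
  · exact Ev.one
  all_goals exact ev_dd (by grind) (by grind)

theorem Fr.mem_fo (hφ : Fr φ A) (n : [p, q, u, v].Nodup) :
    g ∈ (hφ.fo n).sub ↔ ∃ σ, Vf p q u v σ ∧ φ σ = g := by
  have e := hφ.mul (σ := dd p q u v) (τ := dd p u q v) (ev_dd (by grind) (by grind))
    (ev_dd (by grind) (by grind))
  rw [dd_mul n] at e
  rw [Fo.mem, ← e]
  constructor
  · rintro (rfl | rfl | rfl | rfl)
    exacts [⟨1, .inl rfl, hφ.one⟩, ⟨_, .inr (.inl rfl), rfl⟩, ⟨_, .inr (.inr (.inl rfl)), rfl⟩,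
      ⟨_, .inr (.inr (.inr rfl)), rfl⟩]
  · rintro ⟨σ, rfl | rfl | rfl | rfl, rfl⟩
    exacts [.inl hφ.one, .inr (.inl rfl), .inr (.inr (.inl rfl)), .inr (.inr (.inr rfl))]

theorem Fr.simple (hφ : Fr φ A) (h5 : 5 ≤ Fintype.card α) (hn : A ≤ N[K]) (ha : a ∈ A)
    (hk : a ∈ K) (a1 : a ≠ 1) : A ≤ K := by
  have := alternatingGroup.isSimpleGroup (α := α) (by rwa [Nat.card_eq_fintype_card])
  have hs : IsSimpleGroup A := hφ.equiv.some.isSimpleGroup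
  rcases hs.eq_bot_or_eq_top_of_normal _ (nml_inf_of_norm' hn).normal with e | e
  · exact absurd (congrArg Subtype.val ((Subgroup.eq_bot_iff_forall _).1 e ⟨a, ha⟩ ⟨hk, ha⟩)) a1
  · exact fun x hx => (show (⟨x, hx⟩ : A) ∈ (K ⊓ A).subgroupOf A from e ▸ mem_top _).1

/-- the permutations induced by elements of `K` -/
def LL (φ : Perm α → G) (K : Subgroup G) : Subgroup (Perm α) where
  carrier := {σ | ∃ w ∈ K, Act φ w σ}
  one_mem' := ⟨1, one_mem _, Act.one⟩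
  mul_mem' := fun ⟨w, h1, h2⟩ ⟨w', h3, h4⟩ => ⟨_, mul_mem h1 h3, h2.mul h4⟩
  inv_mem' := fun ⟨w, h1, h2⟩ => ⟨_, inv_mem h1, h2.inv⟩

theorem Act.commutator (hφ : Fr φ A) (h : Act φ w σ) (hη : Ev η) :
    φ (η * σ * η⁻¹ * σ⁻¹) = φ η * w * (φ η)⁻¹ * w⁻¹ := by
  rw [show η * σ * η⁻¹ * σ⁻¹ = η * (σ * η⁻¹ * σ⁻¹) by group, hφ.mul hη (hη.inv.conj σ),
    ← h _ hη.inv, hφ.inv hη]; group

theorem comm_mem_C (hg : g ∈ N[B]) (hw : w ∈ C[B]) : g * w * g⁻¹ * w⁻¹ ∈ C[B] :=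
  mul_mem (cC hg hw) (inv_mem hw)

namespace Geo

theorem not_le_N (h : Geo α P) (hA : P A) (hB : P B) (hne : A ≠ B) (ht : t ∈ C[B])
    (htA : t ∈ N[A]) (t2 : t * t = 1) (t1 : t ≠ 1) : ¬ A ≤ N[B] := fun hle => by
  obtain ⟨φ, hφ⟩ := h.fr A hA
  refine t1 (h.te1 hA hB hne (mem_C.2 fun a ha => by_contra fun hc => h.nc A B hA hB ?_) ht t2)
  refine hφ.simple h.n5 (norm_C hle) (a := a * t * a⁻¹ * t⁻¹) ?_ (comm_mem_C (hle ha) ht)
    fun e => hc (by rwa [mul_inv_eq_one, mul_inv_eq_iff_eq_mul] at e)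
  rw [mul_assoc, mul_assoc]
  exact mul_mem ha (by simpa [mul_assoc] using conj_mem htA (inv_mem ha))

theorem cfg (h : Geo α P) (hB : P B) (hφ : Fr φ A) (hn : ¬ A ≤ N[B]) :
    Cfg (hφ.pb C[B]) (hφ.pb N[B]) (LL φ C[B]) where
  JL _ h1 := ⟨_, h1.2, hφ.act h1.1⟩
  JH _ h1 := ⟨h1.1, C_le_N _ h1.2⟩
  nH hc := hn fun x hx => by
    obtain ⟨σ, h1, rfl⟩ := hφ.surj hx
    exact (hc σ h1).2
  comm := fun h1 ⟨w, h2, h3⟩ =>
    ⟨ev_comm _ _, by rw [h3.commutator hφ h1.1]; exact comm_mem_C h1.2 h2⟩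
  cent := fun {σ η} ⟨w, h2, h3⟩ s n1 he hc => by
    refine ⟨he, ?_⟩
    have h4 := (h3.pow (orderOf w)).eq_one hφ h.n4 (by rw [pow_orderOf_eq_one]; exact one_mem _)
    have h5 : 2 ∣ orderOf w := by
      rw [← orderOf_eq_prime (p := 2) (by rw [pow_two, s]) n1]
      exact orderOf_dvd_of_pow_eq_one h4
    obtain ⟨m, hm⟩ := h5
    have h6 := orderOf_pos w
    refine h.cN hB (pow_mem h2 m) (by rw [← pow_add, ← two_mul, ← hm, pow_orderOf_eq_one])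
      (pow_ne_one_of_lt_orderOf (by omega) (by omega)) ?_
    exact (Commute.pow_left (h3.comm he hc.symm) m).symm
  n5 := h.n5

theorem act_ne (h : Geo α P) (hA : P A) (hB : P B) (hne : A ≠ B) (hφ : Fr φ A) (ht : t ∈ C[B])
    (t2 : t * t = 1) (t1 : t ≠ 1) (ha : Act φ t σ) : σ ≠ 1 := by
  rintro rfl
  exact t1 (h.te1 hA hB hne (ha.mem_C hφ) ht t2)

end Geo

theorem Act.sq1 (hφ : Fr φ A) (h4 : 4 ≤ Fintype.card α) (h : Act φ w σ) (e : w * w = 1) :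
    σ * σ = 1 := h.sq hφ h4 (e ▸ one_mem _)

theorem Act.comm_inner (hφ : Fr φ A) (h4 : 4 ≤ Fintype.card α) (h : Act φ t σ) (he : Ev σ)
    (hw : w ∈ N[A]) (hc : w * t = t * w) : w * φ σ * w⁻¹ = φ σ := by
  have h1 : t * (φ σ)⁻¹ ∈ C[A] := h.mem_C' hφ (hφ.act he)
  have h2 := cC hw h1
  have h3 := mul_mem (inv_mem h1) h2
  have e : (t * (φ σ)⁻¹)⁻¹ * (w * (t * (φ σ)⁻¹) * w⁻¹) = φ σ * (w * φ σ * w⁻¹)⁻¹ := by
    rw [← mul_assoc w, hc]; group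
  rw [e] at h3
  exact (mul_inv_eq_one.1 (hφ.inf_C h4 (mul_mem (hφ.mem he)
    (inv_mem (conj_mem hw (hφ.mem he)))) h3)).symm

theorem y4 (n : [p, q, u, v, x, y].Nodup) :
    dd p u q v * dd p q x y * (dd p u q v * dd p q x y) = dd p q u v ∧
    dd p u q v * dd u v x y = (dd p u q v * dd p q x y)⁻¹ ∧
    dd p q x y * dd p u q v = (dd p u q v * dd p q x y)⁻¹ ∧
    dd p u q v * dd p q x y = dd p v q u * dd u v x y ∧
    dd p u q v * dd p q x y = dd p u q v * dd p q u v * dd u v x y := by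
  refine ⟨?_, eq_inv_of_mul_eq_one_left ?_, eq_inv_of_mul_eq_one_left ?_, ?_, ?_⟩ <;> ext z <;>
    simp only [dd, Perm.mul_apply, Perm.one_apply] <;> grind (splits := 60)

theorem Sw.yy (hφ : Fr φ A) (h5 : 5 ≤ Fintype.card α) (hw : w ∈ N[A]) (h : Sw φ w)
    (w2 : w * w = 1) (n : [p, q, u, v, x, y].Nodup)
    (e : w * φ (dd p q u v) * w⁻¹ = φ (dd p q u v)) :
    w * φ (dd p u q v * dd p q x y) * w⁻¹ = (φ (dd p u q v * dd p q x y))⁻¹ ∧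
    (φ (dd p u q v) * w * (φ (dd p u q v))⁻¹ * w⁻¹ = φ (dd p u q v * dd p q x y) ∨
     φ (dd p u q v) * w * (φ (dd p u q v))⁻¹ * w⁻¹ = (φ (dd p u q v * dd p q x y))⁻¹) := by
  have n4 : [p, q, u, v].Nodup := by grind
  have f := hφ.fo n4
  have e1 : Ev (dd p q u v) := ev_dd (by grind) (by grind)
  have e2 : Ev (dd p u q v) := ev_dd (by grind) (by grind)
  have e3 : Ev (dd p q x y) := ev_dd (by grind) (by grind)
  have e4 : Ev (dd u v x y) := ev_dd (by grind) (by grind)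
  obtain ⟨y1, y2, y3, y5, y6⟩ := y4 n
  obtain ⟨τ, t1, t2⟩ := hφ.im hw e2
  have f' := f.conj w
  rw [e, t2] at f'
  have key : φ (dd p u q v) * w * (φ (dd p u q v))⁻¹ * w⁻¹ = φ (dd p u q v * τ) := by
    rw [hφ.mul e2 t1, ← t2, inv_of_sq f.b2]; group
  have key2 : w * φ (dd p u q v * τ) * w⁻¹ = (φ (dd p u q v * τ))⁻¹ := by
    rw [← key, inv_of_sq f.b2, inv_of_sq w2, mul_inv_rev, mul_inv_rev, mul_inv_rev, inv_of_sq f.b2,
      inv_of_sq w2, mul_assoc w, mul_assoc _ w w, w2]; group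
  rcases cent6 (h.six hφ h5 hw) n t1 (hφ.sq' t1 f'.b2) (hφ.comm' t1 e1 f'.c.symm) with
    (rfl | rfl | rfl | rfl) | rfl | rfl
  · exact absurd hφ.one f'.b1
  · exact absurd rfl f'.ab
  · exact (h.vtype hφ h5 hw n4 n4 e t2).elim
  · exact (h.vtype hφ h5 hw n4 (by grind : [p, q, v, u].Nodup) (by rwa [dd_swap' p q u v]) t2).elim
  · exact ⟨key2, .inl key⟩
  · rw [y2, hφ.inv (e2.mul e3)] at key key2
    refine ⟨?_, .inr key⟩
    rw [inv_inv] at key2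
    simpa [mul_assoc] using congrArg Inv.inv key2

theorem six_fresh (h6 : Fintype.card α = 6) (n : [p, q, u, v].Nodup) :
    ∃ x y, [p, q, u, v, x, y].Nodup := by
  obtain ⟨x, hx⟩ := fresh [p, q, u, v] (by simp [h6])
  obtain ⟨y, hy⟩ := fresh [p, q, u, v, x] (by simp [h6])
  exact ⟨x, y, by grind⟩

theorem Sw.y_mem (hφ : Fr φ A) (h5 : 5 ≤ Fintype.card α) (hw : w ∈ N[A]) (h : Sw φ w)
    (w2 : w * w = 1) (n : [p, q, u, v, x, y].Nodup)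
    (e : w * φ (dd p q u v) * w⁻¹ = φ (dd p q u v))
    (hK : φ (dd p u q v) * w * (φ (dd p u q v))⁻¹ * w⁻¹ ∈ K) :
    φ (dd p u q v * dd p q x y) ∈ K := by
  rcases (h.yy hφ h5 hw w2 n e).2 with e | e
  · exact e ▸ hK
  · exact K.inv_mem_iff.1 (e ▸ hK)

theorem Fr.y_sq (hφ : Fr φ A) (n : [p, q, u, v, x, y].Nodup) :
    φ (dd p u q v * dd p q x y) * φ (dd p u q v * dd p q x y) = φ (dd p q u v) := by
  have e : Ev (dd p u q v * dd p q x y) :=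
    (ev_dd (by grind) (by grind)).mul (ev_dd (by grind) (by grind))
  rw [← hφ.mul e e, (y4 n).1]

namespace Geo

theorem step_sw (h : Geo α P) (hA : P A) (hB : P B) (hne : A ≠ B) (hφ : Fr φ A) (f : Fo w t)
    (hw : w ∈ C[B]) (hw' : w ∈ N[A]) (ht : t ∈ C[B]) (s : Sw φ w) (ha : Act φ t σ) :
    ∃ η, T22 η ∧ φ η ∈ C[B] := by
  have s2 := ha.sq1 hφ h.n4 f.b2
  have he := s.odd hφ h.n5 hw' ha s2 f.c
  have h6 := s.six hφ h.n5 hw'
  obtain ⟨p, q, u, v, n, rfl⟩ := t22_small (by omega) he s2 (h.act_ne hA hB hne hφ ht f.b2 f.b1 ha)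
  obtain ⟨x, y, n6⟩ := six_fresh h6 n
  have m := s.y_mem hφ h.n5 hw' f.a2 n6 (ha.comm_inner hφ h.n4 he hw' f.c) (comm_mem_C
    (h.cN' hB ht f.b2 f.b1 (ha.comm (ev_dd (by grind) (by grind)) (by
      ext z; simp only [dd, Perm.mul_apply]; grind (splits := 40)))) hw)
  exact ⟨_, ⟨p, q, u, v, n, rfl⟩, hφ.y_sq n6 ▸ mul_mem m m⟩

theorem step1 (h : Geo α P) (hA : P A) (hB : P B) (hne : A ≠ B) (hφ : Fr φ A) (f : Fo s t)
    (hs : s ∈ C[B]) (hs' : s ∈ N[A]) (ht : t ∈ C[B]) (ht' : t ∈ N[A]) :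
    (∃ η, T22 η ∧ φ η ∈ C[B]) ∨ Exc (hφ.pb C[B]) ∨ Fintype.card α = 5 ∧
      ∃ a b c d, [a, b, c, d].Nodup ∧ Act φ s (dd a b c d) ∧ Act φ t (dd a c b d) := by
  rcases hφ.act_or_sw h.n5 hs' with ⟨σ, a1⟩ | a1 <;> rcases hφ.act_or_sw h.n5 ht' with ⟨τ, a2⟩ | a2
  · rcases (h.cfg hB hφ (h.not_le_N hA hB hne hs hs' f.a2 f.a1)).orb ⟨s, hs, a1⟩ ⟨t, ht, a2⟩
      (a1.sq1 hφ h.n4 f.a2) (a2.sq1 hφ h.n4 f.b2) (a1.comm2 hφ h.n4 a2 f.c)
      (h.act_ne hA hB hne hφ hs f.a2 f.a1 a1) (h.act_ne hA hB hne hφ ht f.b2 f.b1 a2) (by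
        rintro rfl
        exact h.act_ne hA hB hne hφ (mul_mem hs ht) f.m2 f.m1 (a1.mul a2) (a1.sq1 hφ h.n4 f.a2))
      with ⟨η, e1, e2⟩ | e | ⟨e, a, b, c, d, n, rfl, rfl⟩
    · exact .inl ⟨η, e2, e1.2⟩
    · exact .inr (.inl e)
    · exact .inr (.inr ⟨e, a, b, c, d, n, a1, a2⟩)
  · exact .inl (h.step_sw hA hB hne hφ f.symm ht ht' hs a2 a1)
  · exact .inl (h.step_sw hA hB hne hφ f hs hs' ht a1 a2)
  · obtain ⟨ρ, a3⟩ := a1.mul hφ h.n5 hs' a2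
    exact .inl (h.step_sw hA hB hne hφ f.right hs hs' (mul_mem hs ht) a1 a3)

end Geo

/-- `A` contains a natural four-group centralising `B`. -/
def Half (α : Type) [Fintype α] [DecidableEq α] (A B : Subgroup G) : Prop :=
  ∃ (φ : Perm α → G) (p q u v : α), Fr φ A ∧ [p, q, u, v].Nodup ∧ φ (dd p q u v) ∈ C[B] ∧
    φ (dd p u q v) ∈ C[B]

/-- the Sylow subgroups of the centralisers of points are four-groups. -/
def S4 (P : Subgroup G → Prop) : Prop := ∀ B, P B → ∃ a b, ∃ f : Fo a b, Syl 2 C[B] f.sub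

theorem S4.syl (h : S4 P) (hB : P B) (f : Fo a b) (ha : a ∈ C[B]) (hb : b ∈ C[B]) :
    Syl 2 C[B] f.sub := by
  obtain ⟨a', b', f', hs⟩ := h B hB
  exact hs.of_card (f.le ha hb) (by rw [f.card, f'.card])

theorem S4.mem (h : S4 P) (hB : P B) (f : Fo a b) (ha : a ∈ C[B]) (hb : b ∈ C[B])
    (hw : w ∈ C[B]) (w2 : TwoE w) (h1 : w * a * w⁻¹ ∈ f.sub) (h2 : w * b * w⁻¹ ∈ f.sub) :
    w ∈ f.sub := mem_syl (h.syl hB f ha hb) hw w2 (f.mem_N h1 h2)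

theorem S4.mem' (h : S4 P) (hB : P B) (f : Fo a b) (ha : a ∈ C[B]) (hb : b ∈ C[B])
    (hw : w ∈ C[B]) (w2 : w * w = 1) (h1 : w * a = a * w) (h2 : w * b = b * w) :
    w ∈ f.sub := h.mem hB f ha hb hw (twoE_of_sq w2) (by rw [h1]; simpa using f.mem_a)
      (by rw [h2]; simpa using f.mem_b)

theorem S4.conj (h : S4 P) (hB : P B) (f : Fo a b) (ha : a ∈ C[B]) (hb : b ∈ C[B])
    (hw : w ∈ C[B]) (w2 : TwoE w) : ∃ g ∈ C[B], g * w * g⁻¹ ∈ f.sub :=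
  H23.TC.conj_into (h.syl hB f ha hb) hw w2

theorem S4.exp (h : S4 P) (hB : P B) (hw : w ∈ C[B]) (w2 : TwoE w) : w * w = 1 := by
  obtain ⟨a', b', f, hs⟩ := h B hB
  obtain ⟨g, -, hg⟩ := H23.TC.conj_into hs hw w2
  have := f.sq hg
  rw [← H23.TC.conj_mul] at this
  simpa using this

theorem exists_sq (h2 : TwoE w) (hw : w ∉ K) : ∃ s ∈ zpowers w, s ∉ K ∧ s * s ∈ K := by
  obtain ⟨n, hn⟩ := h2.exists_pow Nat.prime_two
  have h1 : w ^ 2 ^ n ∈ K := by rw [← hn, pow_orderOf_eq_one]; exact one_mem _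
  clear hn
  induction n with
  | zero => exact absurd (by simpa using h1) hw
  | succ n ih =>
    by_cases h3 : w ^ 2 ^ n ∈ K
    · exact ih h3
    · exact ⟨_, pow_mem (mem_zpowers w) _, h3, by rwa [← pow_add, ← two_mul, ← pow_succ']⟩

theorem not_sw_of_N (hφ : Fr φ A) (h5 : 5 ≤ Fintype.card α) (n : [p, q, u, v].Nodup)
    (hw : w ∈ N[A]) (hn : w ∈ N[(hφ.fo n).sub]) : ∃ σ, Act φ w σ := by
  refine (hφ.act_or_sw h5 hw).resolve_right fun s => ?_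
  have f := (hφ.fo n).conj w
  obtain ⟨σ, s1, s2⟩ := (hφ.mem_fo n).1 (conj_mem hn (hφ.fo n).mem_a)
  obtain ⟨τ, t1, t2⟩ := (hφ.mem_fo n).1 (conj_mem hn (hφ.fo n).mem_b)
  rw [← s2, ← t2] at f
  obtain ⟨q', u', v', n', rfl, hv⟩ := s1.cases n (by rintro rfl; exact f.a1 hφ.one)
  rcases (hv τ).2 t1 with rfl | rfl | rfl | rfl
  · exact f.b1 hφ.one
  · exact f.ab rfl
  · exact s.vtype hφ h5 hw n n' s2.symm t2.symm
  · exact s.vtype hφ h5 hw n (by grind : [p, q', v', u'].Nodup)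
      (by rw [dd_swap' p q' u' v', s2]) t2.symm

namespace Geo

theorem syl (h : Geo α P) (hA : P A) (hB : P B) (hne : A ≠ B) (hφ : Fr φ A)
    (n : [p, q, u, v].Nodup) (h1 : φ (dd p q u v) ∈ C[B]) (h2 : φ (dd p u q v) ∈ C[B])
    (hK : C[B] ≤ N[A]) : Syl 2 C[B] (hφ.fo n).sub := by
  have f := hφ.fo n
  refine syl_of_max Nat.prime_two f.two (f.le h1 h2) fun Q q1 q2 q3 => by_contra fun hc => ?_
  obtain ⟨w, w1, w2, w3⟩ := H23.TC.exists_norm_lt q1 q2 hc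
  obtain ⟨s, s1, s2, s3⟩ := exists_sq (q1.piElt w1) w3
  have s4 : s ∈ Q := zpowers_le.2 w1 s1
  have s5 : s ∈ N[f.sub] := zpowers_le.2 w2 s1
  obtain ⟨σ, a⟩ := not_sw_of_N hφ h.n5 n (hK (q3 s4)) s5
  have c := h.cfg hB hφ (h.not_le_N hA hB hne h1 (hK h1) f.a2 f.a1)
  have k := c.k4 n ⟨ev_dd (by grind) (by grind), h1⟩ ⟨ev_dd (by grind) (by grind), h2⟩
    ⟨s, q3 s4, a⟩ (fun τ t => by
      obtain ⟨τ', t1, t2⟩ := (hφ.mem_fo n).1 (conj_mem s5 ((hφ.mem_fo n).2 ⟨τ, t, rfl⟩))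
      rw [a τ (t.ev n)] at t2
      exact hφ.inj (t1.ev n) ((t.ev n).conj σ) t2 ▸ t1) (by
      obtain ⟨τ', t1, t2⟩ := (hφ.mem_fo n).1 s3
      exact (a.mul a).uniq hφ h.n4 (t2 ▸ hφ.act (t1.ev n)) ▸ t1)
  have m : φ σ ∈ f.sub := (hφ.mem_fo n).2 ⟨σ, k, rfl⟩
  have m2 : s * (φ σ)⁻¹ ∈ Q := mul_mem s4 (inv_mem (q2 m))
  have := h.two hA hB hne (a.mem_C' hφ (hφ.act (k.ev n))) (q3 m2) (q1.piElt m2)
  exact s2 (mul_inv_eq_one.1 this ▸ m)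

theorem s4 (h : Geo α P) (hA : P A) (hB : P B) (hne : A ≠ B) (hh : Half α A B)
    (hK : C[B] ≤ N[A]) : S4 P := fun C hC => by
  obtain ⟨φ, p, q, u, v, hφ, n, h1, h2⟩ := hh
  obtain ⟨g, rfl⟩ := h.tr B C hB hC
  refine ⟨_, _, (hφ.fo n).conj g, ?_⟩
  have := (h.syl hA hB hne hφ n h1 h2 hK).cj g
  rw [cj_C] at this
  refine this.of_card (((hφ.fo n).conj g).le ?_ ?_) (by rw [card_cj, Fo.card, Fo.card]) <;>
    rw [← cj_C] <;> exact conj_mem_cj g ‹_›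

theorem half_of_L (h : Geo α P) (h6 : 6 ≤ Fintype.card α) (hA : P A) (hB : P B) (hne : A ≠ B)
    (hφ : Fr φ A) (n : [p, q, u, v].Nodup) (h1 : φ (dd p q u v) ∈ C[B]) (l : σ ∈ LL φ C[B])
    (s : σ * σ = 1) (hc : σ * dd p q u v = dd p q u v * σ) (n1 : σ ≠ 1) (n2 : σ ≠ dd p q u v) :
    Half α A B := by
  have f := hφ.fo n
  have e1 : Ev (dd p q u v) := ev_dd (by grind) (by grind)
  rcases (h.cfg hB hφ (h.not_le_N hA hB hne h1 (norm_self _ (hφ.mem e1)) f.a2 f.a1)).ext h6 n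
    ⟨e1, h1⟩ l s hc n1 n2 with m | ⟨h6, x, y, n6, m⟩
  · exact ⟨φ, p, q, u, v, hφ, n, h1, m.2⟩
  · obtain ⟨φ', k1, k2, k3⟩ := hφ.reframe h6 n6
    exact ⟨φ', p, q, v, u, k1, by grind, by rw [dd_swap', k2]; exact h1, k3 ▸ m.2⟩

theorem half_or_sw (h : Geo α P) (h6 : 6 ≤ Fintype.card α) (hA : P A) (hB : P B) (hne : A ≠ B)
    (hφ : Fr φ A) (n : [p, q, u, v].Nodup) (h1 : φ (dd p q u v) ∈ C[B]) (hK : C[B] ≤ N[A]) :
    Half α A B ∨ ∃ w x y, w ∈ C[B] ∧ w * w = 1 ∧ Sw φ w ∧ [p, q, u, v, x, y].Nodup ∧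
      φ (dd p u q v * dd p q x y) ∈ C[B] := by
  have f := hφ.fo n
  have e1 : Ev (dd p q u v) := ev_dd (by grind) (by grind)
  obtain ⟨w, w1, w2, w3, w4, w5⟩ := (h.r2 B hB).four h1 f.a1 f.a2
  have f' : Fo w (φ (dd p q u v)) := ⟨w2, f.a2, w3, f.a1, w4, w5⟩
  rcases hφ.act_or_sw h.n5 (hK w1) with ⟨σ, a⟩ | s
  · refine .inl (h.half_of_L h6 hA hB hne hφ n h1 ⟨w, w1, a⟩ (a.sq1 hφ h.n4 w2)
      (a.comm' hφ e1 w5) (h.act_ne hA hB hne hφ w1 w2 w3 a) ?_)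
    rintro rfl
    exact h.act_ne hA hB hne hφ (mul_mem w1 h1) f'.m2 f'.m1 (a.mul (hφ.act e1)) (dd_sq n)
  · obtain ⟨x, y, n6⟩ := six_fresh (s.six hφ h.n5 (hK w1)) n
    exact .inr ⟨w, x, y, w1, w2, s, n6, s.y_mem hφ h.n5 (hK w1) w2 n6 (by rw [w5]; group)
      (comm_mem_C (h.cN' hB h1 f.a2 f.a1 f.c) w1)⟩

theorem half_of_s4 (h : Geo α P) (h6 : 6 ≤ Fintype.card α) (s4 : S4 P) (hA : P A) (hB : P B)
    (hne : A ≠ B) (hφ : Fr φ A) (t : T22 η) (h1 : φ η ∈ C[B]) (hK : C[B] ≤ N[A]) :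
    Half α A B := by
  obtain ⟨p, q, u, v, n, rfl⟩ := t
  refine (h.half_or_sw h6 hA hB hne hφ n h1 hK).resolve_right ?_
  rintro ⟨w, x, y, -, -, -, n6, m⟩
  have e := hφ.y_sq n6
  exact (hφ.fo n).a1 (e ▸ s4.exp hB m (H23.TC.twoE_of_sq2 (e ▸ twoE_of_sq (hφ.fo n).a2)))

theorem half_six (h : Geo α P) (h6 : 6 ≤ Fintype.card α) (hA : P A) (hB : P B) (hne : A ≠ B)
    (hφ : Fr φ A) (hψ : Fr ψ B) (t : T22 η) (h1 : φ η ∈ C[B]) (t' : T22 τ) (h2 : ψ τ ∈ C[A])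
    (hK : C[B] ≤ N[A]) (hK' : C[A] ≤ N[B]) : Half α A B ∨ Half α B A := by
  obtain ⟨p, q, u, v, n, rfl⟩ := t
  obtain ⟨a, b, c, d, n', rfl⟩ := t'
  rcases h.half_or_sw h6 hB hA hne.symm hψ n' h2 hK' with k | ⟨w, x, y, w1, w2, s, n6, m⟩
  · exact .inr k
  left
  have f := hφ.fo n
  have f' := hψ.fo n'
  have e2 : Ev (dd p u q v) := ev_dd (by grind) (by grind)
  have vA := hφ.mem e2
  have vN : φ (dd p u q v) ∈ N[B] := h.cN' hB h1 f.a2 f.a1 f.c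
  have ey : Ev (dd a c b d * dd a b x y) :=
    (ev_dd (by grind) (by grind)).mul (ev_dd (by grind) (by grind))
  have e3 : Ev (dd a b c d) := ev_dd (by grind) (by grind)
  rcases hψ.act_or_sw h.n5 vN with ⟨σ, a1⟩ | s'
  · have s2 := a1.sq1 hψ h.n4 f.b2
    have he := s.odd hψ h.n5 (hK' w1) a1 s2 (mem_C'.1 w1 _ vA)
    have c1 := a1.comm' hψ ey (mem_C.1 m _ vA)
    have c2 : ψ σ ∈ C[A] := by
      rcases cent6 (s.six hψ h.n5 (hK' w1)) n6 he s2 (a1.comm' hψ e3 (mem_C.1 h2 _ vA)) with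
        (rfl | rfl | rfl | rfl) | rfl | rfl
      · rw [hψ.one]; exact one_mem _
      · exact h2
      all_goals
        exfalso
        have := comm_apply c1 a
        clear * - this n6
        simp only [dd, Perm.mul_apply] at this; grind (splits := 40)
    refine h.half_of_L h6 hA hB hne hφ n h1 ⟨_, a1.mem_C' hψ (hψ.act he), ?_⟩ (dd_sq (by grind))
      (hφ.comm' e2 (ev_dd (by grind) (by grind)) f.c.symm) (dd_ne (by grind))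
      fun e => f.ab (by rw [e])
    simpa using (hφ.act e2).mul (Act.of_mem_C hφ c2).inv
  · exfalso
    have k := (s'.yy hψ h.n5 vN f.b2 n6 (by rw [mem_C.1 h2 _ vA]; group)).1
    rw [mem_C.1 m _ vA, mul_inv_cancel_right, eq_inv_iff_mul_eq_one, hψ.y_sq n6] at k
    exact f'.a1 k

theorem not_exc (h : Geo α P) (s4 : S4 P) (hB : P B) (hφ : Fr φ A) : ¬ Exc (hφ.pb C[B]) := by
  rintro ⟨-, σ, m1, τ, m2, ρ, m3, s1, n1, -, -, s2, s3, c1, c2, c3, n2, n3, n4, n5, n6, n7⟩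
  have f : Fo (φ σ) (φ τ) := ⟨hφ.sq m1.1 s1, hφ.sq m2.1 s2, hφ.ne_one m1.1 n1, hφ.ne_one m2.1 n2,
    hφ.ne m1.1 m2.1 n3, hφ.comm m1.1 m2.1 c1⟩
  rcases s4.mem' hB f m1.2 m2.2 m3.2 (hφ.sq m3.1 s3) (hφ.comm m3.1 m1.1 c2)
    (hφ.comm m3.1 m2.1 c3) with e | e | e | e
  · exact hφ.ne_one m3.1 n4 e
  · exact hφ.ne m3.1 m1.1 n5 e
  · exact hφ.ne m3.1 m2.1 n6 e
  · exact hφ.ne m3.1 (m1.1.mul m2.1) n7 (by rw [e, hφ.mul m1.1 m2.1])

theorem exc_exc (h : Geo α P) (hA : P A) (hB : P B) (hφ : Fr φ A) (hψ : Fr ψ B)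
    (e1 : Exc (hφ.pb C[B])) (e2 : Exc (hψ.pb C[A])) : ∃ η, T22 η ∧ φ η ∈ C[B] := by
  obtain ⟨h8, σ, m1, -, -, -, -, s1, n1, -, ⟨η, k1, k2, k3⟩, -⟩ := e1
  obtain ⟨-, σ', l1, τ', l2, ρ', l3, -, -, k4, -⟩ := e2
  obtain ⟨π, a⟩ := hψ.exists_act h.n5 (by omega)
    (h.cN hB m1.2 (hφ.sq m1.1 s1) (hφ.ne_one m1.1 n1) (hφ.comm k1 m1.1 k2))
  have hm := hφ.mem k1
  refine ⟨_, k3, ?_⟩
  rw [hφ.mul k1 k1]
  exact Act.mem_C hψ (k4 π (a.comm' hψ l1.1 (mem_C.1 l1.2 _ hm)) (a.comm' hψ l2.1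
    (mem_C.1 l2.2 _ hm)) (a.comm' hψ l3.1 (mem_C.1 l3.2 _ hm)) ▸ a.mul a)

theorem K_le (h : Geo α P) (hB : P B) (ha : a ∈ A) (hc : a ∈ C[B]) (a2 : a * a = 1) (a1 : a ≠ 1) :
    C[A] ≤ N[B] := fun k hk => h.cN hB hc a2 a1 (mem_C'.1 hk a ha)

theorem K_le22 (h : Geo α P) (hB : P B) (hφ : Fr φ A) (t : T22 η) (hc : φ η ∈ C[B]) :
    C[A] ≤ N[B] := by
  obtain ⟨p, q, u, v, n, rfl⟩ := t
  exact h.K_le hB (hφ.mem (ev_dd (by grind) (by grind))) hc (hφ.fo n).a2 (hφ.fo n).a1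

theorem K_le_exc (h : Geo α P) (hB : P B) (hφ : Fr φ A) (e : Exc (hφ.pb C[B])) :
    C[A] ≤ N[B] := by
  obtain ⟨h8, σ, m1, -, -, -, -, s1, n1, -⟩ := e
  exact h.K_le hB (hφ.mem m1.1) m1.2 (hφ.sq m1.1 s1) (hφ.ne_one m1.1 n1)

theorem step6 (h : Geo α P) (h6 : 6 ≤ Fintype.card α) (hA : P A) (hB : P B) (hne : A ≠ B)
    (hφ : Fr φ A) (hr : R2 (C[B] ⊓ N[A])) :
    C[A] ≤ N[B] ∧ ((∃ η, T22 η ∧ φ η ∈ C[B]) ∨ Exc (hφ.pb C[B])) := by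
  obtain ⟨s, hs, t, ht, f⟩ := fo_of_r2 hr
  rcases h.step1 hA hB hne hφ f hs.1 hs.2 ht.1 ht.2 with ⟨η, e1, e2⟩ | e | e
  · exact ⟨h.K_le22 hB hφ e1 e2, .inl ⟨η, e1, e2⟩⟩
  · exact ⟨h.K_le_exc hB hφ e, .inr e⟩
  · omega

end Geo

/-- adjacent points -/
structure Good (α : Type) [Fintype α] [DecidableEq α] (P : Subgroup G → Prop)
    (A B : Subgroup G) : Prop where
  pA : P A
  pB : P B
  ne : A ≠ B
  hAB : Half α A B
  hBA : Half α B A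

theorem Good.symm (h : Good α P A B) : Good α P B A := ⟨h.pB, h.pA, h.ne.symm, h.hBA, h.hAB⟩

theorem Geo.good6 (h : Geo α P) (h6 : 6 ≤ Fintype.card α) (hA : P A) (hB : P B) (hne : A ≠ B)
    (hr : R2 (C[B] ⊓ N[A])) : Good α P A B := by
  obtain ⟨φ, hφ⟩ := h.fr A hA
  obtain ⟨ψ, hψ⟩ := h.fr B hB
  obtain ⟨k1, e1⟩ := h.step6 h6 hA hB hne hφ hr
  obtain ⟨k2, e2⟩ := h.step6 h6 hB hA hne.symm hψ ((h.r2 A hA).mono (le_inf le_rfl k1))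
  have one : ∀ {A B : Subgroup G} {φ : Perm α → G} {η}, P A → P B → A ≠ B → Fr φ A → T22 η →
      φ η ∈ C[B] → C[B] ≤ N[A] → 8 ≤ Fintype.card α → S4 P := by
    intro A B φ η hA hB hne hφ t m k h8
    obtain ⟨p, q, u, v, n, rfl⟩ := t
    refine h.s4 hA hB hne ((h.half_or_sw h6 hA hB hne hφ n m k).resolve_right ?_) k
    rintro ⟨w, x, y, w1, -, s, -⟩
    have := s.six hφ h.n5 (k w1)
    omega
  have s4 : S4 P := by
    rcases e1 with ⟨η, t, m⟩ | e1 <;> rcases e2 with ⟨η', t', m'⟩ | e2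
    · rcases h.half_six h6 hA hB hne hφ hψ t m t' m' k2 k1 with k | k
      · exact h.s4 hA hB hne k k2
      · exact h.s4 hB hA hne.symm k k1
    · exact one hA hB hne hφ t m k2 e2.1
    · exact one hB hA hne.symm hψ t' m' k1 e1.1
    · obtain ⟨η, t, m⟩ := h.exc_exc hA hB hφ hψ e1 e2
      exact one hA hB hne hφ t m k2 e1.1
  obtain ⟨η, t, m⟩ := e1.resolve_right (h.not_exc s4 hB hφ)
  obtain ⟨η', t', m'⟩ := e2.resolve_right (h.not_exc s4 hA hψ)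
  exact ⟨hA, hB, hne, h.half_of_s4 h6 s4 hA hB hne hφ t m k2,
    h.half_of_s4 h6 s4 hB hA hne.symm hψ t' m' k1⟩

end H5.SA
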