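import Mathlib
import Cfsg.Agent.H5.SA3

/-!
# Standard alternating subgroups: adjacency, and the involutions of `D` normalising a point
-/

set_option autoImplicit false
set_option linter.unusedSectionVars false
set_option linter.unusedVariables false

namespace H5.SA

open Cfsg H24 H26 H26.Gold Subgroup Equiv Equiv.Perm
open H23.TC (R2 sq_mul mem_syl)

universe u

variable {G : Type u} [Group G] [Finite G] {α : Type} [Fintype α] [DecidableEq α]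
  {φ ψ χ : Perm α → G} {A B C K : Subgroup G} {a b g k r s t w : G} {σ τ ρ η : Perm α}
  {p q u v x y : α} {P : Subgroup G → Prop}

theorem Half.K_le (h : Geo α P) (hB : P B) (hh : Half α A B) : C[A] ≤ N[B] := by
  obtain ⟨φ, p, q, u, v, hφ, n, h1, -⟩ := hh
  exact h.K_le22 hB hφ ⟨p, q, u, v, n, rfl⟩ h1

theorem Good.K1 (h : Geo α P) (c : Good α P A B) : C[A] ≤ N[B] := c.hAB.K_le h c.pB
theorem Good.K2 (h : Geo α P) (c : Good α P A B) : C[B] ≤ N[A] := c.hBA.K_le h c.pA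
theorem Good.s4 (h : Geo α P) (c : Good α P A B) : S4 P := h.s4 c.pA c.pB c.ne c.hAB (c.K2 h)

theorem Half.conj (hh : Half α A B) (g : G) : Half α (H24.cj g A) (H24.cj g B) := by
  obtain ⟨φ, p, q, u, v, hφ, n, h1, h2⟩ := hh
  refine ⟨_, p, q, u, v, hφ.cj g, n, ?_, ?_⟩ <;> rw [← cj_C] <;> exact conj_mem_cj g ‹_›

theorem Good.conj (h : Geo α P) (c : Good α P A B) (g : G) : Good α P (H24.cj g A) (H24.cj g B) :=
  ⟨h.cj g A c.pA, h.cj g B c.pB, fun e => c.ne (cj_inj.1 e), c.hAB.conj g, c.hBA.conj g⟩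

theorem Good.imem (h : Geo α P) (c : Good α P A B) (hw : w ∈ C[B]) (w2 : w * w = 1) :
    w ∈ A := by
  obtain ⟨φ, p, q, u, v, hφ, n, h1, h2⟩ := c.hAB
  obtain ⟨g, hg, m⟩ := (c.s4 h).conj c.pB (hφ.fo n) h1 h2 hw (twoE_of_sq w2)
  exact (conj_mem_iff (c.K2 h hg)).1 ((hφ.fo n).le (hφ.mem (ev_dd (by grind) (by grind)))
    (hφ.mem (ev_dd (by grind) (by grind))) m)

theorem fr_h (hφ : Fr φ A) (n : [p, q, u, v].Nodup) :
    φ (cy q v u) * φ (dd p q u v) * (φ (cy q v u))⁻¹ = φ (dd p u q v) ∧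
    φ (cy q v u) * φ (dd p u q v) * (φ (cy q v u))⁻¹ = φ (dd p q u v) * φ (dd p u q v) := by
  have e : Ev (cy q v u) := ev_cy (by grind) (by grind)
  rw [hφ.conj e (ev_dd (by grind) (by grind)), hφ.conj e (ev_dd (by grind) (by grind)),
    ← hφ.mul (ev_dd (by grind) (by grind)) (ev_dd (by grind) (by grind)), conj_dd, conj_dd]
  constructor <;> congr 1 <;> ext z <;> simp only [dd, cy, Perm.mul_apply] <;> grind (splits := 40)

section five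

variable (h : Geo α P) (h5 : Fintype.card α = 5)
include h h5

theorem Geo.act5 (hφ : Fr φ A) (hw : w ∈ N[A]) : ∃ σ, Act φ w σ :=
  hφ.exists_act h.n5 (by omega) hw

/-- an element centralising a four-group acting faithfully acts like an element of it -/
theorem Geo.cent5 (hφ : Fr φ A) (f : Fo a b) (ha : a ∈ N[A]) (hb : b ∈ N[A]) (hw : w ∈ N[A])
    (hf : ∀ x ∈ f.sub, x ∈ C[A] → x = 1) (h1 : w * a = a * w) (h2 : w * b = b * w) :
    ∃ x ∈ f.sub, w * x ∈ C[A] := by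
  obtain ⟨σ, a1⟩ := h.act5 h5 hφ ha
  obtain ⟨τ, a2⟩ := h.act5 h5 hφ hb
  obtain ⟨ρ, a3⟩ := h.act5 h5 hφ hw
  have k : ∀ {x}, x ∈ f.sub → Act φ x ρ → ∃ x ∈ f.sub, w * x ∈ C[A] := fun {x} hx a4 =>
    ⟨x⁻¹, inv_mem hx, a3.mem_C' hφ a4⟩
  rcases H5.SA.cent5 h5 (a1.sq1 hφ h.n4 f.a2) (by rintro rfl; exact f.a1 (hf _ f.mem_a (a1.mem_C hφ)))
    (a2.sq1 hφ h.n4 f.b2) (by rintro rfl; exact f.b1 (hf _ f.mem_b (a2.mem_C hφ))) (by
      rintro rfl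
      exact f.m1 (hf _ (mul_mem f.mem_a f.mem_b)
        (Act.mem_C hφ (a1.sq1 hφ h.n4 f.a2 ▸ a1.mul a2)))) (a1.comm2 hφ h.n4 a2 f.c)
    (a3.comm2 hφ h.n4 a1 h1) (a3.comm2 hφ h.n4 a2 h2) with rfl | rfl | rfl | rfl
  exacts [k (one_mem _) Act.one, k f.mem_a a1, k f.mem_b a2, k (mul_mem f.mem_a f.mem_b) (a1.mul a2)]

theorem Geo.alpha1 (hB : P B) (hA : P A) (hφ : Fr φ A) (n : [p, q, u, v].Nodup)
    (h1 : φ (dd p q u v) ∈ C[B]) : φ (dd p u q v) ∈ C[B] := by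
  have f := hφ.fo n
  have m1 := hφ.mem (σ := dd p q u v) (ev_dd (by grind) (by grind))
  have m2 := hφ.mem (σ := dd p u q v) (ev_dd (by grind) (by grind))
  have m3 := hφ.mem (σ := cy q v u) (ev_cy (by grind) (by grind))
  obtain ⟨e1, e2⟩ := fr_h hφ n
  have hne : A ≠ B := by rintro rfl; exact f.a1 (h.inf_C hA m1 h1)
  obtain ⟨ψ, hψ⟩ := h.fr B hB
  obtain ⟨a, ha, b, hb, f'⟩ := fo_of_r2 (h.r2 A hA)
  have hK := h.K_le hB m1 h1 f.a2 f.a1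
  obtain ⟨x, x1, x2⟩ := h.cent5 h5 hψ f' (hK ha) (hK hb) (h.cN' hB h1 f.a2 f.a1 f.c)
    (fun x hx hc => h.te1 hA hB hne (f'.le ha hb hx) hc (f'.sq hx)) (mem_C.1 ha _ m2)
    (mem_C.1 hb _ m2)
  have x3 := f'.le ha hb x1
  have m4 := mul_mem m1 m2
  have : φ (cy q v u) ∈ N[B] := h.cjN hB x2 (sq_mul f.b2 (f'.sq x1) (mem_C.1 x3 _ m2))
    (fun e => f.b1 (h.inf_C hA m2 (by rw [eq_inv_of_mul_eq_one_left e]; exact inv_mem x3))) (by
      rw [H23.TC.conj_mul, e2, ← mem_C'.1 x3 _ m3, mul_inv_cancel_right, mul_assoc]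
      exact mul_mem h1 x2)
  exact e1 ▸ cC this h1

theorem Geo.alpha2 (hB : P B) (hA : P A) (hφ : Fr φ A) (n : [p, q, u, v].Nodup)
    (h1 : φ (dd p q u v) ∈ C[B]) : Half α B A := by
  have h2 := h.alpha1 h5 hB hA hφ n h1
  have f := hφ.fo n
  have m1 := hφ.mem (σ := dd p q u v) (ev_dd (by grind) (by grind))
  have m2 := hφ.mem (σ := dd p u q v) (ev_dd (by grind) (by grind))
  have m3 := hφ.mem (σ := cy q v u) (ev_cy (by grind) (by grind))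
  obtain ⟨e1, e2⟩ := fr_h hφ n
  have hne : A ≠ B := by rintro rfl; exact f.a1 (h.inf_C hA m1 h1)
  obtain ⟨ψ, hψ⟩ := h.fr B hB
  obtain ⟨a, ha, b, hb, f'⟩ := fo_of_r2 (h.r2 A hA)
  have hK := h.K_le hB m1 h1 f.a2 f.a1
  suffices ∃ η, T22 η ∧ ψ η ∈ C[A] by
    obtain ⟨_, ⟨a, b, c, d, n', rfl⟩, k⟩ := this
    exact ⟨ψ, a, b, c, d, hψ, n', k, h.alpha1 h5 hA hB hψ n' k⟩
  rcases h.step1 hB hA hne.symm hψ f' ha (hK ha) hb (hK hb) with e | e | ⟨-, a', b', c, d, n', a1, -⟩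
  · exact e
  · have := e.1; omega
  have ev : Ev (dd a' b' c d) := ev_dd (by grind) (by grind)
  refine ⟨_, ⟨a', b', c, d, n', rfl⟩, ?_⟩
  have f2 := hψ.fo n'
  have b1 := hψ.mem ev
  set z := ψ (dd a' b' c d)
  have k1 : a * z⁻¹ ∈ C[B] := a1.mem_C' hψ (hψ.act ev)
  have k2 : a * z = z * a := a1.comm ev rfl
  rw [inv_of_sq f2.a2] at k1
  have k3 : a * z * (a * z) = 1 := sq_mul f'.a2 f2.a2 k2
  have k4 : a * z ∈ N[A] := h.cN hA ha f'.a2 f'.a1 (by rw [mul_assoc, ← k2])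
  obtain ⟨x, x1, x2⟩ := h.cent5 h5 hφ f (norm_self _ m1) (norm_self _ m2) k4
    (fun x hx hc => h.inf_C hA (f.le m1 m2 hx) hc)
    (by rw [mul_assoc, mem_C.1 h1 _ b1, ← mul_assoc, mem_C'.1 ha _ m1, mul_assoc])
    (by rw [mul_assoc, mem_C.1 h2 _ b1, ← mul_assoc, mem_C'.1 ha _ m2, mul_assoc])
  have x3 := f.le h1 h2 x1
  have x4 := f.le m1 m2 x1
  have k5 : a * z * x = 1 := h.te1 hA hB hne x2 (mul_mem k1 x3) (sq_mul k3 (f.sq x1)
    (by rw [mul_assoc, mem_C.1 x3 _ b1, ← mul_assoc, mem_C'.1 ha _ x4, mul_assoc]))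
  have k6 : z = a * x := by
    rw [← inv_of_sq f'.a2, ← inv_of_sq (f.sq x1), eq_inv_mul_iff_mul_eq, eq_inv_iff_mul_eq_one, k5]
  have hN : φ (cy q v u) ∈ N[B] := h.cjN hB h1 f.a2 f.a1 (e1 ▸ h2)
  have k7 : x * (φ (cy q v u) * x * (φ (cy q v u))⁻¹) = 1 := by
    refine h.inf_C hB ?_ (mul_mem x3 (cC hN x3))
    have := mul_mem b1 (conj_mem hN b1)
    rwa [k6, H23.TC.conj_mul, ← mem_C'.1 ha _ m3, mul_inv_cancel_right, ← mul_assoc (a * x),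
      mul_assoc a x a, ← mem_C'.1 ha _ x4, ← mul_assoc a a, f'.a2, one_mul] at this
  rcases x1 with rfl | rfl | rfl | rfl
  · rw [k6, mul_one]; exact ha
  · exact absurd (e1 ▸ k7) f.m1
  · rw [e2, f.bab] at k7; exact absurd k7 f.a1
  · rw [H23.TC.conj_mul, e1, e2, f.bab, f.aba] at k7; exact absurd k7 f.b1

theorem Geo.good5 (hA : P A) (hB : P B) (ha : a ∈ A) (hc : a ∈ C[B]) (a2 : a * a = 1)
    (a1 : a ≠ 1) : Good α P A B := by
  obtain ⟨φ, hφ⟩ := h.fr A hA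
  obtain ⟨σ, s1, rfl⟩ := hφ.surj ha
  obtain ⟨p, q, u, v, n, rfl⟩ := t22_small (by omega) s1 (hφ.sq' s1 a2)
    (by rintro rfl; exact a1 hφ.one)
  exact ⟨hA, hB, by rintro rfl; exact a1 (h.inf_C hA ha hc),
    ⟨φ, p, q, u, v, hφ, n, hc, h.alpha1 h5 hB hA hφ n hc⟩, h.alpha2 h5 hB hA hφ n hc⟩

theorem Good.uniq5 (c : Good α P A B) (hφ : Fr φ A) (n : [p, q, u, v].Nodup)
    (h1 : φ (dd p q u v) ∈ C[B]) (hw : w ∈ C[B]) (w2 : w * w = 1) : w ∈ (hφ.fo n).sub := by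
  by_cases w1 : w = 1
  · exact w1 ▸ one_mem _
  obtain ⟨σ, s1, rfl⟩ := hφ.surj (c.imem h hw w2)
  have e1 : Ev (dd p q u v) := ev_dd (by grind) (by grind)
  exact (hφ.mem_fo n).2 ⟨σ, (h.cfg c.pB hφ (h.not_le_N c.pA c.pB c.ne h1 (norm_self _ (hφ.mem e1))
    (hφ.fo n).a2 (hφ.fo n).a1)).u5 h5 n ⟨e1, h1⟩ ⟨ev_dd (by grind) (by grind),
      h.alpha1 h5 c.pB c.pA hφ n h1⟩ ⟨s1, hw⟩ (t22_small (by omega) s1 (hφ.sq' s1 w2)
        (by rintro rfl; exact w1 hφ.one)), rfl⟩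

theorem Good.inv5 (c : Good α P A B) (hC : P C) (f : Fo a b) (ha : a ∈ C[C]) (hb : b ∈ C[C])
    (hw : w ∈ C[C]) (w2 : w * w = 1) : w ∈ f.sub := by
  obtain ⟨g, rfl⟩ := h.tr B C c.pB hC
  have c' := c.conj h g
  obtain ⟨φ, p, q, u, v, hφ, n, h1, h2⟩ := c'.hAB
  have k := fun {w} (hw : w ∈ C[H24.cj g B]) (w2 : w * w = 1) => c'.uniq5 h h5 hφ n h1 hw w2
  exact (c.s4 h).mem' hC f ha hb hw w2 ((hφ.fo n).comm (k hw w2) (k ha f.a2))
    ((hφ.fo n).comm (k hw w2) (k hb f.b2))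

theorem Good.diag0 (c : Good α P A B) (hφ : Fr φ A) (n : [p, q, u, v].Nodup)
    (h1 : φ (dd p q u v) ∈ C[B]) (hr : r ∈ C[A]) (r2 : r * r = 1) (r1 : r ≠ 1) (hC : P C)
    (h2 : r * φ (dd p q u v) ∈ C[C]) (h3 : r * φ (dd p u q v) ∈ C) : False := by
  have f := hφ.fo n
  have m1 := hφ.mem (σ := dd p q u v) (ev_dd (by grind) (by grind))
  have m2 := hφ.mem (σ := dd p u q v) (ev_dd (by grind) (by grind))
  have m3 := hφ.mem (σ := cy q v u) (ev_cy (by grind) (by grind))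
  have h4 := h.alpha1 h5 c.pB c.pA hφ n h1
  obtain ⟨e1, e2⟩ := fr_h hφ n
  set η := φ (cy q v u)
  have e3 : η * r * η⁻¹ = r := by rw [← mem_C'.1 hr _ m3, mul_inv_cancel_right]
  have hC' := h.cj η C hC
  have k1 : r * φ (dd p u q v) ∈ C[H24.cj η C] := by
    rw [← cj_C, ← e1, ← e3, ← H23.TC.conj_mul]; exact conj_mem_cj η h2
  have ne : ∀ x ∈ A, r * x ≠ 1 := fun x hx e =>
    r1 (h.inf_C c.pA (by rw [eq_inv_of_mul_eq_one_left e]; exact inv_mem hx) hr)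
  have g1 := h.good5 h5 hC hC' h3 k1 (sq_mul r2 f.b2 (mem_C'.1 hr _ m2)) (ne _ m2)
  have k2 := g1.symm.imem h h2 (sq_mul r2 f.a2 (mem_C'.1 hr _ m1))
  have k3 : r * (φ (dd p q u v) * φ (dd p u q v)) ∈ H24.cj η C := by
    rw [← e2, ← e3, ← H23.TC.conj_mul]; exact conj_mem_cj η h3
  have k4 : φ (dd p u q v) ∈ H24.cj η C := by
    simpa [mul_assoc] using mul_mem (inv_mem k2) k3
  have k5 := (h.good5 h5 hC' c.pB k4 h4 f.b2 f.b1).imem h h1 f.a2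
  have k6 : r ∈ H24.cj η C := by simpa using mul_mem k2 (inv_mem k5)
  exact ne _ m2 (h.inf_C hC' (mul_mem k6 k4) k1)

theorem Good.diag5 (c : Good α P A B) (hφ : Fr φ A) (n : [p, q, u, v].Nodup)
    (h1 : φ (dd p q u v) ∈ C[B]) (hr : r ∈ C[A]) (r2 : r * r = 1) (r1 : r ≠ 1) :
    ¬ DD P (r * φ (dd p q u v)) := by
  rintro ⟨t2, t1, C, hC, h2⟩
  have f := hφ.fo n
  have m1 := hφ.mem (σ := dd p q u v) (ev_dd (by grind) (by grind))
  have m2 := hφ.mem (σ := dd p u q v) (ev_dd (by grind) (by grind))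
  have h4 := h.alpha1 h5 c.pB c.pA hφ n h1
  have rB := c.symm.imem h hr r2
  have nB : r * φ (dd p q u v) ∉ B := fun e =>
    f.a1 (h.inf_C c.pB (by simpa using mul_mem (inv_mem rB) e) h1)
  have hne : C ≠ B := by
    rintro rfl
    exact r1 (h.inf_C hC rB (by simpa using mul_mem h2 (inv_mem h1)))
  have bad : ∀ x ∈ C, x ∈ C[B] → x * x = 1 → x = 1 := fun x x1 x2 x3 => by_contra fun x4 =>
    nB ((h.good5 h5 hC c.pB x1 x2 x3 x4).symm.imem h h2 t2)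
  have c1 : r * φ (dd p q u v) * φ (dd p q u v) = φ (dd p q u v) * (r * φ (dd p q u v)) := by
    rw [← mul_assoc, mem_C.1 hr _ m1]
  have c2 : r * φ (dd p q u v) * φ (dd p u q v) = φ (dd p u q v) * (r * φ (dd p q u v)) := by
    rw [← mul_assoc, mem_C.1 hr _ m2, mul_assoc, f.c, mul_assoc]
  obtain ⟨χ, hχ⟩ := h.fr C hC
  rcases h.step1 hC c.pB hne hχ f h1 (h.cN' hC h2 t2 t1 c1) h4 (h.cN' hC h2 t2 t1 c2) with
    ⟨_, ⟨a, b, c', d, n', rfl⟩, e⟩ | e | ⟨-, a, b, c', d, n', a1, a2⟩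
  · exact (hχ.fo n').a1 (bad _ (hχ.mem (ev_dd (by grind) (by grind))) e (hχ.fo n').a2)
  · have := e.1; omega
  have f2 := hχ.fo n'
  have v1 : Ev (dd a b c' d) := ev_dd (by grind) (by grind)
  have v2 : Ev (dd a c' b d) := ev_dd (by grind) (by grind)
  have b1 := hχ.mem v1
  have b2 := hχ.mem v2
  have k1 := a1.mem_C' hχ (hχ.act v1)
  have k2 := a2.mem_C' hχ (hχ.act v2)
  have cc := hχ.comm' v1 v2 f2.c
  have d1 := a1.comm v1 rfl
  have d2 := a2.comm v2 rfl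
  have d3 := a1.comm v2 cc
  have d4 := a2.comm v1 cc.symm
  rw [inv_of_sq f2.a2] at k1
  rw [inv_of_sq f2.b2] at k2
  generalize χ (dd a b c' d) = z1 at *
  generalize χ (dd a c' b d) = z2 at *
  have e3 : φ (dd p v q u) = φ (dd p q u v) * φ (dd p u q v) := by
    rw [← dd_mul n, hφ.mul (ev_dd (by grind) (by grind)) (ev_dd (by grind) (by grind))]
  have k3 := c.diag0 h h5 hφ n h1 hr r2 r1 hC h2
  have k4 := c.diag0 h h5 hφ (by grind : [p, q, v, u].Nodup) (by rwa [dd_swap']) hr r2 r1 hC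
    (by rwa [dd_swap'])
  rw [e3] at k4
  generalize φ (dd p q u v) = v1 at *
  generalize φ (dd p u q v) = v2 at *
  have pr : v1 * z1 * (v2 * z2) = v1 * v2 * (z1 * z2) := by
    rw [mul_assoc, ← mul_assoc z1, ← d4]; group
  have pr' : v2 * z2 * (v1 * z1) = v1 * v2 * (z1 * z2) := by
    rw [mul_assoc, ← mul_assoc z2, ← d3, f.c, f2.c]; group
  have nn : ∀ x z, x ∈ C[B] → z ∈ C → x * x = 1 → x ≠ 1 → x * z ≠ 1 := fun x z x1 z1 x2 x3 e =>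
    x3 (bad x (by rw [eq_inv_of_mul_eq_one_left e]; exact inv_mem z1) x1 x2)
  have s2 := sq_mul f.b2 f2.b2 d2
  have f3 : Fo (v1 * z1) (v2 * z2) := ⟨sq_mul f.a2 f2.a2 d1, s2, nn _ _ h1 b1 f.a2 f.a1,
    nn _ _ h4 b2 f.b2 f.b1, fun e => nn _ _ (mul_mem h1 h4) (mul_mem b1 b2) f.m2 f.m1
      (by rw [← pr, e, s2]), by rw [pr, pr']⟩
  rcases c.inv5 h h5 hC f3 k1 k2 h2 t2 with e | e | e | e
  · exact t1 e
  · have : r = z1 := by rw [d1] at e; exact mul_right_cancel e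
    have g1 := h.good5 h5 hC c.pA (this ▸ b1) hr r2 r1
    exact r1 (h.inf_C c.pA (by simpa using mul_mem (g1.symm.imem h h2 t2) (inv_mem m1)) hr)
  · exact k4 (by rw [← mul_assoc, e, d2, mul_assoc, f.b2, mul_one]; exact b2)
  · refine k3 ?_
    have : r * v2 = z1 * z2 := by
      rw [pr] at e
      calc r * v2 = r * v1 * (v1 * v2) := by rw [mul_assoc, f.aab]
        _ = v1 * v2 * (v1 * v2) * (z1 * z2) := by
          rw [e, mul_assoc, mul_assoc _ (v1 * v2)]; congr 1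
          exact (Commute.mul_left (Commute.mul_right d1 d3) (Commute.mul_right d4 d2)).symm
        _ = _ := by rw [f.m2, one_mul]
    exact this ▸ mul_mem b1 b2

end five

/-- the hypothesis of case `α`. -/
def Al (α : Type) [Fintype α] [DecidableEq α] (P : Subgroup G → Prop) : Prop :=
  Fintype.card α = 5 → ∃ B, P B ∧ ∃ a ∈ B, DD P a

theorem Geo.good_inv (h : Geo α P) (hA : P A) (hB : P B) (ha : a ∈ A) (hc : a ∈ C[B])
    (a2 : a * a = 1) (a1 : a ≠ 1) : Good α P A B := by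
  by_cases h5 : Fintype.card α = 5
  · exact h.good5 h5 hA hB ha hc a2 a1
  · have := h.n5
    exact (h.good6 (by omega) hB hA (by rintro rfl; exact a1 (h.inf_C hA ha hc))
      ((h.r2 A hA).mono (le_inf le_rfl (h.K_le hB ha hc a2 a1)))).symm

theorem Al.dd (h : Geo α P) (h5 : Fintype.card α = 5) (al : Al α P) (hA : P A) (hφ : Fr φ A)
    (t : T22 σ) : DD P (φ σ) := by
  obtain ⟨B, hB, a, ha, hd⟩ := al h5
  obtain ⟨g, rfl⟩ := h.tr B A hB hA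
  obtain ⟨τ, s1, e⟩ := hφ.surj (conj_mem_cj g ha)
  have hd' := hd.conj h g
  rw [← e] at hd'
  obtain ⟨ρ, r1, rfl⟩ := (t22_small (by omega) s1 (hφ.sq' s1 hd'.1)
    (by rintro rfl; exact hd'.2.1 hφ.one)).conj_ev t
  exact hφ.conj r1 s1 ▸ hd'.conj h _

theorem Geo.adj (h : Geo α P) (al : Al α P) (hA : P A) (hB : P B) (hne : A ≠ B)
    (hr : R2 (C[B] ⊓ N[A])) : Good α P A B := by
  by_cases h5 : Fintype.card α = 5
  swap
  · have := h.n5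
    exact h.good6 (by omega) hA hB hne hr
  obtain ⟨s, hs, t, ht, f⟩ := fo_of_r2 hr
  obtain ⟨φ, hφ⟩ := h.fr A hA
  rcases h.step1 hA hB hne hφ f hs.1 hs.2 ht.1 ht.2 with
    ⟨_, ⟨a, b, c, d, n, rfl⟩, e⟩ | e | ⟨-, a, b, c, d, n, a1, -⟩
  · exact h.good5 h5 hA hB (hφ.mem (ev_dd (by grind) (by grind))) e (hφ.fo n).a2 (hφ.fo n).a1
  · have := e.1; omega
  have v1 : Ev (dd a b c d) := ev_dd (by grind) (by grind)
  have f' := hφ.fo n
  obtain ⟨-, -, C, hC, m⟩ := al.dd h h5 hA hφ ⟨a, b, c, d, n, rfl⟩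
  have k1 := a1.mem_C' hφ (hφ.act v1)
  rw [inv_of_sq f'.a2] at k1
  by_cases e : s * φ (dd a b c d) = 1
  · refine h.good5 h5 hA hB ?_ hs.1 f.a2 f.a1
    rw [eq_inv_of_mul_eq_one_left e]; exact inv_mem (hφ.mem v1)
  · refine ((h.good5 h5 hA hC (hφ.mem v1) m f'.a2 f'.a1).diag5 h h5 hφ n m k1
      (sq_mul f.a2 f'.a2 (a1.comm v1 rfl)) e ?_).elim
    rw [mul_assoc, f'.a2, mul_one]
    exact ⟨f.a2, f.a1, B, hB, hs.1⟩

/-- a good frame -/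
structure GF (P : Subgroup G → Prop) (φ : Perm α → G) (A : Subgroup G) : Prop where
  fr : Fr φ A
  pA : P A
  nb : ∀ {p q u v : α}, [p, q, u, v].Nodup → ∃ B, Good α P A B ∧ φ (dd p q u v) ∈ C[B] ∧
    φ (dd p u q v) ∈ C[B]

theorem Good.gf (h : Geo α P) (c : Good α P A B) (hφ : Fr φ A) (n : [p, q, u, v].Nodup)
    (h1 : φ (dd p q u v) ∈ C[B]) (h2 : φ (dd p u q v) ∈ C[B]) : GF P φ A := by
  refine ⟨hφ, c.pA, fun {p' q' u' v'} n' => ?_⟩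
  obtain ⟨ρ, r1, r2, r3, r4⟩ := dd_conj_ev n n'
  have c' := c.conj h (φ ρ)
  rw [H24.cj_of_mem (hφ.mem r1)] at c'
  have k : ∀ τ, Vf p q u v τ → φ (ρ * τ * ρ⁻¹) ∈ C[H24.cj (φ ρ) B] := fun τ t => by
    rw [← hφ.conj r1 (t.ev n), ← cj_C]
    exact conj_mem_cj _ ((hφ.fo n).le h1 h2 ((hφ.mem_fo n).2 ⟨τ, t, rfl⟩))
  have k1 := k _ (.inr (.inl rfl))
  have k2 := k _ (.inr (.inr (.inl rfl)))
  have k3 := k _ (.inr (.inr (.inr rfl)))
  rw [conj_dd] at k1 k2 k3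
  rcases r4 with ⟨r4, r5⟩ | ⟨r4, r5⟩ <;> rw [r2, r3, r4, r5] at k1 k2 k3
  · exact ⟨_, c', k1, k2⟩
  · exact ⟨_, c', by rwa [dd_swap] at k1, by rwa [dd_comm (by grind)] at k3⟩

theorem Good.exists_gf (h : Geo α P) (c : Good α P A B) (hC : P C) : ∃ χ : Perm α → G, GF P χ C := by
  obtain ⟨g, rfl⟩ := h.tr A C c.pA hC
  obtain ⟨φ, p, q, u, v, hφ, n, h1, h2⟩ := (c.conj h g).hAB
  exact ⟨φ, (c.conj h g).gf h hφ n h1 h2⟩

theorem GF.isD (h : GF P φ A) (t : T22 σ) : DD P (φ σ) := by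
  obtain ⟨p, q, u, v, n, rfl⟩ := t
  obtain ⟨B, c, h1, -⟩ := h.nb n
  exact ⟨(h.fr.fo n).a2, (h.fr.fo n).a1, B, c.pB, h1⟩

theorem GF.s4 (h : Geo α P) (f : GF P φ A) : S4 P := by
  have := h.n5
  obtain ⟨a, -⟩ := fresh ([] : List α) (by simp; omega)
  obtain ⟨b, hb⟩ := fresh [a] (by simp; omega)
  obtain ⟨i, hi⟩ := fresh [a, b] (by simp; omega)
  obtain ⟨j, hj⟩ := fresh [a, b, i] (by simp; omega)
  obtain ⟨B, c, -⟩ := f.nb (by grind : [a, b, i, j].Nodup)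
  exact c.s4 h

theorem v1_perm (h6 : 6 ≤ Fintype.card α) (n : [p, q, u, v].Nodup) (s : σ * σ = 1)
    (c1 : σ * dd p q u v = dd p q u v * σ) (c2 : σ * dd p u q v = dd p u q v * σ)
    (hp : σ p ≠ p) : ∃ η τ τ', Ev η ∧ Vf p q u v τ ∧ τ ≠ 1 ∧ η * τ = τ * η ∧
      Vf p q u v τ' ∧ τ' ≠ 1 ∧ η * σ * η⁻¹ * σ⁻¹ = τ' := by
  have k1 := Cfg.cq n s c1
  have k2 := Cfg.cq (by grind) s c2
  obtain ⟨x, y, hx, hy, xy, e⟩ := Cfg.inv_pair s [p, q, u, v] (fun z hz => by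
    have := sq_apply s z
    clear * - this hz k1; grind) h6
  clear c1 c2
  by_cases h1 : σ p = v
  · refine ⟨dd p q x y, dd p q u v, dd p q u v, ev_dd (by grind) xy, .inr (.inl rfl), dd_ne n, ?_,
      .inr (.inl rfl), dd_ne n, ?_⟩
    · ext z; simp only [dd, Perm.mul_apply]; grind (splits := 40)
    · rw [comm_dd (by grind)]
      ext z; simp only [dd, Perm.mul_apply]; grind (splits := 40)
  · refine ⟨dd q u x y, dd p v q u, dd p v q u, ev_dd (by grind) xy, .inr (.inr (.inr rfl)),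
      dd_ne (by grind), ?_, .inr (.inr (.inr rfl)), dd_ne (by grind), ?_⟩
    · ext z; simp only [dd, Perm.mul_apply]; grind (splits := 40)
    · rw [comm_dd (by grind)]
      ext z; simp only [dd, Perm.mul_apply]; grind (splits := 40)

theorem Geo.v1 (h : Geo α P) (h6 : 6 ≤ Fintype.card α) (hB : P B) (hφ : Fr φ A)
    (n : [p, q, u, v].Nodup) (h1 : φ (dd p q u v) ∈ C[B]) (h2 : φ (dd p u q v) ∈ C[B])
    (ht : t ∈ B) (t2 : t * t = 1) (a : Act φ t σ) : σ p = p := by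
  by_contra hp
  have f := hφ.fo n
  obtain ⟨η, τ, τ', e1, t1, t3, c, t4, t5, e⟩ := v1_perm h6 n (a.sq1 hφ h.n4 t2)
    (a.comm' hφ (ev_dd (by grind) (by grind)) (mem_C.1 h1 t ht))
    (a.comm' hφ (ev_dd (by grind) (by grind)) (mem_C.1 h2 t ht)) hp
  have m1 := (hφ.mem_fo n).2 ⟨τ, t1, rfl⟩
  have m2 := (hφ.mem_fo n).2 ⟨τ', t4, rfl⟩
  have hN := h.cN hB (f.le h1 h2 m1) (f.sq m1) (hφ.ne_one (t1.ev n) t3) (hφ.comm e1 (t1.ev n) c)
  refine hφ.ne_one (t4.ev n) t5 (h.inf_C hB ?_ (f.le h1 h2 m2))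
  rw [← e, a.commutator hφ e1]
  exact mul_mem (conj_mem hN ht) (inv_mem ht)

theorem GF.not_sw (h : Geo α P) (f : GF P φ A) (hw : w ∈ N[A]) (w2 : w * w = 1) :
    ∃ σ, Act φ w σ := by
  refine (f.fr.act_or_sw h.n5 hw).resolve_right fun s => ?_
  have hφ := f.fr
  have h6 := s.six hφ h.n5 hw
  obtain ⟨U, u1, -, u2⟩ := H23.TC.exists_syl_inv (H7.SJ.twoG_zp w2) (zpowers_le.2 hw)
    (isPi_bot {2}) bot_le (by rw [N_bot]; exact le_top)
  obtain ⟨z, z1, z2, z3, z4⟩ := H23.TC.two_cent1 (twoE_of_sq w2) u1.pi (u2 (mem_zpowers w)) (by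
    obtain ⟨a, -⟩ := fresh ([] : List α) (by simp; omega)
    obtain ⟨b, hb⟩ := fresh [a] (by simp; omega)
    obtain ⟨i, hi⟩ := fresh [a, b] (by simp; omega)
    obtain ⟨j, hj⟩ := fresh [a, b, i] (by simp; omega)
    have n : [a, b, i, j].Nodup := by grind
    obtain ⟨g, -, hg⟩ := H23.TC.conj_into u1 (hφ.mem (ev_dd (by grind) (by grind)))
      (twoE_of_sq (hφ.fo n).a2)
    rintro rfl
    exact H23.TC.conj_ne (hφ.fo n).a1 g hg)
  obtain ⟨σ, s1, rfl⟩ := hφ.surj (u1.le z1)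
  obtain ⟨p, q, u, v, n, rfl⟩ := t22_small (by omega) s1 (hφ.sq' s1 z4)
    (by rintro rfl; exact z3 hφ.one)
  obtain ⟨B, c, h1, h2⟩ := f.nb n
  obtain ⟨x, y, n6⟩ := six_fresh h6 n
  have hN := h.cN c.pB h1 z4 z3 z2
  have m := s.y_mem (K := C[B]) hφ h.n5 hw w2 n6 (by rw [z2]; group) (by
    have := mul_mem h2 (cC hN (inv_mem h2))
    simpa only [mul_assoc] using this)
  have e := hφ.y_sq n6
  exact z3 (e ▸ (c.s4 h).exp c.pB m (H23.TC.twoE_of_sq2 (e ▸ twoE_of_sq z4)))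

theorem Vf.t22 (n : [p, q, u, v].Nodup) (h : Vf p q u v σ) (h1 : σ ≠ 1) : T22 σ := by
  obtain ⟨q', u', v', n', e, -⟩ := h.cases n h1
  exact ⟨_, _, _, _, n', e⟩

/-- an involution centralising a natural four-group of `A` -/
theorem GF.cent_V (h : Geo α P) (al : Al α P) (f : GF P φ A) (n : [p, q, u, v].Nodup)
    (c : Good α P A B) (h1 : φ (dd p q u v) ∈ C[B]) (h2 : φ (dd p u q v) ∈ C[B]) (d : DD P w)
    (c1 : w * φ (dd p q u v) = φ (dd p q u v) * w) (c2 : w * φ (dd p u q v) = φ (dd p u q v) * w) :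
    w ∈ (f.fr.fo n).sub ∨ w ∈ B := by
  obtain ⟨w2, w1, C, hC, m⟩ := d
  by_cases e : C = B
  · exact .inl ((c.s4 h).mem' c.pB (f.fr.fo n) h1 h2 (e ▸ m) w2 c1 c2)
  · exact .inr ((h.adj al hC c.pB e ((f.fr.fo n).r2 ⟨h1, h.cN' hC m w2 w1 c1⟩
      ⟨h2, h.cN' hC m w2 w1 c2⟩)).symm.imem h m w2)

/-- `(Z*)` -/
theorem GF.zs (h : Geo α P) (al : Al α P) (f : GF P φ A) (d : DD P w) (hw : w ∈ N[A]) :
    w ∈ C[A] ∨ (∃ η, T22 η ∧ φ η = w) ∨ ∃ x y, x ≠ y ∧ Act φ w (swap x y) := by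
  have hφ := f.fr
  obtain ⟨σ, a⟩ := f.not_sw h hw d.1
  have s := a.sq1 hφ h.n4 d.1
  rcases inv_cases s with rfl | ⟨x, y, xy, rfl⟩ | ⟨x, y, n⟩
  · exact .inl (a.mem_C hφ)
  · exact .inr (.inr ⟨x, y, xy, a⟩)
  obtain ⟨B, c, h1, h2⟩ := f.nb n
  have k1 := sq_apply s x
  have k2 := sq_apply s y
  have c1 : σ * dd x (σ x) y (σ y) = dd x (σ x) y (σ y) * σ := by
    rw [← mul_inv_eq_iff_eq_mul, conj_dd, k1, k2, dd_swap, dd_swap']
  rcases f.cent_V h al n c h1 h2 d (a.comm (ev_dd (by grind) (by grind)) c1)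
    (a.comm (ev_dd (by grind) (by grind)) (by
      rw [← mul_inv_eq_iff_eq_mul, conj_dd, k1, k2, dd_comm (by grind)])) with m | m
  · obtain ⟨η, e1, rfl⟩ := (hφ.mem_fo n).1 m
    exact .inr (.inl ⟨η, e1.t22 n (by rintro rfl; exact d.2.1 hφ.one), rfl⟩)
  by_cases h5 : Fintype.card α = 5
  swap
  · have := h.n5
    exact absurd (h.v1 (by omega) c.pB hφ n h1 h2 m d.1 a) (by grind)
  have e : σ = dd x (σ x) y (σ y) := by
    obtain ⟨z, hz⟩ := fresh [x, σ x, y, σ y] (by simp [h5])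
    have hm := mem_of_card (l := [x, σ x, y, σ y, z]) (by grind) (by simp [h5])
    have a1 := hm (σ z)
    have a2 := sq_apply s z
    ext i
    have a3 := hm i
    clear * - a1 a2 a3 k1 k2 n hz
    simp only [dd, Perm.mul_apply]; grind (splits := 40)
  have v1 : Ev (dd x (σ x) y (σ y)) := ev_dd (by grind) (by grind)
  have f' := hφ.fo n
  have a' : Act φ w (dd x (σ x) y (σ y)) := e ▸ a
  have k3 := a'.mem_C' hφ (hφ.act v1)
  rw [inv_of_sq f'.a2] at k3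
  by_cases e' : w * φ (dd x (σ x) y (σ y)) = 1
  · exact .inr (.inl ⟨_, ⟨_, _, _, _, n, rfl⟩,
      by rw [eq_inv_of_mul_eq_one_left e', inv_of_sq f'.a2]⟩)
  · refine (c.diag5 h h5 hφ n h1 k3 (sq_mul d.1 f'.a2 (a'.comm v1 rfl)) e' ?_).elim
    rwa [mul_assoc, f'.a2, mul_one]

end H5.SA
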