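import Mathlib
import Cfsg.Agent.H5.SA4

/-!
# Standard alternating subgroups: the extra generator
-/

set_option autoImplicit false
set_option linter.unusedSectionVars false
set_option linter.unusedVariables false

namespace H5.SA

open Cfsg H24 H26 H26.Gold Subgroup Equiv Equiv.Perm
open H23.TC (R2 sq_mul mem_syl)

universe u

variable {G : Type u} [Group G] [Finite G] {α : Type} [Fintype α] [DecidableEq α]
  {φ ψ χ : Perm α → G} {A B C K : Subgroup G} {g k r s t w z : G} {σ τ ρ η : Perm α}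
  {a b c d e f i j l p q u v x y : α} {P : Subgroup G → Prop}

/-- one side of an adjacent pair -/
structure Sd (P : Subgroup G → Prop) (φ : Perm α → G) (A B : Subgroup G) (p q u v : α) : Prop where
  gf : GF P φ A
  c : Good α P A B
  n : [p, q, u, v].Nodup
  m1 : φ (dd p q u v) ∈ C[B]
  m2 : φ (dd p u q v) ∈ C[B]

theorem GF.sd (f : GF P φ A) (n : [p, q, u, v].Nodup) : ∃ B, Sd P φ A B p q u v := by
  obtain ⟨B, c, h1, h2⟩ := f.nb n
  exact ⟨B, f, c, n, h1, h2⟩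

theorem Good.sd (h : Geo α P) (c : Good α P A B) :
    ∃ (φ : Perm α → G) (p q u v : α), Sd P φ A B p q u v := by
  obtain ⟨φ, p, q, u, v, hφ, n, h1, h2⟩ := c.hAB
  exact ⟨φ, p, q, u, v, c.gf h hφ n h1 h2, c, n, h1, h2⟩

theorem Sd.vf (S : Sd P φ A B p q u v) (h : Vf p q u v σ) : φ σ ∈ C[B] :=
  (S.gf.fr.fo S.n).le S.m1 S.m2 ((S.gf.fr.mem_fo S.n).2 ⟨σ, h, rfl⟩)

theorem Sd.perm (S : Sd P φ A B p q u v) (n : [a, b, c, d].Nodup) (h1 : a ∈ [p, q, u, v])
    (h2 : b ∈ [p, q, u, v]) (h3 : c ∈ [p, q, u, v]) (h4 : d ∈ [p, q, u, v]) : Sd P φ A B a b c d :=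
  ⟨S.gf, S.c, n, S.vf (vf_of_mem n S.n h1 h2 h3 h4), S.vf (vf_of_mem (by grind) S.n h1 h3 h2 h4)⟩

theorem Act.not_mem (hφ : Fr φ A) (h4 : 4 ≤ Fintype.card α) (hxy : x ≠ y)
    (a : Act φ t (swap x y)) : t ∉ A := fun ht => by
  obtain ⟨σ, s1, rfl⟩ := hφ.surj ht
  exact odd_swap hxy ((hφ.act s1).uniq hφ h4 a ▸ s1)

theorem Act.not_mem_C (hφ : Fr φ A) (h4 : 4 ≤ Fintype.card α) (hxy : x ≠ y)
    (a : Act φ t (swap x y)) : t ∉ C[A] := fun ht =>
  odd_swap hxy (a.eq_one hφ h4 ht ▸ Ev.one)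

theorem GF.tr (h : Geo α P) (al : Al α P) (f : GF P φ A) (d : DD P w) (hw : w ∈ N[A])
    (h1 : w ∉ C[A]) (h2 : w ∉ A) : ∃ x y, x ≠ y ∧ Act φ w (swap x y) :=
  ((f.zs h al d hw).resolve_left h1).resolve_left fun ⟨η, t, e⟩ => h2 (e ▸ f.fr.mem t.ev)

theorem swap_V (n : [p, q, u, v].Nodup) (hxy : x ≠ y)
    (h1 : swap x y * dd p q u v = dd p q u v * swap x y)
    (h2 : swap x y * dd p u q v = dd p u q v * swap x y) :
    x ∉ [p, q, u, v] ∧ y ∉ [p, q, u, v] := by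
  have a1 := comm_apply h1 x
  have a2 := comm_apply h2 x
  have a3 := comm_apply h1 y
  have a4 := comm_apply h2 y
  simp only [dd, Perm.mul_apply] at a1 a2 a3 a4
  clear h1 h2
  grind (splits := 40)

theorem Sd.side (h : Geo α P) (al : Al α P) (S : Sd P φ A B p q u v) (S' : Sd P ψ B A a b c d)
    (n : [a, b, c, d, i, j].Nodup) :
    ∃ x y, [p, q, u, v, x, y].Nodup ∧ Act φ (ψ (dd a b i j)) (swap x y) := by
  have hψ := S'.gf.fr
  have f := hψ.fo S'.n
  have e0 : Ev (dd a b i j) := ev_dd (by grind) (by grind)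
  have e1 : Ev (dd a b c d) := ev_dd (by grind) (by grind)
  have e2 : Ev (dd a c b d) := ev_dd (by grind) (by grind)
  have t2 := hψ.sq e0 (dd_sq (by grind))
  have c1 : ψ (dd a b i j) * ψ (dd a b c d) = ψ (dd a b c d) * ψ (dd a b i j) :=
    hψ.comm e0 e1 (by ext z; simp only [dd, Perm.mul_apply]; grind (splits := 40))
  have c2 : ψ (dd a b i j) * ψ (dd a c b d) ≠ ψ (dd a c b d) * ψ (dd a b i j) := fun e => by
    have := comm_apply (hψ.comm' e0 e2 e) a
    simp only [dd, Perm.mul_apply] at this; grind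
  obtain ⟨x, y, xy, a1⟩ := S.gf.tr h al (S'.gf.isD ⟨a, b, i, j, by grind, rfl⟩)
    (h.cN S.c.pA S'.m1 f.a2 f.a1 c1) (fun m => c2 (f.comm ((S.c.s4 h).mem S.c.pA f S'.m1 S'.m2 m
      (twoE_of_sq t2) (by rw [c1]; simpa using f.mem_a) (by
        rw [hψ.conj e0 e2]
        refine (hψ.mem_fo S'.n).2 ⟨_, .inr (.inr (.inr ?_)), rfl⟩
        rw [conj_dd]
        ext z; simp only [dd, Perm.mul_apply]; grind (splits := 40))) f.mem_b))
    fun m => c2 (mem_C.1 S'.m2 _ m)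
  have n' := S.n
  obtain ⟨k1, k2⟩ := swap_V S.n xy
    (a1.comm' S.gf.fr (ev_dd (by grind) (by grind)) (mem_C.1 S.m1 _ (hψ.mem e0)))
    (a1.comm' S.gf.fr (ev_dd (by grind) (by grind)) (mem_C.1 S.m2 _ (hψ.mem e0)))
  exact ⟨x, y, by grind, a1⟩

theorem Sd.exists_t (h : Geo α P) (al : Al α P) (h6 : 6 ≤ Fintype.card α)
    (S : Sd P φ A B p q u v) (S' : Sd P ψ B A a b c d) :
    ∃ x y x' y', [p, q, u, v, x, y].Nodup ∧ [a, b, c, d, x', y'].Nodup ∧
      DD P (ψ (dd a b x' y') * φ (dd p q x y)) ∧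
      Act φ (ψ (dd a b x' y') * φ (dd p q x y)) (swap p q) ∧
      Act ψ (ψ (dd a b x' y') * φ (dd p q x y)) (swap a b) := by
  have hφ := S.gf.fr
  have hψ := S'.gf.fr
  obtain ⟨x', hx⟩ := fresh [a, b, c, d] (by simp; omega)
  obtain ⟨y', hy⟩ := fresh [a, b, c, d, x'] (by simp; omega)
  have n0 := S'.n
  have n' : [a, b, c, d, x', y'].Nodup := by grind
  obtain ⟨x, y, n, a1⟩ := S.side h al S' n'
  obtain ⟨i, j, n2, a2⟩ := S'.side h al S n
  have e1 : Ev (dd p q x y) := ev_dd (by grind) (by grind)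
  have e2 : Ev (dd a b x' y') := ev_dd (by grind) (by grind)
  have c1 : ψ (dd a b x' y') * φ (dd p q x y) = φ (dd p q x y) * ψ (dd a b x' y') :=
    a1.comm e1 (by clear * - n; ext z; simp only [dd, Perm.mul_apply]; grind (splits := 40))
  have a3 : Act φ (ψ (dd a b x' y') * φ (dd p q x y)) (swap p q) := by
    convert a1.mul (hφ.act e1) using 1
    clear * - n; ext z; simp only [dd, Perm.mul_apply]; grind (splits := 40)
  have a4 := (hψ.act e2).mul a2
  have k : swap i j = swap x' y' := by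
    by_contra hc
    have c2 := comm_apply (a2.comm' hψ e2 c1.symm)
    have n3 : [a, b, c, d, x', y', i, j].Nodup := by
      have b1 := c2 i
      have b2 := c2 j
      have b3 : ¬ (i = x' ∧ j = y') := by rintro ⟨rfl, rfl⟩; exact hc rfl
      have b4 : ¬ (i = y' ∧ j = x') := by rintro ⟨rfl, rfl⟩; exact hc (swap_comm _ _)
      simp only [dd, Perm.mul_apply] at b1 b2
      clear * - b1 b2 b3 b4 n' n2; grind (splits := 40)
    obtain ⟨k, l, n4, a5⟩ := S.side h al S' (i := x') (j := j) (by clear * - n3; grind)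
    have e3 : Ev (dd a b x' j) := ev_dd (by grind) (by grind)
    have e4 : Ev (dd a b y' i) := ev_dd (by grind) (by grind)
    have a6 := a3.conj a5
    rw [a4 _ e3, conj_swap, conj_dd, show swap p q k = k by clear * - n4; grind,
      show swap p q l = l by clear * - n4; grind, show dd _ _ _ _ = dd a b y' i by
        rw [← dd_swap]; clear * - n3
        congr 1 <;> simp only [dd, Perm.mul_apply] <;> grind] at a6
    have m := a5.mem_C' hφ a6
    rw [← hψ.inv e4, ← hψ.mul e3 e4.inv, dd_inv (by clear * - n3; grind),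
      show dd a b x' j * dd a b y' i = dd x' j y' i by
        clear * - n3; ext z; simp only [dd, Perm.mul_apply]; grind (splits := 40)] at m
    have e5 : Ev (dd x' j y' i) := ev_dd (by grind) (by grind)
    obtain ⟨τ, t1, t2⟩ := (hψ.mem_fo n0).1 ((S.c.s4 h).mem' S.c.pA (hψ.fo n0) S'.m1 S'.m2 m
      (hψ.sq e5 (dd_sq (by clear * - n3; grind))) (hψ.comm e5 (ev_dd (by grind) (by grind)) (by
        clear * - n3; ext z; simp only [dd, Perm.mul_apply]; grind (splits := 40)))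
      (hψ.comm e5 (ev_dd (by grind) (by grind)) (by
        clear * - n3; ext z; simp only [dd, Perm.mul_apply]; grind (splits := 40))))
    have := congrArg (· x') (hψ.inj (t1.ev n0) e5 t2)
    clear * - this t1 n3
    rcases t1 with rfl | rfl | rfl | rfl <;>
      simp only [dd, Perm.mul_apply, Perm.one_apply] at this <;> grind
  refine ⟨x, y, x', y', n, n', ?_, a3, ?_⟩
  · have e3 : Ev (dd p x q y) := ev_dd (by grind) (by grind)
    convert (S'.gf.isD ⟨a, b, x', y', by grind, rfl⟩).conj h (φ (dd p x q y)) using 1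
    rw [c1, eq_comm, ← mul_inv_eq_iff_eq_mul, ← a1.commutator hφ e3, comm_dd (by grind)]
    congr 1
    clear * - n; ext z; simp only [dd, Perm.mul_apply]; grind (splits := 40)
  · convert a4 using 1
    rw [k, dd, mul_assoc, swap_mul_self, mul_one]

theorem Sd.star (h : Geo α P) (al : Al α P) (S : Sd P φ A B p q u v) (f : GF P χ C)
    (ht : t ∈ C[C]) (t2 : t * t = 1) (a : Act φ t (swap p q)) (n : [p, q, i, j].Nodup) :
    ∃ x y, x ≠ y ∧ Act χ (φ (dd p q i j)) (swap x y) := by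
  have hφ := S.gf.fr
  have n0 := S.n
  have pq : p ≠ q := by grind
  have tA := a.not_mem hφ h.n4 pq
  have t1 : t ≠ 1 := by rintro rfl; exact tA (one_mem _)
  have fo := hφ.fo n0
  obtain ⟨ρ, r1, r2, r3, r4⟩ := dd_conj_ev n0 n
  have e : φ ρ * φ (dd p q u v) * (φ ρ)⁻¹ = φ (dd p q i j) := by
    rw [hφ.conj r1 (ev_dd (by grind) (by grind)), conj_dd, r2, r3]
    rcases r4 with ⟨r4, r5⟩ | ⟨r4, r5⟩ <;> rw [r4, r5]
    rw [dd_swap]
  have hN : φ ρ ∈ N[C] := h.cN' f.pA ht t2 t1 (a.comm r1 (by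
    rw [eq_comm, ← mul_inv_eq_iff_eq_mul, conj_swap]
    rcases r4 with ⟨r4, r5⟩ | ⟨r4, r5⟩ <;> rw [r4, r5]
    rw [swap_comm]))
  refine f.tr h al (S.gf.isD ⟨p, q, i, j, n, rfl⟩) (h.cN' f.pA ht t2 t1 (a.comm
    (ev_dd pq (by grind)) (by
      clear * - n; ext z; simp only [dd, Perm.mul_apply]; grind (splits := 40)))) ?_ ?_
  · rw [← e, conj_mem_iff (N_le_NC _ hN)]
    intro m
    exact tA (S.c.imem h (h.te _ _ _ f.pA S.c.pB m S.m1 fo.a2 fo.a1 ▸ ht) t2)
  · rw [← e, conj_mem_iff hN]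
    intro m
    have := comm_apply (a.comm' hφ (ev_dd (by grind) (by grind)) (mem_C'.1 ht _
      ((h.good_inv f.pA S.c.pB m S.m1 fo.a2 fo.a1).imem h S.m2 fo.b2))) p
    clear * - this n0
    simp only [dd, Perm.mul_apply] at this; grind

theorem Geo.utrick (h : Geo α P) (al : Al α P) (hA : P A) (f : GF P χ C) (ht : t ∈ C[C])
    (t2 : t * t = 1) (tA : t ∉ A) (tC : t ∉ C[A]) (hr : r ∈ C[A]) (r2 : r * r = 1) (r1 : r ≠ 1)
    (rt : r * t = t * r) (ho : ¬ Ev τ) (ar : Act χ r τ) (hs : s ∈ A) (s2 : s * s = 1)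
    (st : s * t = t * s) (ho' : ¬ Ev σ) (as : Act χ s σ) :
    χ (σ * τ) = s * r ∨ χ (σ * τ) = s * r * t := by
  have hχ := f.fr
  have e := ev_odd ho' ho
  have sr := mem_C.1 hr s hs
  have c := as.comm2 hχ h.n4 ar sr
  have u2 := hχ.sq e (sq_mul (as.sq1 hχ h.n4 s2) (ar.sq1 hχ h.n4 r2) c)
  have k1 := (as.mul ar).mem_C' hχ (hχ.act e)
  have c1 := (as.mul ar).comm e rfl
  have c2 := ar.comm e (by rw [← mul_assoc, ← c])
  have c3 := mem_C'.1 ht _ (hχ.mem e)
  rw [inv_of_sq u2] at k1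
  generalize χ (σ * τ) = u at *
  have k2 := sq_mul (sq_mul s2 r2 sr) u2 c1
  have k3 : s * r = (s * r)⁻¹ := (inv_of_sq (sq_mul s2 r2 sr)).symm
  by_cases e1 : s * r * u = 1
  · exact .inl (by rw [k3]; exact eq_inv_of_mul_eq_one_right e1)
  by_cases e2 : t = s * r * u
  · exact .inr (by rw [e2, ← mul_assoc, sq_mul s2 r2 sr, one_mul])
  have t1 : t ≠ 1 := by rintro rfl; exact tA (one_mem _)
  have fo : Fo t (s * r * u) := ⟨t2, k2, t1, e1, e2,
    (Commute.mul_right (Commute.mul_right st.symm rt.symm) c3 : Commute t _)⟩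
  refine (tA ((h.adj al hA f.pA (by rintro rfl; exact tC ht) (fo.r2 ⟨ht, h.cN' hA hr r2 r1 rt⟩
    ⟨k1, h.cN' hA hr r2 r1 ?_⟩)).imem h ht t2)).elim
  exact (Commute.mul_right (Commute.mul_right sr.symm rfl) c2 : Commute r _)

/-- the data of an involution `t ∈ D` acting as a transposition on two adjacent points -/
structure Tp (P : Subgroup G → Prop) (φ ψ χ : Perm α → G) (A B C : Subgroup G) (t : G)
    (p q u v a b c d : α) : Prop where
  S : Sd P φ A B p q u v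
  S' : Sd P ψ B A a b c d
  f : GF P χ C
  ht : t ∈ C[C]
  t2 : t * t = 1
  a1 : Act φ t (swap p q)
  a2 : Act ψ t (swap a b)

theorem Tp.symm (T : Tp P φ ψ χ A B C t p q u v a b c d) : Tp P ψ φ χ B A C t a b c d p q u v :=
  ⟨T.S', T.S, T.f, T.ht, T.t2, T.a2, T.a1⟩

theorem Tp.uu (h : Geo α P) (al : Al α P) (T : Tp P φ ψ χ A B C t p q u v a b c d)
    (ho : ¬ Ev τ) (ar : Act χ (ψ (dd a b c d)) τ) (n : [p, q, i, j].Nodup) (ho' : ¬ Ev σ)
    (as : Act χ (φ (dd p q i j)) σ) : χ (σ * τ) = φ (dd p q i j) * ψ (dd a b c d) ∨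
      χ (σ * τ) = φ (dd p q i j) * ψ (dd a b c d) * t := by
  have hφ := T.S.gf.fr
  have n' := T.S'.n
  have fo := T.S'.gf.fr.fo n'
  have e : Ev (dd p q i j) := ev_dd (by grind) (by grind)
  exact h.utrick al T.S.c.pA T.f T.ht T.t2 (T.a1.not_mem hφ h.n4 (by grind))
    (T.a1.not_mem_C hφ h.n4 (by grind)) T.S'.m1 fo.a2 fo.a1 (T.a2.comm (ev_dd (by grind) (by grind))
      (by clear * - n'; ext z; simp only [dd, Perm.mul_apply]; grind (splits := 40))).symm ho ar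
    (hφ.mem e) (hφ.fo n).a2 (T.a1.comm e
      (by clear * - n; ext z; simp only [dd, Perm.mul_apply]; grind (splits := 40))).symm ho' as

theorem Tp.c3 (h : Geo α P) (al : Al α P) (T : Tp P φ ψ χ A B C t p q u v a b c d)
    (n : [p, q, i, j, l].Nodup) (ho : ¬ Ev σ) (a1 : Act χ (φ (dd p q i j)) σ) (ho' : ¬ Ev τ)
    (a2 : Act χ (φ (dd p q i l)) τ) : φ (cy i j l) = χ (σ * τ) := by
  have hφ := T.S.gf.fr
  have hχ := T.f.fr
  have n' := T.S'.n
  obtain ⟨x, y, xy, ar⟩ := T.S'.star h al T.f T.ht T.t2 T.a2 n'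
  have e1 : Ev (dd p q i j) := ev_dd (by grind) (by grind)
  have e2 : Ev (dd p q i l) := ev_dd (by grind) (by grind)
  have e3 : φ (dd p q i j) * φ (dd p q i l) = φ (cy i j l) := by
    rw [← hφ.mul e1 e2]; congr 1
    clear * - n; ext z; simp only [dd, cy, Perm.mul_apply]; grind (splits := 40)
  have e4 : Ev (cy i j l) := ev_cy (by grind) (by grind)
  have e5 : φ (cy i j l) * φ (cy i j l) * φ (cy i j l) = 1 := by
    rw [← hφ.mul e4 e4, ← hφ.mul (e4.mul e4) e4, cy_cube (by grind), hφ.one]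
  have m1 := hχ.mem (ev_odd ho (odd_swap xy))
  have m2 := hχ.mem (ev_odd ho' (odd_swap xy))
  have r2 := (T.S'.gf.fr.fo n').a2
  have c1 : Commute (ψ (dd a b c d)) (φ (dd p q i l)) := mem_C'.1 T.S'.m1 _ (hφ.mem e2)
  have c2 : Commute t (φ (dd p q i l)) := T.a1.comm e2
    (by clear * - n; ext z; simp only [dd, Perm.mul_apply]; grind (splits := 40))
  have c3 : Commute t (ψ (dd a b c d)) := T.a2.comm (ev_dd (by grind) (by grind))
    (by clear * - n'; ext z; simp only [dd, Perm.mul_apply]; grind (splits := 40))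
  have c4 : Commute t (φ (cy i j l)) := T.a1.comm e4
    (by clear * - n; ext z; simp only [cy, Perm.mul_apply]; grind (splits := 40))
  have t2 := T.t2
  have k : φ (cy i j l) ∈ C ∨ φ (cy i j l) * t ∈ C := by
    have k0 : ∀ w, Commute w (φ (dd p q i l)) → φ (dd p q i j) * w * (φ (dd p q i l) * w⁻¹) =
        φ (cy i j l) := fun w cw => by
      rw [← e3, mul_assoc, ← mul_assoc w, cw.eq]; group
    have k1 := k0 _ c1
    have k2 := k0 _ (c1.mul_left c2)
    rw [inv_of_sq r2] at k1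
    rw [inv_of_sq (sq_mul r2 t2 c3.symm), ← mul_assoc (φ (dd p q i j)),
      ← mul_assoc (φ (dd p q i l))] at k2
    rcases T.uu h al (odd_swap xy) ar (by grind) ho a1 with u1 | u1 <;>
      rcases T.uu h al (odd_swap xy) ar (by grind) ho' a2 with u2 | u2 <;> rw [u1] at m1 <;>
      rw [u2] at m2
    · exact .inl (k1 ▸ mul_mem m1 m2)
    · exact .inr (by rw [← k1, mul_assoc]; exact mul_mem m1 m2)
    · refine .inr ?_
      rw [← k2, mul_assoc, mul_assoc _ t t, t2, mul_one]; exact mul_mem m1 m2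
    · exact .inl (k2 ▸ mul_mem m1 m2)
  have k' : φ (cy i j l) ∈ C := by
    refine k.elim id fun k => ?_
    have := mul_mem k k
    rw [mul_assoc, ← mul_assoc t, c4.eq, mul_assoc, t2, mul_one] at this
    rw [eq_inv_of_mul_eq_one_right e5]
    exact inv_mem this
  obtain ⟨η, h1, h2⟩ := hχ.surj k'
  rw [← h2, (hχ.act h1).uniq hχ h.n4 (by rw [h2, ← e3]; exact a1.mul a2)]

theorem swap_cube (ef : e ≠ f) (xy : x ≠ y)
    (h3 : swap e f * swap x y * (swap e f * swap x y) * (swap e f * swap x y) = 1)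
    (h1 : swap e f * swap x y ≠ 1) :
    ∃ g, g ≠ e ∧ g ≠ f ∧ (swap x y = swap e g ∨ swap x y = swap f g) := by
  have a1 := cube_apply h3 e
  have a2 : ¬ (x = e ∧ y = f) := by rintro ⟨rfl, rfl⟩; exact h1 (swap_mul_self _ _)
  have a3 : ¬ (x = f ∧ y = e) := by
    rintro ⟨rfl, rfl⟩; exact h1 (by rw [swap_comm, swap_mul_self])
  simp only [Perm.mul_apply] at a1
  obtain a | a | a | a : x = e ∨ x = f ∨ y = e ∨ y = f := by
    clear h1 h3; grind (splits := 40)
  · exact ⟨y, by grind, by grind, .inl (by rw [a])⟩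
  · exact ⟨y, by grind, by grind, .inr (by rw [a])⟩
  · exact ⟨x, by grind, by grind, .inl (by rw [a, swap_comm])⟩
  · exact ⟨x, by grind, by grind, .inr (by rw [a, swap_comm])⟩

theorem Tp.c3' (h : Geo α P) (al : Al α P) (T : Tp P φ ψ χ A B C t p q u v a b c d)
    (n : [p, q, i, j, l].Nodup) (ef : e ≠ f) (a1 : Act χ (φ (dd p q i j)) (swap e f)) :
    ∃ g, g ≠ e ∧ g ≠ f ∧ (Act χ (φ (dd p q i l)) (swap e g) ∧ φ (cy i j l) = χ (cy e f g) ∨
      Act χ (φ (dd p q i l)) (swap f g) ∧ φ (cy i j l) = χ (cy f e g)) := by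
  obtain ⟨x, y, xy, a2⟩ := T.S.star h al T.f T.ht T.t2 T.a1 (i := i) (j := l) (by grind)
  have k := T.c3 h al n (odd_swap ef) a1 (odd_swap xy) a2
  have hφ := T.S.gf.fr
  have hχ := T.f.fr
  have e1 := ev_odd (odd_swap ef) (odd_swap xy)
  have e4 : Ev (cy i j l) := ev_cy (by grind) (by grind)
  obtain ⟨g, g1, g2, g3 | g3⟩ := swap_cube ef xy (hχ.eq_one ((e1.mul e1).mul e1) (by
    rw [hχ.mul (e1.mul e1) e1, hχ.mul e1 e1, ← k, ← hφ.mul e4 e4, ← hφ.mul (e4.mul e4) e4,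
      cy_cube (by grind), hφ.one])) fun e => hφ.ne_one e4 (cy_ne (by grind)) (by rw [k, e, hχ.one])
  · exact ⟨g, g1, g2, .inl ⟨g3 ▸ a2, by rw [k, g3]; rfl⟩⟩
  · exact ⟨g, g1, g2, .inr ⟨g3 ▸ a2, by rw [k, g3, swap_comm e f]; rfl⟩⟩

theorem cy_sq (n : [a, b, i, j].Nodup) : (cy a b i * cy a b j) ^ 2 = 1 := by
  ext z; simp only [pow_two, cy, Perm.mul_apply, Perm.one_apply]; grind (splits := 40)

theorem Fr.cy_sq (hφ : Fr φ A) (n : [a, b, i, j].Nodup) : (φ (cy a b i) * φ (cy a b j)) ^ 2 = 1 := by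
  have e1 : Ev (cy a b i) := ev_cy (by grind) (by grind)
  have e2 : Ev (cy a b j) := ev_cy (by grind) (by grind)
  rw [← hφ.mul e1 e2, ← hφ.pow (e1.mul e2), H5.SA.cy_sq n, hφ.one]

theorem Fr.cy_cube (hφ : Fr φ A) (n : [a, b, i].Nodup) : φ (cy a b i) ^ 3 = 1 := by
  rw [← hφ.pow (ev_cy (by grind) (by grind)), pow_three', H5.SA.cy_cube n, hφ.one]

theorem cy_inv (a b c : α) : (cy a b c)⁻¹ = cy a c b := by simp only [cy, mul_inv_rev, swap_inv]

theorem cy_inv' (n : [a, b, c].Nodup) : (cy a b c)⁻¹ = cy b a c := by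
  rw [cy_inv, ← cy_rot (by grind)]

theorem sq_conj (h : (s * z) ^ 2 = 1) (hg : g * z = z * g) : (g * s * g⁻¹ * z) ^ 2 = 1 := by
  rw [show g * s * g⁻¹ * z = g * (s * z) * g⁻¹ by
    rw [mul_assoc (g * s), ← (Commute.inv_left hg).eq.symm]; group, conj_pow, h]; group

/-- the data needed to build the larger alternating group -/
def Asm (φ : Perm α → G) (A B : Subgroup G) : Prop :=
  ∃ (x y : α) (z r s : G) (f : Fo r s), x ≠ y ∧ f.sub ≤ C[A] ∧ f.sub ≤ B ∧ z ∈ A ⊔ B ∧ z ^ 3 = 1 ∧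
    (∀ i, i ≠ x → i ≠ y → (φ (cy x y i) * z) ^ 2 = 1) ∧
    ∀ w ∈ f.sub, w ≠ 1 → (z * (w * z * w⁻¹)) ^ 2 = 1

theorem Tp.asm6 (h : Geo α P) (al : Al α P) (T : Tp P φ ψ χ A B C t p q u v a b c d) {x' y' g0 g' : α}
    (n : [p, q, u, v, x, y].Nodup) (n' : [a, b, c, d, x', y'].Nodup) (ef : e ≠ f)
    (a1 : Act χ (φ (dd p q x y)) (swap e f)) (n0 : [e, f, g0].Nodup)
    (e0 : φ (cy x y u) = χ (cy e f g0)) (n1 : [e, f, g'].Nodup)
    (e1 : ψ (cy x' y' c) = χ (cy e f g')) : Asm φ A B := by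
  have hφ := T.S.gf.fr
  have hψ := T.S'.gf.fr
  have hχ := T.f.fr
  have v0 : Ev (cy x' y' c) := ev_cy (by grind) (by grind)
  have fo := hψ.fo T.S'.n
  have k1 : ∀ i, [p, q, x, y, i].Nodup → (φ (cy x y i) * ψ (cy x' y' c)) ^ 2 = 1 := by
    intro i ni
    have v1 : Ev (cy x y i) := ev_cy (by grind) (by grind)
    obtain ⟨g, g1, e2⟩ : ∃ g, [e, f, g].Nodup ∧ φ (cy x y i) = χ (cy e f g) := by
      by_cases iu : i = u
      · exact ⟨g0, n0, iu ▸ e0⟩
      obtain ⟨g, g1, g2, ⟨-, e2⟩ | ⟨-, e2⟩⟩ := T.c3' h al ni ef a1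
      · exact ⟨g, by grind, e2⟩
      exfalso
      have v2 : Ev (cy e f g0) := ev_cy (by grind) (by grind)
      have v3 : Ev (cy f e g) := ev_cy (by grind) (by grind)
      have v4 : Ev (cy x y u) := ev_cy (by grind) (by grind)
      have k2 := hφ.cy_sq (a := x) (b := y) (i := u) (j := i) (by grind)
      rw [e0, e2, ← hχ.mul v2 v3, pow_two] at k2
      have k3 := sq_apply (hχ.sq' (v2.mul v3) k2) g0
      have : g = g0 := by
        clear * - k3 n0 g1 g2
        simp only [cy, Perm.mul_apply] at k3; grind (splits := 40)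
      rw [this, ← cy_inv' n0, hχ.inv v2, ← e0, ← hφ.inv v4] at e2
      have := congrArg (· x) (hφ.inj v1 v4.inv e2)
      rw [cy_inv] at this
      clear * - this ni n
      simp only [cy, Perm.mul_apply] at this; grind
    rw [e2, e1]
    refine hχ.cy_sq (by_contra fun hc => ?_)
    have : g = g' := by clear * - hc g1 n1; grind
    rw [this, ← e1] at e2
    have := comm_apply (hψ.comm' v0 (ev_dd (by grind) (by grind))
      (mem_C.1 T.S'.m2 _ (e2 ▸ hφ.mem v1))) c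
    clear * - this n'
    simp only [dd, cy, Perm.mul_apply] at this; grind
  have v2 : Ev (dd p u q v) := ev_dd (by grind) (by grind)
  have c2 := mem_C'.1 T.S.m2 _ (hψ.mem v0)
  refine ⟨x, y, ψ (cy x' y' c), _, _, fo, by grind, fo.le T.S'.m1 T.S'.m2,
    fo.le (hψ.mem (ev_dd (by grind) (by grind))) (hψ.mem (ev_dd (by grind) (by grind))),
    mem_sup_right (hψ.mem v0), hψ.cy_cube (by grind), fun i i1 i2 => ?_, fun w hw w1 => ?_⟩
  · by_cases ip : i = p
    · convert sq_conj (k1 u (by grind)) c2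
      rw [hφ.conj v2 (ev_cy (by grind) (by grind)), conj_cy, ip]
      clear * - n
      congr 2 <;> simp only [dd, Perm.mul_apply] <;> grind
    by_cases iq : i = q
    · convert sq_conj (k1 v (by grind)) c2
      rw [hφ.conj v2 (ev_cy (by grind) (by grind)), conj_cy, iq]
      clear * - n
      congr 2 <;> simp only [dd, Perm.mul_apply] <;> grind
    exact k1 i (by grind)
  · obtain ⟨τ, t1, rfl⟩ := (hψ.mem_fo T.S'.n).1 hw
    rw [hψ.conj (t1.ev T.S'.n) v0, conj_cy]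
    have : τ x' = x' ∧ τ y' = y' ∧ [x', y', c, τ c].Nodup := by
      rcases t1 with rfl | rfl | rfl | rfl
      · exact absurd hψ.one w1
      all_goals clear * - n'; simp only [dd, Perm.mul_apply]; grind
    rw [this.1, this.2.1]
    exact hψ.cy_sq this.2.2

theorem Sd.asm6 (h : Geo α P) (al : Al α P) (h6 : 6 ≤ Fintype.card α) (S : Sd P φ A B p q u v) :
    Asm φ A B := by
  obtain ⟨ψ, a, b, c, d, S'⟩ := S.c.symm.sd h
  obtain ⟨x, y, x', y', n, n', ⟨t2, t1, C, hC, ht⟩, a1, a2⟩ := S.exists_t h al h6 S'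
  obtain ⟨χ, f⟩ := S.c.exists_gf h hC
  have T : Tp P φ ψ χ A B C _ p q u v a b c d := ⟨S, S', f, ht, t2, a1, a2⟩
  obtain ⟨e, e', ee, a3⟩ := S.star h al f ht t2 a1 (i := x) (j := y) (by grind)
  have key : ∀ e e' g0, e ≠ e' → Act χ (φ (dd p q x y)) (swap e e') → [e, e', g0].Nodup →
      φ (cy x y u) = χ (cy e e' g0) → Asm φ A B := by
    intro e e' g0 ee a3 n0 e0
    have a4 : Act χ (ψ (dd a b x' y')) (swap e e') := by
      simpa using (Act.of_mem_C f.fr ht).mul a3.inv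
    obtain ⟨g, g1, g2, ⟨-, e2⟩ | ⟨-, e2⟩⟩ := T.symm.c3' h al (l := c) (by grind) ee a4
    · exact T.asm6 h al n n' ee a3 n0 e0 (by grind) e2
    · refine T.asm6 (x' := y') (y' := x') (g' := g) h al n (by grind) ee a3 n0 e0 (by grind) ?_
      rw [← cy_inv' (by grind), S'.gf.fr.inv (ev_cy (by grind) (by grind)), e2,
        ← f.fr.inv (ev_cy ee.symm g2.symm), cy_inv' (by grind)]
  obtain ⟨g, g1, g2, ⟨-, e2⟩ | ⟨-, e2⟩⟩ := T.c3' h al (l := u) (by grind) ee a3
  · exact key e e' g ee a3 (by grind) e2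
  · exact key e' e g ee.symm (swap_comm e e' ▸ a3) (by grind) e2

theorem Sd.h5 (h : Geo α P) (h5 : Fintype.card α = 5) (S : Sd P φ A B p q u v) :
    φ (cy q v u) ∈ C[B] := by
  obtain ⟨ψ, a, b, c, d, hψ, n', k1, k2⟩ := S.c.hBA
  have hφ := S.gf.fr
  have n := S.n
  have fo := hφ.fo n
  have fo' := hψ.fo n'
  have m := hφ.mem (σ := cy q v u) (ev_cy (by grind) (by grind))
  have l1 := fo'.le (hψ.mem (ev_dd (by grind) (by grind))) (hψ.mem (ev_dd (by grind) (by grind)))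
  obtain ⟨x, x1, x2⟩ := h.cent5 h5 hψ fo' (norm_self _ (l1 fo'.mem_a)) (norm_self _ (l1 fo'.mem_b))
    (h.cjN S.c.pB S.m1 fo.a2 fo.a1 ((fr_h hφ n).1 ▸ S.m2))
    (fun x hx hc => h.inf_C S.c.pB (l1 hx) hc) (mem_C.1 k1 _ m) (mem_C.1 k2 _ m)
  have c : Commute (φ (cy q v u)) x := mem_C.1 (fo'.le k1 k2 x1) _ m
  have := pow_mem x2 3
  rw [c.mul_pow, hφ.cy_cube (by grind), one_mul, pow_three', fo'.sq x1, one_mul] at this
  rwa [h.inf_C S.c.pB (l1 x1) this, mul_one] at x2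

theorem swap_cy (n : [a, b, c].Nodup) (xy : x ≠ y)
    (h : swap x y * cy a b c = cy a b c * swap x y) : x ∉ [a, b, c] ∧ y ∉ [a, b, c] := by
  have a1 := comm_apply h x
  have a2 := comm_apply h y
  simp only [cy, Perm.mul_apply] at a1 a2
  clear h; grind (splits := 40)

theorem Tp.comm5 (h : Geo α P) (h5 : Fintype.card α = 5) (T : Tp P φ ψ χ A B C t p q u v a b c d)
    (n : [p, q, u, v, x].Nodup) (hw : w ∈ B) :
    φ (cy v q p) * ((φ (dd p q u x) * w * (φ (dd p q u x))⁻¹)⁻¹ * w) =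
      (φ (dd p q u x) * w * (φ (dd p q u x))⁻¹)⁻¹ * w * φ (cy v q p) := by
  have hφ := T.S.gf.fr
  have m := (T.S.perm (a := u) (b := v) (c := p) (d := q) (by grind) (by simp) (by simp) (by simp)
    (by simp)).h5 h h5
  have v1 : Ev (dd p q u x) := ev_dd (by grind) (by grind)
  have v2 : Ev (cy v q p) := ev_cy (by grind) (by grind)
  have e : φ (dd p q u x) * (φ (cy v q p))⁻¹ * (φ (dd p q u x))⁻¹ = φ (cy v q p) := by
    rw [← hφ.inv v2, hφ.conj v1 v2.inv, cy_inv, conj_cy]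
    clear * - n
    congr 2 <;> simp only [dd, Perm.mul_apply] <;> grind
  have c1 : Commute (φ (cy v q p)) w := mem_C'.1 m w hw
  have c2 : Commute (φ (cy v q p)) (φ (dd p q u x) * w * (φ (dd p q u x))⁻¹) := by
    have := H23.TC.conj_comm c1.inv_left.eq (φ (dd p q u x))
    rwa [e] at this
  exact (c2.inv_right.mul_right c1).eq

theorem Tp.asm5' (h : Geo α P) (al : Al α P) (h5 : Fintype.card α = 5)
    (T : Tp P φ ψ χ A B C t p q u v a b c d) {e' f' g : α}
    (n : [p, q, u, v, x].Nodup) (n' : [a, b, c, d, y].Nodup) (n0 : [e, f, g, e', f'].Nodup)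
    (a1 : Act χ (φ (dd p q u v)) (swap e f)) (a2 : Act χ (φ (dd p q u x)) (swap e g))
    (e1 : φ (cy u v x) = χ (cy e f g)) (b1 : Act χ (ψ (dd a b c d)) (swap e' f'))
    (b2 : Act χ (ψ (dd a b c y)) (swap e' g)) (e2 : ψ (cy c d y) = χ (cy e' f' g)) :
    Asm φ A B ∧ t ∈ A ⊔ B := by
  have hφ := T.S.gf.fr
  have hψ := T.S'.gf.fr
  have hχ := T.f.fr
  have v1 : Ev (cy e f g) := ev_cy (by grind) (by grind)
  have v2 : Ev (cy e' f' g) := ev_cy (by grind) (by grind)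
  have v3 : Ev (cy e g e') := ev_cy (by grind) (by grind)
  have v4 : Ev (cy u v x) := ev_cy (by grind) (by grind)
  have m1 : χ (cy e f g) ∈ A := e1 ▸ hφ.mem v4
  have m2 : χ (cy e' f' g) ∈ B := e2 ▸ hψ.mem (ev_cy (by grind) (by grind))
  have z1 : (φ (dd p q u x) * χ (cy e' f' g) * (φ (dd p q u x))⁻¹)⁻¹ * χ (cy e' f' g) =
      χ (cy e g e') := by
    rw [a2 _ v2, ← hχ.inv (v2.conj _), ← hχ.mul (v2.conj _).inv v2, conj_cy, cy_inv]
    congr 1
    clear * - n0; ext z; simp only [cy, Perm.mul_apply]; grind (splits := 40)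
  have z2 : (ψ (dd a b c y) * χ (cy e f g) * (ψ (dd a b c y))⁻¹)⁻¹ * χ (cy e f g) =
      (χ (cy e g e'))⁻¹ := by
    rw [b2 _ v1, ← hχ.inv (v1.conj _), ← hχ.mul (v1.conj _).inv v1, conj_cy, cy_inv, ← hχ.inv v3,
      cy_inv]
    congr 1
    clear * - n0; ext z; simp only [cy, Perm.mul_apply]; grind (splits := 40)
  have c1 := T.comm5 h h5 n m2
  have c2 := T.symm.comm5 h h5 n' m1
  rw [z1] at c1
  rw [z2] at c2
  have c3 : ψ (cy d b a) * χ (cy e g e') = χ (cy e g e') * ψ (cy d b a) :=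
    (Commute.inv_right_iff.1 c2 :)
  have ms : φ (dd p q u x) ∈ A ⊔ B := mem_sup_left (hφ.mem (ev_dd (by grind) (by grind)))
  have mz : χ (cy e g e') ∈ A ⊔ B := z1 ▸ mul_mem (inv_mem (mul_mem (mul_mem ms (mem_sup_right m2))
    (inv_mem ms))) (mem_sup_right m2)
  have n2 : [c, d, a, b].Nodup := by grind
  have S2 := T.S'.perm n2 (by simp) (by simp) (by simp) (by simp)
  have fo := hψ.fo n2
  have r0 : ψ (dd c d a b) * χ (cy e g e') * (ψ (dd c d a b))⁻¹ = χ (cy e g f') := by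
    rw [dd_comm T.S'.n, b1 _ v3, conj_cy]
    clear * - n0
    congr 2 <;> grind
  have e3 : φ (cy u x v) = χ (cy e g f) := by
    rw [← cy_inv, hφ.inv v4, e1, ← hχ.inv v1, cy_inv]
  have l1 := fo.le (hψ.mem (ev_dd (by grind) (by grind))) (hψ.mem (ev_dd (by grind) (by grind)))
  refine ⟨⟨u, x, χ (cy e g e'), _, _, fo, by grind, fo.le S2.m1 S2.m2, l1, mz,
    hχ.cy_cube (by grind), fun i i1 i2 => ?_, fun w hw w1 => ?_⟩, ?_⟩
  · have k1 : (φ (cy u x v) * χ (cy e g e')) ^ 2 = 1 := e3 ▸ hχ.cy_sq (by grind)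
    have v5 : Ev (cy v q p) := ev_cy (by grind) (by grind)
    have k2 : (φ (cy u x p) * χ (cy e g e')) ^ 2 = 1 := by
      convert sq_conj k1 c1
      rw [hφ.conj v5 (ev_cy (by grind) (by grind)), conj_cy]
      clear * - n
      congr 2 <;> simp only [cy, Perm.mul_apply] <;> grind
    have k3 : (φ (cy u x q) * χ (cy e g e')) ^ 2 = 1 := by
      convert sq_conj k2 c1
      rw [hφ.conj v5 (ev_cy (by grind) (by grind)), conj_cy]
      clear * - n
      congr 2 <;> simp only [cy, Perm.mul_apply] <;> grind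
    have := mem_of_card n (by simp [h5]) i
    clear * - this k1 k2 k3 i1 i2; grind
  · obtain ⟨f1, f2⟩ := fr_h hψ n2
    have k : ∀ w, (χ (cy e g e') * (w * χ (cy e g e') * w⁻¹)) ^ 2 = 1 →
        (χ (cy e g e') * (ψ (cy d b a) * w * (ψ (cy d b a))⁻¹ * χ (cy e g e') *
          (ψ (cy d b a) * w * (ψ (cy d b a))⁻¹)⁻¹)) ^ 2 = 1 := fun w hw => by
      have := congrArg (fun x => ψ (cy d b a) * x * (ψ (cy d b a))⁻¹) hw
      simp only [← conj_pow, mul_one, mul_inv_cancel, H23.TC.conj_mul] at this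
      rw [c3, mul_inv_cancel_right] at this
      simpa only [mul_inv_rev, inv_inv, mul_assoc] using this
    have k1 : (χ (cy e g e') * (ψ (dd c d a b) * χ (cy e g e') * (ψ (dd c d a b))⁻¹)) ^ 2 = 1 :=
      r0 ▸ hχ.cy_sq (by grind)
    have k2 := k _ k1
    rw [f1] at k2
    have k3 := k _ k2
    rw [f2] at k3
    rcases hw with rfl | rfl | rfl | rfl
    exacts [absurd rfl w1, k1, k2, k3]
  · have hC : C ≤ A ⊔ B := hχ.le_of_cy (a := e) (b := g) (by grind) fun i i1 i2 => by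
      have := mem_of_card n0 (by simp [h5]) i
      obtain rfl | rfl | rfl : i = f ∨ i = e' ∨ i = f' := by clear * - this i1 i2; grind
      · exact e3 ▸ mem_sup_left (hφ.mem (ev_cy (by grind) (by grind)))
      · exact mz
      · have := mem_sup_right (S := A) (l1 fo.mem_a)
        exact r0 ▸ mul_mem (mul_mem this mz) (inv_mem this)
    have m3 := hφ.mem (σ := dd p q u v) (ev_dd (by grind) (by grind))
    have fo' := hψ.fo T.S'.n
    rcases T.uu h al (odd_swap (by grind)) b1 T.S.n (odd_swap (by grind)) a1 with k | k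
    · refine (T.S.c.diag5 h h5 hφ T.S.n T.S.m1 T.S'.m1 fo'.a2 fo'.a1 ?_).elim
      rw [mem_C'.1 T.S'.m1 _ m3, ← k]
      exact T.f.isD ⟨e, f, e', f', by grind, rfl⟩
    · have := hC (hχ.mem (ev_odd (odd_swap (a := e) (b := f) (by grind))
        (odd_swap (a := e') (b := f') (by grind))))
      rw [k] at this
      exact (mul_mem_cancel_left (mul_mem (mem_sup_left m3)
        (mem_sup_right (hψ.mem (ev_dd (by grind) (by grind)))))).1 this

theorem Tp.lab5 (h : Geo α P) (al : Al α P) (T : Tp P φ ψ χ A B C t p q u v a b c d)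
    (n : [p, q, u, v, x].Nodup) : ∃ e f g, [e, f, g].Nodup ∧ Act χ (φ (dd p q u v)) (swap e f) ∧
      Act χ (φ (dd p q u x)) (swap e g) ∧ φ (cy u v x) = χ (cy e f g) := by
  obtain ⟨e, f, ef, a1⟩ := T.S.star h al T.f T.ht T.t2 T.a1 T.S.n
  obtain ⟨g, g1, g2, ⟨a2, e2⟩ | ⟨a2, e2⟩⟩ := T.c3' h al n ef a1
  · exact ⟨e, f, g, by grind, a1, a2, e2⟩
  · exact ⟨f, e, g, by grind, swap_comm e f ▸ a1, a2, e2⟩

theorem Tp.asm5 (h : Geo α P) (al : Al α P) (h5 : Fintype.card α = 5)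
    (T : Tp P φ ψ χ A B C t p q u v a b c d) : Asm φ A B ∧ t ∈ A ⊔ B := by
  obtain ⟨x, hx⟩ := fresh [p, q, u, v] (by simp [h5])
  obtain ⟨y, hy⟩ := fresh [a, b, c, d] (by simp [h5])
  have n0 := T.S.n
  have n0' := T.S'.n
  have n : [p, q, u, v, x].Nodup := by grind
  have n' : [a, b, c, d, y].Nodup := by grind
  obtain ⟨e, f, g, n1, a1, a2, e1⟩ := T.lab5 h al n
  obtain ⟨e', f', g', n2, b1, b2, e2⟩ := T.symm.lab5 h al n'
  have k1 := swap_cy n1 (by grind) (b1.comm' T.f.fr (ev_cy (by grind) (by grind))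
    (e1 ▸ mem_C'.1 T.S'.m1 _ (T.S.gf.fr.mem (ev_cy (by grind) (by grind)))))
  have k2 := swap_cy n2 (by grind) (a1.comm' T.f.fr (ev_cy (by grind) (by grind))
    (e2 ▸ mem_C'.1 T.S.m1 _ (T.S'.gf.fr.mem (ev_cy (by grind) (by grind)))))
  have n3 : [e, f, g, e', f'].Nodup := by clear * - n1 n2 k1; grind
  have := mem_of_card n3 (by simp [h5]) g'
  obtain rfl : g' = g := by clear * - this n2 k2; grind
  exact T.asm5' h al h5 n n' n3 a1 a2 e1 b1 b2 e2

theorem swap_in (n : [a, b, c, d].Nodup) (xy : x ≠ y) (h5 : Fintype.card α = 5)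
    (h : Vf a b c d (swap x y * dd a b c d * (swap x y)⁻¹)) :
    x ∈ [a, b, c, d] ∧ y ∈ [a, b, c, d] := by
  obtain ⟨z, hz⟩ := fresh [a, b, c, d] (by simp [h5])
  have hm := mem_of_card (l := [a, b, c, d, z]) (by grind) (by simp [h5])
  have a1 := hm x
  have a2 := hm y
  have : (swap x y * dd a b c d * (swap x y)⁻¹) z = z := by
    rcases h with e | e | e | e <;> rw [e] <;> simp only [dd, Perm.mul_apply, Perm.one_apply] <;>
      grind
  simp only [dd, Perm.mul_apply, swap_inv] at this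
  clear h hm; grind (splits := 40)

theorem Sd.asm5 (h : Geo α P) (al : Al α P) (h5 : Fintype.card α = 5) (S : Sd P φ A B p q u v)
    (d : DD P t) (a1 : Act φ t (swap p q)) : Asm φ A B ∧ t ∈ A ⊔ B := by
  obtain ⟨ψ, a, b, c, d', S'⟩ := S.c.symm.sd h
  have hφ := S.gf.fr
  have hψ := S'.gf.fr
  have n := S.n
  have n' := S'.n
  have fo := hφ.fo n
  have fo' := hψ.fo n'
  have pq : p ≠ q := by grind
  obtain ⟨x, y, xy, a2⟩ := S'.gf.tr h al d (h.cN S.c.pB S.m1 fo.a2 fo.a1 (a1.comm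
    (ev_dd pq (by grind)) (by ext z; simp only [dd, Perm.mul_apply]; grind (splits := 40))))
    (fun m => a1.not_mem hφ h.n4 pq (S.c.imem h m d.1)) fun m => by
      have := comm_apply (a1.comm' hφ (ev_dd (by grind) (by grind)) (mem_C.1 S.m2 _ m)) p
      clear * - this n
      simp only [dd, Perm.mul_apply] at this; grind
  have v1 : Ev (dd a b c d') := ev_dd (by grind) (by grind)
  obtain ⟨τ, t1, t2⟩ := (hψ.mem_fo n').1 (S.c.symm.uniq5 h h5 hψ n' S'.m1
    (cC (a1.mem_N hφ) S'.m1) (H7.SJ.conj_sq fo'.a2 t))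
  rw [a2 _ v1] at t2
  obtain ⟨k1, k2⟩ := swap_in n' xy h5 (hψ.inj (t1.ev n') (v1.conj _) t2 ▸ t1)
  obtain ⟨i, j, n2, k3, k4⟩ : ∃ i j, [x, y, i, j].Nodup ∧ i ∈ [a, b, c, d'] ∧ j ∈ [a, b, c, d'] := by
    clear * - n' k1 k2 xy
    simp only [List.mem_cons, List.not_mem_nil, or_false] at k1 k2
    rcases k1 with rfl | rfl | rfl | rfl <;> rcases k2 with rfl | rfl | rfl | rfl <;>
      first
      | exact absurd rfl xy
      | exact ⟨a, b, by grind, by simp, by simp⟩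
      | exact ⟨a, c, by grind, by simp, by simp⟩
      | exact ⟨a, d', by grind, by simp, by simp⟩
      | exact ⟨b, c, by grind, by simp, by simp⟩
      | exact ⟨b, d', by grind, by simp, by simp⟩
      | exact ⟨c, d', by grind, by simp, by simp⟩
  obtain ⟨t2, t1, C, hC, ht⟩ := d
  obtain ⟨χ, f⟩ := S.c.exists_gf h hC
  exact Tp.asm5 h al h5 ⟨S, S'.perm n2 k1 k2 k3 k4, f, ht, t2, a1, a2⟩

end H5.SA
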