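import Mathlib
import Cfsg.Agent.H5.SA5

/-!
# Standard alternating subgroups: the larger alternating group is normal
-/

set_option autoImplicit false
set_option linter.unusedSectionVars false
set_option linter.unusedVariables false

namespace H5.SA

open Cfsg H24 H26 H26.Gold Subgroup Equiv Equiv.Perm Sum
open H23.TC (R2 sq_mul mem_syl)

universe u

variable {G : Type u} [Group G] [Finite G] {M : Subgroup G} {g k r s t w z : G}

/-! ### The dihedral argument -/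

theorem dih_odd (s2 : s * s = 1) (t2 : t * t = 1) (hs : s ∈ M)
    (h : ∀ g, g * s * g⁻¹ ∈ M → g ∈ M) :
    ∃ d ∈ zpowers (t * s), d * t * d⁻¹ ∈ M ∧ d * t * d⁻¹ * s ∈ zpowers (t * s) := by
  have e : ∀ i : ℕ, s * ((t * s) ^ i)⁻¹ = (t * s) ^ i * s := fun i => by
    have : s * (t * s)⁻¹ * s⁻¹ = t * s := by
      rw [mul_inv_rev, inv_of_sq s2, inv_of_sq t2, ← mul_assoc, s2, one_mul]
    calc s * ((t * s) ^ i)⁻¹ = (s * (t * s)⁻¹ * s⁻¹) ^ i * s := by rw [conj_pow, inv_pow]; group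
      _ = _ := by rw [this]
  have half : ∀ i : ℕ, (t * s) ^ (2 * i) ∈ M → (t * s) ^ i ∈ M := fun i hi =>
    h _ (by rw [mul_assoc, e, ← mul_assoc, ← pow_add, ← two_mul]; exact mul_mem hi hs)
  obtain ⟨k, m, hm, hn⟩ := Nat.exists_eq_two_pow_mul_odd (orderOf_pos (t * s)).ne'
  have : (t * s) ^ (2 ^ k * m) ∈ M := by rw [← hn, pow_orderOf_eq_one]; exact one_mem _
  have hM : (t * s) ^ m ∈ M := by
    clear hn
    induction k with
    | zero => simpa using this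
    | succ k ih => exact ih (half _ (by rwa [pow_succ', mul_assoc] at this))
  obtain ⟨i, rfl⟩ := hm
  have e2 : (t * s) ^ i * t * ((t * s) ^ i)⁻¹ = (t * s) ^ (2 * i + 1) * s := by
    have : t = t * s * s := by rw [mul_assoc, s2, mul_one]
    conv_lhs => enter [1, 2]; rw [this]
    rw [← mul_assoc, mul_assoc _ s, e, ← mul_assoc, ← pow_succ, ← pow_add]
    congr 2; omega
  refine ⟨_, pow_mem (mem_zpowers _) i, e2 ▸ mul_mem hM hs, ?_⟩
  rw [e2, mul_assoc, s2, mul_one]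
  exact pow_mem (mem_zpowers _) _

theorem inv_zp (s2 : s * s = 1) (t2 : t * t = 1) (hz : z ∈ zpowers (t * s)) (z2 : z * z = 1) :
    t * z = z * t := by
  obtain ⟨n, rfl⟩ := mem_zpowers_iff.1 hz
  have : t * (t * s) * t⁻¹ = (t * s)⁻¹ := by
    rw [mul_inv_rev, inv_of_sq s2, inv_of_sq t2, ← mul_assoc, t2, one_mul]
  rw [← mul_inv_eq_iff_eq_mul, ← conj_zpow, this, inv_zpow, inv_of_sq z2]

section uniq

variable {β : Type} [Fintype β] [DecidableEq β] {Φ : Perm β → G} {X : Subgroup G}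
  {σ τ ρ η : Perm β} {a b c d p q u v : β}

theorem exists_dd_comm (h6 : 6 ≤ Fintype.card β) (s : σ * σ = 1) :
    ∃ a b c d, [a, b, c, d].Nodup ∧ σ * dd a b c d = dd a b c d * σ := by
  obtain ⟨a, b, -, -, ab, h1⟩ := Cfg.inv_pair s [] (by simp) (by simp; omega)
  obtain ⟨c, d, hc, hd, cd, h2⟩ := Cfg.inv_pair s [a, b] (fun z hz => by
    have := sq_apply s z; grind) (by simp; omega)
  refine ⟨a, b, c, d, by grind, ?_⟩
  rw [← mul_inv_eq_iff_eq_mul, conj_dd]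
  rcases h1 with ⟨e1, e2⟩ | ⟨e1, e2⟩ <;> rcases h2 with ⟨e3, e4⟩ | ⟨e3, e4⟩ <;>
    simp only [e1, e2, e3, e4, dd_swap, dd_swap']

theorem dih_cases (s : σ * σ = 1) (n : [a, σ a, c, σ c].Nodup) (n' : [p, σ p, q, σ q].Nodup)
    {w : Perm β} (hw : w = dd p (σ p) q (σ q) * dd a c (σ a) (σ c)) :
    T22 w ∨ T22 (w * w) ∨ w * w = 1 ∧ w * σ = σ * w ∧ w * σ ≠ 1 ∧ (w * σ).support ⊂ σ.support := by
  have k := sq_apply s
  have k1 := k a
  have k2 := k c
  have k3 := k p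
  have k4 := k q
  subst hw
  by_cases h1 : p ∈ [a, σ a, c, σ c] <;> by_cases h2 : q ∈ [a, σ a, c, σ c]
  · refine .inl ⟨a, σ c, σ a, c, by grind, ?_⟩
    clear k s
    ext z; simp only [dd, Perm.mul_apply]; grind (splits := 60)
  · refine .inr (.inl ⟨a, σ a, c, σ c, n, ?_⟩)
    clear k s
    ext z; simp only [dd, Perm.mul_apply]; grind (splits := 60)
  · refine .inr (.inl ⟨a, σ a, c, σ c, n, ?_⟩)
    clear k s
    ext z; simp only [dd, Perm.mul_apply]; grind (splits := 60)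
  have n8 : [a, σ a, c, σ c, p, σ p, q, σ q].Nodup := by clear k s; grind
  refine .inr (.inr ⟨?_, ?_, ne_one_of (x := a) ?_, ?_⟩)
  · clear * - n8
    ext z; simp only [dd, Perm.mul_apply, Perm.one_apply]; grind (splits := 60)
  · ext z
    have := k z
    clear k s h1 h2
    simp only [dd, Perm.mul_apply]; grind (splits := 60)
  · clear * - n8
    simp only [dd, Perm.mul_apply]; grind (splits := 60)
  · refine Finset.ssubset_iff_subset_ne.2 ⟨fun z => ?_, fun e => ?_⟩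
    · simp only [mem_support, dd, Perm.mul_apply]
      clear k s h1 h2; grind (splits := 60)
    · have : p ∈ σ.support := by rw [mem_support]; grind
      rw [← e, mem_support] at this
      clear k s h1 h2 e
      simp only [dd, Perm.mul_apply] at this; grind (splits := 60)

variable (hΦ : Fr Φ X) (h8 : 8 ≤ Fintype.card β)
  (hU : ∀ η, T22 η → ∀ g, g * Φ η * g⁻¹ ∈ N[X] → g ∈ N[X])
include hΦ h8 hU

theorem uq_c22 (t : T22 η) (hg : g * Φ η = Φ η * g) : g ∈ N[X] :=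
  hU η t g (by rw [hg, mul_inv_cancel_right]; exact norm_self _ (hΦ.mem t.ev))

theorem uq_cent (he : Ev σ) (s : σ * σ = 1) (n1 : σ ≠ 1) (hg : g * Φ σ = Φ σ * g) : g ∈ N[X] := by
  induction hn : σ.support.card using Nat.strong_induction_on generalizing σ g with | _ m ih => ?_
  rcases inv_cases s with h | ⟨a, b, h, rfl⟩ | ⟨a, c, n⟩
  · exact absurd h n1
  · exact absurd he (odd_swap h)
  have k := sq_apply s
  have t1 : T22 (dd a (σ a) c (σ c)) := ⟨_, _, _, _, n, rfl⟩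
  have n2 : [a, c, σ a, σ c].Nodup := by grind
  have t2 : T22 (dd a c (σ a) (σ c)) := ⟨_, _, _, _, n2, rfl⟩
  have f2 := (hΦ.fo n).b2
  have u2 := H7.SJ.conj_sq (hΦ.fo n).a2 g
  obtain ⟨d, d1, d2, d3⟩ := dih_odd f2 u2 (norm_self _ (hΦ.mem t2.ev)) (hU _ t2)
  have c1 : Commute (Φ σ) (g * Φ (dd a (σ a) c (σ c)) * g⁻¹) := by
    refine ((Commute.mul_right hg.symm ?_).mul_right (Commute.inv_right hg.symm))
    exact hΦ.comm he t1.ev (by rw [← mul_inv_eq_iff_eq_mul, conj_dd, k, k, dd_swap, dd_swap'])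
  have c2 : Commute (Φ σ) (Φ (dd a c (σ a) (σ c))) :=
    hΦ.comm he t2.ev (by rw [← mul_inv_eq_iff_eq_mul, conj_dd, k, k, dd_comm n2])
  have c3 : Commute (Φ σ) d := by
    obtain ⟨i, rfl⟩ := mem_zpowers_iff.1 d1
    exact (c1.mul_right c2).zpow_right i
  have e1 : d * (g * Φ (dd a (σ a) c (σ c)) * g⁻¹) * d⁻¹ =
      d * g * Φ (dd a (σ a) c (σ c)) * (d * g)⁻¹ := by group
  rw [e1] at d2 d3
  obtain ⟨π, a1⟩ := hΦ.exists_act (by omega) (by omega) (hU _ t1 _ d2)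
  have c4 := comm_apply (a1.comm' hΦ he (c3.mul_right hg.symm).symm)
  rw [a1 _ t1.ev, conj_dd, c4, c4] at d3
  have n' : [π a, σ (π a), π c, σ (π c)].Nodup := by
    simpa only [List.map_cons, List.map_nil, c4] using n.map π.injective
  have t3 : T22 (dd (π a) (σ (π a)) (π c) (σ (π c))) := ⟨_, _, _, _, n', rfl⟩
  rw [← hΦ.mul t3.ev t2.ev] at d3
  have e3 := t3.ev.mul t2.ev
  refine hU _ t1 g ?_
  obtain ⟨w, hw⟩ : ∃ w, w = dd (π a) (σ (π a)) (π c) (σ (π c)) * dd a c (σ a) (σ c) := ⟨_, rfl⟩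
  rw [← hw] at d3 e3
  have sq : ∀ {η}, T22 η → Φ η * Φ η = 1 := by
    rintro _ ⟨p, q, u, v, n, rfl⟩; exact (hΦ.fo n).a2
  rcases dih_cases s n n' hw with t | t | ⟨w1, w2, w3, w4⟩
  · exact uq_c22 hΦ h8 hU t (inv_zp f2 u2 d3 (sq t))
  · exact uq_c22 hΦ h8 hU t (inv_zp f2 u2 (by rw [hΦ.mul e3 e3]; exact mul_mem d3 d3) (sq t))
  · refine ih _ (hn ▸ Finset.card_lt_card w4) (e3.mul he) (sq_mul w1 s w2) w3 ?_ rfl
    rw [hΦ.mul e3 he]
    exact (Commute.mul_right (inv_zp f2 u2 d3 (hΦ.sq e3 w1)) c1.symm :)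

theorem uq_P (he : Ev σ) (s : σ * σ = 1) (n1 : σ ≠ 1) (hg : g * Φ σ * g⁻¹ ∈ N[X]) : g ∈ N[X] := by
  obtain ⟨π, a1⟩ := hΦ.exists_act (by omega) (by omega) hg
  obtain ⟨a, b, c, d, n, hc⟩ := exists_dd_comm (by omega)
    (a1.sq1 hΦ (by omega) (H7.SJ.conj_sq (hΦ.sq he s) g))
  have := H23.TC.conj_comm (a1.comm (ev_dd (by grind) (by grind)) hc) g⁻¹
  rw [show g⁻¹ * (g * Φ σ * g⁻¹) * g⁻¹⁻¹ = Φ σ by group] at this
  exact inv_mem_iff.1 (hU _ ⟨a, b, c, d, n, rfl⟩ _ (uq_cent hΦ h8 hU he s n1 this.symm))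

theorem uq_main (x : G) : x ∈ N[X] := by
  obtain ⟨a, -⟩ := fresh ([] : List β) (by simp; omega)
  obtain ⟨b, hb⟩ := fresh [a] (by simp; omega)
  obtain ⟨c, hc⟩ := fresh [a, b] (by simp; omega)
  obtain ⟨d, hd⟩ := fresh [a, b, c] (by simp; omega)
  obtain ⟨e, he⟩ := fresh [a, b, c, d] (by simp; omega)
  obtain ⟨f, hf⟩ := fresh [a, b, c, d, e] (by simp; omega)
  obtain ⟨i, hi⟩ := fresh [a, b, c, d, e, f] (by simp; omega)
  obtain ⟨j, hj⟩ := fresh [a, b, c, d, e, f, i] (by simp; omega)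
  have n : [a, b, c, d, e, f, i, j].Nodup := by grind
  clear hb hc hd he hf hi hj
  have n4 : [a, b, c, d].Nodup := by grind
  have t1 : T22 (dd a b c d) := ⟨_, _, _, _, n4, rfl⟩
  have ev : Ev (dd a b c d * dd e f i j) := t1.ev.mul (ev_dd (by grind) (by grind))
  have s : dd a b c d * dd e f i j * (dd a b c d * dd e f i j) = 1 := by
    clear * - n
    ext z; simp only [dd, Perm.mul_apply, Perm.one_apply]; grind (splits := 60)
  have mv : ∀ z ∈ [a, b, c, d, e], (dd a b c d * dd e f i j) z ≠ z := fun z hz => by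
    clear * - n hz
    simp only [dd, Perm.mul_apply]; grind (splits := 60)
  generalize dd a b c d * dd e f i j = γ at *
  have nt : ¬ T22 γ := by
    rintro ⟨p, q, u, v, n', rfl⟩
    have := ((by grind : [a, b, c, d, e].Nodup).subperm (l₂ := [p, q, u, v]) fun z hz => by
      have := mv z hz
      clear * - this
      simp only [dd, Perm.mul_apply] at this; grind).length_le
    simp at this
  have u2 := H7.SJ.conj_sq (hΦ.fo n4).a2 x
  obtain ⟨k, d1, d2, d3⟩ := dih_odd (hΦ.sq ev s) u2 (norm_self _ (hΦ.mem ev))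
    fun g => uq_P hΦ h8 hU ev s (ne_one_of (mv a (by simp)))
  have e1 : k * (x * Φ (dd a b c d) * x⁻¹) * k⁻¹ = k * x * Φ (dd a b c d) * (k * x)⁻¹ := by group
  rw [e1] at d2 d3
  obtain ⟨π, a1⟩ := hΦ.exists_act (by omega) (by omega) (hU _ t1 _ d2)
  have t2 := t1.conj π
  rw [a1 _ t1.ev, ← hΦ.mul t2.ev ev] at d3
  rcases H23.TC.dih (x := π * dd a b c d * π⁻¹) (H7.SJ.conj_sq (dd_sq n4) π) s with
    ⟨-, d', -, e⟩ | ⟨z, z1, z2, z3, -⟩
  · exact absurd (e ▸ t2.conj _) nt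
  obtain ⟨m, rfl⟩ := (mem_powers_iff_mem_zpowers.2 z1 : z ∈ Submonoid.powers _)
  have e2 := (t2.ev.mul ev).pow m
  exact hU _ t1 x (uq_cent hΦ h8 hU e2 z3 z2 (inv_zp (hΦ.sq ev s) u2
    (by rw [hΦ.pow (t2.ev.mul ev)]; exact pow_mem d3 m) (hΦ.sq e2 z3)))

end uniq

/-! ### The larger alternating group -/

variable {α : Type} [Fintype α] [DecidableEq α] {φ : Perm α → G} {Φ : Perm (α ⊕ Fin 4) → G}
  {A B C X : Subgroup G} {σ τ ρ η : Perm α} {a b c d p q u v x y : α} {P : Subgroup G → Prop}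

/-- the embedding -/
def io (σ : Perm α) : Perm (α ⊕ Fin 4) := Perm.sumCongr σ 1

theorem io_mul (σ τ : Perm α) : io (σ * τ) = io σ * io τ := by simp [io, Perm.sumCongr_mul]
theorem io_inv (σ : Perm α) : io σ⁻¹ = (io σ)⁻¹ := by simp [io, Perm.sumCongr_inv]
theorem io_swap (a b : α) : io (swap a b) = swap (inl a) (inl b) := Perm.sumCongr_swap_one a b
theorem io_dd (a b c d : α) : io (dd a b c d) = dd (inl a) (inl b) (inl c) (inl d) := by
  simp only [dd, io_mul, io_swap]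
theorem io_cy (a b c : α) : io (cy a b c) = cy (inl a) (inl b) (inl c) := by
  simp only [cy, io_mul, io_swap]
theorem Ev.io (h : Ev σ) : Ev (io σ) := by simp_all [Ev, H5.SA.io]
theorem io_inl (σ : Perm α) (a : α) : io σ (inl a) = inl (σ a) := rfl
theorem io_inr (σ : Perm α) (k : Fin 4) : io σ (inr k) = inr k := rfl

theorem Asm.big (hφ : Fr φ A) (h5 : 5 ≤ Fintype.card α) (h : Asm φ A B) :
    ∃ (Φ : Perm (α ⊕ Fin 4) → G) (X : Subgroup G), Fr Φ X ∧ (∀ σ, Ev σ → Φ (io σ) = φ σ) ∧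
      X ≤ A ⊔ B := by
  obtain ⟨x, y, z, r, s, f, xy, l1, l2, mz, z3, h1, h2⟩ := h
  let ρ : Fin 4 → G := ![1, r, s, r * s]
  have m : ∀ k, ρ k ∈ f.sub := fun k => by
    fin_cases k
    exacts [one_mem _, f.mem_a, f.mem_b, mul_mem f.mem_a f.mem_b]
  have inj : ∀ k l, k ≠ l → (ρ k)⁻¹ * ρ l ≠ 1 := fun k l hkl => by
    rw [Ne, inv_mul_eq_one]
    have := f.a1
    have := f.b1
    have := f.ab
    have := f.m1
    have := f.right.ab
    have := f.symm.right.ab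
    rw [← f.c] at this
    fin_cases k <;> fin_cases l <;> simp only [ρ] <;> first | exact absurd rfl hkl | simp <;> grind
  let w : α ⊕ Fin 4 → G := Sum.elim (fun i => φ (cy x y i)) fun k => ρ k * z * (ρ k)⁻¹
  have ev : ∀ i, i ≠ x → Ev (cy x y i) := fun i hi => ev_cy xy hi.symm
  have mix : ∀ i k, i ≠ x → i ≠ y → (φ (cy x y i) * (ρ k * z * (ρ k)⁻¹)) ^ 2 = 1 := by
    intro i k i1 i2
    rw [← conj_eq_of_mem_C (l1 (m k)) (hφ.mem (ev i i1)), ← H23.TC.conj_mul, conj_pow, h1 i i1 i2]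
    group
  obtain ⟨i0, hi⟩ := fresh [x, y] (by simp; omega)
  obtain ⟨Φ, X, hΦ, e⟩ := carm_fr (a := inl x) (b := inl y) (by simp; omega) (by simpa) w (by
      rintro (i | k) i1 i2
      · exact hφ.cy_cube (by simp at i1 i2; grind)
      · show (ρ k * z * (ρ k)⁻¹) ^ 3 = 1
        rw [conj_pow, z3]; group) (by
      rintro (i | k) i1 i2 (j | l) j1 j2 ij
      · exact hφ.cy_sq (by simp at i1 i2 j1 j2 ij; grind)
      · exact mix i l (by simpa using i1) (by simpa using i2)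
      · have := mix j k (by simpa using j1) (by simpa using j2)
        show (ρ k * z * (ρ k)⁻¹ * φ (cy x y j)) ^ 2 = 1
        generalize ρ k * z * (ρ k)⁻¹ = a at *
        rw [show a * φ (cy x y j) = a * (φ (cy x y j) * a) * a⁻¹ by group, conj_pow, this]; group
      · have := h2 _ (mul_mem (inv_mem (m k)) (m l)) (inj k l (by simpa using ij))
        show (ρ k * z * (ρ k)⁻¹ * (ρ l * z * (ρ l)⁻¹)) ^ 2 = 1
        rw [show ρ k * z * (ρ k)⁻¹ * (ρ l * z * (ρ l)⁻¹) =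
          ρ k * (z * ((ρ k)⁻¹ * ρ l * z * ((ρ k)⁻¹ * ρ l)⁻¹)) * (ρ k)⁻¹ by group, conj_pow, this]
        group)
    ⟨inl i0, by simp; grind, by simp; grind, hφ.ne_one (ev i0 (by grind)) (cy_ne (by grind))⟩
  let H : Subgroup (Perm α) :=
    { carrier := {σ | Ev σ ∧ Φ (io σ) = φ σ}
      one_mem' := ⟨Ev.one, by simp [io, hΦ.one, hφ.one]⟩
      mul_mem' := fun h1 h2 => ⟨h1.1.mul h2.1, by
        rw [io_mul, hΦ.mul h1.1.io h2.1.io, h1.2, h2.2, hφ.mul h1.1 h2.1]⟩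
      inv_mem' := fun h1 => ⟨h1.1.inv, by rw [io_inv, hΦ.inv h1.1.io, h1.2, hφ.inv h1.1]⟩ }
  refine ⟨Φ, X, hΦ, fun σ hσ => (gen3 (H := H) xy (fun i i1 i2 => ⟨ev i i1, ?_⟩) hσ).2,
    hΦ.le_of_cy (a := inl x) (b := inl y) (by simpa) fun i i1 i2 => ?_⟩
  · rw [io_cy, e _ (by simpa) (by simpa)]; rfl
  · rw [e i i1 i2]
    rcases i with i | k
    · exact mem_sup_left (hφ.mem (ev i (by simpa using i1)))
    · have := mem_sup_right (S := A) (l2 (m k))
      exact mul_mem (mul_mem this mz) (inv_mem this)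

/-- the larger alternating group -/
structure Big (P : Subgroup G → Prop) (φ : Perm α → G) (A B : Subgroup G)
    (Φ : Perm (α ⊕ Fin 4) → G) (X : Subgroup G) (p q u v : α) : Prop where
  S : Sd P φ A B p q u v
  fr : Fr Φ X
  ext : ∀ σ, Ev σ → Φ (io σ) = φ σ
  le : X ≤ A ⊔ B

namespace Big

theorem A_le (b : Big P φ A B Φ X p q u v) : A ≤ X := fun x hx => by
  obtain ⟨σ, s1, rfl⟩ := b.S.gf.fr.surj hx
  exact b.ext σ s1 ▸ b.fr.mem s1.io

theorem memK (b : Big P φ A B Φ X p q u v) {π : Perm (α ⊕ Fin 4)}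
    (h : Vf (inr 0) (inr 1) (inr 2) (inr 3) π) : Φ π ∈ C[A] := mem_C.2 fun x hx => by
  obtain ⟨σ, s1, rfl⟩ := b.S.gf.fr.surj hx
  rw [← b.ext σ s1]
  refine b.fr.comm s1.io (h.ev (by simp)) ?_
  rcases h with rfl | rfl | rfl | rfl
  · simp
  all_goals rw [← mul_inv_eq_iff_eq_mul, conj_dd]; rfl

theorem pt (b : Big P φ A B Φ X p q u v) {π : Perm (α ⊕ Fin 4)} (t : T22 π) :
    ∃ ρ, Ev ρ ∧ Φ ρ * Φ (dd (inr 0) (inr 1) (inr 2) (inr 3)) * (Φ ρ)⁻¹ = Φ π := by
  have t0 : T22 (dd (inr 0) (inr 1) (inr 2) (inr 3) : Perm (α ⊕ Fin 4)) :=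
    ⟨_, _, _, _, by simp, rfl⟩
  obtain ⟨ρ, r1, rfl⟩ := t0.conj_ev t
  exact ⟨ρ, r1, b.fr.conj r1 t0.ev⟩

theorem nb_le (h : Geo α P) (b : Big P φ A B Φ X p q u v) (t : T22 η) (hC : P C)
    (m : φ η ∈ C[C]) : C ≤ X := by
  obtain ⟨a, b', c, d, n, rfl⟩ := t
  obtain ⟨ρ, r1, e⟩ := b.pt ⟨inl a, inl b', inl c, inl d, by simpa using n, rfl⟩
  rw [← io_dd, b.ext _ (ev_dd (by grind) (by grind))] at e
  have fo := b.S.gf.fr.fo n
  rw [h.te _ _ _ hC (h.cj (Φ ρ) A b.S.gf.pA) m (by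
    rw [← cj_C, ← e]; exact conj_mem_cj _ (b.memK (.inr (.inl rfl)))) fo.a2 fo.a1]
  exact cj_le_of_mem b.A_le (b.fr.mem r1)

theorem N_le (h : Geo α P) (al : Al α P) (b : Big P φ A B Φ X p q u v) : N[A] ≤ N[X] := by
  intro g hg
  have hφ := b.S.gf.fr
  have n := b.S.n
  have m := conj_mem hg (hφ.mem (σ := dd p q u v) (ev_dd (by grind) (by grind)))
  have d := (b.S.gf.isD ⟨p, q, u, v, n, rfl⟩).conj h g
  refine mem_N_of_cj_le ((cj_mono g b.le).trans ?_)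
  rw [cj_sup, H24.cj_of_mem_N hg, sup_le_iff]
  rcases b.S.gf.zs h al d (norm_self _ m) with e | ⟨η, t, e⟩ | ⟨x, y, xy, e⟩
  · exact absurd (h.inf_C b.S.gf.pA m e) d.2.1
  · exact ⟨b.A_le, b.nb_le h t (h.cj g B b.S.c.pB) (by
      rw [e, ← cj_C]; exact conj_mem_cj g b.S.m1)⟩
  · exact absurd m (e.not_mem hφ h.n4 xy)

theorem tr_mem (h : Geo α P) (al : Al α P) (b : Big P φ A B Φ X p q u v) (d : DD P w)
    (xy : x ≠ y) (a : Act φ w (swap x y)) : w ∈ X := by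
  have := h.n5
  obtain ⟨i, hi⟩ := fresh [x, y] (by simp; omega)
  obtain ⟨j, hj⟩ := fresh [x, y, i] (by simp; omega)
  by_cases h5 : Fintype.card α = 5
  · have n : [x, y, i, j].Nodup := by grind
    obtain ⟨B', S'⟩ := b.S.gf.sd n
    exact sup_le b.A_le (b.nb_le h ⟨_, _, _, _, n, rfl⟩ S'.c.pB S'.m1) (S'.asm5 h al h5 d a).2
  obtain ⟨k, hk⟩ := fresh [x, y, i, j] (by simp; omega)
  obtain ⟨l, hl⟩ := fresh [x, y, i, j, k] (by simp; omega)
  have n6 : [x, y, i, j, k, l].Nodup := by grind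
  have n : [i, j, k, l].Nodup := by grind
  obtain ⟨B', S'⟩ := b.S.gf.sd n
  rcases b.S.gf.cent_V h al n S'.c S'.m1 S'.m2 d (a.comm (ev_dd (by grind) (by grind)) (by
      clear * - n6; ext z; simp only [dd, Perm.mul_apply]; grind (splits := 40)))
    (a.comm (ev_dd (by grind) (by grind)) (by
      clear * - n6; ext z; simp only [dd, Perm.mul_apply]; grind (splits := 40))) with m | m
  · exact b.A_le ((b.S.gf.fr.fo n).le (b.S.gf.fr.mem (ev_dd (by grind) (by grind)))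
      (b.S.gf.fr.mem (ev_dd (by grind) (by grind))) m)
  · exact b.nb_le h ⟨_, _, _, _, n, rfl⟩ S'.c.pB S'.m1 m

end Big

theorem fix_inl (h4 : 4 ≤ Fintype.card α) {π : Perm (α ⊕ Fin 4)}
    (h : ∀ τ, Ev τ → π * io τ = io τ * π) (x : α) : π (inl x) = inl x := by
  have mv : ∀ x y, π (inl x) = y → (∀ z, y ≠ inl z) → False := by
    rintro x (z | k) e hy
    · exact hy z rfl
    obtain ⟨i, hi⟩ := fresh [x] (by simp; omega)
    obtain ⟨j, hj⟩ := fresh [x, i] (by simp; omega)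
    have := comm_apply (h (cy x i j) (ev_cy (by grind) (by grind))) (inl x)
    rw [e, io_inr, ← e, io_inl] at this
    have := inl_injective (π.injective this)
    simp only [cy, Perm.mul_apply] at this; grind
  rcases e : π (inl x) with y | k
  · by_contra hx
    obtain ⟨i, hi⟩ := fresh [x, y] (by simp; omega)
    obtain ⟨j, hj⟩ := fresh [x, y, i] (by simp; omega)
    have := comm_apply (h (cy y i j) (ev_cy (by grind) (by grind))) (inl x)
    have hx' : x ≠ y := fun e => hx (by rw [e])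
    rw [e, io_inl, io_inl, show cy y i j x = x by simp only [cy, Perm.mul_apply]; grind, e] at this
    have := inl_injective this
    simp only [cy, Perm.mul_apply] at this; grind
  · exact (mv x _ e (by simp)).elim

theorem t22_of_tr (h4 : 4 ≤ Fintype.card α) {π : Perm (α ⊕ Fin 4)} (he : Ev π) (s : π * π = 1)
    (xy : x ≠ y) (h : ∀ τ, Ev τ → π * io τ * π⁻¹ = io (swap x y * τ * (swap x y)⁻¹)) : T22 π := by
  have k := fix_inl h4 (π := swap (inl x) (inl y) * π) fun τ t => by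
    rw [mul_assoc, mul_inv_eq_iff_eq_mul.1 (h τ t), io_mul, io_mul, io_inv, io_swap, swap_inv,
      ← mul_assoc, ← mul_assoc, ← mul_assoc, swap_mul_self, one_mul, mul_assoc]
  have xy' : (inl x : α ⊕ Fin 4) ≠ inl y := by simpa
  have k1 : π (inl x) = inl y := by
    have := k x
    rwa [Perm.mul_apply, swap_apply_eq_iff, swap_apply_left] at this
  have k2 : π (inl y) = inl x := by rw [← k1, sq_apply s]
  have c : swap (inl x) (inl y) * π = π * swap (inl x) (inl y) := by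
    rw [eq_comm, ← mul_inv_eq_iff_eq_mul, conj_swap, k1, k2, swap_comm]
  have s' := sq_mul (swap_mul_self _ _) s c
  have ho := he.odd' (odd_swap xy')
  have e0 : π = swap (inl x) (inl y) * (swap (inl x) (inl y) * π) := by
    rw [← mul_assoc, swap_mul_self, one_mul]
  generalize swap (inl x) (inl y) * π = ω at *
  rcases inv_cases s' with e | ⟨i, j, ij, e⟩ | ⟨i, j, n⟩
  · exact absurd (e ▸ Ev.one) ho
  · have := k x
    have := k y
    exact ⟨inl x, inl y, i, j, by subst e; grind, by rw [e0, e]; rfl⟩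
  · exfalso
    refine ho ((show ω = dd i (ω i) j (ω j) from ?_) ▸ ev_dd (by grind) (by grind))
    have q1 := sq_apply s' i
    have q2 := sq_apply s' j
    have all : ∀ z, z ∉ [i, ω i, j, ω j] → ω z = z := by
      rintro (z | l) hz
      · exact k z
      exfalso
      have sub : ∀ z ∈ [i, ω i, j, ω j, inr l], z ∈ [inr 0, inr 1, inr 2, (inr 3 : α ⊕ Fin 4)] := by
        rintro (z | m) hz
        · have := k z
          clear * - this hz n q1 q2; grind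
        · fin_cases m <;> simp
      have := ((by grind : [i, ω i, j, ω j, inr l].Nodup).subperm sub).length_le
      simp at this
    ext z
    have := all z
    clear * - this n q1 q2
    simp only [dd, Perm.mul_apply]; grind (splits := 40)

namespace Big

theorem u2 (h : Geo α P) (al : Al α P) (b : Big P φ A B Φ X p q u v) (d : DD P w)
    (hw : w ∈ N[A]) : ∃ π, T22 π ∧ Φ π = w := by
  have hΦ := b.fr
  have := h.n5
  have n0 : [inr 0, inr 1, inr 2, (inr 3 : α ⊕ Fin 4)].Nodup := by simp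
  rcases b.S.gf.zs h al d hw with e | ⟨_, ⟨a, b', c, d', n, rfl⟩, e⟩ | ⟨x, y, xy, e⟩
  · obtain ⟨g, g1, g2⟩ := (b.S.c.s4 h).conj b.S.gf.pA (hΦ.fo n0) (b.memK (.inr (.inl rfl)))
      (b.memK (.inr (.inr (.inl rfl)))) e (twoE_of_sq d.1)
    obtain ⟨τ, t1, t2⟩ := (hΦ.mem_fo n0).1 g2
    obtain ⟨π, a⟩ := hΦ.exists_act (by simp; omega) (by simp; omega)
      (inv_mem (b.N_le h al (C_le_N _ g1)))
    refine ⟨_, (t1.t22 n0 ?_).conj π, by rw [← a _ (t1.ev n0), t2]; group⟩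
    rintro rfl
    exact (d.conj h g).2.1 (by rw [← t2, hΦ.one])
  · exact ⟨_, ⟨inl a, inl b', inl c, inl d', by simpa using n, rfl⟩, by
      rw [← io_dd, b.ext _ (ev_dd (by grind) (by grind)), e]⟩
  · obtain ⟨π, p1, rfl⟩ := hΦ.surj (b.tr_mem h al d xy e)
    refine ⟨π, t22_of_tr h.n4 p1 (hΦ.sq' p1 d.1) xy fun τ t => ?_, rfl⟩
    refine hΦ.inj (t.io.conj π) (t.conj _).io ?_
    rw [← hΦ.conj p1 t.io, b.ext τ t, e τ t, b.ext _ (t.conj _)]

theorem cent_N (h : Geo α P) (b : Big P φ A B Φ X p q u v) {π : Perm (α ⊕ Fin 4)} (t : T22 π)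
    (hg : g * Φ π = Φ π * g) : ∃ ρ, Ev ρ ∧ (Φ ρ)⁻¹ * g * Φ ρ ∈ N[A] := by
  obtain ⟨ρ, r1, e⟩ := b.pt t
  have fo := b.fr.fo (by simp : [inr 0, inr 1, inr 2, (inr 3 : α ⊕ Fin 4)].Nodup)
  refine ⟨ρ, r1, h.cN b.S.gf.pA (b.memK (.inr (.inl rfl))) fo.a2 fo.a1 ?_⟩
  rw [← e] at hg
  simpa [mul_assoc] using H23.TC.conj_comm hg (Φ ρ)⁻¹

theorem normal (h : Geo α P) (al : Al α P) (b : Big P φ A B Φ X p q u v) (x : G) : x ∈ N[X] := by
  have hΦ := b.fr
  have := h.n5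
  refine uq_main hΦ (by simp; omega) (fun η t g hg => ?_) x
  have d : DD P (g * Φ η * g⁻¹) := by
    obtain ⟨ρ, r1, e⟩ := b.pt t
    have fo := b.fr.fo (by simp : [inr 0, inr 1, inr 2, (inr 3 : α ⊕ Fin 4)].Nodup)
    exact (e ▸ DD.conj h ⟨fo.a2, fo.a1, A, b.S.gf.pA, b.memK (.inr (.inl rfl))⟩ _).conj h g
  obtain ⟨π, a1⟩ := hΦ.exists_act (by simp; omega) (by simp; omega) hg
  obtain ⟨i, j, k, l, n, hc⟩ := exists_dd_comm (by simp; omega) (a1.sq1 hΦ (by simp) d.1)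
  obtain ⟨ρ, r1, m⟩ := b.cent_N h ⟨i, j, k, l, n, rfl⟩ (a1.comm (ev_dd (by grind) (by grind)) hc)
  obtain ⟨τ, t1, e⟩ := b.u2 h al (by simpa using d.conj h (Φ ρ)⁻¹) m
  obtain ⟨ρ', r2, e2⟩ := (t1.conj ρ).conj_ev t
  have e3 : Φ ρ' * g * Φ η = Φ η * (Φ ρ' * g) := by
    rw [← mul_inv_eq_iff_eq_mul]
    conv_rhs => rw [← e2, ← hΦ.conj r2 (t1.ev.conj ρ), ← hΦ.conj r1 t1.ev, e]
    group
  obtain ⟨ρ'', r3, m2⟩ := b.cent_N h t e3
  have l : X ≤ N[X] := norm_self _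
  have := mul_mem (inv_mem (l (hΦ.mem r2))) (mul_mem (mul_mem (l (hΦ.mem r3)) (b.N_le h al m2))
    (inv_mem (l (hΦ.mem r3))))
  simpa [mul_assoc] using this

end Big

theorem Sd.alt (h : Geo α P) (al : Al α P) (S : Sd P φ A B p q u v) (a : Asm φ A B) :
    Nonempty (normalClosure (A : Set G) ≃* alternatingGroup (α ⊕ Fin 4)) := by
  obtain ⟨Φ, X, hΦ, e, l⟩ := a.big S.gf.fr h.n5
  have b : Big P φ A B Φ X p q u v := ⟨S, hΦ, e, l⟩
  have hn : X.Normal := nml_top_iff.1 ⟨le_top, fun x _ => b.normal h al x⟩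
  have : normalClosure (A : Set G) = X := by
    refine le_antisymm (normalClosure_le_normal b.A_le) (l.trans (sup_le le_normalClosure ?_))
    obtain ⟨g, rfl⟩ := h.tr A B S.c.pA S.c.pB
    exact cj_le_of_mem_N le_normalClosure (norm_of_normal ⊤ _ (mem_top g))
  exact this ▸ hΦ.equiv

end H5.SA
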