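import Mathlib
import Cfsg.Agent.H5.SA6

/-!
# Standard alternating subgroups: degree five, existence of a transposition
-/

set_option autoImplicit false
set_option linter.unusedSectionVars false
set_option linter.unusedVariables false

namespace H5.SA

open Cfsg H24 H26 H26.Gold Subgroup Equiv Equiv.Perm
open H23.TC (R2 sq_mul mem_syl)

universe u

variable {G : Type u} [Group G] [Finite G] {α : Type} [Fintype α] [DecidableEq α]
  {φ ψ χ : Perm α → G} {A B C K T A' B' : Subgroup G} {g k m r s t v w y z r' v' : G}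
  {σ τ ρ η : Perm α} {P : Subgroup G → Prop}

theorem tr5 (h5 : Fintype.card α = 5) (s : σ * σ = 1) (ho : ¬ Ev σ) : Tr σ := by
  rcases inv_cases s with rfl | h | ⟨a, c, n⟩
  · exact absurd Ev.one ho
  · exact h
  refine absurd ?_ ho
  obtain ⟨e, he⟩ := fresh [a, σ a, c, σ c] (by simp; omega)
  have k := mem_of_card (l := [a, σ a, c, σ c, e]) (by grind) (by simp; omega)
  have s' := sq_apply s
  have : σ = dd a (σ a) c (σ c) := by
    ext z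
    have := k z
    have := k (σ z)
    simp only [dd, Perm.mul_apply]
    grind (splits := 40)
  rw [this]; exact ev_dd (by grind) (by grind)

theorem cube5 {p q u v : α} (h5 : Fintype.card α = 5) (n : [p, q, u, v].Nodup)
    (s : σ * σ * σ = 1) (c : σ * dd p q u v = dd p q u v * σ) : σ = 1 := by
  obtain ⟨e, he⟩ := fresh [p, q, u, v] (by simp; omega)
  have k := mem_of_card (l := [p, q, u, v, e]) (by grind) (by simp; omega)
  have s' := cube_apply s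
  have c' := comm_apply c
  simp only [dd, Perm.mul_apply] at c'
  have inj : ∀ x y, σ x = σ y → x = y := fun x y h => σ.injective h
  have h1 := c' p
  have h2 := c' u
  have h3 := c' e
  have h4 := c' q
  have h5 := c' v
  have kp := k (σ p)
  have ku := k (σ u)
  have ke := k (σ e)
  have e1 : σ e = e := by grind (splits := 40)
  have e2 : σ p = p := by
    have := s' p
    have := s' u
    grind (splits := 60)
  have e3 : σ u = u := by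
    have := s' u
    grind (splits := 60)
  ext z
  have := k z
  simp only [Perm.one_apply]
  grind

/-- the stabiliser of an unordered pair of subgroups -/
def EM (A B : Subgroup G) : Subgroup G where
  carrier := {g | H24.cj g A = A ∧ H24.cj g B = B ∨ H24.cj g A = B ∧ H24.cj g B = A}
  one_mem' := Or.inl ⟨H24.cj_one _, H24.cj_one _⟩
  mul_mem' := by
    rintro a b (⟨h1, h2⟩ | ⟨h1, h2⟩) (⟨h3, h4⟩ | ⟨h3, h4⟩) <;> simp [H24.cj_mul, *]
  inv_mem' := by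
    rintro a (⟨h1, h2⟩ | ⟨h1, h2⟩)
    · exact Or.inl ⟨(cj_eq_iff.1 h1).symm, (cj_eq_iff.1 h2).symm⟩
    · exact Or.inr ⟨(cj_eq_iff.1 h2).symm, (cj_eq_iff.1 h1).symm⟩

theorem mem_EM : g ∈ EM A B ↔
    g ∈ N[A] ∧ g ∈ N[B] ∨ H24.cj g A = B ∧ H24.cj g B = A := by
  rw [mem_N_iff_cj, mem_N_iff_cj]; rfl

theorem cjC (e : H24.cj g A = B) (hk : k ∈ C[A]) : g * k * g⁻¹ ∈ C[B] := by
  rw [← e, ← cj_C]; exact conj_mem_cj g hk

theorem EM.cC (hg : g ∈ EM A B) (h1 : k ∈ C[A]) (h2 : k ∈ C[B]) :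
    g * k * g⁻¹ ∈ C[A] ∧ g * k * g⁻¹ ∈ C[B] := by
  rcases hg with ⟨a, b⟩ | ⟨a, b⟩
  exacts [⟨cjC a h1, cjC b h2⟩, ⟨cjC b h2, cjC a h1⟩]

theorem Geo.dec (h : Geo α P) (hA : P A) (h1 : r ∈ C[A]) (h2 : r' ∈ C[A]) (h3 : v ∈ A)
    (h4 : v' ∈ A) (e : r * v = r' * v') : r = r' ∧ v = v' := by
  have : r'⁻¹ * r = 1 := h.inf_C hA (by
    rw [show r'⁻¹ * r = v' * v⁻¹ by rw [inv_mul_eq_iff_eq_mul, ← mul_assoc, ← e]; simp]
    exact mul_mem h4 (inv_mem h3)) (mul_mem (inv_mem h2) h1)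
  obtain rfl : r' = r := inv_mul_eq_one.1 this
  exact ⟨rfl, mul_left_cancel e⟩

theorem Geo.cj_eq (h : Geo α P) (hA : P A) (hB : P B) (h1 : r ∈ C[A]) (r2 : r * r = 1) (r1 : r ≠ 1)
    (h2 : g * r * g⁻¹ ∈ C[B]) : H24.cj g A = B :=
  h.te _ _ _ (h.cj g A hA) hB (cjC rfl h1) h2 (H7.SJ.conj_sq r2 g) (H23.TC.conj_ne r1 g)

/-- degree five, no element of `D` induces a transposition -/
structure N5 (α : Type) [Fintype α] [DecidableEq α] (P : Subgroup G → Prop) : Prop where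
  h : Geo α P
  h5 : Fintype.card α = 5
  al : Al α P
  nt : ∀ C w, P C → DD P w → w ∈ N[C] → w ∈ C[C] ∨ w ∈ C

/-- a diagonal pair -/
structure Dg (α : Type) [Fintype α] [DecidableEq α] (P : Subgroup G → Prop) (A B : Subgroup G)
    (r v : G) : Prop where
  c : Good α P A B
  mr : r ∈ C[A]
  mv : v ∈ C[B]
  r2 : r * r = 1
  v2 : v * v = 1
  r1 : r ≠ 1
  v1 : v ≠ 1

/-- membership in the elementary abelian group of an edge -/
def InE (A B : Subgroup G) (y : G) : Prop :=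
  ∃ r ∈ C[A], ∃ v ∈ C[B], r * r = 1 ∧ v * v = 1 ∧ y = r * v

theorem Dg.conj (h : Geo α P) (d : Dg α P A B r v) (g : G) :
    Dg α P (H24.cj g A) (H24.cj g B) (g * r * g⁻¹) (g * v * g⁻¹) :=
  ⟨d.c.conj h g, cjC rfl d.mr, cjC rfl d.mv, H7.SJ.conj_sq d.r2 g, H7.SJ.conj_sq d.v2 g,
    H23.TC.conj_ne d.r1 g, H23.TC.conj_ne d.v1 g⟩

namespace N5

variable (H : N5 α P)
include H

theorem inD (hA : P A) (hw : w ∈ A) (w2 : w * w = 1) (w1 : w ≠ 1) : DD P w := by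
  obtain ⟨φ, hφ⟩ := H.h.fr A hA
  obtain ⟨σ, s1, rfl⟩ := hφ.surj hw
  exact H.al.dd H.h H.h5 hA hφ (t22_small (by have := H.h5; omega) s1 (hφ.sq' s1 w2)
    (by rintro rfl; exact w1 hφ.one))

theorem diag (d : Dg α P A B r v) : ¬ DD P (r * v) := by
  obtain ⟨φ, hφ⟩ := H.h.fr A d.c.pA
  obtain ⟨σ, s1, rfl⟩ := hφ.surj (d.c.imem H.h d.mv d.v2)
  obtain ⟨p, q, u, v, n, rfl⟩ := t22_small (by have := H.h5; omega) s1 (hφ.sq' s1 d.v2)
    (by rintro rfl; exact d.v1 hφ.one)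
  exact d.c.diag5 H.h H.h5 hφ n d.mv d.mr d.r2 d.r1

theorem kcomm (c : Good α P A B) (hC : P C) (h1 : r ∈ C[C]) (h2 : s ∈ C[C]) (r2 : r * r = 1)
    (s2 : s * s = 1) : r * s = s * r := by
  obtain ⟨a, ha, b, hb, f⟩ := fo_of_r2 (H.h.r2 C hC)
  exact f.comm (c.inv5 H.h H.h5 hC f ha hb h1 r2) (c.inv5 H.h H.h5 hC f ha hb h2 s2)

theorem rv (c : Good α P A B) (h1 : r ∈ C[A]) (h2 : v ∈ C[B]) (v2 : v * v = 1) : r * v = v * r :=
  mem_C'.1 h1 _ (c.imem H.h h2 v2)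

theorem ecomm (c : Good α P A B) (h1 : r ∈ C[A] ∨ r ∈ C[B]) (h2 : s ∈ C[A] ∨ s ∈ C[B])
    (r2 : r * r = 1) (s2 : s * s = 1) : r * s = s * r := by
  rcases h1 with h1 | h1 <;> rcases h2 with h2 | h2
  exacts [H.kcomm c c.pA h1 h2 r2 s2, H.rv c h1 h2 s2, (H.rv c h2 h1 r2).symm,
    H.kcomm c c.pB h1 h2 r2 s2]

theorem AB (c : Good α P A B) (h1 : w ∈ A) (h2 : w ∈ B) : w = 1 := by
  obtain ⟨a, ha, b, hb, f⟩ := fo_of_r2 (H.h.r2 A c.pA)
  obtain ⟨ψ, hψ⟩ := H.h.fr B c.pB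
  have a1 := c.symm.imem H.h ha f.a2
  have b1 := c.symm.imem H.h hb f.b2
  obtain ⟨x, x1, x2⟩ := H.h.cent5 H.h5 hψ f (norm_self _ a1) (norm_self _ b1) (norm_self _ h2)
    (fun x hx hc => H.h.inf_C c.pB (f.le a1 b1 hx) hc) (mem_C.1 ha _ h1) (mem_C.1 hb _ h1)
  have := H.h.inf_C c.pB (mul_mem h2 (f.le a1 b1 x1)) x2
  exact H.h.inf_C c.pA h1 (by rw [eq_inv_of_mul_eq_one_left this]; exact inv_mem (f.le ha hb x1))

theorem dNN (c : Good α P A B) (d : DD P w) (h1 : w ∈ N[A]) (h2 : w ∈ N[B]) :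
    w ∈ C[A] ∨ w ∈ C[B] := by
  rcases H.nt A w c.pA d h1 with e | e
  · exact Or.inl e
  rcases H.nt B w c.pB d h2 with e' | e'
  · exact Or.inr e'
  exact absurd (H.AB c e e') d.2.1

theorem dM (c : Good α P A B) (d : DD P w) (hw : w ∈ EM A B) : w ∈ C[A] ∨ w ∈ C[B] := by
  rcases mem_EM.1 hw with ⟨h1, h2⟩ | ⟨h1, h2⟩
  · exact H.dNN c d h1 h2
  exfalso
  have d0 := d
  obtain ⟨w2, w1, C, hC, wC⟩ := d
  have wi := inv_of_sq w2
  have dg : ∀ {r}, r ∈ C[A] → r * r = 1 → r ≠ 1 → Dg α P A B r (w * r * w⁻¹) := fun hr r2 r1 =>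
    ⟨c, hr, cjC h1 hr, r2, H7.SJ.conj_sq r2 w, r1, H23.TC.conj_ne r1 w⟩
  have cw : ∀ {r}, r ∈ C[A] → r * r = 1 → r * (w * r * w⁻¹) * w = w * (r * (w * r * w⁻¹)) :=
    fun {r} hr r2 => by
      rw [show w * (r * (w * r * w⁻¹)) = w * r * w⁻¹ * (w * w) * r * w⁻¹ by group, w2, mul_one,
        ← H.rv c hr (cjC h1 hr) (H7.SJ.conj_sq r2 w), wi]
  have key : ∀ {r}, r ∈ C[A] → r * r = 1 → r ≠ 1 → w * (r * (w * r * w⁻¹)) ∈ C := fun {r} hr r2 r1 => by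
    have e : w * (r * (w * r * w⁻¹)) = w * r * w * (w * r)⁻¹ := by
      rw [mul_inv_rev, inv_of_sq r2]; group
    have d1 : DD P (w * (r * (w * r * w⁻¹))) := e ▸ d0.conj H.h _
    rcases H.nt C _ hC d1 (H.h.cN hC wC w2 w1 (by rw [mul_assoc, cw hr r2])) with e1 | e1
    · have g := dg hr r2 r1
      refine absurd ⟨sq_mul r2 g.v2 (H.rv c hr g.mv g.v2), fun e => d1.2.1 ?_, C, hC,
        by simpa using mul_mem (inv_mem wC) e1⟩ (H.diag g)
      exact absurd (H.h.te1 c.pA c.pB c.ne hr (by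
        rw [eq_inv_of_mul_eq_one_left e]; exact inv_mem g.mv) r2) r1
    · exact e1
  obtain ⟨a, ha, b, hb, f⟩ := fo_of_r2 (H.h.r2 A c.pA)
  have g := dg (mul_mem ha hb) f.m2 f.m1
  refine H.diag g (H.inD hC ?_ (sq_mul g.r2 g.v2 (H.rv c g.mr g.mv g.v2)) fun e => ?_)
  · have := mul_mem (key ha f.a2 f.a1) (key hb f.b2 f.b1)
    have e1 := H.rv c hb (cjC h1 ha) (H7.SJ.conj_sq f.a2 w)
    rw [← cw ha f.a2, mul_assoc _ w, ← mul_assoc w w, w2, one_mul] at this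
    rw [H23.TC.conj_mul]
    generalize w * a * w⁻¹ = a' at *
    generalize w * b * w⁻¹ = b' at *
    rwa [mul_assoc, ← mul_assoc a', ← e1, mul_assoc, ← mul_assoc] at this
  · exact g.r1 (H.h.te1 c.pA c.pB c.ne g.mr (by
      rw [eq_inv_of_mul_eq_one_left e]; exact inv_mem g.mv) g.r2)

theorem two_le (d : Dg α P A B r v) (hT : TwoG T) (h1 : r ∈ T) (h2 : v ∈ T) : T ≤ EM A B := by
  by_contra hn
  obtain ⟨x, x1, x2, x3⟩ := H23.TC.exists_norm_lt hT (inf_le_left (b := EM A B))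
    (fun e => hn (e.trans inf_le_right))
  have c := d.c
  have m1 : r ∈ T ⊓ EM A B := ⟨h1, mem_EM.2 (Or.inl ⟨C_le_N _ d.mr, c.K1 H.h d.mr⟩)⟩
  have m2 : v ∈ T ⊓ EM A B := ⟨h2, mem_EM.2 (Or.inl ⟨c.K2 H.h d.mv, C_le_N _ d.mv⟩)⟩
  have k1 := (H.dM c (DD.conj H.h ⟨d.r2, d.r1, A, c.pA, d.mr⟩ x) (conj_mem x2 m1).2).imp
    (H.h.cj_eq c.pA c.pA d.mr d.r2 d.r1) (H.h.cj_eq c.pA c.pB d.mr d.r2 d.r1)
  have k2 := (H.dM c (DD.conj H.h ⟨d.v2, d.v1, B, c.pB, d.mv⟩ x) (conj_mem x2 m2).2).imp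
    (H.h.cj_eq c.pB c.pA d.mv d.v2 d.v1) (H.h.cj_eq c.pB c.pB d.mv d.v2 d.v1)
  refine x3 ⟨x1, ?_⟩
  rcases k1 with k1 | k1 <;> rcases k2 with k2 | k2
  exacts [absurd (cj_inj.1 (k1.trans k2.symm)) c.ne, Or.inl ⟨k1, k2⟩, Or.inr ⟨k1, k2⟩,
    absurd (cj_inj.1 (k1.trans k2.symm)) c.ne]

theorem Dg.fo (d : Dg α P A B r v) : Fo r v :=
  ⟨d.r2, d.v2, d.r1, d.v1, fun e => d.r1 (H.h.te1 d.c.pA d.c.pB d.c.ne d.mr (e ▸ d.mv) d.r2),
    H.rv d.c d.mr d.mv d.v2⟩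

theorem fixN (d : Dg α P A B r v) (hg : g * (r * v) = r * v * g) (hN : g ∈ N[A]) :
    g * r * g⁻¹ = r ∧ g * v * g⁻¹ = v :=
  have m := d.c.imem H.h d.mv d.v2
  H.h.dec d.c.pA (cC hN d.mr) d.mr (conj_mem hN m) m (by
    rw [← H23.TC.conj_mul, hg, mul_inv_cancel_right])

theorem czr (d : Dg α P A B r v) (hg : g * (r * v) = r * v * g) :
    g * r * g⁻¹ = r ∨ g * r * g⁻¹ = v := by
  have c := d.c
  have f := N5.Dg.fo H d
  have eC : ∀ {x}, x * x = 1 → x ∈ C[A] ∨ x ∈ C[B] → x ∈ C{r * v} := fun {x} x2 hx => mem_C1.2 (by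
    rw [← mul_assoc, H.ecomm c hx (Or.inl d.mr) x2 d.r2, mul_assoc,
      H.ecomm c hx (Or.inr d.mv) x2 d.v2, mul_assoc])
  have rC := eC d.r2 (Or.inl d.mr)
  obtain ⟨T, hT, hle⟩ := Sylow_superset Nat.prime_two f.two (f.le rC (eC d.v2 (Or.inr d.mv)))
  have tM := H.two_le d hT.pi (hle f.mem_a) (hle f.mem_b)
  have key : ∀ g ∈ C{r * v}, r⁻¹ * (g * r * g⁻¹) ∈ zpowers (r * v) →
      g * r * g⁻¹ = r ∨ g * r * g⁻¹ = v := fun g _ e => by
    rcases H7.SJ.mem_zp f.m2 e with e | e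
    · exact Or.inl (inv_mul_eq_one.1 e).symm
    · rw [inv_mul_eq_iff_eq_mul, f.aab] at e; exact Or.inr e
  have hN : C{r * v} ≤ N[zpowers (r * v)] := norm_of_cent (C_zpowers _).ge
  have z := H7.SJ.zstar_mod (Z := zpowers (r * v)) (C_zpowers _).ge hT
    (zpowers_le.2 (mul_mem (hle f.mem_a) (hle f.mem_b))) (hle f.mem_a) (fun e => by
      rcases H7.SJ.mem_zp f.m2 e with e | e
      · exact f.a1 e
      · exact f.b1 (by simpa using e)) (by rw [d.r2]; exact one_mem _) fun g hg e => by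
      rcases H.dM c (DD.conj H.h ⟨d.r2, d.r1, A, c.pA, d.mr⟩ g) (tM e) with e1 | e1
      · rw [(H.fixN d (mem_C1.1 hg) (H.h.cjN c.pA d.mr d.r2 d.r1 e1)).1]; simp
      · have e2 := H.h.cj_eq c.pA c.pB d.mr d.r2 d.r1 e1
        have := (H.h.dec c.pB e1 d.mv (e2 ▸ conj_mem_cj g (c.imem H.h d.mv d.v2))
          (c.symm.imem H.h d.mr d.r2) (by
            rw [← H23.TC.conj_mul, mem_C1.1 hg, mul_inv_cancel_right, f.c])).1
        rw [this, inv_of_sq d.r2]; exact mem_zpowers _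
  obtain ⟨a, ha, b, hb, f'⟩ := fo_of_r2 (H.h.r2 A c.pA)
  have o1 : Od[C{r * v}] ≤ N[A] := H7.SJ.gen1 f'.ea f'.card.ge (Od_odd _)
    ((f'.le (eC f'.a2 (Or.inl ha)) (eC f'.b2 (Or.inl hb))).trans (pcore_nml _ _).norm)
    fun x hx x1 y hy => H.h.cN c.pA (f'.le ha hb hx) (f'.sq hx) x1 (mem_C1.1 hy.2)
  have o2 : Od[C{r * v}] ≤ C{r * v} ⊓ H7.SJ.cz r (zpowers (r * v)) := fun x hx => by
    have x1 := pcore_le _ _ hx
    refine ⟨x1, (H7.SJ.mem_cz (hN rC)).2 ⟨hN x1, ?_⟩⟩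
    rw [(H.fixN d (mem_C1.1 x1) (o1 hx)).1]; simp
  have := (z.trans (sup_le o2 le_rfl)) (mem_C1.2 hg)
  exact key g this.1 ((H7.SJ.mem_cz (hN rC)).1 this.2).2

theorem cz (d : Dg α P A B r v) (hg : g * (r * v) = r * v * g) :
    g * r * g⁻¹ = r ∧ g * v * g⁻¹ = v ∨ g * r * g⁻¹ = v ∧ g * v * g⁻¹ = r := by
  have f := N5.Dg.fo H d
  have e : g * r * g⁻¹ * (g * v * g⁻¹) = r * v := by
    rw [← H23.TC.conj_mul, hg, mul_inv_cancel_right]
  rcases H.czr d hg with e1 | e1 <;> rw [e1] at e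
  · exact Or.inl ⟨e1, mul_left_cancel e⟩
  · exact Or.inr ⟨e1, mul_left_cancel (e.trans f.c)⟩

theorem czM (d : Dg α P A B r v) (hg : g * (r * v) = r * v * g) : g ∈ EM A B := by
  have c := d.c
  rcases H.cz d hg with ⟨e1, e2⟩ | ⟨e1, e2⟩
  · exact Or.inl ⟨H.h.cj_eq c.pA c.pA d.mr d.r2 d.r1 (e1.symm ▸ d.mr),
      H.h.cj_eq c.pB c.pB d.mv d.v2 d.v1 (e2.symm ▸ d.mv)⟩
  · exact Or.inr ⟨H.h.cj_eq c.pA c.pB d.mr d.r2 d.r1 (e1.symm ▸ d.mv),
      H.h.cj_eq c.pB c.pA d.mv d.v2 d.v1 (e2.symm ▸ d.mr)⟩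

theorem odd_cent (hA : P A) (hm : m ∈ N[A]) (m3 : m * m * m = 1) (hv : v ∈ A) (v2 : v * v = 1)
    (v1 : v ≠ 1) (e : m * v * m⁻¹ = v) : m ∈ C[A] := by
  obtain ⟨φ, hφ⟩ := H.h.fr A hA
  obtain ⟨σ, s1, rfl⟩ := hφ.surj hv
  obtain ⟨p, q, u, v, n, rfl⟩ := t22_small (by have := H.h5; omega) s1 (hφ.sq' s1 v2)
    (by rintro rfl; exact v1 hφ.one)
  obtain ⟨τ, a⟩ := H.h.act5 H.h5 hφ hm
  obtain rfl := cube5 H.h5 n (Act.eq_one hφ H.h.n4 ((a.mul a).mul a) (m3 ▸ one_mem _))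
    (a.comm' hφ s1 (H23.TC.comm_of_conj e))
  exact a.mem_C hφ

theorem yNN (c : Good α P A B) (d : Dg α P A' B' r' v') (h1 : r' * v' ∈ N[A])
    (h2 : r' * v' ∈ N[B]) : InE A B (r' * v') := by
  have y2 := (N5.Dg.fo H d).m2
  have cy := fun g => H.czM (g := g) d
  generalize r' * v' = y at *
  obtain ⟨φ, hφ⟩ := H.h.fr A c.pA
  obtain ⟨σ, a⟩ := H.h.act5 H.h5 hφ h1
  have s := a.sq1 hφ H.h.n4 y2
  by_cases he : Ev σ
  · have a2 := hφ.sq he s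
    have k1 := a.mem_C' hφ (hφ.act he)
    rw [inv_of_sq a2] at k1
    have k2 := sq_mul y2 a2 (a.comm he rfl)
    have k3 : φ σ ∈ N[B] := by
      simpa [← mul_assoc] using mul_mem (inv_mem h2) (norm_self _ (c.symm.imem H.h k1 k2))
    refine ⟨_, k1, φ σ, ?_, k2, a2, by rw [mul_assoc, a2, mul_one]⟩
    by_cases a1 : φ σ = 1
    · rw [a1]; exact one_mem _
    · exact (H.dNN c (H.inD c.pA (hφ.mem he) a2 a1) (norm_self _ (hφ.mem he)) k3).resolve_left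
        fun e => a1 (H.h.inf_C c.pA (hφ.mem he) e)
  exfalso
  obtain ⟨p, q, pq, rfl⟩ := tr5 H.h5 s he
  have h5 := H.h5
  obtain ⟨i, hi⟩ := fresh [p, q] (by simp; omega)
  obtain ⟨j, hj⟩ := fresh [p, q, i] (by simp; omega)
  obtain ⟨l, hl⟩ := fresh [p, q, i, j] (by simp; omega)
  have k : ∀ j, [p, q, i, j].Nodup → φ (dd p q i j) ∈ C[A'] ∨ φ (dd p q i j) ∈ C[B'] := fun j n => by
    have e : Ev (dd p q i j) := ev_dd (by grind) (by grind)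
    refine H.dM d.c (H.inD c.pA (hφ.mem e) (hφ.fo n).a2 (hφ.fo n).a1) (cy _ (a.comm e ?_).symm)
    clear * - n
    ext z; simp only [dd, Perm.mul_apply]; grind (splits := 40)
  have n1 : [p, q, i, j].Nodup := by grind
  have n2 : [p, q, i, l].Nodup := by grind
  have := hφ.comm' (ev_dd (by grind) (by grind)) (ev_dd (by grind) (by grind))
    (H.ecomm d.c (k j n1) (k l n2) (hφ.fo n1).a2 (hφ.fo n2).a2)
  have := comm_apply this i
  simp only [dd, Perm.mul_apply] at this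
  clear * - this n1 n2 hl
  grind (splits := 40)

theorem ySw (c : Good α P A B) (d : Dg α P A' B' r' v') (h1 : H24.cj (r' * v') A = B)
    (h2 : H24.cj (r' * v') B = A) : False := by
  have f' := N5.Dg.fo H d
  have y2 := f'.m2
  have cy := fun g => H.czM (g := g) d
  have cy' := fun g => H.cz (g := g) d
  have c' := d.c
  generalize hy : r' * v' = y at y2 cy cy' h1 h2
  have yi := inv_of_sq y2
  obtain ⟨φ, p, q, u, v, S⟩ := c.sd H.h
  have hφ := S.gf.fr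
  have n := S.n
  have f := hφ.fo n
  obtain ⟨e1, e2⟩ := fr_h hφ n
  have m1 := hφ.mem (σ := dd p q u v) (ev_dd (by grind) (by grind))
  have m2 := hφ.mem (σ := dd p u q v) (ev_dd (by grind) (by grind))
  have m3 := hφ.mem (σ := H5.SA.cy q v u) (ev_cy (by grind) (by grind))
  have m4 := S.h5 H.h H.h5
  have m5 := S.m1
  have m6 := S.m2
  have c3 := hφ.cy_cube (by grind : [q, v, u].Nodup)
  generalize φ (dd p q u v) = v1 at *
  generalize φ (dd p u q v) = v2 at *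
  generalize φ (H5.SA.cy q v u) = η at *
  have yy : ∀ x, y * (y * x * y⁻¹) * y⁻¹ = x := fun x => by
    rw [yi, ← mul_assoc, ← mul_assoc, y2, one_mul, mul_assoc, y2, mul_one]
  have cm : ∀ {a b}, a ∈ A → b ∈ C[B] → Commute a (y * b * y⁻¹) := fun ha hb =>
    mem_C.1 (cjC h2 hb) _ ha
  have dg : ∀ {a}, a ∈ A → a ∈ C[B] → a * (y * a * y⁻¹) * y = y * (a * (y * a * y⁻¹)) :=
    fun {a} ha hb => by
      rw [show y * (a * (y * a * y⁻¹)) = y * a * y⁻¹ * (y * (y * a * y⁻¹) * y⁻¹) * y by group, yy,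
        (cm ha hb).eq]
  have q3 : η * (y * η * y⁻¹) * (η * (y * η * y⁻¹)) * (η * (y * η * y⁻¹)) = 1 := by
    have : (η * (y * η * y⁻¹)) ^ 3 = 1 := by
      rw [(cm m3 m4).mul_pow, conj_pow, c3]; simp
    rwa [pow_succ, sq] at this
  have mm : η * (y * η * y⁻¹) * r' * (η * (y * η * y⁻¹))⁻¹ = r' ∧
      η * (y * η * y⁻¹) * v' * (η * (y * η * y⁻¹))⁻¹ = v' := by
    rcases cy' _ (dg m3 m4) with e | ⟨a, b⟩
    · exact e
    generalize η * (y * η * y⁻¹) = m at *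
    refine absurd ?_ f'.ab
    calc r' = m * m * m * r' * (m * m * m)⁻¹ := by rw [q3]; simp
      _ = m * (m * (m * r' * m⁻¹) * m⁻¹) * m⁻¹ := by group
      _ = v' := by rw [a, b, a]
  have k1 := H.odd_cent c'.pA (H.h.cjN c'.pA d.mr d.r2 d.r1 (mm.1.symm ▸ d.mr)) q3
    (c'.imem H.h d.mv d.v2) d.v2 d.v1 mm.2
  have k2 := H.odd_cent c'.pB (H.h.cjN c'.pB d.mv d.v2 d.v1 (mm.2.symm ▸ d.mv)) q3
    (c'.symm.imem H.h d.mr d.r2) d.r2 d.r1 mm.1
  obtain ⟨k3, k4⟩ := EM.cC (cy _ (dg m1 m5)) (inv_mem k1) (inv_mem k2)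
  have e : η * (y * η * y⁻¹) * (v1 * (y * v1 * y⁻¹) * (η * (y * η * y⁻¹))⁻¹ *
      (v1 * (y * v1 * y⁻¹))⁻¹) = v2 * v1 * (y * (v2 * v1) * y⁻¹) := by
    have a1 : y * η * y⁻¹ * (y * v1 * y⁻¹) * (y * η * y⁻¹)⁻¹ = y * v2 * y⁻¹ := by rw [← e1]; group
    have a2 := (cm m1 m4).eq
    have a3 := (cm m3 m6).eq
    have a4 := (cm m1 (mul_mem m6 m5)).eq
    have a5 := inv_of_sq (H7.SJ.conj_sq f.a2 y)
    rw [H23.TC.conj_mul] at a4 ⊢
    generalize y * η * y⁻¹ = η' at *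
    generalize y * v1 * y⁻¹ = v1' at *
    generalize y * v2 * y⁻¹ = v2' at *
    calc _ = η * (η' * v1) * v1' * η'⁻¹ * η⁻¹ * v1'⁻¹ * v1⁻¹ := by group
      _ = η * v1 * η⁻¹ * (η * (η' * v1' * η'⁻¹)) * η⁻¹ * v1'⁻¹ * v1⁻¹ := by rw [← a2]; group
      _ = v2 * (v2' * v1' * v1) := by rw [a1, a3, e1, a5, inv_of_sq f.a2]; group
      _ = _ := by rw [← a4]; group
  have g : Dg α P B A (v2 * v1) (y * (v2 * v1) * y⁻¹) := ⟨c.symm, mul_mem m6 m5,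
    cjC h2 (mul_mem m6 m5), f.symm.m2, H7.SJ.conj_sq f.symm.m2 y, f.symm.m1,
    H23.TC.conj_ne f.symm.m1 y⟩
  have g' := N5.Dg.fo H g
  exact g'.m1 (H.h.te1 c'.pA c'.pB c'.ne (e ▸ mul_mem k1 k3) (e ▸ mul_mem k2 k4) g'.m2)

theorem yE (c : Good α P A B) (d : Dg α P A' B' r' v') (h : r' * v' ∈ EM A B) :
    InE A B (r' * v') := by
  rcases mem_EM.1 h with ⟨h1, h2⟩ | ⟨h1, h2⟩
  exacts [H.yNN c d h1 h2, (H.ySw c d h1 h2).elim]

theorem InE.mul (c : Good α P A B) (h1 : InE A B y) (h2 : InE A B z) : InE A B (y * z) := by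
  obtain ⟨a, a1, b, b1, a2, b2, rfl⟩ := h1
  obtain ⟨a', a1', b', b1', a2', b2', rfl⟩ := h2
  refine ⟨_, mul_mem a1 a1', _, mul_mem b1 b1', sq_mul a2 a2' (H.kcomm c c.pA a1 a1' a2 a2'),
    sq_mul b2 b2' (H.kcomm c c.pB b1 b1' b2 b2'), ?_⟩
  rw [mul_assoc, ← mul_assoc b, ← H.rv c a1' b1 b2]; group

theorem D_sub (c : Good α P A B) (d : DD P w) : w ∈ A ∨ w ∈ B := by
  obtain ⟨r, hr, _, -, f1⟩ := fo_of_r2 (H.h.r2 A c.pA)
  obtain ⟨v, hv, _, -, f2⟩ := fo_of_r2 (H.h.r2 B c.pB)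
  have g : Dg α P A B r v := ⟨c, hr, hv, f1.a2, f2.a2, f1.a1, f2.a1⟩
  have f := N5.Dg.fo H g
  obtain ⟨y, -, y1, y2, y3, y4, x, -, hx⟩ := H7.SJ.dih (H := ⊤) trivial trivial f.m2 d.1
    fun x _ e => H.diag g (by simpa [← e, mul_assoc] using d.conj H.h x⁻¹)
  have m : r * v * y ∈ EM A B := H.czM g (by rw [mul_assoc, mem_C1.1 y3])
  have e1 : InE A B (r * v * y) := by
    rcases hx with e | e
    · rw [e, H23.TC.conj_mul] at m ⊢
      exact H.yE c (g.conj H.h x) m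
    · have d' := d.conj H.h x
      rw [← e] at d'
      rcases H.dM c d' m with k | k
      · exact ⟨_, k, 1, one_mem _, d'.1, mul_one _, (mul_one _).symm⟩
      · exact ⟨1, one_mem _, _, k, mul_one _, d'.1, (one_mul _).symm⟩
  have e2 := N5.InE.mul H c ⟨r, hr, v, hv, g.r2, g.v2, rfl⟩ e1
  rw [← mul_assoc, f.m2, one_mul] at e2
  obtain ⟨a, a1, b, b1, a2, b2, rfl⟩ := e2
  have y5 := mem_C1.1 y4
  have kk : w ∈ C[A] ∨ w ∈ C[B] → w ∈ A ∨ w ∈ B := fun e =>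
    e.elim (fun e => Or.inr (c.symm.imem H.h e d.1)) fun e => Or.inl (c.imem H.h e d.1)
  by_cases a3 : a = 1
  · rw [a3, one_mul] at y1 y5
    exact (H.nt B w c.pB d (H.h.cN' c.pB b1 b2 y1 y5)).elim (fun e => kk (Or.inr e)) Or.inr
  by_cases b3 : b = 1
  · rw [b3, mul_one] at y5
    exact (H.nt A w c.pA d (H.h.cN' c.pA a1 a2 a3 y5)).elim (fun e => kk (Or.inl e)) Or.inl
  exact kk (H.dM c d (H.czM ⟨c, a1, b1, a2, b2, a3, b3⟩ y5.symm))

theorem false (c : Good α P A B) : False := by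
  obtain ⟨v, hv, _, -, f⟩ := fo_of_r2 (H.h.r2 B c.pB)
  refine H.h.not_le_N c.pA c.pB c.ne hv (c.K2 H.h hv) f.a2 f.a1 fun g hg => mem_N_of_cj_le ?_
  have c' := c.conj H.h g
  rw [H24.cj_of_mem hg] at c'
  obtain ⟨χ, hχ⟩ := H.h.fr _ c'.pB
  have k : ∀ {a b i j}, [a, b, i, j].Nodup → χ (dd a b i j) ∈ B := fun {a b i j} n => by
    have m := hχ.mem (ev_dd (by grind) (by grind) : Ev (dd a b i j))
    exact (H.D_sub c (H.inD c'.pB m (hχ.fo n).a2 (hχ.fo n).a1)).resolve_left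
      fun e => (hχ.fo n).a1 (H.AB c' e m)
  have h5 := H.h5
  obtain ⟨a, -⟩ := fresh ([] : List α) (by simp; omega)
  obtain ⟨b, hb⟩ := fresh [a] (by simp; omega)
  refine hχ.le_of_cy (a := a) (b := b) (by grind) fun i i1 i2 => ?_
  obtain ⟨j, hj⟩ := fresh [a, b, i] (by simp; omega)
  obtain ⟨l, hl⟩ := fresh [a, b, i, j] (by simp; omega)
  have n : [a, b, i, j, l].Nodup := by grind
  have e : cy a b i = dd a b j l * dd j l a i := by
    simp only [cy, dd, mul_assoc, swap_mul_self_mul]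
  rw [e, hχ.mul (ev_dd (by grind) (by grind)) (ev_dd (by grind) (by grind))]
  exact mul_mem (k (by grind)) (k (by grind))

end N5

/-- the alternating case -/
theorem Good.alt (h : Geo α P) (al : Al α P) (c : Good α P A B) :
    Nonempty (normalClosure (A : Set G) ≃* alternatingGroup (α ⊕ Fin 4)) := by
  obtain ⟨φ, p, q, u, v, S⟩ := c.sd h
  by_cases h5 : Fintype.card α = 5
  swap
  · exact S.alt h al (S.asm6 h al (by have := h.n5; omega))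
  by_cases nt : ∀ w, DD P w → w ∈ N[A] → w ∈ C[A] ∨ w ∈ A
  · refine (N5.false ⟨h, h5, al, fun C w hC d hw => ?_⟩ c).elim
    obtain ⟨g, rfl⟩ := h.tr A C c.pA hC
    rw [← cj_N, mem_cj] at hw
    rw [← cj_C, mem_cj, mem_cj]
    exact nt _ (by simpa using d.conj h g⁻¹) hw
  push Not at nt
  obtain ⟨w, d, h1, h2, h3⟩ := nt
  obtain ⟨x, y, xy, a⟩ := S.gf.tr h al d h1 h2 h3
  obtain ⟨i, hi⟩ := fresh [x, y] (by simp; omega)
  obtain ⟨j, hj⟩ := fresh [x, y, i] (by simp; omega)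
  obtain ⟨B', S'⟩ := S.gf.sd (by grind : [x, y, i, j].Nodup)
  exact S'.alt h al (S'.asm5 h al h5 d a).1

end H5.SA
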