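import Mathlib
import Cfsg.Agent.H5.SA7
import Cfsg.Agent.S1174
import Cfsg.Agent.S1347

/-!
# Standard alternating subgroups: existence of an adjacent pair
-/

set_option autoImplicit false
set_option linter.unusedSectionVars false
set_option linter.unusedVariables false

namespace H5.SA

open Cfsg H24 H26 H26.Gold Subgroup Equiv Equiv.Perm
open H23.TC (R2 sq_mul mem_syl Qs)

universe u

variable {G : Type u} [Group G] [Finite G] {α : Type} [Fintype α] [DecidableEq α]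
  {φ ψ χ : Perm α → G} {A B C K T X : Subgroup G} {a d g k r s t v w x y z : G}
  {σ τ ρ η : Perm α} {P : Subgroup G → Prop}

theorem Fr.exists_inv (hφ : Fr φ A) (h5 : 5 ≤ Fintype.card α) : ∃ a ∈ A, ∃ b ∈ A,
    a * a = 1 ∧ a ≠ 1 ∧ a * b ≠ b * a := by
  obtain ⟨p, -⟩ := fresh ([] : List α) (by simp; omega)
  obtain ⟨q, hq⟩ := fresh [p] (by simp; omega)
  obtain ⟨u, hu⟩ := fresh [p, q] (by simp; omega)
  obtain ⟨v, hv⟩ := fresh [p, q, u] (by simp; omega)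
  have n : [p, q, u, v].Nodup := by grind
  have f := hφ.fo n
  refine ⟨_, hφ.mem (ev_dd (by grind) (by grind)), _,
    hφ.mem (σ := cy q v u) (ev_cy (by grind) (by grind)), f.a2, f.a1, fun e => f.ab ?_⟩
  rw [← (fr_h hφ n).1, ← e, mul_inv_cancel_right]

theorem Fr.qs (hφ : Fr φ A) (h5 : 5 ≤ Fintype.card α) : Qs A := by
  obtain ⟨a, ha, b, hb, a2, a1, ab⟩ := hφ.exists_inv h5
  refine ⟨le_antisymm (comm_le_left (norm_self A)) (hφ.simple h5 (norm_comm_left A A)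
    (mul_mem (mul_mem (mul_mem ha hb) (inv_mem ha)) (inv_mem hb)) (commutator_mem_commutator ha hb)
    fun e => ab (by rwa [mul_inv_eq_one, mul_inv_eq_iff_eq_mul] at e)), ne_bot_of_mem ha a1,
    fun M hM => ?_⟩
  by_cases h : M = ⊥
  · exact Or.inr (h ▸ bot_le)
  · obtain ⟨⟨x, x1⟩, x2⟩ := ne_bot_iff_exists_ne_one.1 h
    exact Or.inl (le_antisymm hM.le (hφ.simple h5 hM.norm (hM.le x1) x1 fun e => x2 (Subtype.ext e)))

/-- `t` induces an inner automorphism -/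
def Inn (φ : Perm α → G) (t : G) : Prop := ∃ σ, Ev σ ∧ Act φ t σ

theorem Fr.three (hφ : Fr φ A) (h5 : 5 ≤ Fintype.card α) (hr : r ∈ N[A]) (hd : d ∈ N[A])
    (r2 : r * r = 1) (d2 : d * d = 1) (c : d * r = r * d) : Inn φ r ∨ Inn φ d ∨ Inn φ (d * r) := by
  have h4 : 4 ≤ Fintype.card α := by omega
  rcases hφ.act_or_sw h5 hr with ⟨σ, a1⟩ | s1 <;> rcases hφ.act_or_sw h5 hd with ⟨τ, a2⟩ | s2
  · by_cases e1 : Ev σ
    · exact Or.inl ⟨σ, e1, a1⟩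
    by_cases e2 : Ev τ
    · exact Or.inr (Or.inl ⟨τ, e2, a2⟩)
    exact Or.inr (Or.inr ⟨_, ev_odd e2 e1, a2.mul a1⟩)
  · exact Or.inl ⟨σ, s2.odd hφ h5 hd a1 (a1.sq1 hφ h4 r2) c, a1⟩
  · exact Or.inr (Or.inl ⟨τ, s1.odd hφ h5 hr a2 (a2.sq1 hφ h4 d2) c.symm, a2⟩)
  · obtain ⟨ρ, a⟩ := s2.mul hφ h5 hd s1
    exact Or.inr (Or.inr ⟨ρ, s2.odd hφ h5 hd a (a.sq1 hφ h4 (sq_mul d2 r2 c))
      (by rw [mul_assoc, ← c]), a⟩)

section two

variable (h : Geo α P) (H : ∀ A B, P A → P B → A ≠ B → ¬ R2 (C[B] ⊓ N[A]))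
include h H

theorem Geo.uq (hA : P A) (hB : P B) (hne : A ≠ B) (ht : t ∈ C[B]) (t2 : t * t = 1) (t1 : t ≠ 1)
    (f : Fo r s) (hr : r ∈ C[A]) (hs : s ∈ C[A]) (c1 : r * t = t * r) (c2 : s * t = t * s) : False :=
  H B A hB hA hne.symm (f.r2 ⟨hr, h.cN hB ht t2 t1 c1⟩ ⟨hs, h.cN hB ht t2 t1 c2⟩)

theorem Geo.not_inn (hA : P A) (hB : P B) (hne : A ≠ B) (hφ : Fr φ A) (ht : t ∈ C[B])
    (t2 : t * t = 1) (t1 : t ≠ 1) : ¬ Inn φ t := by
  rintro ⟨σ, he, a⟩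
  have a2 := hφ.sq he (a.sq1 hφ h.n4 t2)
  have k1 := a.mem_C' hφ (hφ.act he)
  rw [inv_of_sq a2] at k1
  have k2 := sq_mul t2 a2 (a.comm he rfl)
  have m := hφ.mem he
  have k : ∀ x ∈ C[A], x * (t * φ σ) = t * φ σ * x → x * t = t * x := fun x hx e => by
    rw [mul_assoc, mem_C.1 hx _ m, ← mul_assoc, ← mul_assoc] at e
    exact mul_right_cancel e
  by_cases k0 : t * φ σ = 1
  · obtain ⟨x, hx, y, hy, f⟩ := fo_of_r2 (h.r2 A hA)
    exact h.uq H hA hB hne ht t2 t1 f hx hy (k x hx (by simp [k0])) (k y hy (by simp [k0]))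
  · obtain ⟨x, hx, x2, x1, x3, x4⟩ := (h.r2 A hA).four k1 k0 k2
    exact h.uq H hA hB hne ht t2 t1 ⟨x2, k2, x1, k0, x3, x4⟩ hx k1 (k x hx x4) (k _ k1 rfl)

theorem Geo.exists_r (hA : P A) (hB : P B) (hne : A ≠ B) (ht : t ∈ C[B]) (htA : t ∈ N[A])
    (t2 : t * t = 1) (t1 : t ≠ 1) : ∃ x ∈ C[A], ∃ r ∈ C[A], r * r = 1 ∧ r ≠ 1 ∧ r * t = t * r ∧
      x * t * x⁻¹ = r * t := by
  obtain ⟨R, hR, -, hn⟩ := H23.TC.exists_syl_inv (H7.SJ.twoG_zp t2)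
    (zpowers_le.2 (N_le_NC A htA)) (isPi_bot _) (bot_le (a := C[A])) (by simp)
  have tR := hn (mem_zpowers t)
  obtain ⟨y, y1, y2, y3⟩ := H23.TC.exists_norm_lt (hR.pi.sup (H7.SJ.twoG_zp t2) hn)
    (inf_le_left (b := C{t})) fun e => by
      obtain ⟨a, ha, b, hb, f⟩ := fo_of_r2 ((h.r2 A hA).syl hR)
      exact h.uq H hA hB hne ht t2 t1 f (hR.le ha) (hR.le hb)
        (mem_C1.1 (e (mem_sup_left ha)).2) (mem_C1.1 (e (mem_sup_left hb)).2)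
  have mt : t ∈ (R ⊔ zpowers t) ⊓ C{t} := ⟨mem_sup_right (mem_zpowers t), mem_C1.2 rfl⟩
  obtain ⟨x, hx, s, hs, rfl⟩ := (mem_sup_of_norm hn).1 y1
  have e : x * s * t * (x * s)⁻¹ = x * t * x⁻¹ := by
    rcases H7.SJ.mem_zp t2 hs with rfl | rfl <;> group
  have c := mem_C1.1 (conj_mem y2 mt).2
  rw [e] at c
  have ti := inv_of_sq t2
  refine ⟨x, hR.le hx, x * t * x⁻¹ * t, hR.le ?_, sq_mul (H7.SJ.conj_sq t2 x) t2 c, fun e' => y3
    ⟨y1, mem_C1_iff_conj.2 (by rw [e, eq_inv_of_mul_eq_one_left e', ti])⟩, by rw [c, mul_assoc, c],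
    by rw [mul_assoc _ t t, t2, mul_one]⟩
  simpa [mul_assoc, ti] using mul_mem hx (conj_mem tR (inv_mem hx))

theorem Geo.two_false (hA : P A) (hB : P B) (hne : A ≠ B) (ht : t ∈ C[B]) (htA : t ∈ N[A])
    (t2 : t * t = 1) (t1 : t ≠ 1) : False := by
  obtain ⟨φ, hφ⟩ := h.fr A hA
  obtain ⟨ψ, hψ⟩ := h.fr B hB
  obtain ⟨x, hx, r, hr, r2, r1, rt, e⟩ := h.exists_r H hA hB hne ht htA t2 t1
  obtain ⟨a, ha, a1, a2⟩ := (hφ.qs h.n5).zs htA t2 fun e => t1 (h.te1 hA hB hne e ht t2)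
  have ti := inv_of_sq t2
  have D : DD P t := ⟨t2, t1, B, hB, ht⟩
  have dA : a * t * a⁻¹ * t ∈ A := by
    simpa [mul_assoc, ti] using mul_mem ha (conj_mem htA (inv_mem ha))
  have d2 := sq_mul (H7.SJ.conj_sq t2 a) t2 a2.symm
  have dt : a * t * a⁻¹ * t * t = t * (a * t * a⁻¹ * t) := by rw [← mul_assoc t, a2]
  have e1 : a * t * a⁻¹ = a * t * a⁻¹ * t * t := by rw [mul_assoc _ t t, t2, mul_one]
  generalize a * t * a⁻¹ * t = d at *
  have dr : d * r = r * d := mem_C.1 hr _ dA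
  have e2 : x * a * t * (x * a)⁻¹ = d * r * t := by
    rw [show x * a * t * (x * a)⁻¹ = x * (a * t * a⁻¹) * x⁻¹ by group, e1, ← mul_assoc,
      mem_C'.1 hx _ dA, mul_assoc d r, ← e]; group
  have key : ∀ {z}, DD P (z * t) → z * z = 1 → z * t = t * z → z * r = r * z → z ≠ 1 →
      ¬ Inn ψ z := fun {z} ⟨z2, z1, C, hC, hz⟩ zz zt zr z0 ⟨σ, he, a⟩ => by
    by_cases hC' : B = C
    · subst hC'
      exact h.uq H hB hA hne.symm hr r2 r1 ⟨zz, t2, z0, t1, fun e => z1 (by rw [e, t2]), zt⟩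
        (by simpa using mul_mem hz (inv_mem ht)) ht zr rt.symm
    · exact h.not_inn H hB hC hC' hψ hz z2 z1 ⟨σ, he, by simpa using a.mul (Act.of_mem_C hψ ht)⟩
  have d1 : d ≠ 1 := fun e => a1 (by rw [e1, e, one_mul])
  rcases hψ.three h.n5 (h.cN hB ht t2 t1 rt) (h.cN hB ht t2 t1 dt) r2 d2 dr with i | i | i
  · exact h.not_inn H hB hA hne.symm hψ hr r2 r1 i
  · exact key (e1 ▸ D.conj h a) d2 dt dr d1 i
  · exact key (e2 ▸ D.conj h _) (sq_mul d2 r2 dr) (by rw [mul_assoc, rt, ← mul_assoc, dt, mul_assoc])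
      (by rw [← mul_assoc, dr]) (fun e => r1 (h.inf_C hA
        (by rw [eq_inv_of_mul_eq_one_right e]; exact inv_mem dA) hr)) i

end two

theorem Geo.one_false (h : Geo α P) [X.Normal] [IsSimpleGroup X] (hq : Qs X)
    (hX : ∀ B, P B → B ≤ X) (hA : P A) (hB : P B) (hne : A ≠ B)
    (H : ∀ t, DD P t → t ∈ N[A] → t ∈ C[A]) : False := by
  have nX : ∀ g, g ∈ N[X] := fun g => by rw [normalizer_eq_top]; trivial
  by_cases hr : ∃ r ∈ C[A], r ∈ X ∧ r * r = 1 ∧ r ≠ 1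
  swap
  · obtain ⟨r, hr', -, -, f⟩ : ∃ a ∈ C[A], ∃ b ∈ C[A], a * a = 1 ∧ a ≠ 1 := by
      obtain ⟨a, ha, b, hb, f⟩ := fo_of_r2 (h.r2 A hA)
      exact ⟨a, ha, b, hb, f.a2, f.a1⟩
    obtain ⟨k, hk, k1, k2⟩ := hq.zs (nX r) f.1 fun e =>
      f.2 (h.te1 hA hB hne hr' (C_anti (hX B hB) e) f.1)
    have := H _ (DD.conj h ⟨f.1, f.2, A, hA, hr'⟩ k) (h.cN' hA hr' f.1 f.2 k2)
    refine hr ⟨_, mul_mem this hr', ?_, sq_mul (H7.SJ.conj_sq f.1 k) f.1 k2.symm,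
      fun e => k1 (by rw [eq_inv_of_mul_eq_one_left e, inv_of_sq f.1])⟩
    simpa [mul_assoc, inv_of_sq f.1] using mul_mem hk (conj_mem (nX r) (inv_mem hk))
  obtain ⟨r, r0, rX, r2, r1⟩ := hr
  obtain ⟨S, hS, hle⟩ := Sylow_superset Nat.prime_two (H7.SJ.twoG_zp r2)
    (zpowers_le.2 (show r ∈ X ⊓ N[A] from ⟨rX, C_le_N _ r0⟩))
  have rS := hle (mem_zpowers r)
  have key : ∀ t ∈ C[A], t * t = 1 → t ≠ 1 → ∀ g, g * t * g⁻¹ ∈ S → g ∈ N[A] := fun t ht t2 t1 g e =>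
    h.cjN hA ht t2 t1 (H _ (DD.conj h ⟨t2, t1, A, hA, ht⟩ g) (hS.le e).2)
  have hS' : Syl 2 X S := hS.of_norm_le Nat.prime_two inf_le_left fun x hx =>
    ⟨hx.1, key r r0 r2 r1 x (conj_mem hx.2 rS)⟩
  obtain ⟨Q, hQ⟩ := hS'.exists_sylow Nat.prime_two
  have hQ' : ∀ x : X, x ∈ (Q : Subgroup X) ↔ (x : G) ∈ S := fun x => by
    rw [← mem_map_iff_mem X.subtype_injective, hQ]; simp
  obtain ⟨M, hM⟩ := Cfsg.Agent.S1174.result Q ((S ⊓ C[A]).subgroupOf X)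
    (ne_bot_of_mem (x := ⟨r, rX⟩) ⟨rS, r0⟩ fun e => r1 (congrArg Subtype.val e))
    ⟨fun x hx => (hQ' x).2 hx.1, fun x hx g hg => by
      have hg' := (hQ' _).1 hg
      refine ⟨hg', ?_⟩
      by_cases x1 : (x : G) = 1
      · simp [x1]
      obtain ⟨y, ⟨n, rfl⟩, y1, y2⟩ := H23.TC.exists_zp_inv (hS.pi.piElt hx.1) x1
      have hx2 : (x : G) ∈ C[A] := hx.2
      exact cC (key _ (zpow_mem hx2 n) y2 y1 g (by
        simpa [conj_zpow] using zpow_mem hg' n)) hx2⟩ fun e => by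
      have : (⊤ : Subgroup X) ≤ N[A].subgroupOf X := e ▸ iSup_le fun t g hg =>
        h.cN hA t.2.1.2 (congrArg Subtype.val (H6.mul_self_of_orderOf_two t.2.2))
          (fun e => H6.ne_one_of_orderOf_two t.2.2 (Subtype.ext e))
          (congrArg Subtype.val (mem_C1.1 hg))
      rcases hq.nml A ⟨hX A hA, fun x hx => this (x := ⟨x, hx⟩) trivial⟩ with e | e
      · exact r1 (h.inf_C hA (e ▸ rX) r0)
      · exact h.nc A A hA hA (e.trans (C_anti (hX A hA)))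
  obtain ⟨φ, hφ⟩ := h.fr A hA
  obtain ⟨a, ha, -, -, a2, a1, -⟩ := hφ.exists_inv h.n5
  obtain ⟨c, e⟩ := isConj_iff.1 (H6.isConj_of_isStronglyEmbedded hM (a := ⟨r, rX⟩)
    (b := ⟨a, hX A hA ha⟩)
    (H6.orderOf_eq_two_of (Subtype.ext r2) fun e => r1 (congrArg Subtype.val e))
    (H6.orderOf_eq_two_of (Subtype.ext a2) fun e => a1 (congrArg Subtype.val e)))
  have e' : (c : G) * r * (c : G)⁻¹ = a := congrArg Subtype.val e
  exact a1 (h.inf_C hA ha (H a (e' ▸ DD.conj h ⟨r2, r1, A, hA, r0⟩ c) (norm_self A ha)))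

theorem Geo.exists_adj (h : Geo α P) [X.Normal] [IsSimpleGroup X] (hq : Qs X)
    (hX : ∀ B, P B → B ≤ X) (hA : P A) (hB : P B) (hne : A ≠ B) :
    ∃ B, P B ∧ A ≠ B ∧ R2 (C[B] ⊓ N[A]) := by
  suffices ∃ A B, P A ∧ P B ∧ A ≠ B ∧ R2 (C[B] ⊓ N[A]) by
    obtain ⟨A', B', h1, h2, h3, h4⟩ := this
    obtain ⟨g, rfl⟩ := h.tr A' A h1 hA
    exact ⟨_, h.cj g B' h2, fun e => h3 (cj_inj.1 e), by rw [← cj_C, ← cj_N, ← cj_inf]; exact h4.cj g⟩
  by_contra hn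
  refine h.one_false hq hX hA hB hne fun t ⟨t2, t1, C, hC, ht⟩ htA => ?_
  by_contra hc
  exact h.two_false (fun A B h1 h2 h3 h4 => hn ⟨A, B, h1, h2, h3, h4⟩) hA hC
    (by rintro rfl; exact hc ht) ht htA t2 t1

theorem geo_of_std (hA : IsStandardSubgroup A) (h5 : 5 ≤ Fintype.card α)
    (e : A ≃* alternatingGroup α) (hr : R2 C[A]) : Geo α fun B => ∃ g, H24.cj g A = B := by
  obtain ⟨φ, hφ⟩ := fr_of_equiv e
  refine ⟨?_, ?_, ?_, ?_, ?_, ?_, h5⟩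
  · rintro g _ ⟨x, rfl⟩; exact ⟨g * x, H24.cj_mul _ _ _⟩
  · rintro _ _ ⟨x, rfl⟩ ⟨y, rfl⟩; exact ⟨y * x⁻¹, by rw [← H24.cj_mul]; simp⟩
  · rintro _ _ u ⟨x, rfl⟩ ⟨y, rfl⟩ h1 h2 u2 u1
    rw [H24.cj_eq_cj_iff, hA.2.2.2]
    by_contra hn
    have := hA.2.1.2 _ hn
    have m : y⁻¹ * u * y ∈ C[A] ⊓ H24.cj (y⁻¹ * x) C[A] := by
      rw [← cj_C, mem_cj] at h1 h2
      exact ⟨h2, mem_cj.2 (by simpa [mul_assoc] using h1)⟩
    have o : orderOf (y⁻¹ * u * y) = 2 := H23.TC.ord2 (by simpa using H23.TC.conj_ne u1 y⁻¹)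
      (by simpa using H7.SJ.conj_sq u2 y⁻¹)
    exact (Nat.not_even_iff_odd.2 this) (even_iff_two_dvd.2 (o ▸ orderOf_dvd_card' m))
  · rintro _ _ ⟨x, rfl⟩ ⟨y, rfl⟩ hc
    have hc' : H24.cj (y⁻¹ * x) A ≤ C[A] := by rwa [H24.cj_mul, ← le_cj_iff, cj_C]
    by_cases e : H24.cj (y⁻¹ * x) A = A
    · exact (hφ.qs h5).not_le_C (by rwa [e] at hc')
    · exact hA.2.2.1 _ e (comm_eq_bot.2 (cents_symm hc'))
  · rintro _ ⟨x, rfl⟩; rw [← cj_C]; exact hr.cj x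
  · rintro _ ⟨x, rfl⟩; exact ⟨_, hφ.cj x⟩

theorem r2_of_not_rank (h : ¬ PRankLE 2 1 K) : R2 K := by
  simp only [PRankLE, not_forall] at h
  obtain ⟨E, h0, h1, h2⟩ := h
  have s : ∀ x ∈ E, (x : G) * x = 1 := fun x hx => by
    rw [← sq]; exact congrArg Subtype.val (h1 x hx)
  obtain ⟨a, ha, a1⟩ := exists_ne_one (H := E) fun e => by rw [e, card_bot] at h2; omega
  obtain ⟨b, hb, ba⟩ := SetLike.not_le_iff_exists.1 fun e : E ≤ zpowers a => by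
    have := card_le e
    rw [Nat.card_zpowers, H23.TC.ord2 a1 (Subtype.ext (s a ha))] at this
    omega
  refine ⟨a, a.2, b, b.2, s a ha, s b hb, fun e => a1 (Subtype.ext e),
    fun e => ba ((Subtype.ext e : b = 1) ▸ one_mem _),
    fun e => ba ((Subtype.ext e : a = b) ▸ mem_zpowers _),
    congrArg Subtype.val (setLike_mul_comm ha hb)⟩

/-- reduction of S1766 to the diagonal case -/
theorem reduce (hO : oddCore G = ⊥) (hA : IsStandardSubgroup A) (h5 : 5 ≤ Fintype.card α)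
    (e : A ≃* alternatingGroup α) (hR : ¬ PRankLE 2 1 C[A]) (hn : ¬ A.Normal) :
    Nonempty (normalClosure (A : Set G) ≃* alternatingGroup (α ⊕ Fin 4)) ∨
      Fintype.card α = 5 ∧ ∃ (P : Subgroup G → Prop) (B : Subgroup G), Geo α P ∧
        IsSimpleGroup (normalClosure (A : Set G)) ∧ (∀ B, P B → B ≤ normalClosure (A : Set G)) ∧
        (∀ B, P B → ∀ a ∈ B, ¬ DD P a) ∧ P A ∧ P B ∧ A ≠ B ∧ R2 (C[B] ⊓ N[A]) := by
  have hr := r2_of_not_rank hR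
  have h := geo_of_std hA h5 e hr
  have pA : ∃ g, H24.cj g A = A := ⟨1, H24.cj_one A⟩
  obtain ⟨a, ha, b, hb, f⟩ := fo_of_r2 hr
  obtain ⟨g, hg⟩ : ∃ g, g ∉ N[A] := by
    by_contra h'
    push Not at h'
    exact hn (normalizer_eq_top_iff.1 (eq_top_iff.2 fun g _ => h' g))
  rcases Cfsg.Agent.S1347.result A hA hO a (H23.TC.ord2 f.a1 f.a2) ha with h1 | ⟨-, -, -, -, -, -, -, h1⟩ |
    ⟨h1, h2, h3⟩
  · exact absurd h1 hn
  · rcases H7.SJ.mem_zp f.a2 (h1 ▸ hb) with e | e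
    exacts [absurd e f.b1, absurd e.symm f.ab]
  have nX : (layer G).Normal := inferInstance
  have eX : normalClosure (A : Set G) = layer G := by
    have l := normalClosure_le_normal (N := layer G) h1
    rcases ((normalClosure_normal (s := (A : Set G))).subgroupOf (layer G)).eq_bot_or_eq_top with e | e
    · refine absurd (le_bot_iff.1 ?_) (H23.TC.Qs.of_quasisimple hA.1).ne
      rw [subgroupOf_eq_bot] at e
      exact e le_normalClosure h1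
    · exact le_antisymm l (subgroupOf_eq_top.1 e)
  have hX : ∀ B, (∃ g, H24.cj g A = B) → B ≤ layer G := by
    rintro _ ⟨g, rfl⟩
    exact cj_le_of_mem_N h1 (by rw [normalizer_eq_top]; trivial)
  have sm : ∀ M, M ⊴ layer G → M = layer G ∨ M = ⊥ := fun M hM => by
    rcases hM.normal.eq_bot_or_eq_top with e | e
    · exact Or.inr (by rw [← map_subgroupOf_eq_of_le hM.le, e, Subgroup.map_bot])
    · exact Or.inl (le_antisymm hM.le (subgroupOf_eq_top.1 e))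
  have hq : Qs (layer G) := ⟨(sm _ ⟨comm_le_left (norm_self _), norm_comm_left _ _⟩).resolve_right
    fun e => h3 (der1_eq_bot.1 e), fun e => h3 (by rw [e]; infer_instance),
    fun M hM => (sm M hM).imp id fun e => by rw [e]; exact bot_le⟩
  obtain ⟨B, hB, hne, hT⟩ := h.exists_adj hq hX pA ⟨g, rfl⟩ fun e => hg (mem_N_iff_cj.2 e.symm)
  by_cases al : Al α fun B => ∃ g, H24.cj g A = B
  · exact Or.inl ((h.adj al pA hB hne hT).alt h al)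
  simp only [Al, not_forall] at al
  obtain ⟨c5, al⟩ := al
  exact Or.inr ⟨c5, _, B, h, eX ▸ h2, eX ▸ hX, fun C hC a ha d => al ⟨C, hC, a, ha, d⟩, pA, hB, hne, hT⟩

end H5.SA
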