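import Mathlib
import Cfsg.Agent.H5.SA0
import Cfsg.Prelude.Def_Spor_Mathieu
import Cfsg.Prelude.Def_Spor_J2
import Cfsg.Agent.H20.SB10

set_option autoImplicit false

namespace H5.SA

open Cfsg H24 H26 H26.Gold Subgroup Equiv Equiv.Perm
open H23.TC (R2)

universe u

theorem beta {G : Type u} [Group G] [Finite G] {P : Subgroup G → Prop} (h : Geo (Fin 5) P)
    (X : Subgroup G) [X.Normal] [IsSimpleGroup X] (hX : ∀ B, P B → B ≤ X)
    (hnd : ∀ B, P B → ∀ a ∈ B, ¬ DD P a) {A B : Subgroup G} (hA : P A) (hB : P B) (hne : A ≠ B)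
    (hT : R2 (C[B] ⊓ N[A])) : Spor.IsoM12 X ∨ Spor.IsoJ2 X := by
  obtain ⟨r, v, K⟩ := H20.SB.Hyp.exists_cf ⟨h, hnd⟩ hA hB hne hT
  obtain ⟨ε, f, k, L⟩ := K.exists_loc
  obtain ⟨f, ok, γ, L⟩ := L.exists_pe
  cases ε
  exacts [Or.inr (L.j2 hX), Or.inl (L.m12 hX)]

end H5.SA
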