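import Mathlib
import Cfsg.Prelude.Def_Characters
import Cfsg.Prelude.Def_OddOrderChar
import Cfsg.Agent.H3.Frobenius
import Cfsg.Agent.H4.Galois
import Cfsg.Agent.H5.Misc
import Cfsg.Agent.H5.BrauerPerm

/-! Characters of groups with a normal subgroup containing the centralizers of its nonidentity
elements, and exceptional characters for a T.I. subgroup with Frobenius normalizer. -/

set_option autoImplicit false
open Cfsg H4
open scoped ComplexConjugate

namespace H5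

section Frob
variable {N : Type*} [Group N] [Fintype N] (K : Subgroup N) [hK : K.Normal]

theorem exists_eq_indFun_of_centralizer
    (hC : ∀ k ∈ K, k ≠ 1 → Subgroup.centralizer ({k} : Set N) ≤ K) {χ : N → ℂ}
    (hχ : IsIrrCharacter N χ) (h : ¬ K ≤ charKer χ) :
    ∃ θ : K → ℂ, IsIrrCharacter K θ ∧ θ ≠ (fun _ => 1) ∧ χ = indFun K θ := by
  classical
  obtain ⟨θ, hθ, h1⟩ := exists_irr_under K hχ
  have h2 : θ ≠ fun _ => 1 := by
    rintro rfl
    exact h ((le_charKer_iff hχ.isCharacter).mpr ((inner_res_one_ne_zero_iff K hχ).mp h1))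
  refine ⟨θ, hθ, h2, hχ.eq_of_inner_ne_zero (isIrr_indFun_of_centralizer K hC hθ h2) ?_⟩
  rwa [H5.classInner_indFun_right K θ hχ.classFun]

omit hK in
theorem not_le_charKer_indFun {θ : K → ℂ} (hθ : IsIrrCharacter K θ) (h : θ ≠ fun _ => 1) :
    ¬ K ≤ charKer (indFun K θ) := by
  classical
  intro hle
  have h1 : classInner (fun k : K => indFun K θ k) θ ≠ 0 := by
    rw [← H5.classInner_indFun_right K θ (indFun_isClassFunction K θ), Ne, classInner_self_eq_zero]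
    intro h0
    have := congrFun h0 1
    rw [indFun_one_eq] at this
    exact mul_ne_zero (by exact_mod_cast K.index_ne_zero_of_finite) hθ.apply_one_ne_zero this
  have h2 : (fun k : K => indFun K θ k) = indFun K θ 1 • fun _ => 1 := by
    funext k; simp [apply_of_mem_charKer (hle k.2)]
  exact h (eq_of_inner_smul_ne_zero isIrrCharacter_one hθ (h2 ▸ h1))

theorem eq_zero_of_centralizer
    (hC : ∀ k ∈ K, k ≠ 1 → Subgroup.centralizer ({k} : Set N) ≤ K) {χ : N → ℂ}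
    (hχ : IsIrrCharacter N χ) (h : ¬ K ≤ charKer χ) {x : N} (hx : x ∉ K) : χ x = 0 := by
  obtain ⟨θ, -, -, rfl⟩ := exists_eq_indFun_of_centralizer K hC hχ h
  exact indFun_normal_of_not_mem K θ hx

omit hK in
theorem apply_eq_of_proportional {β : N → ℂ} (hβ : IsClassFunction N β) (c : ℂ)
    (h : ∀ χ, IsIrrCharacter N χ → ¬ K ≤ charKer χ → classInner β χ = c * χ 1) {a b : N}
    (ha : a ∈ K) (ha1 : a ≠ 1) (hb : b ∈ K) (hb1 : b ≠ 1) : β a = β b := by
  classical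
  have h1 := sum_degree_mul a
  have h2 := sum_degree_mul b
  rw [if_neg ha1] at h1
  rw [if_neg hb1] at h2
  rw [hβ.apply_eq_sum, hβ.apply_eq_sum b, ← sub_eq_zero, ← Finset.sum_sub_distrib]
  have : ∀ χ : IrrCharacter N, classInner β χ * χ.1 a - classInner β χ * χ.1 b =
      c * (χ.1 1 * χ.1 a - χ.1 1 * χ.1 b) := by
    intro χ
    by_cases hk : K ≤ charKer χ.1
    · rw [apply_of_mem_charKer (hk ha), apply_of_mem_charKer (hk hb)]; ring
    · rw [h χ χ.2 hk]; ring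
  simp only [this, ← Finset.mul_sum, Finset.sum_sub_distrib, h1, h2, sub_zero, mul_zero]

omit hK in
theorem inner_eq_of_const {β α : N → ℂ} (c : ℂ) (hβ : ∀ k ∈ K, k ≠ 1 → β k = c)
    (hα : ∀ x, x ∉ K → α x = 0) (hα1 : α 1 = 0) :
    classInner β α = c * classInner (fun _ => 1) α := by
  rw [← classInner_smul_left, classInner_def, classInner_def]
  congr 1
  refine Finset.sum_congr rfl fun x _ => ?_
  by_cases hx : x ∈ K
  · by_cases hx1 : x = 1
    · simp [hx1, hα1]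
    · simp [hβ x hx hx1]
  · simp [hα x hx]

end Frob

section TI
variable {G : Type*} [Group G] (K : Subgroup G)

theorem not_conj_mem_of_centralizer [Finite G]
    (hC : ∀ k ∈ K, k ≠ 1 → Subgroup.centralizer ({k} : Set G) ≤ K) {x : G}
    (hx : x ∈ Subgroup.normalizer (K : Set G)) (hxK : x ∉ K) (g : G) : g * x * g⁻¹ ∉ K := by
  intro hg
  have hx1 : orderOf x ≠ 1 := fun h => hxK (orderOf_eq_one_iff.mp h ▸ K.one_mem)
  obtain ⟨p, hp, d, hd⟩ := Nat.exists_prime_and_dvd hx1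
  have := Fact.mk hp
  have hd0 : d ≠ 0 := by rintro rfl; exact (orderOf_pos x).ne' (by simpa using hd)
  have hy : orderOf (x ^ d) = p := by
    rw [orderOf_pow_of_dvd hd0 (Dvd.intro_left _ hd.symm), hd, Nat.mul_div_cancel _ hd0.bot_lt]
  have hy1 : x ^ d ≠ 1 := fun h => hp.one_lt.ne (by rw [← hy, h, orderOf_one])
  have hyK : x ^ d ∉ K := fun h => hxK (hC _ h hy1
    (Subgroup.mem_centralizer_singleton_iff.mpr (Commute.self_pow x d)))
  have h1 := H3.card_modEq_card_inf_centralizer (k := 1) hp (pow_mem hx d)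
    (by rw [pow_one, ← hy, pow_orderOf_eq_one])
  have h2 : K ⊓ Subgroup.centralizer {x ^ d} = ⊥ := by
    rw [eq_bot_iff]
    rintro k ⟨h3, h4⟩
    by_contra h5
    exact hyK (hC k h3 h5 (Subgroup.mem_centralizer_singleton_iff.mpr
      (Subgroup.mem_centralizer_singleton_iff.mp h4).symm))
  rw [h2, Subgroup.card_bot] at h1
  have h3 : p ∣ Nat.card K := by
    have := K.orderOf_dvd_natCard (pow_mem hg d)
    rwa [conj_pow, ← MulAut.conj_apply, MulEquiv.orderOf_eq, hy] at this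
  exact hp.one_lt.ne' (Nat.dvd_one.mp ((h1.dvd_iff dvd_rfl).mp h3))

variable [Fintype G] (H : Subgroup G) [Fintype H]

omit [Fintype G] [Fintype H] in
theorem centralizer_le_subgroupOf
    (hC : ∀ k ∈ K, k ≠ 1 → Subgroup.centralizer ({k} : Set G) ≤ K) :
    ∀ k ∈ K.subgroupOf H, k ≠ 1 → Subgroup.centralizer ({k} : Set H) ≤ K.subgroupOf H :=
  fun k hk hk1 _ hx => hC k hk (fun h => hk1 (Subtype.ext h))
    (Subgroup.mem_centralizer_singleton_iff.mpr
      (congrArg Subtype.val (Subgroup.mem_centralizer_singleton_iff.mp hx)))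

variable {K H} {S : Set (H → ℂ)} {star : (H → ℂ) → (G → ℂ)}

theorem star_comb (hstar : IsLinearIsometryOn (zspan S) star)
    (hext : ∀ α ∈ zspanOn S ({1}ᶜ : Set H), star α = indFun H α) {χ ξ : H → ℂ} (hχ : χ ∈ S)
    (hξ : ξ ∈ S) {a b : ℕ} (ha : χ 1 = a) (hb : ξ 1 = b) :
    (a : ℂ) • star ξ - (b : ℂ) • star χ = indFun H ((a : ℂ) • ξ - (b : ℂ) • χ) := by
  have h1 : ξ ∈ zspan S := Submodule.subset_span hξ
  have h2 : χ ∈ zspan S := Submodule.subset_span hχ
  have h3 : (a : ℤ) • ξ ∈ zspan S := Submodule.smul_mem _ _ h1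
  have h4 : (-b : ℤ) • χ ∈ zspan S := Submodule.smul_mem _ _ h2
  have h5 : (a : ℂ) • ξ - (b : ℂ) • χ = (a : ℤ) • ξ + (-b : ℤ) • χ := by
    simp [sub_eq_add_neg, Nat.cast_smul_eq_nsmul]
  rw [← hext _ ⟨h5 ▸ Submodule.add_mem _ h3 h4, fun x hx => by
    obtain rfl : x = 1 := by simpa using hx
    simp [ha, hb, mul_comm]⟩, h5, hstar.1 _ h3 _ h4, hstar.2.1 _ h1, hstar.2.1 _ h2]
  simp [sub_eq_add_neg, Nat.cast_smul_eq_nsmul]

theorem star_const (hS : S = {χ | IsIrrCharacter H χ ∧ ¬ K.subgroupOf H ≤ charKer χ})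
    (hstar : IsLinearIsometryOn (zspan S) star)
    (hext : ∀ α ∈ zspanOn S ({1}ᶜ : Set H), star α = indFun H α) {ψ : G → ℂ}
    (hψ : IsClassFunction G ψ) {η : H → ℂ} (hη : IsClassFunction H η)
    (h : ∀ χ ∈ S, classInner ψ (star χ) = classInner η χ) {a b : H} (ha : (a : G) ∈ K)
    (ha1 : a ≠ 1) (hb : (b : G) ∈ K) (hb1 : b ≠ 1) : ψ a - η a = ψ b - η b := by
  rcases S.eq_empty_or_nonempty with h0 | ⟨χ, hχ⟩
  · refine apply_eq_of_proportional (K.subgroupOf H) ((hψ.restrict H).sub hη) 0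
      (fun ξ h1 h2 => ?_) ha ha1 hb hb1
    exact absurd (hS ▸ ⟨h1, h2⟩ : ξ ∈ S) (by simp [h0])
  have hχ' := hχ
  rw [hS] at hχ'
  obtain ⟨d, hd0, hd⟩ := hχ'.1.exists_nat_apply_one
  refine apply_eq_of_proportional (K.subgroupOf H) ((hψ.restrict H).sub hη)
    (classInner ((fun x : H => ψ x) - η) χ / d) (fun ξ h1 h2 => ?_) ha ha1 hb hb1
  have hξ : ξ ∈ S := hS ▸ ⟨h1, h2⟩
  obtain ⟨e, -, he⟩ := h1.exists_nat_apply_one
  have h3 := congrArg (classInner ψ) (star_comb hstar hext hχ hξ hd he)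
  rw [H5.classInner_indFun_right H _ hψ] at h3
  simp only [classInner_sub_right, classInner_smul_right, map_natCast, h _ hχ, h _ hξ] at h3
  have : (d : ℂ) ≠ 0 := by exact_mod_cast hd0.ne'
  rw [classInner_sub_left, classInner_sub_left, he]
  field_simp
  linear_combination -h3

omit [Fintype G] in
theorem not_const_of_two [Finite G] [(K.subgroupOf H).Normal]
    (hC : ∀ k ∈ K, k ≠ 1 → Subgroup.centralizer ({k} : Set G) ≤ K) {χ ξ : H → ℂ}
    (hχ : IsIrrCharacter H χ) (hχK : ¬ K.subgroupOf H ≤ charKer χ)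
    (hξ : IsIrrCharacter H ξ) (hξK : ¬ K.subgroupOf H ≤ charKer ξ) (hne : χ ≠ ξ) (c : ℂ) :
    ¬ ∀ k ∈ K.subgroupOf H, k ≠ 1 → χ k = c := by
  intro h
  have := Fintype.ofFinite G
  have hC' := centralizer_le_subgroupOf K H hC
  have h1 := inner_eq_of_const (K.subgroupOf H) c h (α := χ 1 • ξ - ξ 1 • χ) (fun x hx => by
    simp [eq_zero_of_centralizer _ hC' hχ hχK hx, eq_zero_of_centralizer _ hC' hξ hξK hx])
    (by simp [mul_comm])
  have h2 : ∀ φ : H → ℂ, ¬ K.subgroupOf H ≤ charKer φ → (fun _ => 1) ≠ φ := by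
    rintro _ h rfl
    exact h fun _ _ _ => rfl
  simp only [classInner_sub_right, classInner_smul_right, hχ.inner_self, hχ.inner_of_ne hξ hne,
    isIrrCharacter_one.inner_of_ne hχ (h2 _ hχK), isIrrCharacter_one.inner_of_ne hξ (h2 _ hξK),
    mul_zero, mul_one, zero_sub, sub_zero, neg_eq_zero, map_eq_zero] at h1
  exact hξ.apply_one_ne_zero h1

theorem star_irr (hS : S = {χ | IsIrrCharacter H χ ∧ ¬ K.subgroupOf H ≤ charKer χ})
    (hstar : IsLinearIsometryOn (zspan S) star) {χ : H → ℂ} (hχ : χ ∈ S) :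
    IsIrrCharacter G (star χ) ∨ IsIrrCharacter G (-star χ) := by
  have h1 : χ ∈ zspan S := Submodule.subset_span hχ
  rw [hS] at hχ
  exact (hstar.2.2.2 χ h1).irr_or_neg_of_inner_self (by rw [hstar.2.2.1 _ h1 _ h1, hχ.1.inner_self])

theorem exceptional_iff [(K.subgroupOf H).Normal] (hKH : K ≤ H)
    (hC : ∀ k ∈ K, k ≠ 1 → Subgroup.centralizer ({k} : Set G) ≤ K)
    (hS : S = {χ | IsIrrCharacter H χ ∧ ¬ K.subgroupOf H ≤ charKer χ})
    (htwo : ∃ χ ∈ S, ∃ ξ ∈ S, χ ≠ ξ) (hstar : IsLinearIsometryOn (zspan S) star)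
    (hext : ∀ α ∈ zspanOn S ({1}ᶜ : Set H), star α = indFun H α) {ψ : G → ℂ}
    (hψ : IsIrrCharacter G ψ) :
    (∃ χ ∈ S, ψ = star χ ∨ ψ = -star χ) ↔ ∃ a ∈ K, ∃ b ∈ K, a ≠ 1 ∧ b ≠ 1 ∧ ψ a ≠ ψ b := by
  constructor
  · rintro ⟨χ, hχ, h⟩
    by_contra hc
    push Not at hc
    have hχ' := hχ
    rw [hS] at hχ'
    obtain ⟨ξ, hξ, hne⟩ : ∃ ξ ∈ S, χ ≠ ξ := by
      obtain ⟨a, ha, b, hb, hab⟩ := htwo
      by_cases h1 : χ = a
      · exact ⟨b, hb, h1 ▸ hab⟩
      · exact ⟨a, ha, h1⟩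
    rw [hS] at hξ
    obtain ⟨k, hk, hk'⟩ := SetLike.not_le_iff_exists.mp hχ'.2
    have hk1 : k ≠ 1 := by rintro rfl; exact hk' (one_mem _)
    refine not_const_of_two hC hχ'.1 hχ'.2 hξ.1 hξ.2 hne (χ k) fun x hx hx1 => ?_
    have h1 := star_const hS hstar hext (hstar.2.2.2 χ (Submodule.subset_span hχ)).classFun
      hχ'.1.classFun (fun φ hφ => hstar.2.2.1 _ (Submodule.subset_span hχ) _
        (Submodule.subset_span hφ)) hx hx1 hk hk1
    have h2 := hc x hx k hk (fun h => hx1 (Subtype.ext h)) (fun h => hk1 (Subtype.ext h))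
    rcases h with rfl | rfl
    · linear_combination h2 - h1
    · simp only [Pi.neg_apply] at h2
      linear_combination -h2 - h1
  · rintro ⟨a, ha, b, hb, ha1, hb1, hab⟩
    by_contra hc
    push Not at hc
    have := star_const hS hstar hext hψ.classFun isClassFunction_zero (fun χ hχ => by
      rw [classInner_zero_left]
      rcases star_irr hS hstar hχ with h | h
      · exact hψ.inner_of_ne h (hc χ hχ).1
      · rw [← neg_eq_zero, ← classInner_neg_right]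
        exact hψ.inner_of_ne h (hc χ hχ).2) (a := ⟨a, hKH ha⟩) (b := ⟨b, hKH hb⟩) ha
      (fun h => ha1 (congrArg Subtype.val h)) hb (fun h => hb1 (congrArg Subtype.val h))
    exact hab (by simpa using this)

theorem exists_int_star_sub [(K.subgroupOf H).Normal]
    (hTI : ∀ g : G, g ∉ H → ∀ k ∈ K, g * k * g⁻¹ ∈ K → k = 1)
    (hC : ∀ k ∈ K, k ≠ 1 → Subgroup.centralizer ({k} : Set G) ≤ K)
    (hS : S = {χ | IsIrrCharacter H χ ∧ ¬ K.subgroupOf H ≤ charKer χ})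
    (hstar : IsLinearIsometryOn (zspan S) star)
    (hext : ∀ α ∈ zspanOn S ({1}ᶜ : Set H), star α = indFun H α) :
    ∃ m : ℤ, ∀ χ ∈ S, ∀ k : H, (k : G) ∈ K → k ≠ 1 →
      star χ k - χ k = (m : ℂ) * χ 1 / ((K.subgroupOf H).index : ℂ) := by
  classical
  rcases S.eq_empty_or_nonempty with h0 | ⟨χ₀, hχ₀⟩
  · exact ⟨0, by simp [h0]⟩
  have hC' := centralizer_le_subgroupOf K H hC
  have hS' : ∀ χ ∈ S, IsIrrCharacter H χ ∧ ¬ K.subgroupOf H ≤ charKer χ := fun χ h => by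
    rwa [hS] at h
  obtain ⟨k₀, hk, hk'⟩ := SetLike.not_le_iff_exists.mp (hS' _ hχ₀).2
  have hk1 : k₀ ≠ 1 := by rintro rfl; exact hk' (one_mem _)
  have hconst : ∀ χ ∈ S, ∀ k : H, (k : G) ∈ K → k ≠ 1 → star χ k - χ k = star χ k₀ - χ k₀ :=
    fun χ hχ k h1 h2 => star_const hS hstar hext
      (hstar.2.2.2 χ (Submodule.subset_span hχ)).classFun (hS' χ hχ).1.classFun
      (fun φ hφ => hstar.2.2.1 _ (Submodule.subset_span hχ) _ (Submodule.subset_span hφ))
      h1 h2 hk hk1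
  have hint : ∀ χ ∈ S, star χ k₀ - χ k₀ ∈ (Int.castRingHom ℂ).range := by
    intro χ hχ
    obtain ⟨n, hn⟩ := (((hstar.2.2.2 χ (Submodule.subset_span hχ)).restrict H).sub
      (hS' χ hχ).1.isGen).exists_int_of_pow (orderOf_pos k₀).ne' (pow_orderOf_eq_one k₀)
      fun m hm => hconst χ hχ (k₀ ^ m) (pow_mem hk m) fun h =>
        hk1 (H3.eq_one_of_pow_eq_one_of_coprime h (pow_orderOf_eq_one k₀) hm)
    exact ⟨n, hn.symm⟩
  obtain ⟨d, hd0, hd⟩ := (hS' _ hχ₀).1.exists_nat_apply_one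
  have hd' : (d : ℂ) ≠ 0 := by exact_mod_cast hd0.ne'
  have hprop : ∀ χ ∈ S, star χ k₀ - χ k₀ = (star χ₀ k₀ - χ₀ k₀) / d * χ 1 := by
    intro χ hχ
    obtain ⟨e, -, he⟩ := (hS' _ hχ).1.exists_nat_apply_one
    have h1 := congrFun (star_comb hstar hext hχ₀ hχ hd he) k₀
    rw [indFun_apply_of_TI H K hTI (((hS' _ hχ).1.classFun.smul _).sub
      ((hS' _ hχ₀).1.classFun.smul _)) (fun x hx => by
        simp [eq_zero_of_centralizer _ hC' (hS' _ hχ).1 (hS' _ hχ).2 hx,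
          eq_zero_of_centralizer _ hC' (hS' _ hχ₀).1 (hS' _ hχ₀).2 hx]) k₀ hk hk1] at h1
    simp only [Pi.sub_apply, Pi.smul_apply, smul_eq_mul] at h1
    rw [he]
    field_simp
    linear_combination h1
  set r := (star χ₀ k₀ - χ₀ k₀) / d with hr
  set e := (K.subgroupOf H).index with he
  have hθ : ∀ θ : IrrCharacter (K.subgroupOf H), θ ≠ irrOne _ →
      r * e * θ.1 1 ∈ (Int.castRingHom ℂ).range := by
    intro θ h
    have h1 : θ.1 ≠ fun _ => 1 := fun h' => h (Subtype.ext h')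
    have h2 : indFun _ θ.1 ∈ S := hS ▸ ⟨isIrr_indFun_of_centralizer _ hC' θ.2 h1,
      not_le_charKer_indFun _ θ.2 h1⟩
    have := hint _ h2
    rwa [hprop _ h2, indFun_one_eq, ← mul_assoc] at this
  have h1 : r * e * (Nat.card (K.subgroupOf H) - 1) ∈ (Int.castRingHom ℂ).range := by
    rw [← sum_degree_sq, ← Finset.add_sum_erase _ _ (Finset.mem_univ (irrOne _)), irrOne_apply,
      one_pow, add_sub_cancel_left, Finset.mul_sum]
    refine sum_mem fun θ h => ?_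
    obtain ⟨f, -, hf⟩ := θ.2.exists_nat_apply_one
    rw [sq, ← mul_assoc]
    refine mul_mem (hθ θ (Finset.mem_erase.mp h).1) ?_
    rw [hf]; exact natCast_mem _ _
  have h2 : r * e * Nat.card (K.subgroupOf H) ∈ (Int.castRingHom ℂ).range := by
    obtain ⟨θ, hθ1, hθ2, -⟩ := exists_eq_indFun_of_centralizer _ hC' (hS' _ hχ₀).1 (hS' _ hχ₀).2
    obtain ⟨f, -, hf⟩ := hθ1.exists_nat_apply_one
    obtain ⟨c, hc⟩ := hθ1.degree_dvd_card hf
    have := hθ ⟨θ, hθ1⟩ fun h => hθ2 (congrArg Subtype.val h)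
    rw [hc, Nat.cast_mul, ← mul_assoc, ← hf]
    exact mul_mem this (natCast_mem _ _)
  obtain ⟨m, hm⟩ := sub_mem h2 h1
  refine ⟨m, fun χ hχ k h3 h4 => ?_⟩
  have he0 : (e : ℂ) ≠ 0 := by exact_mod_cast Subgroup.index_ne_zero_of_finite
  rw [hconst χ hχ k h3 h4, hprop χ hχ, show (m : ℂ) = _ from hm]
  field_simp
  ring

omit [Fintype G] [Fintype H] in
theorem setOf_relevant_eq [Finite G] :
    {χ : H → ℂ | IsIrrCharacter H χ ∧ ∃ k : H, (k : G) ∈ K ∧ χ k ≠ χ 1} =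
      {χ | IsIrrCharacter H χ ∧ ¬ K.subgroupOf H ≤ charKer χ} := by
  ext χ
  refine and_congr_right fun hχ => ?_
  rw [le_charKer_iff hχ.isCharacter]
  push Not
  rfl

end TI

end H5
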